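import Mathlib
import Groth.Prelude.Def_W4stktopologysheavesDim
import Groth.Agent.Lib.Helper14.Catenary
import Groth.Agent.Lib.Helper14.CatenaryRing
import Groth.Agent.Lib.Helper14.Coheight

/-!
# Catenary spaces via the poset of irreducible closed subsets
-/

set_option autoImplicit false
universe u v

namespace Groth.Agent.Helper18.CatSpace

open Groth.Agent.Helper14 TopologicalSpace

section Poset

variable {P : Type u} [PartialOrder P]

theorem last_insertNth (s : LTSeries P) (i : Fin s.length) (a : P)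
    (h1 : s (Fin.castSucc i) < a) (h2 : a < s i.succ) : (s.insertNth i a h1 h2).last = s.last := by
  have h0 : Fin.castSucc i.succ < Fin.last (s.length + 1) := by
    rw [Fin.lt_def]; simp
  show (Fin.castSucc i.succ).insertNth (α := fun _ => P) a s (Fin.last _) = s (Fin.last _)
  rw [Fin.insertNth_apply_above h0]
  simp only [eq_rec_constant]
  congr 1

/-- a chain of maximal length between its endpoints is saturated -/
theorem covBy_of_maximal (s : LTSeries P)
    (hmax : ∀ t : LTSeries P, t.head = s.head → t.last = s.last → t.length ≤ s.length)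
    (i : Fin s.length) : s (Fin.castSucc i) ⋖ s i.succ := by
  by_contra hcon
  rw [not_covBy_iff (s.step i)] at hcon
  obtain ⟨r, h1, h2⟩ := hcon
  have := hmax (s.insertNth i r h1 h2) (head_insertNth s i r h1 h2) (last_insertNth s i r h1 h2)
  simp only [RelSeries.insertNth_length] at this
  omega

/-- if chain lengths from `p` to `q` are bounded, there is a saturated chain of maximal length -/
theorem exists_maximal_chain {p q : P} (hpq : p ≤ q) {n : ℕ}
    (hn : ∀ s : LTSeries P, s.head = p → s.last = q → s.length ≤ n) :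
    ∃ s : LTSeries P, s.head = p ∧ s.last = q ∧
      (∀ t : LTSeries P, t.head = p → t.last = q → t.length ≤ s.length) ∧
      ∀ i : Fin s.length, s (Fin.castSucc i) ⋖ s i.succ := by
  classical
  -- the set of lengths
  let L : Set ℕ := {m | ∃ s : LTSeries P, s.head = p ∧ s.last = q ∧ s.length = m}
  have hne : L.Nonempty := by
    rcases hpq.eq_or_lt with rfl | hlt
    · exact ⟨0, RelSeries.singleton _ p, rfl, rfl, rfl⟩
    · refine ⟨1, (RelSeries.singleton _ p).snoc q hlt, ?_, ?_, ?_⟩
      · simp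
      · simp
      · simp
  have hbdd : BddAbove L := ⟨n, by rintro m ⟨s, h1, h2, rfl⟩; exact hn s h1 h2⟩
  obtain ⟨s, h1, h2, h3⟩ := Nat.sSup_mem hne hbdd
  have hmax : ∀ t : LTSeries P, t.head = p → t.last = q → t.length ≤ s.length := by
    intro t ht1 ht2
    rw [h3]
    exact le_csSup hbdd ⟨t, ht1, ht2, rfl⟩
  refine ⟨s, h1, h2, hmax, ?_⟩
  exact covBy_of_maximal s (fun t ht1 ht2 => hmax t (ht1.trans h1) (ht2.trans h2))

theorem isCatPoset_of_orderIso {Q : Type v} [PartialOrder Q] (e : Q ≃o P) (h : IsCatPoset P) :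
    IsCatPoset Q := by
  refine IsCatPoset.of_embedding e.toOrderEmbedding ?_ h
  have : Set.range e.toOrderEmbedding = Set.univ := e.surjective.range_eq
  rw [this]
  exact Set.ordConnected_univ

/-- reverse a series in the order dual -/
def revSeries (s : LTSeries Pᵒᵈ) : LTSeries P :=
  LTSeries.mk s.length (fun i => OrderDual.ofDual (s i.rev)) (by
    intro i j hij
    have : s j.rev < s i.rev := s.strictMono (Fin.rev_lt_rev.mpr hij)
    exact this)

@[simp] theorem revSeries_length (s : LTSeries Pᵒᵈ) : (revSeries s).length = s.length := rfl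

theorem revSeries_apply (s : LTSeries Pᵒᵈ) (i : Fin (s.length + 1)) :
    revSeries s i = OrderDual.ofDual (s i.rev) := rfl

theorem revSeries_head (s : LTSeries Pᵒᵈ) : (revSeries s).head = OrderDual.ofDual s.last := by
  show OrderDual.ofDual (s (Fin.rev 0)) = _
  rw [Fin.rev_zero]; rfl

theorem revSeries_last (s : LTSeries Pᵒᵈ) : (revSeries s).last = OrderDual.ofDual s.head := by
  show OrderDual.ofDual (s (Fin.rev (Fin.last _))) = _
  rw [Fin.rev_last]; rfl

theorem revSeries_covBy (s : LTSeries Pᵒᵈ)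
    (hs : ∀ i : Fin s.length, s (Fin.castSucc i) ⋖ s (Fin.succ i)) (i : Fin (revSeries s).length) :
    (revSeries s) (Fin.castSucc i) ⋖ (revSeries s) (Fin.succ i) := by
  rw [revSeries_apply, revSeries_apply]
  have h := hs (Fin.rev i)
  rw [← Fin.rev_castSucc, ← Fin.rev_succ] at h
  exact h.ofDual

theorem isCatPoset_dual (h : IsCatPoset P) : IsCatPoset Pᵒᵈ := by
  constructor
  · intro p q hpq
    obtain ⟨n, hn⟩ := h.1 (OrderDual.ofDual q) (OrderDual.ofDual p) hpq
    refine ⟨n, fun s hs hl => ?_⟩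
    have := hn (revSeries s) (by rw [revSeries_head, hl]) (by rw [revSeries_last, hs])
    simpa using this
  · intro s t hst hst' hs ht
    have := h.2 (revSeries s) (revSeries t)
      (by rw [revSeries_head, revSeries_head, hst'])
      (by rw [revSeries_last, revSeries_last, hst])
      (revSeries_covBy s hs) (revSeries_covBy t ht)
    simpa using this

theorem isCatPoset_dual_iff : IsCatPoset Pᵒᵈ ↔ IsCatPoset P :=
  ⟨fun h => isCatPoset_of_orderIso (OrderIso.dualDual P) (isCatPoset_dual h), fun h => isCatPoset_dual h⟩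

/-- cover by lower sets -/
theorem isCatPoset_of_cover_lower {ι : Type*} (Q : ι → Type v)
    [∀ i, PartialOrder (Q i)] (e : ∀ i, Q i ↪o P) (hlow : ∀ i, IsLowerSet (Set.range (e i)))
    (hcov : ∀ p : P, ∃ i, p ∈ Set.range (e i)) (h : ∀ i, IsCatPoset (Q i)) : IsCatPoset P := by
  rw [← isCatPoset_dual_iff]
  refine IsCatPoset.of_cover (fun i => (Q i)ᵒᵈ) (fun i => (e i).dual) ?_ ?_ (fun i => isCatPoset_dual (h i))
  · intro i a b hab ha
    obtain ⟨x, rfl⟩ := ha
    obtain ⟨y, hy⟩ := hlow i (a := e i (OrderDual.ofDual x)) (b := OrderDual.ofDual b) hab ⟨_, rfl⟩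
    exact ⟨OrderDual.toDual y, congrArg OrderDual.toDual hy⟩
  · intro p
    obtain ⟨i, x, hx⟩ := hcov (OrderDual.ofDual p)
    exact ⟨i, OrderDual.toDual x, congrArg OrderDual.toDual hx⟩

end Poset

section Bridge

variable (X : Type u) [TopologicalSpace X]

theorem isCatenarySpace_iff :
    PtTop.IsCatenarySpace X ↔ IsCatPoset (IrreducibleCloseds X) := by
  constructor
  · intro h
    constructor
    · intro p q hpq
      obtain ⟨hfin, -⟩ := h p q hpq
      refine ⟨(PtTop.codim p (q : Set X)).toNat, fun s hs hl => ?_⟩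
      have h1 : (s.length : ℕ∞) ≤ PtTop.codim p (q : Set X) :=
        le_iSup₂_of_le s ⟨hs, by rw [hl]⟩ le_rfl
      have h2 := ENat.toNat_le_toNat h1 hfin
      simpa using h2
    · intro s t hst hst' hs ht
      have hle : s.head ≤ s.last := LTSeries.head_le_last s
      have h1 := (h s.head s.last hle).2 s rfl rfl hs
      have h2 := (h s.head s.last hle).2 t hst.symm hst'.symm ht
      exact_mod_cast h1.trans h2.symm
  · intro h T T' hTT'
    obtain ⟨n, hn⟩ := h.1 T T' hTT'
    obtain ⟨m, hm1, hm2, hmmax, hmsat⟩ := exists_maximal_chain hTT' hn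
    have hcodim : PtTop.codim T (T' : Set X) = m.length := by
      apply le_antisymm
      · apply iSup₂_le
        rintro s ⟨hs, hsub⟩
        have hle : s.last ≤ T' := hsub
        rcases hle.eq_or_lt with heq | hlt
        · exact_mod_cast hmmax s hs heq
        · have := hmmax (s.snoc T' hlt) (by simp [hs]) (by simp)
          simp only [RelSeries.snoc_length] at this
          have h3 : s.length ≤ m.length := by omega
          exact_mod_cast h3
      · exact le_iSup₂_of_le m ⟨hm1, by rw [hm2]⟩ le_rfl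
    refine ⟨by rw [hcodim]; exact ENat.coe_ne_top _, fun s hs hl hsat => ?_⟩
    rw [hcodim]
    have := h.2 s m (hs.trans hm1.symm) (hl.trans hm2.symm) hsat hmsat
    exact_mod_cast this

end Bridge

section Embedding

open Topology Set

variable {X : Type u} {Y : Type v} [TopologicalSpace X] [TopologicalSpace Y]

theorem isPreirreducible_inter_open {W U : Set X} (hW : IsPreirreducible W) (hU : IsOpen U) :
    IsPreirreducible (W ∩ U) := by
  intro O₁ O₂ h₁ h₂ ⟨x, ⟨hxW, hxU⟩, hx1⟩ ⟨y, ⟨hyW, hyU⟩, hy2⟩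
  obtain ⟨z, hzW, ⟨hz1, hzU⟩, ⟨hz2, -⟩⟩ := hW (O₁ ∩ U) (O₂ ∩ U) (h₁.inter hU) (h₂.inter hU)
    ⟨x, hxW, hx1, hxU⟩ ⟨y, hyW, hy2, hyU⟩
  exact ⟨z, ⟨hzW, hzU⟩, hz1, hz2⟩

/-- the order embedding on irreducible closed subsets induced by an inducing map -/
noncomputable def irrEmb {f : Y → X} (hf : IsInducing f) :
    IrreducibleCloseds Y ↪o IrreducibleCloseds X :=
  OrderEmbedding.ofMapLEIff (IrreducibleCloseds.map f hf.continuous) (by
    intro A B
    constructor
    · intro h
      have h' : closure (f '' (A : Set Y)) ⊆ closure (f '' (B : Set Y)) := h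
      have hA : (A : Set Y) = f ⁻¹' closure (f '' (A : Set Y)) := by
        rw [← hf.closure_eq_preimage_closure_image, A.isClosed.closure_eq]
      have hB : (B : Set Y) = f ⁻¹' closure (f '' (B : Set Y)) := by
        rw [← hf.closure_eq_preimage_closure_image, B.isClosed.closure_eq]
      show (A : Set Y) ⊆ B
      rw [hA, hB]
      exact preimage_mono h'
    · intro h
      exact IrreducibleCloseds.map_mono hf.continuous h)

theorem irrEmb_coe {f : Y → X} (hf : IsInducing f) (A : IrreducibleCloseds Y) :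
    ((irrEmb hf A : IrreducibleCloseds X) : Set X) = closure (f '' (A : Set Y)) := rfl

/-- characterization of (part of) the range of `irrEmb` when the range of `f` is `U ∩ Z` -/
theorem mem_range_irrEmb {f : Y → X} (hf : IsInducing f) {U Z : Set X} (hU : IsOpen U)
    (hZ : IsClosed Z) (hr : range f = U ∩ Z) (W : IrreducibleCloseds X) (hWZ : (W : Set X) ⊆ Z)
    (hWU : ((W : Set X) ∩ U).Nonempty) : W ∈ range (irrEmb hf) := by
  have hpre : IsPreirreducible ((W : Set X) ∩ U) :=
    isPreirreducible_inter_open W.isIrreducible.isPreirreducible hU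
  have hWr : (W : Set X) ∩ range f = (W : Set X) ∩ U := by
    rw [hr]
    ext x
    simp only [mem_inter_iff]
    exact ⟨fun h => ⟨h.1, h.2.1⟩, fun h => ⟨h.1, h.2, hWZ h.1⟩⟩
  have hne : (f ⁻¹' (W : Set X)).Nonempty := by
    obtain ⟨x, hxW, hxU⟩ := hWU
    have : x ∈ range f := by rw [hr]; exact ⟨hxU, hWZ hxW⟩
    obtain ⟨y, rfl⟩ := this
    exact ⟨y, hxW⟩
  have hirr : IsPreirreducible (f ⁻¹' (W : Set X)) := by
    intro O₁ O₂ h₁ h₂ ⟨y₁, hy₁W, hy₁⟩ ⟨y₂, hy₂W, hy₂⟩
    obtain ⟨V₁, hV₁, rfl⟩ := hf.isOpen_iff.mp h₁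
    obtain ⟨V₂, hV₂, rfl⟩ := hf.isOpen_iff.mp h₂
    have hm : ∀ y, f y ∈ (W : Set X) → f y ∈ (W : Set X) ∩ U := by
      intro y hy
      have : f y ∈ (W : Set X) ∩ range f := ⟨hy, mem_range_self y⟩
      rwa [hWr] at this
    obtain ⟨z, hz, hz1, hz2⟩ := hpre V₁ V₂ hV₁ hV₂ ⟨f y₁, hm _ hy₁W, hy₁⟩ ⟨f y₂, hm _ hy₂W, hy₂⟩
    have hzr : z ∈ range f := by
      have : z ∈ (W : Set X) ∩ range f := by rw [hWr]; exact hz
      exact this.2
    obtain ⟨y, rfl⟩ := hzr
    exact ⟨y, hz.1, hz1, hz2⟩
  refine ⟨⟨f ⁻¹' (W : Set X), ⟨hne, hirr⟩, W.isClosed.preimage hf.continuous⟩, ?_⟩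
  apply IrreducibleCloseds.ext
  rw [irrEmb_coe]
  show closure (f '' (f ⁻¹' (W : Set X))) = W
  rw [image_preimage_eq_inter_range, hWr]
  apply Subset.antisymm
  · exact closure_minimal inter_subset_left W.isClosed
  · exact subset_closure_inter_of_isPreirreducible_of_isOpen W.isIrreducible.isPreirreducible hU hWU

theorem irrEmb_subset_closure_range {f : Y → X} (hf : IsInducing f) (A : IrreducibleCloseds Y) :
    ((irrEmb hf A : IrreducibleCloseds X) : Set X) ⊆ closure (range f) := by
  rw [irrEmb_coe]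
  exact closure_mono (image_subset_range f _)

theorem irrEmb_inter_nonempty {f : Y → X} (hf : IsInducing f) (A : IrreducibleCloseds Y)
    {U : Set X} (hU : range f ⊆ U) :
    (((irrEmb hf A : IrreducibleCloseds X) : Set X) ∩ U).Nonempty := by
  obtain ⟨y, hy⟩ := A.isIrreducible.nonempty
  exact ⟨f y, by rw [irrEmb_coe]; exact subset_closure ⟨y, hy, rfl⟩, hU (mem_range_self y)⟩

theorem ordConnected_range_irrEmb {f : Y → X} (hf : IsInducing f)
    (hr : IsLocallyClosed (range f)) : (range (irrEmb hf)).OrdConnected := by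
  obtain ⟨U, Z, hU, hZ, hUZ⟩ := hr
  refine ⟨?_⟩
  rintro _ ⟨A, rfl⟩ _ ⟨B, rfl⟩ W ⟨hAW, hWB⟩
  apply mem_range_irrEmb hf hU hZ hUZ W
  · have h1 : (W : Set X) ⊆ (irrEmb hf B : IrreducibleCloseds X) := hWB
    refine h1.trans ((irrEmb_subset_closure_range hf B).trans ?_)
    rw [hUZ]
    exact closure_minimal inter_subset_right hZ
  · obtain ⟨x, hx1, hx2⟩ := irrEmb_inter_nonempty hf A (U := U) (by rw [hUZ]; exact inter_subset_left)
    exact ⟨x, hAW hx1, hx2⟩

theorem isUpperSet_range_irrEmb {f : Y → X} (hf : IsInducing f)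
    (hr : IsOpen (range f)) : IsUpperSet (range (irrEmb hf)) := by
  rintro _ W hAW ⟨A, rfl⟩
  apply mem_range_irrEmb hf hr isClosed_univ (by simp) W (subset_univ _)
  obtain ⟨x, hx1, hx2⟩ := irrEmb_inter_nonempty hf A (U := range f) subset_rfl
  exact ⟨x, hAW hx1, hx2⟩

/-- a locally closed subspace of a catenary space is catenary -/
theorem isCatenarySpace_of_isInducing {f : Y → X} (hf : IsInducing f)
    (hr : IsLocallyClosed (range f)) (h : PtTop.IsCatenarySpace X) : PtTop.IsCatenarySpace Y := by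
  rw [isCatenarySpace_iff] at h ⊢
  exact IsCatPoset.of_embedding (irrEmb hf) (ordConnected_range_irrEmb hf hr) h

theorem isCatenarySpace_of_homeomorph (e : Y ≃ₜ X) (h : PtTop.IsCatenarySpace X) :
    PtTop.IsCatenarySpace Y :=
  isCatenarySpace_of_isInducing e.isInducing
    (by rw [e.surjective.range_eq]; exact isOpen_univ.isLocallyClosed) h

theorem isCatenarySpace_subtype {S : Set X} (hS : IsLocallyClosed S)
    (h : PtTop.IsCatenarySpace X) : PtTop.IsCatenarySpace S :=
  isCatenarySpace_of_isInducing IsInducing.subtypeVal (by rwa [Subtype.range_coe]) h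

/-- a space covered by catenary open subspaces is catenary -/
theorem isCatenarySpace_of_open_cover {ι : Type*} (U : ι → Set X) (hU : ∀ i, IsOpen (U i))
    (hcov : ∀ x : X, ∃ i, x ∈ U i) (h : ∀ i, PtTop.IsCatenarySpace (U i)) :
    PtTop.IsCatenarySpace X := by
  rw [isCatenarySpace_iff]
  refine IsCatPoset.of_cover (fun i => IrreducibleCloseds (U i))
    (fun i => irrEmb (IsInducing.subtypeVal (t := U i))) ?_ ?_
    (fun i => (isCatenarySpace_iff _).mp (h i))
  · intro i
    apply isUpperSet_range_irrEmb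
    rw [Subtype.range_coe]
    exact hU i
  · intro W
    obtain ⟨x, hx⟩ := W.isIrreducible.nonempty
    obtain ⟨i, hi⟩ := hcov x
    refine ⟨i, mem_range_irrEmb _ (hU i) isClosed_univ (by simp [Subtype.range_coe]) W
      (subset_univ _) ⟨x, hx, hi⟩⟩

end Embedding

section Ring

variable (R : Type u) [CommRing R]

theorem isCatenarySpace_primeSpectrum_iff :
    PtTop.IsCatenarySpace (PrimeSpectrum R) ↔ CAlg.IsCatenary R := by
  rw [isCatenarySpace_iff, isCatenary_iff, ← isCatPoset_dual_iff (P := IrreducibleCloseds (PrimeSpectrum R))]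
  exact ⟨fun h => isCatPoset_of_orderIso (PrimeSpectrum.pointsEquivIrreducibleCloseds R) h,
    fun h => isCatPoset_of_orderIso (PrimeSpectrum.pointsEquivIrreducibleCloseds R).symm h⟩

theorem isCatenary_of_forall_localization
    (h : ∀ p : PrimeSpectrum R, CAlg.IsCatenary (Localization.AtPrime p.asIdeal)) :
    CAlg.IsCatenary R := by
  refine isCatPoset_of_cover_lower (ι := PrimeSpectrum R)
    (fun p => PrimeSpectrum (Localization.AtPrime p.asIdeal))
    (fun p => specEmbOfLocalization (Localization.AtPrime p.asIdeal) p.asIdeal.primeCompl)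
    ?_ ?_ h
  · intro p
    have hr : Set.range (specEmbOfLocalization (Localization.AtPrime p.asIdeal) p.asIdeal.primeCompl) =
        {q : PrimeSpectrum R | Disjoint (p.asIdeal.primeCompl : Set R) q.asIdeal} :=
      PrimeSpectrum.localization_comap_range _ _
    rw [hr]
    intro a b hba ha
    exact Set.disjoint_of_subset_right hba ha
  · intro p
    refine ⟨p, ?_⟩
    have hr : Set.range (specEmbOfLocalization (Localization.AtPrime p.asIdeal) p.asIdeal.primeCompl) =
        {q : PrimeSpectrum R | Disjoint (p.asIdeal.primeCompl : Set R) q.asIdeal} :=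
      PrimeSpectrum.localization_comap_range _ _
    rw [hr]
    show Disjoint (p.asIdeal.primeCompl : Set R) p.asIdeal
    rw [Set.disjoint_left]
    intro x hx hx'
    exact hx hx'

end Ring

section Scheme

open AlgebraicGeometry

variable (S : Scheme.{u})

theorem isCatenarySpace_affineOpen_iff (U : S.affineOpens) :
    PtTop.IsCatenarySpace (U : S.Opens) ↔ CAlg.IsCatenary Γ(S, U) := by
  rw [← isCatenarySpace_primeSpectrum_iff]
  have e : (U : S.Opens) ≃ₜ PrimeSpectrum Γ(S, U) := Scheme.homeoOfIso U.2.isoSpec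
  exact ⟨fun h => isCatenarySpace_of_homeomorph e.symm h, fun h => isCatenarySpace_of_homeomorph e h⟩

theorem isCatenarySpace_iff_affineOpens :
    PtTop.IsCatenarySpace S ↔ ∀ U : S.affineOpens, CAlg.IsCatenary Γ(S, U) := by
  constructor
  · intro h U
    rw [← isCatenarySpace_affineOpen_iff]
    exact isCatenarySpace_subtype (S := ((U : S.Opens) : Set S)) (U : S.Opens).isOpen.isLocallyClosed h
  · intro h
    refine isCatenarySpace_of_open_cover (fun U : S.affineOpens => ((U : S.Opens) : Set S))
      (fun U => (U : S.Opens).isOpen) ?_ (fun U => (isCatenarySpace_affineOpen_iff S U).mpr (h U))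
    intro x
    obtain ⟨_, ⟨U, hU, rfl⟩, hxU, -⟩ :=
      S.isBasis_affineOpens.exists_subset_of_mem_open (Set.mem_univ x) isOpen_univ
    exact ⟨⟨U, hU⟩, hxU⟩

theorem isCatenarySpace_iff_exists_affineOpens :
    PtTop.IsCatenarySpace S ↔
      ∀ s : S, ∃ U : S.affineOpens, s ∈ (U : S.Opens) ∧ CAlg.IsCatenary Γ(S, U) := by
  constructor
  · intro h x
    obtain ⟨_, ⟨U, hU, rfl⟩, hxU, -⟩ :=
      S.isBasis_affineOpens.exists_subset_of_mem_open (Set.mem_univ x) isOpen_univ
    exact ⟨⟨U, hU⟩, hxU, (isCatenarySpace_iff_affineOpens S).mp h ⟨U, hU⟩⟩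
  · intro h
    choose U hxU hU using h
    exact isCatenarySpace_of_open_cover (fun x => ((U x : S.Opens) : Set S))
      (fun x => (U x : S.Opens).isOpen) (fun x => ⟨x, hxU x⟩)
      (fun x => (isCatenarySpace_affineOpen_iff S (U x)).mpr (hU x))

theorem isCatenarySpace_iff_stalks :
    PtTop.IsCatenarySpace S ↔ ∀ x : S, CAlg.IsCatenary (S.presheaf.stalk x) := by
  constructor
  · intro h x
    obtain ⟨_, ⟨U, hU, rfl⟩, hxU, -⟩ :=
      S.isBasis_affineOpens.exists_subset_of_mem_open (Set.mem_univ x) isOpen_univ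
    have hR := (isCatenarySpace_iff_affineOpens S).mp h ⟨U, hU⟩
    letI : Algebra Γ(S, U) (S.presheaf.stalk x) :=
      TopCat.Presheaf.algebra_section_stalk S.presheaf ⟨x, hxU⟩
    haveI : IsLocalization.AtPrime (S.presheaf.stalk x) (hU.primeIdealOf ⟨x, hxU⟩).asIdeal :=
      hU.isLocalization_stalk ⟨x, hxU⟩
    exact isCatenary_of_isLocalization (S.presheaf.stalk x)
      (hU.primeIdealOf ⟨x, hxU⟩).asIdeal.primeCompl hR
  · intro h
    rw [isCatenarySpace_iff_affineOpens]
    intro U
    apply isCatenary_of_forall_localization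
    intro p
    -- the point of `S` corresponding to `p`
    have hsurj : Function.Surjective U.2.primeIdealOf := by
      intro q
      exact ⟨U.2.isoSpec.inv q, by
        show U.2.isoSpec.hom (U.2.isoSpec.inv q) = q
        rw [← Scheme.Hom.comp_apply, CategoryTheory.Iso.inv_hom_id]; rfl⟩
    obtain ⟨x, rfl⟩ := hsurj p
    haveI := U.2.isLocalization_stalk x
    have e : S.presheaf.stalk (x : S) ≃ₐ[Γ(S, U)] Localization.AtPrime (U.2.primeIdealOf x).asIdeal :=
      IsLocalization.algEquiv (U.2.primeIdealOf x).asIdeal.primeCompl _ _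
    exact isCatenary_of_surjective e.toRingEquiv.toRingHom e.surjective (h x)

end Scheme

end Groth.Agent.Helper18.CatSpace
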