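import Mathlib
import Groth.Prelude

set_option autoImplicit false
universe u
open CategoryTheory AlgebraicGeometry Limits

namespace Groth.Agent.Helper18.FpqcDesc

/-- generalized fpqc coverings (flat, surjective, and every affine open of the target is the
image of a quasi-compact open) -/
def GenFpqc {Z Y : Scheme.{u}} (q : Z ⟶ Y) : Prop :=
  Surjective q ∧ Flat q ∧ ∀ V : Y.Opens, IsAffineOpen V →
    ∃ W : Z.Opens, IsCompact (W : Set Z) ∧ q.base '' (W : Set Z) = (V : Set Y)

/-- descent of a property (Zariski local on the target, descending along fpqc morphisms)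
along a generalized fpqc covering -/
theorem descends (P : MorphismProperty Scheme.{u})
    [P.DescendsAlong (@Surjective ⊓ @Flat ⊓ @QuasiCompact)] [IsZariskiLocalAtTarget P]
    {X Y Z A : Scheme.{u}} {f : X ⟶ Y} {q : Z ⟶ Y} (hq : GenFpqc q) {a : A ⟶ Z} {b : A ⟶ X}
    (sq : IsPullback a b q f) (hP : P a) : P f := by
  obtain ⟨hs, hf, hqc⟩ := hq
  haveI := hs
  haveI := hf
  rw [IsZariskiLocalAtTarget.iff_of_openCover (P := P) Y.affineCover]
  intro i
  let ι := Y.affineCover.f i
  haveI : IsOpenImmersion ι := inferInstance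
  have hV : IsAffineOpen ι.opensRange := isAffineOpen_opensRange ι
  obtain ⟨W, hW, hWV⟩ := hqc ι.opensRange hV
  let j := pullback.fst q ι
  let qi := pullback.snd q ι
  let W' : (pullback q ι).Opens := j ⁻¹ᵁ W
  have hWsub : (W : Set Z) ⊆ Set.range j := by
    intro w hw
    have : w ∈ q ⁻¹' Set.range ι := by
      have : q w ∈ q.base '' (W : Set Z) := ⟨w, hw, rfl⟩
      rw [hWV] at this
      exact this
    rw [Scheme.Pullback.range_fst]
    exact this
  have hW'c : IsCompact (W' : Set ↥(pullback q ι)) :=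
    j.isOpenEmbedding.isInducing.isCompact_preimage' hW hWsub
  haveI : CompactSpace W' := isCompact_iff_compactSpace.mp hW'c
  haveI : Flat (W'.ι ≫ qi) := inferInstance
  haveI : Surjective (W'.ι ≫ qi) := by
    constructor
    intro y
    have : ι y ∈ q.base '' (W : Set Z) := by
      rw [hWV]
      exact ⟨y, rfl⟩
    obtain ⟨w, hw, hwy⟩ := this
    obtain ⟨z, hz1, hz2⟩ := Scheme.Pullback.exists_preimage_pullback (f := q) (g := ι) w y hwy
    have hzW : z ∈ W' := by
      show j z ∈ W
      rw [hz1]
      exact hw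
    refine ⟨⟨z, hzW⟩, ?_⟩
    show qi (W'.ι ⟨z, hzW⟩) = y
    exact hz2
  haveI : QuasiCompact (W'.ι ≫ qi) := by
    haveI : IsAffine (Y.affineCover.X i) := inferInstance
    exact (quasiCompact_iff_compactSpace _).mpr inferInstance
  -- the pullback of `pullback.snd f ι` along `W'.ι ≫ qi`
  let T := pullback (W'.ι ≫ qi) (pullback.snd f ι)
  have big : IsPullback (pullback.fst (W'.ι ≫ qi) (pullback.snd f ι))
      (pullback.snd (W'.ι ≫ qi) (pullback.snd f ι) ≫ pullback.fst f ι)
      ((W'.ι ≫ qi) ≫ ι) f :=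
    (IsPullback.of_hasPullback (W'.ι ≫ qi) (pullback.snd f ι)).paste_vert
      (IsPullback.of_hasPullback f ι).flip
  have e : (W'.ι ≫ qi) ≫ ι = (W'.ι ≫ j) ≫ q := by
    simp only [Category.assoc]
    congr 1
    exact pullback.condition.symm
  rw [e] at big
  have left := IsPullback.of_right' big.flip sq.flip
  refine MorphismProperty.of_isPullback_of_descendsAlong (P := P)
    (Q := @Surjective ⊓ @Flat ⊓ @QuasiCompact)
    (IsPullback.of_hasPullback (W'.ι ≫ qi) (pullback.snd f ι))
    ⟨⟨inferInstance, inferInstance⟩, inferInstance⟩ ?_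
  exact IsZariskiLocalAtTarget.of_isPullback (iY := W'.ι ≫ j) left hP

end Groth.Agent.Helper18.FpqcDesc
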