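import Mathlib
import Groth.Prelude
import Groth.Agent.Lib.Helper18.FpqcDesc

set_option autoImplicit false
universe u
open CategoryTheory CategoryTheory.Limits AlgebraicGeometry MorphismProperty

namespace Groth.Agent.Helper18.FpqcDesc

set_option backward.isDefEq.respectTransparency.types false in
theorem cover_data {Y : Scheme.{u}}
    (𝒰 : Precoverage.ZeroHypercover.{u} Scheme.fpqcPrecoverage Y) :
    (∀ y : Y, ∃ i, y ∈ Set.range (𝒰.f i)) ∧ (∀ i, Flat (𝒰.f i)) ∧
      QuasiCompactCover 𝒰.toPreZeroHypercover := by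
  have hmem := 𝒰.mem₀
  obtain ⟨hqc, hfl⟩ := hmem
  rw [Scheme.presieve₀_mem_precoverage_iff] at hfl
  obtain ⟨hcov, hprop⟩ := hfl
  rw [Scheme.presieve₀_mem_qcPrecoverage_iff] at hqc
  exact ⟨hcov, hprop, hqc⟩

set_option backward.isDefEq.respectTransparency.types false in
theorem flat_sigmaDesc {Y : Scheme.{u}} {ι : Type u} (X : ι → Scheme.{u}) (f : ∀ i, X i ⟶ Y)
    (h : ∀ i, Flat (f i)) : Flat (Sigma.desc f : ∐ X ⟶ Y) :=
  IsZariskiLocalAtSource.sigmaDesc (fun i => h i)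

/-- the coproduct of an fpqc covering family is a generalized fpqc covering -/
theorem genFpqc_sigmaDesc {Y : Scheme.{u}}
    (𝒰 : Precoverage.ZeroHypercover.{u} Scheme.fpqcPrecoverage Y) :
    GenFpqc (Sigma.desc 𝒰.f : ∐ 𝒰.X ⟶ Y) := by
  obtain ⟨hcov, hprop, hqc⟩ := cover_data 𝒰
  haveI := hqc
  refine ⟨?_, ?_, ?_⟩
  · apply Surjective.sigmaDesc_of_union_range_eq_univ
    rw [Set.eq_univ_iff_forall]
    intro y
    obtain ⟨i, hi⟩ := hcov y
    exact Set.mem_iUnion.2 ⟨i, hi⟩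
  · exact flat_sigmaDesc _ _ hprop
  · intro V hV
    obtain ⟨s, hs, W, hWc, hWV⟩ := hV.isCompactOpenCovered 𝒰.toPreZeroHypercover
    classical
    let g : 𝒰.I₀ → Set ↥(∐ 𝒰.X) := fun i =>
      if h : i ∈ s then (Sigma.ι 𝒰.X i) '' (W i h : Set (𝒰.X i)) else ∅
    have hg_open : ∀ i, IsOpen (g i) := by
      intro i
      by_cases h : i ∈ s
      · simp only [g, dif_pos h]
        exact (Sigma.ι 𝒰.X i).isOpenEmbedding.isOpenMap _ (W i h).2
      · simp only [g, dif_neg h]
        exact isOpen_empty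
    have hg_c : ∀ i ∈ s, IsCompact (g i) := by
      intro i h
      simp only [g, dif_pos h]
      exact (hWc i h).image (Sigma.ι 𝒰.X i).continuous
    have hg_img : ∀ i (h : i ∈ s), (Sigma.desc 𝒰.f : ∐ 𝒰.X ⟶ Y) '' (g i) =
        (𝒰.f i) '' (W i h : Set (𝒰.X i)) := by
      intro i h
      simp only [g, dif_pos h]
      rw [← Set.image_comp]
      congr 1
      ext x
      show (Sigma.ι 𝒰.X i ≫ Sigma.desc 𝒰.f) x = _
      rw [Sigma.ι_desc]
    refine ⟨⟨⋃ i ∈ s, g i, isOpen_biUnion fun i _ => hg_open i⟩, hs.isCompact_biUnion hg_c, ?_⟩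
    rw [← hWV]
    show (Sigma.desc 𝒰.f : ∐ 𝒰.X ⟶ Y) '' (⋃ i ∈ s, g i) = _
    rw [Set.image_iUnion₂]
    exact Set.iUnion_congr fun i => Set.iUnion_congr fun h => hg_img i h

set_option backward.isDefEq.respectTransparency.types false in
instance small_fpqc : Precoverage.Small.{u} Scheme.fpqcPrecoverage.{u} := by
  unfold Scheme.fpqcPrecoverage; infer_instance

/-- a Zariski-local property stable under base change which descends along fpqc morphisms is
local at the target for the fpqc precoverage -/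
theorem isLocalAtTarget_fpqc (P : MorphismProperty Scheme.{u})
    [IsZariskiLocalAtTarget P] [P.IsStableUnderBaseChange]
    [P.DescendsAlong (@Surjective ⊓ @Flat ⊓ @QuasiCompact)] :
    P.IsLocalAtTarget Scheme.fpqcPrecoverage := by
  refine IsLocalAtTarget.mk_of_small.{u} (fun 𝒰 hf i => P.pullback_snd _ _ hf) ?_
  intro X Y f 𝒰 h
  let p : ∐ 𝒰.X ⟶ Y := Sigma.desc 𝒰.f
  have hp : GenFpqc p := genFpqc_sigmaDesc 𝒰
  refine descends P hp (IsPullback.of_hasPullback f p).flip ?_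
  rw [IsZariskiLocalAtTarget.iff_of_openCover (P := P) (sigmaOpenCover 𝒰.X)]
  intro i
  change P (pullback.snd (pullback.snd f p) (Sigma.ι 𝒰.X i))
  have e : Sigma.ι 𝒰.X i ≫ p = 𝒰.f i := Sigma.ι_desc _ _
  have h' : P (pullback.snd f (Sigma.ι 𝒰.X i ≫ p)) := by
    rw [e]; exact h i
  rw [← pullbackLeftPullbackSndIso_hom_snd]
  exact (P.cancel_left_of_respectsIso _ _).2 h'

end Groth.Agent.Helper18.FpqcDesc
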