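import Mathlib

/-!
Base change of a central simple algebra along a field extension is simple.
-/

namespace Groth.Agent.Helper18

open TensorProduct

section
variable {K : Type*} [Field K] {L : Type*} [Field L] [Algebra K L]
  {A : Type*} [Ring A] [Algebra K A] {ι : Type*} [DecidableEq ι]

/-- coefficients of a tensor with respect to a basis of the left factor -/
noncomputable def coef (b : Module.Basis ι K L) (x : L ⊗[K] A) : ι →₀ A :=
  TensorProduct.equivFinsuppOfBasisLeft b x

lemma coef_add (b : Module.Basis ι K L) (x y : L ⊗[K] A) :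
    coef b (x + y) = coef b x + coef b y := map_add _ _ _

lemma coef_sub (b : Module.Basis ι K L) (x y : L ⊗[K] A) :
    coef b (x - y) = coef b x - coef b y := map_sub _ _ _

lemma coef_zero (b : Module.Basis ι K L) : coef b (0 : L ⊗[K] A) = 0 := map_zero _

lemma coef_eq_zero_iff (b : Module.Basis ι K L) (x : L ⊗[K] A) : coef b x = 0 ↔ x = 0 :=
  LinearEquiv.map_eq_zero_iff _

lemma coef_tmul (b : Module.Basis ι K L) (l : L) (a : A) (i : ι) :
    coef b (l ⊗ₜ[K] a) i = b.repr l i • a :=
  TensorProduct.equivFinsuppOfBasisLeft_apply_tmul_apply b l a i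

lemma coef_mul_left (b : Module.Basis ι K L) (a : A) (x : L ⊗[K] A) (i : ι) :
    coef b (((1 : L) ⊗ₜ[K] a) * x) i = a * coef b x i := by
  induction x using TensorProduct.induction_on with
  | zero => simp [coef_zero]
  | tmul l a' =>
    rw [Algebra.TensorProduct.tmul_mul_tmul, one_mul, coef_tmul, coef_tmul, mul_smul_comm]
  | add x y hx hy =>
    rw [mul_add, coef_add, coef_add, Finsupp.add_apply, Finsupp.add_apply, hx, hy, mul_add]

lemma coef_mul_right (b : Module.Basis ι K L) (a : A) (x : L ⊗[K] A) (i : ι) :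
    coef b (x * ((1 : L) ⊗ₜ[K] a)) i = coef b x i * a := by
  induction x using TensorProduct.induction_on with
  | zero => simp [coef_zero]
  | tmul l a' =>
    rw [Algebra.TensorProduct.tmul_mul_tmul, mul_one, coef_tmul, coef_tmul, smul_mul_assoc]
  | add x y hx hy =>
    rw [add_mul, coef_add, coef_add, Finsupp.add_apply, Finsupp.add_apply, hx, hy, add_mul]

lemma eq_sum_coef (b : Module.Basis ι K L) (x : L ⊗[K] A) :
    x = (coef b x).sum fun i a => b i ⊗ₜ[K] a := by
  have := TensorProduct.equivFinsuppOfBasisLeft_symm_apply (N := A) b (coef b x)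
  rw [← this]
  exact ((TensorProduct.equivFinsuppOfBasisLeft b).symm_apply_apply x).symm

end

/-- If `A` is central simple over the field `K` and `L` is a field extension of `K`, then
`L ⊗[K] A` is a simple ring. -/
theorem isSimpleRing_tensor_of_isCentral (K : Type*) [Field K] (L : Type*) [Field L] [Algebra K L]
    (A : Type*) [Ring A] [Algebra K A] [Algebra.IsCentral K A] [IsSimpleRing A] :
    IsSimpleRing (L ⊗[K] A) := by
  classical
  have hinj : Function.Injective (Algebra.TensorProduct.includeRight : A →ₐ[K] L ⊗[K] A) :=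
    Algebra.TensorProduct.includeRight_injective (FaithfulSMul.algebraMap_injective K L)
  haveI : Nontrivial (L ⊗[K] A) := hinj.nontrivial
  refine IsSimpleRing.of_eq_bot_or_eq_top fun I => ?_
  by_cases hI : I = ⊥
  · exact Or.inl hI
  right
  let b := Module.Basis.ofVectorSpace K L
  -- choose nonzero element of minimal support
  have hex : ∃ n : ℕ, ∃ x ∈ I, x ≠ 0 ∧ (coef b x).support.card = n := by
    obtain ⟨x, hxI, hx0⟩ : ∃ x ∈ I, x ≠ 0 := by
      by_contra hcon
      push_neg at hcon
      apply hI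
      rw [eq_bot_iff]
      intro x hx
      rw [TwoSidedIdeal.mem_bot]
      exact hcon x hx
    exact ⟨_, x, hxI, hx0, rfl⟩
  obtain ⟨x, hxI, hx0, hxn⟩ := Nat.find_spec hex
  have hmin : ∀ y ∈ I, y ≠ 0 → (coef b x).support.card ≤ (coef b y).support.card := by
    intro y hyI hy0
    rw [hxn]
    exact Nat.find_min' hex ⟨y, hyI, hy0, rfl⟩
  have hcx : coef b x ≠ 0 := fun h => hx0 ((coef_eq_zero_iff b x).1 h)
  obtain ⟨j0, hj0⟩ : ∃ j0, coef b x j0 ≠ 0 := by
    by_contra hcon
    push_neg at hcon
    exact hcx (Finsupp.ext hcon)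
  -- the ideal of possible j0-coefficients
  let T : TwoSidedIdeal A := TwoSidedIdeal.mk'
    {a | ∃ y ∈ I, (∀ j, coef b x j = 0 → coef b y j = 0) ∧ coef b y j0 = a}
    ⟨0, I.zero_mem, fun j _ => by simp [coef_zero], by simp [coef_zero]⟩
    (by
      rintro a a' ⟨y, hy, hy1, hy2⟩ ⟨y', hy', hy1', hy2'⟩
      refine ⟨y + y', I.add_mem hy hy', fun j hj => ?_, ?_⟩
      · rw [coef_add, Finsupp.add_apply, hy1 j hj, hy1' j hj, add_zero]
      · rw [coef_add, Finsupp.add_apply, hy2, hy2'])
    (by
      rintro a ⟨y, hy, hy1, hy2⟩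
      refine ⟨-y, I.neg_mem hy, fun j hj => ?_, ?_⟩
      · have : coef b (-y) = - coef b y := map_neg _ _
        rw [this, Finsupp.neg_apply, hy1 j hj, neg_zero]
      · have : coef b (-y) = - coef b y := map_neg _ _
        rw [this, Finsupp.neg_apply, hy2])
    (by
      rintro a a' ⟨y, hy, hy1, hy2⟩
      refine ⟨((1 : L) ⊗ₜ[K] a) * y, I.mul_mem_left _ _ hy, fun j hj => ?_, ?_⟩
      · rw [coef_mul_left, hy1 j hj, mul_zero]
      · rw [coef_mul_left, hy2])
    (by
      rintro a a' ⟨y, hy, hy1, hy2⟩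
      refine ⟨y * ((1 : L) ⊗ₜ[K] a'), I.mul_mem_right _ _ hy, fun j hj => ?_, ?_⟩
      · rw [coef_mul_right, hy1 j hj, zero_mul]
      · rw [coef_mul_right, hy2])
  have hTmem : ∀ a, a ∈ T ↔ ∃ y ∈ I, (∀ j, coef b x j = 0 → coef b y j = 0) ∧ coef b y j0 = a := by
    intro a
    exact TwoSidedIdeal.mem_mk' _ _ _ _ _ _ _
  have hT1 : (1 : A) ∈ T := by
    apply IsSimpleRing.one_mem_of_ne_zero_mem T hj0
    rw [hTmem]
    exact ⟨x, hxI, fun j hj => hj, rfl⟩
  rw [hTmem] at hT1
  obtain ⟨x', hx'I, hx'supp, hx'1⟩ := hT1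
  -- elements of I with strictly smaller support vanish
  have hsmall : ∀ y ∈ I, (∀ j, coef b x j = 0 → coef b y j = 0) → coef b y j0 = 0 → y = 0 := by
    intro y hyI hy1 hy2
    by_contra hy0
    have h1 := hmin y hyI hy0
    have h2 : (coef b y).support ⊂ (coef b x).support := by
      rw [Finset.ssubset_iff_of_subset]
      · exact ⟨j0, Finsupp.mem_support_iff.2 hj0, fun h => (Finsupp.mem_support_iff.1 h) hy2⟩
      · intro j hj
        rw [Finsupp.mem_support_iff] at hj ⊢
        exact fun h => hj (hy1 j h)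
    exact absurd (Finset.card_lt_card h2) (not_lt.2 h1)
  -- coefficients of x' are central
  have hcentral : ∀ j, ∀ a : A, a * coef b x' j = coef b x' j * a := by
    intro j a
    have hy : ((1 : L) ⊗ₜ[K] a) * x' - x' * ((1 : L) ⊗ₜ[K] a) = 0 := by
      apply hsmall
      · exact I.sub_mem (I.mul_mem_left _ _ hx'I) (I.mul_mem_right _ _ hx'I)
      · intro j hj
        rw [coef_sub, Finsupp.sub_apply, coef_mul_left, coef_mul_right, hx'supp j hj, mul_zero,
          zero_mul, sub_zero]
      · rw [coef_sub, Finsupp.sub_apply, coef_mul_left, coef_mul_right, hx'1, mul_one, one_mul,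
          sub_self]
    have := congrArg (fun z => coef b z j) hy
    simp only [coef_sub, Finsupp.sub_apply, coef_mul_left, coef_mul_right, coef_zero,
      Finsupp.zero_apply] at this
    exact sub_eq_zero.1 this
  have hscalar : ∀ j, ∃ κ : K, algebraMap K A κ = coef b x' j := by
    intro j
    have hmem : coef b x' j ∈ Subalgebra.center K A := by
      rw [Subalgebra.mem_center_iff]
      exact fun a => hcentral j a
    have := Algebra.IsCentral.out (K := K) hmem
    exact Algebra.mem_bot.1 this
  -- x' lies in the image of L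
  have hx'L : ∃ l : L, l ⊗ₜ[K] (1 : A) = x' := by
    have hmem : x' ∈ LinearMap.range ((TensorProduct.mk K L A).flip 1) := by
      rw [eq_sum_coef b x']
      apply Submodule.sum_mem
      intro j _
      obtain ⟨κ, hκ⟩ := hscalar j
      refine ⟨κ • b j, ?_⟩
      simp only [LinearMap.flip_apply, TensorProduct.mk_apply]
      rw [← hκ, Algebra.algebraMap_eq_smul_one, TensorProduct.smul_tmul]
    obtain ⟨l, hl⟩ := hmem
    exact ⟨l, hl⟩
  obtain ⟨l, hl⟩ := hx'L
  have hx'0 : x' ≠ 0 := by
    intro h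
    rw [h, coef_zero, Finsupp.zero_apply] at hx'1
    exact one_ne_zero hx'1.symm
  have hl0 : l ≠ 0 := by
    rintro rfl
    apply hx'0
    rw [← hl, TensorProduct.zero_tmul]
  have h1 : (1 : L ⊗[K] A) ∈ I := by
    have := I.mul_mem_left (l⁻¹ ⊗ₜ[K] (1 : A)) x' hx'I
    rwa [← hl, Algebra.TensorProduct.tmul_mul_tmul, inv_mul_cancel₀ hl0, one_mul,
      ← Algebra.TensorProduct.one_def] at this
  exact (TwoSidedIdeal.one_mem_iff I).1 h1

end Groth.Agent.Helper18
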