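import Mathlib
import Groth.Agent.Lib.Helper13.QCohStalk
import Groth.Agent.Lib.Helper13.EpiStalk
import Groth.Agent.Lib.Helper13.LocFree

set_option autoImplicit false
universe u
open CategoryTheory CategoryTheory.Limits AlgebraicGeometry Opposite TopologicalSpace
open Groth.Agent.Helper13.QCoh

namespace Groth.Agent.Helper18.BasisCrit

variable {X : Scheme.{u}}

lemma stalkMap_comp {F G H : X.Modules} (φ : F ⟶ G) (ψ : G ⟶ H) (x : X)
    (m : F.presheaf.stalk x) : stalkMap (φ ≫ ψ) x m = stalkMap ψ x (stalkMap φ x m) := by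
  obtain ⟨U, hxU, m₀, rfl⟩ := TopCat.Presheaf.exists_germ_eq F.presheaf m
  rw [stalkMap_germ, stalkMap_germ, stalkMap_germ]
  rfl

lemma stalkMap_zero {F G : X.Modules} (x : X) (m : F.presheaf.stalk x) :
    stalkMap (0 : F ⟶ G) x m = 0 := by
  obtain ⟨U, hxU, m₀, rfl⟩ := TopCat.Presheaf.exists_germ_eq F.presheaf m
  rw [stalkMap_germ]
  exact map_zero _

/-- surjective on sections over a basis implies epi. -/
theorem epi_of_basis {M N : X.Modules} (φ : M ⟶ N) {B : Set X.Opens} (hB : Opens.IsBasis B)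
    (h : ∀ V ∈ B, Function.Surjective (φ.app V)) : Epi φ := by
  apply Groth.Agent.Helper13.FinType.epi_of_stalkMap_surjective
  intro x m
  obtain ⟨V, hxV, hV, t, rfl⟩ := TopCat.Presheaf.exists_mem_germ_eq_of_isBasis hB N.presheaf x m
  obtain ⟨t', rfl⟩ := h V hV t
  exact ⟨M.presheaf.germ V x hxV t', stalkMap_germ φ x V hxV t'⟩

/-- injective on sections over a basis implies mono. -/
theorem mono_of_basis {M N : X.Modules} (φ : M ⟶ N) {B : Set X.Opens} (hB : Opens.IsBasis B)
    (h : ∀ V ∈ B, Function.Injective (φ.app V)) : Mono φ := by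
  rw [mono_iff_stalk_injective]
  intro x
  exact TopCat.Presheaf.stalkFunctor_map_injective_of_isBasis hB (α := φ.mapPresheaf) h x

/-- stalkwise exactness implies exactness. -/
theorem exact_of_stalk (S : ShortComplex X.Modules)
    (h : ∀ (x : X) (m : S.X₂.presheaf.stalk x), stalkMap S.g x m = 0 →
      ∃ n : S.X₁.presheaf.stalk x, stalkMap S.f x n = m) : S.Exact := by
  rw [S.exact_iff_epi_kernel_lift]
  apply Groth.Agent.Helper13.FinType.epi_of_stalkMap_surjective
  intro x k
  have hι : Mono (kernel.ι S.g) := inferInstance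
  have hinj := (mono_iff_stalk_injective (kernel.ι S.g)).1 hι x
  have h0 : stalkMap S.g x (stalkMap (kernel.ι S.g) x k) = 0 := by
    rw [← stalkMap_comp, kernel.condition]
    exact stalkMap_zero x k
  obtain ⟨n, hn⟩ := h x _ h0
  refine ⟨n, hinj ?_⟩
  change stalkMap (kernel.ι S.g) x (stalkMap (kernel.lift S.g S.f S.zero) x n) = _
  rw [← stalkMap_comp, kernel.lift_ι, hn]
  rfl

/-- exactness on sections over a basis implies exactness. -/
theorem exact_of_basis (S : ShortComplex X.Modules) {B : Set X.Opens} (hB : Opens.IsBasis B)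
    (h : ∀ V ∈ B, ∀ m : Γ(S.X₂, V), S.g.app V m = 0 → ∃ n : Γ(S.X₁, V), S.f.app V n = m) :
    S.Exact := by
  apply exact_of_stalk
  intro x m hm
  obtain ⟨U, hxU, m₀, rfl⟩ := TopCat.Presheaf.exists_germ_eq S.X₂.presheaf m
  rw [stalkMap_germ] at hm
  have h0 : S.X₃.presheaf.germ U x hxU (S.g.app U m₀) = S.X₃.presheaf.germ U x hxU 0 := by
    rw [hm, map_zero]
  obtain ⟨W, hxW, iU, iV, hW⟩ := TopCat.Presheaf.germ_eq S.X₃.presheaf x hxU hxU _ _ h0
  obtain ⟨V, hVB, hxV, hVW⟩ := (Opens.isBasis_iff_nbhd.1 hB) hxW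
  let i : V ⟶ U := homOfLE hVW ≫ iU
  have h1 : S.g.app V (S.X₂.presheaf.map i.op m₀) = 0 := by
    have h2 : S.g.app V (S.X₂.presheaf.map i.op m₀) = S.X₃.presheaf.map i.op (S.g.app U m₀) := by
      have := S.g.mapPresheaf.naturality i.op
      exact congrArg (fun ψ => ψ m₀) this
    rw [h2]
    have h3 : S.X₃.presheaf.map i.op (S.g.app U m₀) =
        S.X₃.presheaf.map (homOfLE hVW).op (S.X₃.presheaf.map iU.op (S.g.app U m₀)) := by
      change _ = (S.X₃.presheaf.map iU.op ≫ S.X₃.presheaf.map (homOfLE hVW).op) _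
      rw [← Functor.map_comp]
      rfl
    rw [h3, hW, map_zero, map_zero]
  obtain ⟨n, hn⟩ := h V hVB _ h1
  refine ⟨S.X₁.presheaf.germ V x hxV n, ?_⟩
  rw [stalkMap_germ, hn]
  exact TopCat.Presheaf.germ_res_apply S.X₂.presheaf i x hxV m₀

end Groth.Agent.Helper18.BasisCrit
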