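import Mathlib
import Groth.Prelude.Def_Omega3

set_option autoImplicit false
universe u
open CategoryTheory CategoryTheory.Limits AlgebraicGeometry TopologicalSpace Opposite

namespace Groth.Agent.Helper18.DerLib

variable {X Y : Scheme.{u}}

theorem der_ext {f : X ⟶ Y} {F : X.Modules} (D D' : OmegaSh.Der f F)
    (h : ∀ (U : X.Opens) (s : Γ(X, U)), OmegaSh.Der.app D U s = OmegaSh.Der.app D' U s) :
    D = D' := by
  ext U s
  exact h U.unop s

theorem postcomp_app {f : X ⟶ Y} {F G : X.Modules} (D : OmegaSh.Der f F) (α : F ⟶ G)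
    (U : X.Opens) (s : Γ(X, U)) :
    OmegaSh.Der.app (f := f) (F := G) (D.postcomp α.val) U s = α.app U (OmegaSh.Der.app D U s) :=
  rfl

theorem der_app_mul {f : X ⟶ Y} {F : X.Modules} (D : OmegaSh.Der f F) (U : X.Opens)
    (a b : Γ(X, U)) :
    OmegaSh.Der.app D U (a * b) = a • OmegaSh.Der.app D U b + b • OmegaSh.Der.app D U a :=
  D.d_mul a b

theorem der_app_map {f : X ⟶ Y} {F : X.Modules} (D : OmegaSh.Der f F) {U V : X.Opens}
    (i : V ⟶ U) (a : Γ(X, U)) :
    OmegaSh.Der.app D V (X.presheaf.map i.op a) = F.presheaf.map i.op (OmegaSh.Der.app D U a) :=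
  D.d_map i.op a

theorem der_app_app {f : X ⟶ Y} {F : X.Modules} (D : OmegaSh.Der f F) (V : Y.Opens)
    (c : Γ(Y, V)) : OmegaSh.Der.app D (f ⁻¹ᵁ V) (f.app V c) = 0 :=
  D.d_app (X := op V) c

theorem appLE_congr_hom {P Q : Scheme.{u}} {q q' : P ⟶ Q} (h : q = q') {U : Q.Opens} {V : P.Opens}
    (e : V ≤ q ⁻¹ᵁ U) (e' : V ≤ q' ⁻¹ᵁ U) : q.appLE U V e = q'.appLE U V e' := by
  subst h; rfl

/-- A derivation kills `appLE` of a section of the base. -/
theorem der_app_appLE {f : X ⟶ Y} {F : X.Modules} (D : OmegaSh.Der f F) (V : Y.Opens)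
    (W : X.Opens) (e : W ≤ f ⁻¹ᵁ V) (c : Γ(Y, V)) :
    OmegaSh.Der.app D W (f.appLE V W e c) = 0 := by
  have : f.appLE V W e c = X.presheaf.map (homOfLE e).op (f.app V c) := rfl
  rw [this, der_app_map, der_app_app, map_zero]

section Push

variable {X S X' S' : Scheme.{u}} {f : X ⟶ S} {f' : X' ⟶ S'} (h : X' ⟶ X) (b : S' ⟶ S)
  (hsq : f' ≫ b = h ≫ f) {Ω' : X'.Modules} (d' : OmegaSh.Der f' Ω')

include hsq in
theorem push_app_app (V : S.Opens) (c : Γ(S, V)) :
    OmegaSh.Der.app d' (h ⁻¹ᵁ (f ⁻¹ᵁ V)) (h.app (f ⁻¹ᵁ V) (f.app V c)) = 0 := by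
  change OmegaSh.Der.app d' ((h ≫ f) ⁻¹ᵁ V) ((h ≫ f).app V c) = 0
  rw [Scheme.Hom.congr_app hsq.symm V, CommRingCat.comp_apply, der_app_map]
  have h3 : OmegaSh.Der.app d' ((f' ≫ b) ⁻¹ᵁ V) ((f' ≫ b).app V c) = 0 :=
    der_app_app d' (b ⁻¹ᵁ V) (b.app V c)
  rw [h3, map_zero]

/-- The derivation `O_X → h_* Ω'` induced by a derivation `O_{X'} → Ω'`, for a commutative square. -/
noncomputable def pushDer : OmegaSh.Der f ((Scheme.Modules.pushforward h).obj Ω') where
  d {U} := (OmegaSh.Der.app d' (h ⁻¹ᵁ U.unop)).comp (h.app U.unop).hom.toAddMonoidHom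
  d_mul {U} a b := by
    change OmegaSh.Der.app d' (h ⁻¹ᵁ U.unop) (h.app U.unop (a * b)) = _
    rw [map_mul, der_app_mul]
    rfl
  d_map {U V} i a := by
    change OmegaSh.Der.app d' (h ⁻¹ᵁ V.unop) (h.app V.unop (X.presheaf.map i a)) =
      Ω'.presheaf.map ((Opens.map h.base).map i.unop).op
        (OmegaSh.Der.app d' (h ⁻¹ᵁ U.unop) (h.app U.unop a))
    rw [← der_app_map]
    congr 1
    exact congr($(h.naturality i) a)
  d_app {V} c := push_app_app h b hsq d' V.unop c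

theorem pushDer_app (U : X.Opens) (s : Γ(X, U)) :
    OmegaSh.Der.app (pushDer h b hsq d') U s = OmegaSh.Der.app d' (h ⁻¹ᵁ U) (h.app U s) := rfl

/-- sections of the adjunct of `c : h^* Ω ⟶ Ω'`. -/
theorem homEquiv_app {Ω : X.Modules} (c : (Scheme.Modules.pullback h).obj Ω ⟶ Ω') (U : X.Opens)
    (m : Γ(Ω, U)) :
    (((Scheme.Modules.pullbackPushforwardAdjunction h).homEquiv Ω Ω' c).app U m :
        Γ(Ω', h ⁻¹ᵁ U)) = c.app (h ⁻¹ᵁ U) (OmegaSh.pullSect h Ω U m) := by
  rw [Adjunction.homEquiv_unit]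
  rfl

theorem isDiffCompat_iff {Ω : X.Modules} (d : OmegaSh.Der f Ω)
    (c : (Scheme.Modules.pullback h).obj Ω ⟶ Ω') :
    OmegaSh.IsDiffCompat h d d' c ↔
      d.postcomp ((Scheme.Modules.pullbackPushforwardAdjunction h).homEquiv Ω Ω' c).val =
        pushDer h b hsq d' := by
  constructor
  · intro hc
    apply der_ext
    intro U s
    rw [postcomp_app, pushDer_app]
    exact (homEquiv_app h c U _).trans (hc U s)
  · intro hc U s
    have := congrArg (fun D => OmegaSh.Der.app D U s) hc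
    simp only [postcomp_app, pushDer_app] at this
    exact (homEquiv_app h c U _).symm.trans this

include hsq in
/-- existence and uniqueness of the canonical map of differentials of a commutative square. -/
theorem existsUnique_isDiffCompat {Ω : X.Modules} (d : OmegaSh.Der f Ω)
    (hd : OmegaSh.IsUniversal d) :
    ∃! c : (Scheme.Modules.pullback h).obj Ω ⟶ Ω', OmegaSh.IsDiffCompat h d d' c := by
  obtain ⟨ψ, hψ, huniq⟩ := hd _ (pushDer h b hsq d')
  refine ⟨((Scheme.Modules.pullbackPushforwardAdjunction h).homEquiv Ω Ω').symm ψ, ?_, ?_⟩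
  · change OmegaSh.IsDiffCompat h d d' _
    rw [isDiffCompat_iff h b hsq, Equiv.apply_symm_apply]
    exact hψ
  · intro c hc
    change OmegaSh.IsDiffCompat h d d' c at hc
    rw [isDiffCompat_iff h b hsq] at hc
    rw [← huniq _ hc, Equiv.symm_apply_apply]

end Push

end Groth.Agent.Helper18.DerLib
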