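import Mathlib
import Groth.Agent.Lib.Helper18.DerLib

set_option autoImplicit false
universe u
open CategoryTheory CategoryTheory.Limits AlgebraicGeometry TopologicalSpace Opposite

namespace Groth.Agent.Helper18.DerLib

variable {X Y Z : Scheme.{u}}

/-- `pullbackId.hom` undoes pulling back a section along the identity. -/
theorem pullbackId_hom_pullSect (M : X.Modules) (U : X.Opens) (m : Γ(M, U)) :
    ((Scheme.Modules.pullbackId X).hom.app M).app U (OmegaSh.pullSect (𝟙 X) M U m) = m := by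
  have h1 := unit_conjugateEquiv Adjunction.id (Scheme.Modules.pullbackPushforwardAdjunction (𝟙 X))
    (Scheme.Modules.pullbackId X).hom M
  rw [Scheme.Modules.conjugateEquiv_pullbackId_hom] at h1
  have h2 := congr($(congrArg (fun φ => Scheme.Modules.Hom.app φ U) h1) m)
  exact h2.symm

theorem iso_inv_hom_app {M N : X.Modules} (e : M ≅ N) (U : X.Opens) (x : Γ(M, U)) :
    e.inv.app U (e.hom.app U x) = x := by
  rw [← ConcreteCategory.comp_apply, ← Scheme.Modules.Hom.comp_app, e.hom_inv_id]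
  rfl

theorem pullbackId_inv_app (M : X.Modules) (U : X.Opens) (m : Γ(M, U)) :
    ((Scheme.Modules.pullbackId X).inv.app M).app U m = OmegaSh.pullSect (𝟙 X) M U m := by
  have h := pullbackId_hom_pullSect M U m
  have h2 := congrArg (((Scheme.Modules.pullbackId X).inv.app M).app U) h
  exact h2.symm.trans (iso_inv_hom_app ((Scheme.Modules.pullbackId X).app M) U _)

/-- the zero derivation -/
noncomputable def zeroDer (f : X ⟶ Y) (F : X.Modules) : OmegaSh.Der f F where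
  d {U} := 0
  d_mul {U} a b := by simp
  d_map {U V} i a := (map_zero _).symm
  d_app {V} c := rfl

theorem zeroDer_app (f : X ⟶ Y) (F : X.Modules) (U : X.Opens) (s : Γ(X, U)) :
    OmegaSh.Der.app (zeroDer f F) U s = 0 := rfl

/-- a derivation relative to `f` is a derivation relative to `f ≫ g`. -/
noncomputable def weaken (f : X ⟶ Y) (g : Y ⟶ Z) {F : X.Modules} (D : OmegaSh.Der f F) :
    OmegaSh.Der (f ≫ g) F where
  d {U} := D.d
  d_mul {U} a b := D.d_mul a b
  d_map {U V} i a := D.d_map i a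
  d_app {W} c := der_app_app D (g ⁻¹ᵁ W.unop) (g.app W.unop c)

theorem weaken_app (f : X ⟶ Y) (g : Y ⟶ Z) {F : X.Modules} (D : OmegaSh.Der f F) (U : X.Opens)
    (s : Γ(X, U)) : OmegaSh.Der.app (weaken f g D) U s = OmegaSh.Der.app D U s := rfl

section FirstSeq

variable (f : X ⟶ Y) (g : Y ⟶ Z)
    (ΩY : Y.Modules) (dY : OmegaSh.Der g ΩY) (hY : OmegaSh.IsUniversal dY)
    (ΩX : X.Modules) (dX : OmegaSh.Der (f ≫ g) ΩX) (hX : OmegaSh.IsUniversal dX)
    (ΩXY : X.Modules) (dXY : OmegaSh.Der f ΩXY) (hXY : OmegaSh.IsUniversal dXY)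
    (c₁ : (Scheme.Modules.pullback f).obj ΩY ⟶ ΩX) (hc₁ : OmegaSh.IsDiffCompat f dY dX c₁)
    (c₂ : (Scheme.Modules.pullback (𝟙 X)).obj ΩX ⟶ ΩXY)
    (hc₂ : OmegaSh.IsDiffCompat (𝟙 X) dX dXY c₂)

/-- the map `Ω_{X/Z} ⟶ Ω_{X/Y}` -/
noncomputable def cc : ΩX ⟶ ΩXY := (Scheme.Modules.pullbackId X).inv.app ΩX ≫ c₂

include hc₂ in
theorem cc_d (U : X.Opens) (s : Γ(X, U)) :
    (cc ΩX ΩXY c₂).app U (OmegaSh.Der.app dX U s) = OmegaSh.Der.app dXY U s := by
  unfold cc
  rw [Scheme.Modules.Hom.comp_app, ConcreteCategory.comp_apply, pullbackId_inv_app]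
  have h := hc₂ U s
  simp only [Scheme.Hom.id_app, CommRingCat.id_apply] at h
  exact h

theorem comp_app_apply {M N P : X.Modules} (φ : M ⟶ N) (ψ : N ⟶ P) (U : X.Opens) (m : Γ(M, U)) :
    (φ ≫ ψ).app U m = ψ.app U (φ.app U m) := rfl

include hXY hc₂ in
theorem epi_cc : Epi (cc ΩX ΩXY c₂) := by
  refine ⟨fun {F} α β hαβ => ?_⟩
  have key : dXY.postcomp α.val = dXY.postcomp β.val := by
    apply der_ext
    intro U s
    have h1 : ∀ γ : ΩXY ⟶ F, γ.app U (OmegaSh.Der.app dXY U s) =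
        (cc ΩX ΩXY c₂ ≫ γ).app U (OmegaSh.Der.app dX U s) := by
      intro γ
      exact (congrArg (fun m => γ.app U m) (cc_d f g ΩX dX ΩXY dXY c₂ hc₂ U s)).symm
    exact (h1 α).trans ((congrArg (fun φ : ΩX ⟶ F => φ.app U (OmegaSh.Der.app dX U s)) hαβ).trans
      (h1 β).symm)
  exact (hXY F (dXY.postcomp α.val)).unique rfl key.symm

include hY hc₁ hc₂ in
theorem c₁_cc : c₁ ≫ cc ΩX ΩXY c₂ = 0 := by
  have hsq : (f ≫ g) ≫ 𝟙 Z = f ≫ g := Category.comp_id _
  obtain ⟨c, -, huniq⟩ := existsUnique_isDiffCompat (f := g) (f' := f ≫ g) f (𝟙 Z) hsq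
    (zeroDer (f ≫ g) ΩXY) dY hY
  have h1 : OmegaSh.IsDiffCompat f dY (zeroDer (f ≫ g) ΩXY) (c₁ ≫ cc ΩX ΩXY c₂) := by
    intro V t
    rw [comp_app_apply, hc₁ V t, cc_d f g ΩX dX ΩXY dXY c₂ hc₂, zeroDer_app]
    exact der_app_app dXY V t
  have h2 : OmegaSh.IsDiffCompat f dY (zeroDer (f ≫ g) ΩXY)
      (0 : (Scheme.Modules.pullback f).obj ΩY ⟶ ΩXY) := by
    intro V t
    rw [zeroDer_app]
    rfl
  rw [huniq _ h1, huniq _ h2]

/-- the derivation into the cokernel of `c₁`, relative to `f`. -/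
noncomputable def dQ : OmegaSh.Der f (cokernel c₁) where
  d {U} := (dX.postcomp (cokernel.π c₁).val).d
  d_mul {U} a b := (dX.postcomp (cokernel.π c₁).val).d_mul a b
  d_map {U V} i a := (dX.postcomp (cokernel.π c₁).val).d_map i a
  d_app {V} t := by
    change (cokernel.π c₁).app (f ⁻¹ᵁ V.unop) (OmegaSh.Der.app dX (f ⁻¹ᵁ V.unop) (f.app V.unop t)) = 0
    rw [← hc₁ V.unop t, ← comp_app_apply, cokernel.condition]
    rfl

theorem dQ_app (U : X.Opens) (s : Γ(X, U)) :
    OmegaSh.Der.app (dQ f g ΩY dY ΩX dX c₁ hc₁) U s =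
      (cokernel.π c₁).app U (OmegaSh.Der.app dX U s) := rfl

include hY hX hXY hc₁ hc₂ in
/-- the first exact sequence of differentials, from the universal properties alone. -/
theorem first_exact_sequence :
    Epi c₂ ∧ imageSubobject c₁ =
      kernelSubobject ((Scheme.Modules.pullbackId X).inv.app ΩX ≫ c₂) := by
  have hepi := epi_cc f g ΩX dX ΩXY dXY hXY c₂ hc₂
  have hzero := c₁_cc f g ΩY dY hY ΩX dX ΩXY dXY c₁ hc₁ c₂ hc₂
  refine ⟨?_, ?_⟩
  · have : c₂ = (Scheme.Modules.pullbackId X).hom.app ΩX ≫ cc ΩX ΩXY c₂ := by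
      unfold cc
      rw [Iso.hom_inv_id_app_assoc]
    rw [this]
    exact epi_comp _ _
  · change _ = kernelSubobject (cc ΩX ΩXY c₂)
    -- the induced map from the cokernel
    let cbar : cokernel c₁ ⟶ ΩXY := cokernel.desc c₁ (cc ΩX ΩXY c₂) hzero
    have hcbar : cokernel.π c₁ ≫ cbar = cc ΩX ΩXY c₂ := cokernel.π_desc _ _ _
    obtain ⟨γ, hγ, -⟩ := hXY _ (dQ f g ΩY dY ΩX dX c₁ hc₁)
    have hγ' : ∀ (U : X.Opens) (s : Γ(X, U)), γ.app U (OmegaSh.Der.app dXY U s) =
        (cokernel.π c₁).app U (OmegaSh.Der.app dX U s) := by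
      intro U s
      have := congrArg (fun D => OmegaSh.Der.app D U s) hγ
      exact this
    -- `cc ≫ γ = π`
    have h1 : cc ΩX ΩXY c₂ ≫ γ = cokernel.π c₁ := by
      have key : dX.postcomp (cc ΩX ΩXY c₂ ≫ γ).val = dX.postcomp (cokernel.π c₁).val := by
        apply der_ext
        intro U s
        rw [postcomp_app, postcomp_app, comp_app_apply, cc_d f g ΩX dX ΩXY dXY c₂ hc₂, hγ']
      exact (hX _ (dX.postcomp (cokernel.π c₁).val)).unique key rfl
    -- `cbar ≫ γ = 𝟙`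
    have h2 : cbar ≫ γ = 𝟙 _ := by
      rw [← cancel_epi (cokernel.π c₁), ← Category.assoc, hcbar, h1, Category.comp_id]
    have : Mono cbar := mono_of_mono_fac h2
    rw [← hcbar, kernelSubobject_comp_mono]
    exact (ShortComplex.exact_iff_image_eq_kernel _).1 (ShortComplex.exact_cokernel c₁)

end FirstSeq

end Groth.Agent.Helper18.DerLib
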