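import Mathlib
import Groth.Prelude.Def_Omega3
import Groth.Agent.Lib.Helper13.PullbackLocal
import Groth.Agent.Lib.Helper18.DerSeq

set_option autoImplicit false
set_option linter.unusedSectionVars false
universe u
open CategoryTheory CategoryTheory.Limits AlgebraicGeometry TopologicalSpace Opposite

namespace Groth.Agent.Helper18.PbCompat

open OmegaSh Groth.Agent.Helper18.DerLib

variable {X Y Z : Scheme.{u}}

theorem hom_naturality {M N : X.Modules} (φ : M ⟶ N) {U V : X.Opens} (i : op U ⟶ op V)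
    (x : Γ(M, U)) :
    φ.app V (M.presheaf.map i x) = N.presheaf.map i (φ.app U x) := by
  have h := φ.mapPresheaf.naturality i
  exact congr($h x)

theorem iso_hom_inv_app {M N : X.Modules} (e : M ≅ N) (U : X.Opens) (x : Γ(N, U)) :
    e.hom.app U (e.inv.app U x) = x := by
  rw [← ConcreteCategory.comp_apply, ← Scheme.Modules.Hom.comp_app, e.inv_hom_id]
  rfl

/-- B1 -/
theorem rFIP_hom_app (a : X ⟶ Y) [IsOpenImmersion a] (F : Y.Modules) (W : Y.Opens) (s : Γ(F, W)) :
    (((Scheme.Modules.restrictFunctorIsoPullback a).hom.app F).app (a ⁻¹ᵁ W)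
      (F.presheaf.map (homOfLE (a.image_preimage_le W)).op s) :
        Γ((Scheme.Modules.pullback a).obj F, a ⁻¹ᵁ W)) = pullSect a F W s := by
  have h1 := Adjunction.unit_leftAdjointUniq_hom_app (Scheme.Modules.restrictAdjunction a)
    (Scheme.Modules.pullbackPushforwardAdjunction a) F
  have h2 := congr($(congrArg (fun φ => Scheme.Modules.Hom.app φ W) h1) s)
  exact h2

theorem rFIP_inv_app (a : X ⟶ Y) [IsOpenImmersion a] (F : Y.Modules) (W : Y.Opens) (s : Γ(F, W)) :
    (((Scheme.Modules.restrictFunctorIsoPullback a).inv.app F).app (a ⁻¹ᵁ W) (pullSect a F W s) :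
        Γ(F, a ''ᵁ (a ⁻¹ᵁ W))) =
      F.presheaf.map (homOfLE (a.image_preimage_le W)).op s := by
  rw [← rFIP_hom_app a F W s]
  exact iso_inv_hom_app ((Scheme.Modules.restrictFunctorIsoPullback a).app F) (a ⁻¹ᵁ W) _

/-- B4 -/
theorem pullbackComp_inv_app (f : X ⟶ Y) (g : Y ⟶ Z) (G : Z.Modules) (V : Z.Opens) (m : Γ(G, V)) :
    (((Scheme.Modules.pullbackComp f g).inv.app G).app ((f ≫ g) ⁻¹ᵁ V)
      (pullSect (f ≫ g) G V m) :
        Γ((Scheme.Modules.pullback f).obj ((Scheme.Modules.pullback g).obj G), f ⁻¹ᵁ (g ⁻¹ᵁ V))) =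
      pullSect f ((Scheme.Modules.pullback g).obj G) (g ⁻¹ᵁ V) (pullSect g G V m) := by
  have h1 := unit_conjugateEquiv
    ((Scheme.Modules.pullbackPushforwardAdjunction g).comp
      (Scheme.Modules.pullbackPushforwardAdjunction f))
    (Scheme.Modules.pullbackPushforwardAdjunction (f ≫ g))
    (Scheme.Modules.pullbackComp f g).inv G
  rw [Scheme.Modules.conjugateEquiv_pullbackComp_inv] at h1
  have h2 := congr($(congrArg (fun φ => Scheme.Modules.Hom.app φ V) h1) m)
  exact h2.symm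

/-- B2 -/
theorem pullbackComp_hom_app (f : X ⟶ Y) (g : Y ⟶ Z) (G : Z.Modules) (V : Z.Opens) (m : Γ(G, V)) :
    ((Scheme.Modules.pullbackComp f g).hom.app G).app (f ⁻¹ᵁ (g ⁻¹ᵁ V))
      (pullSect f ((Scheme.Modules.pullback g).obj G) (g ⁻¹ᵁ V) (pullSect g G V m)) =
      pullSect (f ≫ g) G V m := by
  rw [← pullbackComp_inv_app f g G V m]
  exact iso_hom_inv_app ((Scheme.Modules.pullbackComp f g).app G) _ _

/-- B3 -/
theorem pullbackCongr_hom_app {p q : X ⟶ Y} (h : p = q) (G : Y.Modules) (V : Y.Opens) (m : Γ(G, V))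
    (hle : p ⁻¹ᵁ V ≤ q ⁻¹ᵁ V) :
    ((Scheme.Modules.pullbackCongr h).hom.app G).app (p ⁻¹ᵁ V) (pullSect p G V m) =
      ((Scheme.Modules.pullback q).obj G).presheaf.map (homOfLE hle).op (pullSect q G V m) := by
  subst h
  have h1 : (Scheme.Modules.pullbackCongr (rfl : p = p)).hom.app G = 𝟙 _ := by
    simp [Scheme.Modules.pullbackCongr]
  rw [h1]
  have h2 : (homOfLE hle).op = 𝟙 (op (p ⁻¹ᵁ V)) := rfl
  rw [h2, CategoryTheory.Functor.map_id]
  rfl

/-- B5: naturality of the unit -/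
theorem pullback_map_app (f : X ⟶ Y) {M N : Y.Modules} (θ : M ⟶ N) (W : Y.Opens) (t : Γ(M, W)) :
    ((Scheme.Modules.pullback f).map θ).app (f ⁻¹ᵁ W) (pullSect f M W t) =
      pullSect f N W (θ.app W t) := by
  have h1 := (Scheme.Modules.pullbackPushforwardAdjunction f).unit.naturality θ
  have h2 := congr($(congrArg (fun φ => Scheme.Modules.Hom.app φ W) h1) t)
  exact h2.symm

section Claim1

open Groth.Agent.Helper13.Pullback

variable {X Y X' Y' : Scheme.{u}} (f : X ⟶ Y) (a : X' ⟶ X) (b : Y' ⟶ Y)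
  [IsOpenImmersion a] [IsOpenImmersion b] (f' : X' ⟶ Y') (h : a ≫ f = f' ≫ b)

theorem pullbackRestrictIso_hom_app_eq (G : Y.Modules) :
    (pullbackRestrictIso f a b f' h).hom.app G =
      (Scheme.Modules.restrictFunctorIsoPullback a).hom.app ((Scheme.Modules.pullback f).obj G) ≫
      (Scheme.Modules.pullbackComp a f).hom.app G ≫
      (Scheme.Modules.pullbackCongr h).hom.app G ≫
      (Scheme.Modules.pullbackComp f' b).inv.app G ≫
      (Scheme.Modules.pullback f').map ((Scheme.Modules.restrictFunctorIsoPullback b).inv.app G) := by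
  simp [pullbackRestrictIso]

include h in
theorem preimage_le (V : Y.Opens) : a ⁻¹ᵁ (f ⁻¹ᵁ V) ≤ f' ⁻¹ᵁ (b ⁻¹ᵁ V) := by
  rw [← Scheme.Hom.comp_preimage, ← Scheme.Hom.comp_preimage, h]

/-- Claim 1: the iso `(f^*G)|_a ≅ f'^*(G|_b)` matches unit sections. -/
theorem pullbackRestrictIso_pullSect (G : Y.Modules) (V : Y.Opens) (m : Γ(G, V)) :
    ((pullbackRestrictIso f a b f' h).hom.app G).app (a ⁻¹ᵁ (f ⁻¹ᵁ V))
      (((Scheme.Modules.pullback f).obj G).presheaf.map
        (homOfLE (a.image_preimage_le (f ⁻¹ᵁ V))).op (pullSect f G V m)) =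
    ((Scheme.Modules.pullback f').obj (G.restrict b)).presheaf.map
      (homOfLE (preimage_le f a b f' h V)).op
      (pullSect f' (G.restrict b) (b ⁻¹ᵁ V)
        (G.presheaf.map (homOfLE (b.image_preimage_le V)).op m)) := by
  rw [pullbackRestrictIso_hom_app_eq]
  have step1 := rFIP_hom_app a ((Scheme.Modules.pullback f).obj G) (f ⁻¹ᵁ V) (pullSect f G V m)
  have step2 := pullbackComp_hom_app a f G V m
  have step3 := pullbackCongr_hom_app h G V m (preimage_le f a b f' h V)
  have step4 := (hom_naturality ((Scheme.Modules.pullbackComp f' b).inv.app G)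
    (homOfLE (preimage_le f a b f' h V)).op (pullSect (f' ≫ b) G V m)).trans
      (congrArg _ (pullbackComp_inv_app f' b G V m))
  have step5 := (hom_naturality ((Scheme.Modules.pullback f').map
      ((Scheme.Modules.restrictFunctorIsoPullback b).inv.app G))
    (homOfLE (preimage_le f a b f' h V)).op
    (pullSect f' ((Scheme.Modules.pullback b).obj G) (b ⁻¹ᵁ V) (pullSect b G V m))).trans
      (congrArg _ ((pullback_map_app f' ((Scheme.Modules.restrictFunctorIsoPullback b).inv.app G)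
        (b ⁻¹ᵁ V) (pullSect b G V m)).trans (congrArg _ (rFIP_inv_app b G V m))))
  have e12 := (congrArg (((Scheme.Modules.pullbackComp a f).hom.app G).app (a ⁻¹ᵁ (f ⁻¹ᵁ V)))
    step1).trans step2
  have e123 := (congrArg (((Scheme.Modules.pullbackCongr h).hom.app G).app (a ⁻¹ᵁ (f ⁻¹ᵁ V)))
    e12).trans step3
  have e1234 := (congrArg (((Scheme.Modules.pullbackComp f' b).inv.app G).app (a ⁻¹ᵁ (f ⁻¹ᵁ V)))
    e123).trans step4
  have e12345 := (congrArg (((Scheme.Modules.pullback f').map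
      ((Scheme.Modules.restrictFunctorIsoPullback b).inv.app G)).app (a ⁻¹ᵁ (f ⁻¹ᵁ V)))
    e1234).trans step5
  exact e12345


end Claim1

end Groth.Agent.Helper18.PbCompat
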