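import Mathlib
import Groth.Agent.Lib.Helper18.PbCompat
import Groth.Agent.Lib.Helper13.PullbackSections
import Groth.Prelude.Def_Omega4

set_option autoImplicit false
set_option linter.unusedSectionVars false
universe u
open CategoryTheory CategoryTheory.Limits AlgebraicGeometry TopologicalSpace Opposite TensorProduct

namespace Groth.Agent.Helper18.PbCompat

open OmegaSh Groth.Agent.Helper18.DerLib Groth.Agent.Helper13.Pullback ChangeOfRings

section

variable {X : Scheme.{u}}

theorem map_congr' (M : X.Modules) {A B : X.Opens} (i j : op A ⟶ op B) (x : Γ(M, A)) :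
    M.presheaf.map i x = M.presheaf.map j x := by
  rw [Subsingleton.elim i j]

theorem map_map' (M : X.Modules) {A B C : X.Opens} (i : op A ⟶ op B) (j : op B ⟶ op C)
    (k : op A ⟶ op C) (x : Γ(M, A)) :
    M.presheaf.map j (M.presheaf.map i x) = M.presheaf.map k x := by
  rw [← ConcreteCategory.comp_apply, ← Functor.map_comp, Subsingleton.elim (i ≫ j) k]

theorem map3_self (M : X.Modules) {A B C : X.Opens} (i : op A ⟶ op B) (j : op B ⟶ op C)
    (k : op C ⟶ op A) (x : Γ(M, A)) :
    M.presheaf.map k (M.presheaf.map j (M.presheaf.map i x)) = x := by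
  rw [← ConcreteCategory.comp_apply, ← ConcreteCategory.comp_apply, ← Functor.map_comp,
    ← Functor.map_comp, Subsingleton.elim (i ≫ j ≫ k) (𝟙 _), CategoryTheory.Functor.map_id]
  rfl

theorem map_self' (M : X.Modules) {A : X.Opens} (i : op A ⟶ op A) (x : Γ(M, A)) :
    M.presheaf.map i x = x := by
  rw [Subsingleton.elim i (𝟙 _), CategoryTheory.Functor.map_id]
  rfl

end

section

variable {R : CommRingCat.{u}} (N : (Spec R).Modules)

/-- `fromTildeΓ` on global sections inverts `toOpen`. -/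
theorem fromTildeΓ_app_top (n : Γ(N, ⊤)) :
    (N.fromTildeΓ.app ⊤ (tilde.toOpen ((modulesSpecToSheaf.obj N).presheaf.obj (op ⊤)) ⊤ n) : Γ(N, ⊤)) = n := by
  have h := Scheme.Modules.toOpen_fromTildeΓ_app N ⊤
  have h2 := congr($h n)
  refine h2.trans ?_
  exact map_self' N _ n

end

end Groth.Agent.Helper18.PbCompat

namespace Groth.Agent.Helper18.PbCompat

open OmegaSh Groth.Agent.Helper18.DerLib Groth.Agent.Helper13.Pullback ChangeOfRings

section ClaimA

variable {R S : CommRingCat.{u}} (φ : R ⟶ S) (M : ModuleCat.{u} R)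

theorem tildePullbackIso_pullSect (m : M) :
    (((tildePullbackIso φ).hom.app M).app ((Spec.map φ) ⁻¹ᵁ ⊤)
      (pullSect (Spec.map φ) (tilde M) ⊤ (tilde.toOpen M ⊤ m)) :
        Γ(tilde ((ModuleCat.extendScalars.{u, u, u} φ.hom).obj M), ⊤)) =
    tilde.toOpen ((ModuleCat.extendScalars.{u, u, u} φ.hom).obj M) ⊤ ((1 : S) ⊗ₜ[R,φ.hom] m) := by
  have h1 := Adjunction.unit_leftAdjointUniq_hom_app (adjL φ)
    ((adjR φ).ofNatIsoRight (pushforwardCompΓIso φ).symm) M
  have h2 := congr($h1 m)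
  simp only [adjL, adjR, Adjunction.comp_unit_app, Adjunction.ofNatIsoRight_unit] at h2
  exact h2

end ClaimA

section F2

variable {X Y : Scheme.{u}} (f : X ⟶ Y) {A B : CommRingCat.{u}} (a : Spec B ⟶ X) (b : Spec A ⟶ Y)
  [IsOpenImmersion a] [IsOpenImmersion b] (φ : A ⟶ B) (h : a ≫ f = Spec.map φ ≫ b)
  (G : Y.Modules) [IsIso (G.restrict b).fromTildeΓ]

theorem pullbackRestrictTildeIso_hom_eq :
    (pullbackRestrictTildeIso f a b φ h G).hom =
      (pullbackRestrictIso f a b (Spec.map φ) h).hom.app G ≫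
        (Scheme.Modules.pullback (Spec.map φ)).map (inv (G.restrict b).fromTildeΓ) ≫
          (tildePullbackIso φ).hom.app (moduleSpecΓFunctor.obj (G.restrict b)) := by
  rfl


include h in
theorem top_le_preimage (V : Y.Opens) (hbV : b ⁻¹ᵁ V = ⊤) : (⊤ : (Spec B).Opens) ≤ a ⁻¹ᵁ (f ⁻¹ᵁ V) := by
  have := preimage_le f a b (Spec.map φ) h V
  intro x _
  have h1 : (⊤ : (Spec B).Opens) ≤ (Spec.map φ) ⁻¹ᵁ (b ⁻¹ᵁ V) := by
    rw [hbV]; exact le_of_eq rfl
  have h2 : a ⁻¹ᵁ (f ⁻¹ᵁ V) = (Spec.map φ) ⁻¹ᵁ (b ⁻¹ᵁ V) := by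
    rw [← Scheme.Hom.comp_preimage, ← Scheme.Hom.comp_preimage, h]
  rw [h2]
  exact h1 (by trivial)

/-- Key: the local description of the pullback sends the class of a pulled back section to `1 ⊗ m`. -/
theorem pullbackRestrictTildeIso_pullSect (V : Y.Opens) (hbV : b ⁻¹ᵁ V = ⊤)
    (hle₁ : a ''ᵁ ⊤ ≤ f ⁻¹ᵁ V) (hle₂ : b ''ᵁ ⊤ ≤ V) (m : Γ(G, V)) :
    ((pullbackRestrictTildeIso f a b φ h G).hom.app ⊤
      (((Scheme.Modules.pullback f).obj G).presheaf.map (homOfLE hle₁).op (pullSect f G V m)) :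
        Γ(tilde ((ModuleCat.extendScalars.{u, u, u} φ.hom).obj
          (moduleSpecΓFunctor.obj (G.restrict b))), ⊤)) =
      tilde.toOpen ((ModuleCat.extendScalars.{u, u, u} φ.hom).obj
          (moduleSpecΓFunctor.obj (G.restrict b))) ⊤
        ((1 : B) ⊗ₜ[A,φ.hom] (G.presheaf.map (homOfLE hle₂).op m :
          (moduleSpecΓFunctor.obj (G.restrict b)))) := by
  have htop := top_le_preimage f a b φ h V hbV
  -- the section over `W = a⁻¹ f⁻¹ V`
  have c1 := pullbackRestrictIso_pullSect f a b (Spec.map φ) h G V m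
  -- restrict to `⊤`
  have c2 := hom_naturality ((pullbackRestrictIso f a b (Spec.map φ) h).hom.app G)
    (homOfLE htop).op
    (((Scheme.Modules.pullback f).obj G).presheaf.map
        (homOfLE (a.image_preimage_le (f ⁻¹ᵁ V))).op (pullSect f G V m))
  rw [c1] at c2
  -- rewrite the argument on the left
  have hx : ((Scheme.Modules.pullback f).obj G).presheaf.map (homOfLE hle₁).op (pullSect f G V m) =
      ((Scheme.Modules.pullback f ⋙ Scheme.Modules.restrictFunctor a).obj G).presheaf.map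
        (homOfLE htop).op
        (((Scheme.Modules.pullback f).obj G).presheaf.map
          (homOfLE (a.image_preimage_le (f ⁻¹ᵁ V))).op (pullSect f G V m)) :=
    (map_map' ((Scheme.Modules.pullback f).obj G) (homOfLE (a.image_preimage_le (f ⁻¹ᵁ V))).op
      (a.opensFunctor.map (homOfLE htop)).op (homOfLE hle₁).op (pullSect f G V m)).symm
  -- rewrite the right side of c2
  have hm : G.presheaf.map (homOfLE (b.image_preimage_le V)).op m =
      (G.restrict b).presheaf.map (homOfLE (le_top : b ⁻¹ᵁ V ≤ ⊤)).op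
        (G.presheaf.map (homOfLE hle₂).op m) :=
    (map_map' G (homOfLE hle₂).op (b.opensFunctor.map (homOfLE (le_top : b ⁻¹ᵁ V ≤ ⊤))).op
      (homOfLE (b.image_preimage_le V)).op m).symm
  have c3 := pullSect_map (Spec.map φ) (G.restrict b) (le_top : b ⁻¹ᵁ V ≤ ⊤)
    (G.presheaf.map (homOfLE hle₂).op m)
  rw [← hm] at c3
  rw [c3] at c2
  -- collapse the restrictions
  have c4 : ((pullbackRestrictIso f a b (Spec.map φ) h).hom.app G).app ⊤
      (((Scheme.Modules.pullback f).obj G).presheaf.map (homOfLE hle₁).op (pullSect f G V m)) =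
      pullSect (Spec.map φ) (G.restrict b) ⊤ (G.presheaf.map (homOfLE hle₂).op m) := by
    rw [hx]
    refine c2.trans ?_
    exact map3_self ((Scheme.Modules.pullback (Spec.map φ)).obj (G.restrict b)) _ _ _ _
  -- the β step
  have c5 := pullback_map_app (Spec.map φ) (inv (G.restrict b).fromTildeΓ) ⊤
    (G.presheaf.map (homOfLE hle₂).op m)
  have c6 : (inv (G.restrict b).fromTildeΓ).app ⊤ (G.presheaf.map (homOfLE hle₂).op m) =
      tilde.toOpen (moduleSpecΓFunctor.obj (G.restrict b)) ⊤ (G.presheaf.map (homOfLE hle₂).op m) := by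
    have h1 := fromTildeΓ_app_top (G.restrict b) (G.presheaf.map (homOfLE hle₂).op m)
    have h2 := iso_inv_hom_app (asIso (G.restrict b).fromTildeΓ) ⊤
      (tilde.toOpen (moduleSpecΓFunctor.obj (G.restrict b)) ⊤ (G.presheaf.map (homOfLE hle₂).op m))
    rw [← h2]
    exact congrArg _ h1.symm
  -- the γ step
  have c7 := tildePullbackIso_pullSect φ (moduleSpecΓFunctor.obj (G.restrict b))
    (G.presheaf.map (homOfLE hle₂).op m)
  rw [pullbackRestrictTildeIso_hom_eq]
  have e1 := (congrArg (((Scheme.Modules.pullback (Spec.map φ)).map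
    (inv (G.restrict b).fromTildeΓ)).app ⊤) c4).trans c5
  rw [c6] at e1
  have e2 := (congrArg (((tildePullbackIso φ).hom.app
    (moduleSpecΓFunctor.obj (G.restrict b))).app ⊤) e1).trans c7
  exact e2

end F2

end Groth.Agent.Helper18.PbCompat
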