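import Mathlib
import Groth.Agent.Lib.Helper18.PbCompat2

set_option autoImplicit false
set_option linter.style.haveILetI false
universe u
open CategoryTheory CategoryTheory.Limits AlgebraicGeometry TopologicalSpace Opposite TensorProduct

namespace Groth.Agent.Helper18.PbCompat

open OmegaSh Groth.Agent.Helper18.DerLib Groth.Agent.Helper13.Pullback ChangeOfRings

variable {X Y : Scheme.{u}} (f : X ⟶ Y)

set_option maxRecDepth 8000 in
theorem sectionsPullbackEquiv_pullSect (G : Y.Modules) [G.IsQuasicoherent] {U : X.Opens}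
    (hU : IsAffineOpen U) {V : Y.Opens} (hV : IsAffineOpen V) (e : U ≤ f ⁻¹ᵁ V) (m : Γ(G, V)) :
    letI := (f.appLE V U e).hom.toAlgebra
    sectionsPullbackEquiv f G hU hV e
      (((Scheme.Modules.pullback f).obj G).presheaf.map (homOfLE e).op (pullSect f G V m)) =
        (1 : Γ(X, U)) ⊗ₜ[Γ(Y, V)] m := by
  letI := (f.appLE V U e).hom.toAlgebra
  have hle₁ : hU.fromSpec ''ᵁ ⊤ ≤ f ⁻¹ᵁ V := by
    rw [fromSpec_image_top hU]; exact e
  have hle₂ : hV.fromSpec ''ᵁ ⊤ ≤ V := by
    rw [fromSpec_image_top hV]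
  have hbV : hV.fromSpec ⁻¹ᵁ V = ⊤ := hV.fromSpec_preimage_self
  have F1 : sectionsEquiv ((Scheme.Modules.pullback f).obj G) hU
      (((Scheme.Modules.pullback f).obj G).presheaf.map (homOfLE e).op (pullSect f G V m)) =
      ((Scheme.Modules.pullback f).obj G).presheaf.map (homOfLE hle₁).op (pullSect f G V m) :=
    map_map' ((Scheme.Modules.pullback f).obj G) _ _ _ _
  have F2 := pullbackRestrictTildeIso_pullSect f hU.fromSpec hV.fromSpec (f.appLE V U e)
    (IsAffineOpen.SpecMap_appLE_fromSpec f hV hU e).symm G V hbV hle₁ hle₂ m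
  set m' : ↑(moduleSpecΓFunctor.obj (G.restrict hV.fromSpec)) :=
    G.presheaf.map (homOfLE hle₂).op m with hm'
  have F2' : ΓLinearEquivOfIso (pullbackRestrictTildeIso f hU.fromSpec hV.fromSpec (f.appLE V U e)
      (IsAffineOpen.SpecMap_appLE_fromSpec f hV hU e).symm G)
      (((Scheme.Modules.pullback f).obj G).presheaf.map (homOfLE hle₁).op (pullSect f G V m)) =
      tilde.toOpen ((ModuleCat.extendScalars.{u, u, u} (f.appLE V U e).hom).obj
          (moduleSpecΓFunctor.obj (G.restrict hV.fromSpec))) ⊤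
        ((1 : Γ(X, U)) ⊗ₜ[Γ(Y, V),(f.appLE V U e).hom] m') := F2
  have F3 : (tilde.isoTop ((ModuleCat.extendScalars.{u, u, u} (f.appLE V U e).hom).obj
          (moduleSpecΓFunctor.obj (G.restrict hV.fromSpec)))).symm.toLinearEquiv
      (tilde.toOpen ((ModuleCat.extendScalars.{u, u, u} (f.appLE V U e).hom).obj
          (moduleSpecΓFunctor.obj (G.restrict hV.fromSpec))) ⊤
        ((1 : Γ(X, U)) ⊗ₜ[Γ(Y, V),(f.appLE V U e).hom] m')) =
      ((1 : Γ(X, U)) ⊗ₜ[Γ(Y, V),(f.appLE V U e).hom] m') :=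
    Iso.hom_inv_id_apply (tilde.isoTop ((ModuleCat.extendScalars.{u, u, u} (f.appLE V U e).hom).obj
          (moduleSpecΓFunctor.obj (G.restrict hV.fromSpec)))) _
  have F4 : extendScalarsEquiv Γ(Y, V) Γ(X, U) (moduleSpecΓFunctor.obj (G.restrict hV.fromSpec))
      ((1 : Γ(X, U)) ⊗ₜ[Γ(Y, V),(f.appLE V U e).hom] m') =
      (1 : Γ(X, U)) ⊗ₜ[Γ(Y, V)] m' := rfl
  have F5 : (sectionsEquiv G hV).symm m' = m :=
    map_map' G _ _ (𝟙 _) m |>.trans (map_self' G _ m)
  have key : sectionsPullbackEquiv f G hU hV e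
      (((Scheme.Modules.pullback f).obj G).presheaf.map (homOfLE e).op (pullSect f G V m)) =
      (TensorProduct.AlgebraTensorModule.congr (LinearEquiv.refl Γ(X, U) Γ(X, U))
        (sectionsEquiv G hV).symm)
      (extendScalarsEquiv Γ(Y, V) Γ(X, U) (moduleSpecΓFunctor.obj (G.restrict hV.fromSpec))
        ((tilde.isoTop ((ModuleCat.extendScalars.{u, u, u} (f.appLE V U e).hom).obj
          (moduleSpecΓFunctor.obj (G.restrict hV.fromSpec)))).symm.toLinearEquiv
          (ΓLinearEquivOfIso (pullbackRestrictTildeIso f hU.fromSpec hV.fromSpec (f.appLE V U e)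
            (IsAffineOpen.SpecMap_appLE_fromSpec f hV hU e).symm G)
            (sectionsEquiv ((Scheme.Modules.pullback f).obj G) hU
              (((Scheme.Modules.pullback f).obj G).presheaf.map (homOfLE e).op
                (pullSect f G V m)))))) := rfl
  rw [key, F1, F2', F3]
  refine (congrArg _ F4).trans ?_
  refine (TensorProduct.AlgebraTensorModule.congr_tmul (LinearEquiv.refl Γ(X, U) Γ(X, U))
    (sectionsEquiv G hV).symm (1 : Γ(X, U)) m').trans ?_
  rw [F5]
  rfl

end Groth.Agent.Helper18.PbCompat
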