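import Groth.Agent.Lib.Helper18.RecPull
set_option autoImplicit false
set_option linter.style.haveILetI false
set_option linter.unusedSectionVars false
set_option maxRecDepth 8000
universe u
open CategoryTheory CategoryTheory.Limits AlgebraicGeometry TopologicalSpace Opposite TensorProduct

namespace Groth.Agent.Helper18.AffHom

open OmegaSh Groth.Agent.Helper18.DerLib Groth.Agent.Helper18.Rec Groth.Agent.Helper13.Pullback
  Groth.Agent.Helper18.PbCompat

variable {X : Scheme.{u}}

/-- restriction of a section to a smaller open -/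
noncomputable abbrev res (M : X.Modules) {U V : X.Opens} (h : U ≤ V) (m : Γ(M, V)) : Γ(M, U) :=
  M.presheaf.map (homOfLE h).op m

theorem res_smul (M : X.Modules) {U V : X.Opens} (h : U ≤ V) (r : Γ(X, V)) (m : Γ(M, V)) :
    res M h (r • m) = X.presheaf.map (homOfLE h).op r • res M h m :=
  Scheme.Modules.map_smul M (homOfLE h) r m

theorem res_res (M : X.Modules) {U V W : X.Opens} (h : U ≤ V) (h' : V ≤ W) (m : Γ(M, W)) :
    res M h (res M h' m) = res M (h.trans h') m :=
  map_map' M _ _ _ _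

theorem res_self (M : X.Modules) {U : X.Opens} (m : Γ(M, U)) : res M (le_refl U) m = m :=
  map_self' M _ m

/-- the action of a morphism of modules on sections, as a linear map -/
noncomputable def appLin {M N : X.Modules} (φ : M ⟶ N) (U : X.Opens) :
    Γ(M, U) →ₗ[Γ(X, U)] Γ(N, U) where
  toFun := φ.app U
  map_add' := map_add _
  map_smul' r x := Scheme.Modules.Hom.app_smul φ r x

theorem app_res {M N : X.Modules} (φ : M ⟶ N) {U V : X.Opens} (h : U ≤ V) (m : Γ(M, V)) :
    φ.app U (res M h m) = res N h (φ.app V m) :=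
  hom_naturality φ (homOfLE h).op m

/-- sections of a quasi-coherent module over an affine open of an affine scheme are spanned by
restrictions of global sections. -/
theorem span_res [IsAffine X] (M : X.Modules) [M.IsQuasicoherent] {U : X.Opens}
    (hU : IsAffineOpen U) :
    Submodule.span Γ(X, U) (Set.range fun m : Γ(M, ⊤) => res M (le_top : U ≤ ⊤) m) = ⊤ := by
  have e : U ≤ (𝟙 X : X ⟶ X) ⁻¹ᵁ ⊤ := le_top
  have h1 := span_pullRes (𝟙 X) M hU (isAffineOpen_top X) e Set.univ (by simp)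
  rw [eq_top_iff]
  intro y _
  let L := appLin ((Scheme.Modules.pullbackId X).hom.app M) U
  have hy : y = L (((Scheme.Modules.pullbackId X).inv.app M).app U y) :=
    (iso_hom_inv_app ((Scheme.Modules.pullbackId X).app M) U y).symm
  rw [hy]
  have h2 : ((Scheme.Modules.pullbackId X).inv.app M).app U y ∈
      Submodule.span Γ(X, U) ((fun t => pullRes (𝟙 X) M e t) '' Set.univ) := by
    rw [h1]; trivial
  have h3 := Submodule.mem_map_of_mem (f := L) h2
  rw [Submodule.map_span] at h3
  refine Submodule.span_mono ?_ h3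
  rintro _ ⟨_, ⟨t, -, rfl⟩, rfl⟩
  refine ⟨t, ?_⟩
  change _ = ((Scheme.Modules.pullbackId X).hom.app M).app U (pullRes (𝟙 X) M e t)
  unfold pullRes
  rw [hom_naturality]
  have h4 := pullbackId_hom_pullSect M ⊤ t
  exact (congrArg (M.presheaf.map (homOfLE e).op) h4).symm

/-- sections agreeing on all affine opens inside `W` agree -/
theorem eq_of_affine (G : X.Modules) (W : X.Opens) (s t : Γ(G, W))
    (h : ∀ (U : X.Opens) (_ : IsAffineOpen U) (hle : U ≤ W), res G hle s = res G hle t) :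
    s = t := by
  refine TopCat.Sheaf.eq_of_locally_eq' (⟨G.presheaf, G.isSheaf⟩ : TopCat.Sheaf Ab X)
    (fun i : {U : X.affineOpens // U.1 ≤ W} => i.1.1) W (fun i => homOfLE i.2) ?_ s t (fun i => ?_)
  · intro x hx
    obtain ⟨_, ⟨U, hU, rfl⟩, hxU, hUW⟩ := X.isBasis_affineOpens.exists_subset_of_mem_open hx W.2
    exact Opens.mem_iSup.mpr ⟨⟨⟨U, hU⟩, hUW⟩, hxU⟩
  · exact h _ i.1.2 i.2

/-- a morphism out of a quasi-coherent module on an affine scheme is determined by its effect on
global sections. -/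
theorem hom_ext_top [IsAffine X] {M F : X.Modules} [M.IsQuasicoherent] (α α' : M ⟶ F)
    (h : ∀ m : Γ(M, ⊤), α.app ⊤ m = α'.app ⊤ m) : α = α' := by
  apply Scheme.Modules.hom_ext
  intro W
  ext m
  refine eq_of_affine F W _ _ (fun U hU hle => ?_)
  rw [← app_res, ← app_res]
  generalize res M hle m = y
  have hy : y ∈ Submodule.span Γ(X, U)
      (Set.range fun m : Γ(M, ⊤) => res M (le_top : U ≤ ⊤) m) := by
    rw [span_res M hU]; trivial
  induction hy using Submodule.closure_induction with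
  | zero => rw [map_zero, map_zero]
  | add x y _ _ hx hy => rw [map_add, map_add, hx, hy]
  | smul_mem r x hx =>
    obtain ⟨m0, rfl⟩ := hx
    rw [Scheme.Modules.Hom.app_smul, Scheme.Modules.Hom.app_smul, app_res, app_res, h]

section Exist

variable [IsAffine X] (M F : X.Modules) [M.IsQuasicoherent]
  (lam : Γ(M, ⊤) →ₗ[Γ(X, ⊤)] Γ(F, ⊤))

theorem e_top (U : X.Opens) : U ≤ (𝟙 X : X ⟶ X) ⁻¹ᵁ ⊤ := le_top

theorem id_appLE_top (U : X.Opens) (a : Γ(X, ⊤)) :
    (𝟙 X : X ⟶ X).appLE ⊤ U (e_top U) a = X.presheaf.map (homOfLE (le_top : U ≤ ⊤)).op a := by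
  simp only [Scheme.Hom.appLE, Scheme.Hom.id_app]
  rfl


theorem isScalarTower_top (U : X.Opens) :
    letI : Algebra Γ(X, ⊤) Γ(X, U) := ((𝟙 X : X ⟶ X).appLE ⊤ U (e_top U)).hom.toAlgebra
    letI : Module Γ(X, ⊤) Γ(F, U) := Module.compHom _ (algebraMap Γ(X, ⊤) Γ(X, U))
    IsScalarTower Γ(X, ⊤) Γ(X, U) Γ(F, U) := by
  letI : Algebra Γ(X, ⊤) Γ(X, U) := ((𝟙 X : X ⟶ X).appLE ⊤ U (e_top U)).hom.toAlgebra
  letI : Module Γ(X, ⊤) Γ(F, U) := Module.compHom _ (algebraMap Γ(X, ⊤) Γ(X, U))
  exact ⟨fun a b m => mul_smul (algebraMap Γ(X, ⊤) Γ(X, U) a) b m⟩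

/-- `lam` followed by restriction -/
noncomputable def resLam (U : X.Opens) :
    letI : Algebra Γ(X, ⊤) Γ(X, U) := ((𝟙 X : X ⟶ X).appLE ⊤ U (e_top U)).hom.toAlgebra
    letI : Module Γ(X, ⊤) Γ(F, U) := Module.compHom _ (algebraMap Γ(X, ⊤) Γ(X, U))
    Γ(M, ⊤) →ₗ[Γ(X, ⊤)] Γ(F, U) :=
  letI : Algebra Γ(X, ⊤) Γ(X, U) := ((𝟙 X : X ⟶ X).appLE ⊤ U (e_top U)).hom.toAlgebra
  letI : Module Γ(X, ⊤) Γ(F, U) := Module.compHom _ (algebraMap Γ(X, ⊤) Γ(X, U))
  { toFun := fun m => res F (le_top : U ≤ ⊤) (lam m)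
    map_add' := fun m m' => by rw [map_add]; exact map_add _ _ _
    map_smul' := fun a m => by
      rw [map_smul, res_smul, ← id_appLE_top U a]
      rfl }

theorem resLam_apply (U : X.Opens) (m : Γ(M, ⊤)) :
    resLam M F lam U m = res F (le_top : U ≤ ⊤) (lam m) := rfl

/-- the tensor description of sections over an affine open -/
noncomputable def secFun {U : X.Opens} (hU : IsAffineOpen U) (x : Γ(M, U)) :
    letI := ((𝟙 X : X ⟶ X).appLE ⊤ U (e_top U)).hom.toAlgebra
    Γ(X, U) ⊗[Γ(X, ⊤)] Γ(M, ⊤) :=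
  sectionsPullbackEquiv (𝟙 X) M hU (isAffineOpen_top X) (e_top U)
      (((Scheme.Modules.pullbackId X).inv.app M).app U x)

theorem secFun_add {U : X.Opens} (hU : IsAffineOpen U) (x y : Γ(M, U)) :
    secFun M hU (x + y) = secFun M hU x + secFun M hU y := by
  letI := ((𝟙 X : X ⟶ X).appLE ⊤ U (e_top U)).hom.toAlgebra
  have h1 : ((Scheme.Modules.pullbackId X).inv.app M).app U (x + y) =
      ((Scheme.Modules.pullbackId X).inv.app M).app U x +
        ((Scheme.Modules.pullbackId X).inv.app M).app U y := map_add _ _ _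
  exact (congrArg (sectionsPullbackEquiv (𝟙 X) M hU (isAffineOpen_top X) (e_top U)) h1).trans
    (map_add _ _ _)

theorem secFun_smul {U : X.Opens} (hU : IsAffineOpen U) (r : Γ(X, U)) (x : Γ(M, U)) :
    secFun M hU (r • x) = r • secFun M hU x := by
  letI := ((𝟙 X : X ⟶ X).appLE ⊤ U (e_top U)).hom.toAlgebra
  have h1 : ((Scheme.Modules.pullbackId X).inv.app M).app U (r • x) =
      r • ((Scheme.Modules.pullbackId X).inv.app M).app U x :=
    Scheme.Modules.Hom.app_smul _ r x
  exact (congrArg (sectionsPullbackEquiv (𝟙 X) M hU (isAffineOpen_top X) (e_top U)) h1).trans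
    (map_smul _ _ _)

theorem secFun_res {U : X.Opens} (hU : IsAffineOpen U) (m : Γ(M, ⊤)) :
    letI := ((𝟙 X : X ⟶ X).appLE ⊤ U (e_top U)).hom.toAlgebra
    secFun M hU (res M (le_top : U ≤ ⊤) m) = (1 : Γ(X, U)) ⊗ₜ[Γ(X, ⊤)] m := by
  letI := ((𝟙 X : X ⟶ X).appLE ⊤ U (e_top U)).hom.toAlgebra
  have h1 : ((Scheme.Modules.pullbackId X).inv.app M).app U (res M (le_top : U ≤ ⊤) m) =
      pullRes (𝟙 X) M (e_top U) m := by
    have h3 := hom_naturality ((Scheme.Modules.pullbackId X).inv.app M)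
      (homOfLE (le_top : U ≤ ⊤)).op m
    have h4 := pullbackId_inv_app M ⊤ m
    exact h3.trans
      (congrArg (((Scheme.Modules.pullback (𝟙 X)).obj M).presheaf.map (homOfLE (e_top U)).op) h4)
  have h2 := sectionsPullbackEquiv_pullRes (𝟙 X) M hU (isAffineOpen_top X) (e_top U) m
  exact (congrArg (sectionsPullbackEquiv (𝟙 X) M hU (isAffineOpen_top X) (e_top U)) h1).trans h2

/-- the chart maps, as functions -/
noncomputable def chartFun {U : X.Opens} (hU : IsAffineOpen U) (x : Γ(M, U)) : Γ(F, U) :=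
  letI : Algebra Γ(X, ⊤) Γ(X, U) := ((𝟙 X : X ⟶ X).appLE ⊤ U (e_top U)).hom.toAlgebra
  letI : Module Γ(X, ⊤) Γ(F, U) := Module.compHom _ (algebraMap Γ(X, ⊤) Γ(X, U))
  haveI := isScalarTower_top F U
  LinearMap.liftBaseChange Γ(X, U) (resLam M F lam U) (secFun M hU x)

theorem chartFun_add {U : X.Opens} (hU : IsAffineOpen U) (x y : Γ(M, U)) :
    chartFun M F lam hU (x + y) = chartFun M F lam hU x + chartFun M F lam hU y := by
  letI : Algebra Γ(X, ⊤) Γ(X, U) := ((𝟙 X : X ⟶ X).appLE ⊤ U (e_top U)).hom.toAlgebra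
  letI : Module Γ(X, ⊤) Γ(F, U) := Module.compHom _ (algebraMap Γ(X, ⊤) Γ(X, U))
  haveI := isScalarTower_top F U
  exact (congrArg (LinearMap.liftBaseChange Γ(X, U) (resLam M F lam U)) (secFun_add M hU x y)).trans
    (map_add _ _ _)

theorem chartFun_smul {U : X.Opens} (hU : IsAffineOpen U) (r : Γ(X, U)) (x : Γ(M, U)) :
    chartFun M F lam hU (r • x) = r • chartFun M F lam hU x := by
  letI : Algebra Γ(X, ⊤) Γ(X, U) := ((𝟙 X : X ⟶ X).appLE ⊤ U (e_top U)).hom.toAlgebra
  letI : Module Γ(X, ⊤) Γ(F, U) := Module.compHom _ (algebraMap Γ(X, ⊤) Γ(X, U))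
  haveI := isScalarTower_top F U
  exact (congrArg (LinearMap.liftBaseChange Γ(X, U) (resLam M F lam U))
    (secFun_smul M hU r x)).trans (map_smul _ _ _)

theorem chartFun_res {U : X.Opens} (hU : IsAffineOpen U) (m : Γ(M, ⊤)) :
    chartFun M F lam hU (res M (le_top : U ≤ ⊤) m) = res F (le_top : U ≤ ⊤) (lam m) := by
  letI : Algebra Γ(X, ⊤) Γ(X, U) := ((𝟙 X : X ⟶ X).appLE ⊤ U (e_top U)).hom.toAlgebra
  letI : Module Γ(X, ⊤) Γ(F, U) := Module.compHom _ (algebraMap Γ(X, ⊤) Γ(X, U))
  haveI := isScalarTower_top F U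
  have h2 := congrArg (LinearMap.liftBaseChange Γ(X, U) (resLam M F lam U)) (secFun_res M hU m)
  have h3 : LinearMap.liftBaseChange Γ(X, U) (resLam M F lam U) ((1 : Γ(X, U)) ⊗ₜ[Γ(X, ⊤)] m) =
      (1 : Γ(X, U)) • resLam M F lam U m := LinearMap.liftBaseChange_tmul _ _ _ _
  exact h2.trans (h3.trans (one_smul _ _))

theorem res_add (G : X.Modules) {U V : X.Opens} (h : U ≤ V) (m m' : Γ(G, V)) :
    res G h (m + m') = res G h m + res G h m' := map_add _ _ _

theorem res_zero (G : X.Modules) {U V : X.Opens} (h : U ≤ V) : res G h (0 : Γ(G, V)) = 0 :=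
  map_zero _

theorem chartFun_zero {U : X.Opens} (hU : IsAffineOpen U) : chartFun M F lam hU 0 = 0 := by
  have h := chartFun_smul M F lam hU 0 0
  rw [zero_smul, zero_smul] at h
  exact h

theorem chartFun_natural {U U' : X.Opens} (hU : IsAffineOpen U) (hU' : IsAffineOpen U')
    (h : U' ≤ U) (x : Γ(M, U)) :
    chartFun M F lam hU' (res M h x) = res F h (chartFun M F lam hU x) := by
  have hx : x ∈ Submodule.span Γ(X, U)
      (Set.range fun m : Γ(M, ⊤) => res M (le_top : U ≤ ⊤) m) := by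
    rw [span_res M hU]; trivial
  induction hx using Submodule.closure_induction with
  | zero => rw [res_zero, chartFun_zero, chartFun_zero, res_zero]
  | add x y _ _ hx hy => rw [res_add, chartFun_add, hx, hy, chartFun_add, res_add]
  | smul_mem r x hx =>
    obtain ⟨m, rfl⟩ := hx
    rw [res_smul, res_res, chartFun_smul, chartFun_res, chartFun_smul, chartFun_res, res_smul,
      res_res]

/-- the affine opens form a basis -/
theorem isBasis_affine : Opens.IsBasis (Set.range (fun U : X.affineOpens => U.1)) := by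
  rw [Subtype.range_val]
  exact X.isBasis_affineOpens

/-- the family of chart maps as a natural transformation on the basis -/
noncomputable def basisNat :
    (inducedFunctor (fun U : X.affineOpens => U.1)).op ⋙ M.presheaf ⟶
      (inducedFunctor (fun U : X.affineOpens => U.1)).op ⋙ F.presheaf where
  app i := AddCommGrpCat.ofHom
    (AddMonoidHom.mk' (chartFun M F lam i.unop.2) (chartFun_add M F lam i.unop.2))
  naturality i j g := by
    ext x
    exact chartFun_natural M F lam i.unop.2 j.unop.2 (leOfHom g.unop.hom) x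

/-- the glued map of abelian presheaves -/
noncomputable def gluedHom : M.presheaf ⟶ F.presheaf :=
  TopCat.Sheaf.restrictHomEquivHom M.presheaf
    (⟨F.presheaf, F.isSheaf⟩ : TopCat.Sheaf Ab X) isBasis_affine (basisNat M F lam)

theorem gluedHom_app_affine {U : X.Opens} (hU : IsAffineOpen U) (x : Γ(M, U)) :
    (gluedHom M F lam).app (op U) x = chartFun M F lam hU x := by
  have h1 := TopCat.Sheaf.extend_hom_app M.presheaf
    (⟨F.presheaf, F.isSheaf⟩ : TopCat.Sheaf Ab X) isBasis_affine (basisNat M F lam)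
    (⟨U, hU⟩ : X.affineOpens)
  exact congr($h1 x)

theorem gluedHom_naturality {W W' : X.Opens} (hle : W' ≤ W) (m : Γ(M, W)) :
    (gluedHom M F lam).app (op W') (res M hle m) =
      res F hle ((gluedHom M F lam).app (op W) m) :=
  congr($((gluedHom M F lam).naturality (homOfLE hle).op) m)

theorem gluedHom_smul (W : X.Opens) (r : Γ(X, W)) (m : Γ(M, W)) :
    (gluedHom M F lam).app (op W) (r • m) = r • (gluedHom M F lam).app (op W) m := by
  refine eq_of_affine F W _ _ (fun U hU hle => ?_)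
  rw [← gluedHom_naturality, res_smul, res_smul, gluedHom_app_affine M F lam hU, chartFun_smul,
    ← gluedHom_app_affine M F lam hU, gluedHom_naturality]

/-- the morphism of modules with prescribed effect on global sections -/
noncomputable def affHom : M ⟶ F :=
  ⟨PresheafOfModules.homMk (gluedHom M F lam) (fun W r m => gluedHom_smul M F lam W.unop r m)⟩

theorem affHom_app_top (m : Γ(M, ⊤)) : (affHom M F lam).app ⊤ m = lam m := by
  change (gluedHom M F lam).app (op ⊤) m = lam m
  rw [gluedHom_app_affine M F lam (isAffineOpen_top X)]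
  have h := chartFun_res M F lam (isAffineOpen_top X) m
  rw [res_self, res_self] at h
  exact h

end Exist

end Groth.Agent.Helper18.AffHom
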