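import Mathlib
import Groth.Agent.Lib.Helper18.PbCompat3

set_option autoImplicit false
set_option linter.style.haveILetI false
set_option linter.unusedSectionVars false
set_option maxRecDepth 8000
universe u
open CategoryTheory CategoryTheory.Limits AlgebraicGeometry TopologicalSpace Opposite TensorProduct

namespace Groth.Agent.Helper18.Rec

open OmegaSh Groth.Agent.Helper13.Pullback Groth.Agent.Helper18.PbCompat

section Alg

variable {B C M : Type u} [CommRing B] [CommRing C] [Algebra B C] [AddCommGroup M] [Module B M]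

theorem span_one_tmul (T : Set M) (hT : Submodule.span B T = ⊤) :
    Submodule.span C ((fun t => (1 : C) ⊗ₜ[B] t) '' T) = ⊤ := by
  rw [eq_top_iff]
  rintro z -
  have key : ∀ (m : M), m ∈ Submodule.span B T → ∀ c : C,
      c ⊗ₜ[B] m ∈ Submodule.span C ((fun t => (1 : C) ⊗ₜ[B] t) '' T) := by
    intro m hm
    induction hm using Submodule.span_induction with
    | mem t ht =>
      intro c
      have : c ⊗ₜ[B] t = c • ((1 : C) ⊗ₜ[B] t) := by
        rw [TensorProduct.smul_tmul', smul_eq_mul, mul_one]
      rw [this]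
      exact Submodule.smul_mem _ _ (Submodule.subset_span ⟨t, ht, rfl⟩)
    | zero => intro c; rw [TensorProduct.tmul_zero]; exact Submodule.zero_mem _
    | add x y _ _ hx hy =>
      intro c
      rw [TensorProduct.tmul_add]
      exact Submodule.add_mem _ (hx c) (hy c)
    | smul b x _ hx =>
      intro c
      rw [← TensorProduct.smul_tmul]
      exact hx (b • c)
  induction z using TensorProduct.induction_on with
  | zero => exact Submodule.zero_mem _
  | tmul c m => exact key m (by rw [hT]; trivial) c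
  | add x y hx hy => exact Submodule.add_mem _ hx hy

end Alg

variable {X Y : Scheme.{u}} (j : X ⟶ Y)

/-- restricted pulled-back section -/
noncomputable def pullRes (G : Y.Modules) {U : X.Opens} {V : Y.Opens} (e : U ≤ j ⁻¹ᵁ V)
    (t : Γ(G, V)) : Γ((Scheme.Modules.pullback j).obj G, U) :=
  ((Scheme.Modules.pullback j).obj G).presheaf.map (homOfLE e).op (pullSect j G V t)

theorem pullRes_refl (G : Y.Modules) {V : Y.Opens} (t : Γ(G, V)) :
    pullRes j G (le_refl (j ⁻¹ᵁ V)) t = pullSect j G V t := by
  unfold pullRes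
  exact congr($(((Scheme.Modules.pullback j).obj G).presheaf.map_id _) (pullSect j G V t))

theorem sectionsPullbackEquiv_pullRes (G : Y.Modules) [G.IsQuasicoherent] {U : X.Opens}
    (hU : IsAffineOpen U) {V : Y.Opens} (hV : IsAffineOpen V) (e : U ≤ j ⁻¹ᵁ V) (t : Γ(G, V)) :
    letI := (j.appLE V U e).hom.toAlgebra
    sectionsPullbackEquiv j G hU hV e (pullRes j G e t) = (1 : Γ(X, U)) ⊗ₜ[Γ(Y, V)] t :=
  sectionsPullbackEquiv_pullSect j G hU hV e t

theorem span_pullRes (G : Y.Modules) [G.IsQuasicoherent] {U : X.Opens}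
    (hU : IsAffineOpen U) {V : Y.Opens} (hV : IsAffineOpen V) (e : U ≤ j ⁻¹ᵁ V)
    (T : Set Γ(G, V)) (hT : Submodule.span Γ(Y, V) T = ⊤) :
    Submodule.span Γ(X, U) ((fun t => pullRes j G e t) '' T) = ⊤ := by
  letI := (j.appLE V U e).hom.toAlgebra
  rw [eq_top_iff]
  intro m _
  have h1 : sectionsPullbackEquiv j G hU hV e m ∈
      Submodule.span Γ(X, U) ((fun t => (1 : Γ(X, U)) ⊗ₜ[Γ(Y, V)] t) '' T) := by
    rw [span_one_tmul T hT]; trivial
  have h2 : m = (sectionsPullbackEquiv j G hU hV e).symm (sectionsPullbackEquiv j G hU hV e m) :=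
    ((sectionsPullbackEquiv j G hU hV e).symm_apply_apply m).symm
  rw [h2]
  refine Submodule.span_induction (p := fun y _ => (sectionsPullbackEquiv j G hU hV e).symm y ∈
    Submodule.span Γ(X, U) ((fun t => pullRes j G e t) '' T)) ?_ ?_ ?_ ?_ h1
  · rintro _ ⟨t, ht, rfl⟩
    have : (sectionsPullbackEquiv j G hU hV e).symm ((1 : Γ(X, U)) ⊗ₜ[Γ(Y, V)] t) =
        pullRes j G e t := by
      rw [← sectionsPullbackEquiv_pullRes j G hU hV e t, LinearEquiv.symm_apply_apply]
    rw [this]
    exact Submodule.subset_span ⟨t, ht, rfl⟩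
  · rw [map_zero]; exact Submodule.zero_mem _
  · intro y z _ _ hy hz
    rw [map_add]; exact Submodule.add_mem _ hy hz
  · intro b y _ hy
    rw [map_smul]; exact Submodule.smul_mem _ _ hy

end Groth.Agent.Helper18.Rec
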