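import Mathlib
import Groth.Agent.Lib.Helper7.IntDim

/-!
# Krull dimension of finitely generated algebras over a field: monotonicity for injections
(helper18)
-/

set_option autoImplicit false

namespace Groth.Agent.Helper18.DimFG

open Cardinal

universe u

variable {k : Type u} [Field k]

/-- Noether normalization computes the dimension. -/
theorem exists_noether (A : Type u) [CommRing A] [Nontrivial A] [Algebra k A]
    [Algebra.FiniteType k A] :
    ∃ (s : ℕ) (g : MvPolynomial (Fin s) k →ₐ[k] A), Function.Injective g ∧ g.Finite ∧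
      ringKrullDim A = s := by
  obtain ⟨s, g, hinj, hfin⟩ := exists_finite_inj_algHom_of_fg k A
  refine ⟨s, g, hinj, hfin, ?_⟩
  letI : Algebra (MvPolynomial (Fin s) k) A := g.toRingHom.toAlgebra
  haveI : Module.Finite (MvPolynomial (Fin s) k) A := hfin
  haveI : Algebra.IsIntegral (MvPolynomial (Fin s) k) A := Algebra.IsIntegral.of_finite _ _
  have h := Groth.Agent.Helper7.IntDim.ringKrullDim_eq_of_isIntegral_of_injective
    (A := MvPolynomial (Fin s) k) (B := A) hinj
  rw [h, MvPolynomial.ringKrullDim_of_isNoetherianRing, ringKrullDim_eq_zero_of_field]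
  simp

/-- `s` algebraically independent elements force dimension at least `s`. -/
theorem le_ringKrullDim_of_injective (A : Type u) [CommRing A] [Algebra k A]
    [Algebra.FiniteType k A] (s : ℕ) (f : MvPolynomial (Fin s) k →ₐ[k] A)
    (hf : Function.Injective f) : (s : WithBot ℕ∞) ≤ ringKrullDim A := by
  classical
  -- a minimal prime of `A` lying over `0`
  have hbot : (⊥ : Ideal (MvPolynomial (Fin s) k)) ∈ minimalPrimes (MvPolynomial (Fin s) k) := by
    rw [IsDomain.minimalPrimes_eq_singleton_bot]
    rfl
  obtain ⟨q, hq, hqc⟩ := Ideal.exists_comap_eq_of_mem_minimalPrimes_of_injective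
    (f := f.toRingHom) hf ⊥ hbot
  -- pass to the domain `A ⧸ q`
  have hle : ringKrullDim (A ⧸ q) ≤ ringKrullDim A := ringKrullDim_quotient_le q
  refine le_trans ?_ hle
  let f' : MvPolynomial (Fin s) k →ₐ[k] A ⧸ q := (Ideal.Quotient.mkₐ k q).comp f
  have hf' : Function.Injective f' := by
    rw [injective_iff_map_eq_zero]
    intro p hp
    have h1 : f p ∈ q := Ideal.Quotient.eq_zero_iff_mem.1 hp
    have h2 : p ∈ q.comap f.toRingHom := h1
    rw [hqc] at h2
    exact h2
  haveI : IsDomain (A ⧸ q) := Ideal.Quotient.isDomain q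
  obtain ⟨e, g, hginj, hgfin, hdim⟩ := exists_noether (k := k) (A ⧸ q)
  rw [hdim]
  -- transcendence degree
  have hind : AlgebraicIndependent k (fun i : Fin s => f' (MvPolynomial.X i)) := by
    rw [algebraicIndependent_iff_injective_aeval]
    have : (MvPolynomial.aeval fun i : Fin s => f' (MvPolynomial.X i)) = f' := by
      apply MvPolynomial.algHom_ext
      intro i
      simp
    rw [this]
    exact hf'
  have h1 : (s : Cardinal) ≤ Algebra.trdeg k (A ⧸ q) := by
    have := hind.lift_cardinalMk_le_trdeg
    simpa using this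
  have h2 : Algebra.trdeg k (A ⧸ q) ≤ (e : Cardinal) := by
    letI : Algebra (MvPolynomial (Fin e) k) (A ⧸ q) := g.toRingHom.toAlgebra
    haveI : Module.Finite (MvPolynomial (Fin e) k) (A ⧸ q) := hgfin
    have hint : Algebra.IsIntegral (MvPolynomial (Fin e) k) (A ⧸ q) :=
      Algebra.IsIntegral.of_finite _ _
    let y : Fin e → A ⧸ q := fun i => g (MvPolynomial.X i)
    let S : Set (A ⧸ q) := Set.range y
    have hg : g = MvPolynomial.aeval y := by
      apply MvPolynomial.algHom_ext
      intro i
      simp [y]
    have hmem : ∀ p, g p ∈ Algebra.adjoin k S := by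
      intro p
      rw [Algebra.adjoin_range_eq_range_aeval, hg]
      exact ⟨p, rfl⟩
    let g' : MvPolynomial (Fin e) k →ₐ[k] Algebra.adjoin k S := g.codRestrict _ hmem
    haveI : Algebra.IsAlgebraic (Algebra.adjoin k S) (A ⧸ q) := by
      constructor
      intro x
      have hx : IsIntegral (MvPolynomial (Fin e) k) x := hint.isIntegral x
      obtain ⟨p, hpm, hp⟩ := hx
      apply IsIntegral.isAlgebraic
      refine ⟨p.map g'.toRingHom, hpm.map _, ?_⟩
      rw [Polynomial.eval₂_map]
      exact hp
    have := Algebra.IsAlgebraic.trdeg_le_cardinalMk k S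
    refine this.trans ?_
    have h5 := Cardinal.mk_range_le_lift (f := y)
    simpa using h5
  have h3 : (s : Cardinal) ≤ (e : Cardinal) := h1.trans h2
  have h4 : s ≤ e := by exact_mod_cast h3
  exact_mod_cast h4

/-- An injective map of finitely generated algebras over a field does not lower the dimension. -/
theorem ringKrullDim_le_of_injective (B A : Type u) [CommRing B] [CommRing A] [Algebra k B]
    [Algebra k A] [Algebra.FiniteType k B] [Algebra.FiniteType k A] (f : B →ₐ[k] A)
    (hf : Function.Injective f) : ringKrullDim B ≤ ringKrullDim A := by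
  rcases subsingleton_or_nontrivial B with hB | hB
  · rw [ringKrullDim_eq_bot_of_subsingleton]
    exact bot_le
  obtain ⟨s, g, hginj, -, hdim⟩ := exists_noether (k := k) B
  rw [hdim]
  exact le_ringKrullDim_of_injective A s (f.comp g) (hf.comp hginj)

/-- A finitely generated algebra over a field has finite Krull dimension. -/
theorem ringKrullDim_ne_top (A : Type u) [CommRing A] [Algebra k A] [Algebra.FiniteType k A] :
    ringKrullDim A ≠ ⊤ := by
  rcases subsingleton_or_nontrivial A with hA | hA
  · rw [ringKrullDim_eq_bot_of_subsingleton]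
    exact bot_ne_top
  obtain ⟨s, g, -, -, hdim⟩ := exists_noether (k := k) A
  rw [hdim]
  intro h
  have h2 : ((s : ℕ∞) : WithBot ℕ∞) = ((⊤ : ℕ∞) : WithBot ℕ∞) := h
  rw [WithBot.coe_eq_coe] at h2
  exact ENat.coe_ne_top s h2

end Groth.Agent.Helper18.DimFG
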