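import Mathlib

set_option autoImplicit false
set_option linter.style.haveILetI false
universe u
open TensorProduct CategoryTheory CategoryTheory.Limits

namespace Groth.Agent.Helper18.CnBCAlg

theorem ker_of_isPushout {A' A B' B : CommRingCat.{u}} (f : A' ⟶ A) (p' : A' ⟶ B') (p : A ⟶ B)
    (q : B' ⟶ B) (h : IsPushout f p' p q) (hp' : Function.Surjective p') :
    RingHom.ker p.hom = Ideal.map f.hom (RingHom.ker p'.hom) := by
  apply le_antisymm
  · intro a ha
    set J := Ideal.map f.hom (RingHom.ker p'.hom) with hJ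
    let π : A ⟶ CommRingCat.of (A ⧸ J) := CommRingCat.ofHom (Ideal.Quotient.mk J)
    have hker : RingHom.ker p'.hom ≤ RingHom.ker ((Ideal.Quotient.mk J).comp f.hom) := by
      intro x hx
      rw [RingHom.mem_ker, RingHom.comp_apply, Ideal.Quotient.eq_zero_iff_mem]
      exact Ideal.mem_map_of_mem _ hx
    let σ : B' ⟶ CommRingCat.of (A ⧸ J) :=
      CommRingCat.ofHom (RingHom.liftOfSurjective p'.hom hp' ⟨(Ideal.Quotient.mk J).comp f.hom, hker⟩)
    have hw : f ≫ π = p' ≫ σ := by
      ext x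
      have e1 : (f ≫ π).hom x = Ideal.Quotient.mk J (f.hom x) := rfl
      have e2 : (p' ≫ σ).hom x = RingHom.liftOfSurjective p'.hom hp'
        ⟨(Ideal.Quotient.mk J).comp f.hom, hker⟩ (p'.hom x) := rfl
      rw [e1, e2, RingHom.liftOfRightInverse_comp_apply]
      rfl
    have h1 : p ≫ h.desc π σ hw = π := h.inl_desc π σ hw
    have h2 : π a = 0 := by
      rw [← h1]
      change (h.desc π σ hw) (p.hom a) = 0
      rw [ha, map_zero]
    exact Ideal.Quotient.eq_zero_iff_mem.1 h2
  · rw [Ideal.map_le_iff_le_comap]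
    intro x hx
    rw [Ideal.mem_comap, RingHom.mem_ker]
    have := congr($(h.w) x)
    change p.hom (f.hom x) = q.hom (p'.hom x) at this
    rw [this, hx, map_zero]


section
variable {A' A B : Type u} [CommRing A'] [CommRing A] [CommRing B] (f : A' →+* A) (p : A →+* B)
  {M' M P Q : Type u} [AddCommGroup M'] [Module A' M'] [AddCommGroup M] [Module A M]
  [AddCommGroup P] [Module B P] [AddCommGroup Q] [Module B Q]
  (ι' : M' →ₗ[A'] A') (ι : M →ₗ[A] A) (hι : Function.Injective ι)
  (hI : LinearMap.range ι = Ideal.map f (LinearMap.range ι'))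
  (ρ : M' →+ M) (hρ : ∀ s', ι (ρ s') = f (ι' s'))
  (θ : M' →+ P)
  (κ : M →+ Q) (hκ : ∀ a s, κ (a • s) = p a • κ s)
  (Φ : P →ₗ[B] Q) (hΦ : ∀ s', Φ (θ s') = κ (ρ s'))

include hι hI hρ hκ hΦ in
theorem surj_key (hκs : Function.Surjective κ) : Function.Surjective Φ := by
  let N : Submodule A M :=
    { carrier := {s | κ s ∈ Set.range Φ}
      add_mem' := by
        rintro s t ⟨n, hn⟩ ⟨m, hm⟩
        exact ⟨n + m, by rw [map_add, hn, hm, map_add]⟩
      zero_mem' := ⟨0, by rw [map_zero, map_zero]⟩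
      smul_mem' := by
        rintro a s ⟨n, hn⟩
        exact ⟨p a • n, by rw [map_smul, hn, hκ]⟩ }
  have hN : N = ⊤ := by
    apply Submodule.map_injective_of_injective hι
    rw [Submodule.map_top]
    apply le_antisymm (LinearMap.map_le_range)
    rw [hI, Ideal.map, Ideal.span_le]
    rintro _ ⟨x', ⟨s', rfl⟩, rfl⟩
    exact ⟨ρ s', ⟨θ s', hΦ s'⟩, hρ s'⟩
  intro q
  obtain ⟨s, rfl⟩ := hκs q
  have : s ∈ N := by rw [hN]; trivial
  exact this


include hι hI hρ hκ hΦ in
theorem inj_key (hf : f.Flat) (hp : Function.Surjective p) (hι' : Function.Injective ι')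
    (hθ : ∀ r s', θ (r • s') = p (f r) • θ s')
    (hθ0 : ∀ s', ι' s' ∈ (LinearMap.range ι' : Ideal A') ^ 2 → θ s' = 0)
    (hθspan : Submodule.span B (Set.range θ) = ⊤)
    (hκ0 : ∀ s, κ s = 0 → ι s ∈ (LinearMap.range ι : Ideal A) ^ 2) : Function.Injective Φ := by
  letI := f.toAlgebra
  haveI : Module.Flat A' A := hf
  letI mAP : Module A P := Module.compHom P p
  letI mA'P : Module A' P := Module.compHom P (p.comp f)
  haveI : IsScalarTower A' A P := ⟨fun r a n => by
    change p (r • a) • n = p (f r) • (p a • n)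
    rw [Algebra.smul_def, map_mul, mul_smul]; rfl⟩
  letI mA'M : Module A' M := Module.compHom M f
  haveI : IsScalarTower A' A M := ⟨fun r a n => by
    change (r • a) • n = f r • (a • n)
    rw [Algebra.smul_def, mul_smul]; rfl⟩
  let θl : M' →ₗ[A'] P := { toFun := θ, map_add' := map_add θ, map_smul' := fun r s' => hθ r s' }
  let Θ : A ⊗[A'] M' →ₗ[A] P := θl.liftBaseChange A
  let ρl : M' →ₗ[A'] M :=
    { toFun := ρ, map_add' := map_add ρ
      map_smul' := fun r s' => hι (by
        change ι (ρ (r • s')) = ι (f r • ρ s')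
        rw [hρ, LinearMap.map_smul ι' r s', LinearMap.map_smul ι (f r) (ρ s'), hρ, smul_eq_mul,
          map_mul, smul_eq_mul]) }
  let R : A ⊗[A'] M' →ₗ[A] M := ρl.liftBaseChange A
  have hμeq : ∀ t, ι (R t) = TensorProduct.rid A' A (LinearMap.lTensor A ι' t) := by
    intro t
    induction t using TensorProduct.induction_on with
    | zero => simp
    | tmul a s' =>
      change ι (a • ρ s') = _
      rw [map_smul, hρ, LinearMap.lTensor_tmul, TensorProduct.rid_tmul, smul_eq_mul,
        Algebra.smul_def, mul_comm]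
      rfl
    | add x y hx hy => rw [map_add, map_add, hx, hy, map_add, map_add]
  have hμ : Function.Injective (fun t => ι (R t)) := by
    intro t₁ t₂ h
    simp only [hμeq] at h
    exact Module.Flat.lTensor_preserves_injective_linearMap (M := A) ι' hι'
      ((TensorProduct.rid A' A).injective h)
  have hΘs : ∀ n : P, ∃ t, Θ t = n := by
    intro n
    have hn : n ∈ Submodule.span B (Set.range θ) := by rw [hθspan]; trivial
    induction hn using Submodule.span_induction with
    | mem x hx =>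
      obtain ⟨s', rfl⟩ := hx
      exact ⟨1 ⊗ₜ s', by simp [Θ, θl]⟩
    | zero => exact ⟨0, map_zero _⟩
    | add x y _ _ hx hy =>
      obtain ⟨t₁, rfl⟩ := hx
      obtain ⟨t₂, rfl⟩ := hy
      exact ⟨t₁ + t₂, map_add _ _ _⟩
    | smul b x _ hx =>
      obtain ⟨t₁, rfl⟩ := hx
      obtain ⟨a, rfl⟩ := hp b
      exact ⟨a • t₁, by rw [map_smul]; rfl⟩
  have hΦΘ : ∀ t, Φ (Θ t) = κ (R t) := by
    intro t
    induction t using TensorProduct.induction_on with
    | zero => simp
    | tmul a s' =>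
      change Φ (p a • θ s') = κ (a • ρ s')
      rw [map_smul, hΦ, hκ]
    | add x y hx hy => rw [map_add, map_add, hx, hy, map_add, map_add]
  have hle : Ideal.map f ((LinearMap.range ι' : Ideal A') ^ 2) ≤
      Submodule.map (ι ∘ₗ R) (LinearMap.ker Θ) := by
    rw [Ideal.map, Ideal.span_le]
    rintro _ ⟨y, hy, rfl⟩
    obtain ⟨s', rfl⟩ : y ∈ (LinearMap.range ι' : Ideal A') := Ideal.pow_le_self two_ne_zero hy
    refine ⟨1 ⊗ₜ s', ?_, ?_⟩
    · change Θ (1 ⊗ₜ s') = 0
      have : Θ (1 ⊗ₜ s') = θ s' := by simp [Θ, θl]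
      rw [this]
      exact hθ0 s' hy
    · change ι (R (1 ⊗ₜ s')) = f (ι' s')
      have : R (1 ⊗ₜ s') = ρ s' := by simp [R, ρl]
      rw [this, hρ]
  rw [injective_iff_map_eq_zero]
  intro n hn
  obtain ⟨t, rfl⟩ := hΘs n
  rw [hΦΘ] at hn
  have h1 := hκ0 _ hn
  rw [hI, ← Ideal.map_pow] at h1
  obtain ⟨t₂, ht₂, ht₂'⟩ := hle h1
  have : t₂ = t := hμ ht₂'
  rw [← this]
  exact ht₂


end

end Groth.Agent.Helper18.CnBCAlg
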