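import Mathlib

set_option autoImplicit false
open TensorProduct

namespace Groth.Agent.Helper18.CnAlg

variable {A B C : Type*} [CommRing A] [CommRing B] [CommRing C] [Algebra A B] [Algebra B C]
  [Algebra A C] [IsScalarTower A B C]

/-- `1 ⊗ m = 0` in `C ⊗_B M` for a surjection `B → C` with kernel `I` means `m ∈ I M`. -/
theorem mem_smul_top_of_one_tmul_eq_zero (hBC : Function.Surjective (algebraMap B C))
    {M : Type*} [AddCommGroup M] [Module B M] (m : M) (h : (1 : C) ⊗ₜ[B] m = 0) :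
    m ∈ (RingHom.ker (algebraMap B C)) • (⊤ : Submodule B M) := by
  let I := RingHom.ker (algebraMap B C)
  let e : (B ⧸ I) ≃ₐ[B] C := Ideal.quotientKerAlgEquivOfSurjective (f := Algebra.ofId B C) hBC
  have h1 : (1 : B ⧸ I) ⊗ₜ[B] m = 0 := by
    have h2 : TensorProduct.congr e.toLinearEquiv (LinearEquiv.refl B M) ((1 : B ⧸ I) ⊗ₜ[B] m) =
        (1 : C) ⊗ₜ[B] m := by
      rw [TensorProduct.congr_tmul]
      simp
    apply (TensorProduct.congr e.toLinearEquiv (LinearEquiv.refl B M)).injective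
    rw [h2, h, map_zero]
  rw [← LinearMap.ker_tensorProductMk (I := I) (Q := M)]
  exact h1

/-- The key step of the sequence `C_{Z/Y} → C_{Z/X} → i^*Ω_{X/Y}`: for surjections `A → C`, `B → C`
compatible with `A → B`, an element `x` of `I = ker (B → C)` with `1 ⊗ dx = 0` in `C ⊗_B Ω_{B/A}`
lies in `J B + I²`, `J = ker (A → C)`. -/
theorem mem_of_one_tmul_D_eq_zero (hBC : Function.Surjective (algebraMap B C))
    (hAC : Function.Surjective (algebraMap A C)) (x : B) (hx : algebraMap B C x = 0)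
    (h : (1 : C) ⊗ₜ[B] KaehlerDifferential.D A B x = 0) :
    x ∈ (RingHom.ker (algebraMap A C)).map (algebraMap A B) ⊔ (RingHom.ker (algebraMap B C)) ^ 2 := by
  set I := RingHom.ker (algebraMap B C) with hI
  set J := RingHom.ker (algebraMap A C) with hJ
  set K : Ideal B := J.map (algebraMap A B) ⊔ I ^ 2 with hK
  let Ibar : Ideal (B ⧸ K) := I.map (Ideal.Quotient.mk K)
  have hIbar : Ibar ^ 2 = ⊥ := by
    change (I.map (Ideal.Quotient.mk K)) ^ 2 = ⊥
    rw [← Ideal.map_pow]
    exact Ideal.map_mk_eq_bot_of_le le_sup_right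
  -- the section `C → B ⧸ K`
  have hker : RingHom.ker (algebraMap A C) ≤ RingHom.ker (algebraMap A (B ⧸ K)) := by
    intro a ha
    rw [RingHom.mem_ker, IsScalarTower.algebraMap_apply A B (B ⧸ K)]
    exact Ideal.Quotient.eq_zero_iff_mem.2 (le_sup_left (a := J.map (algebraMap A B))
      (Ideal.mem_map_of_mem _ ha))
  let σ : C →+* (B ⧸ K) := RingHom.liftOfSurjective (algebraMap A C) hAC ⟨algebraMap A (B ⧸ K), hker⟩
  have hσ : ∀ a : A, σ (algebraMap A C a) = algebraMap A (B ⧸ K) a := fun a =>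
    RingHom.liftOfRightInverse_comp_apply _ _ _ _ a
  let f : B →ₐ[A] (B ⧸ K) :=
    { toRingHom := σ.comp (algebraMap B C)
      commutes' := fun a => by
        change σ (algebraMap B C (algebraMap A B a)) = _
        rw [← IsScalarTower.algebraMap_apply A B C, hσ] }
  have hf : ∀ b : B, f b = σ (algebraMap B C b) := fun _ => rfl
  have e : (Ideal.Quotient.mkₐ A Ibar).comp f = IsScalarTower.toAlgHom A B ((B ⧸ K) ⧸ Ibar) := by
    ext b
    change Ideal.Quotient.mk Ibar (f b) = algebraMap B ((B ⧸ K) ⧸ Ibar) b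
    rw [IsScalarTower.algebraMap_apply B (B ⧸ K) ((B ⧸ K) ⧸ Ibar)]
    change _ = Ideal.Quotient.mk Ibar (Ideal.Quotient.mk K b)
    rw [Ideal.Quotient.eq]
    obtain ⟨a, ha⟩ := hAC (algebraMap B C b)
    rw [hf, ← ha, hσ, IsScalarTower.algebraMap_apply A B (B ⧸ K)]
    change Ideal.Quotient.mk K (algebraMap A B a) - Ideal.Quotient.mk K b ∈ _
    rw [← map_sub]
    apply Ideal.mem_map_of_mem
    rw [hI, RingHom.mem_ker, map_sub, ← IsScalarTower.algebraMap_apply, ha, sub_self]
  let D' : Derivation A B Ibar := derivationToSquareZeroOfLift Ibar hIbar f e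
  have hD' : ∀ b : B, (D' b : B ⧸ K) = f b - algebraMap B (B ⧸ K) b := fun b =>
    derivationToSquareZeroOfLift_apply Ibar hIbar f e b
  let L : Ω[B⁄A] →ₗ[B] Ibar := D'.liftKaehlerDifferential
  have hL : L (KaehlerDifferential.D A B x) = D' x := Derivation.liftKaehlerDifferential_comp_D D' x
  have hmem := mem_smul_top_of_one_tmul_eq_zero hBC _ h
  have hzero : ∀ ω ∈ I • (⊤ : Submodule B (Ω[B⁄A])), L ω = 0 := by
    intro ω hω
    refine Submodule.smul_induction_on hω ?_ ?_
    · intro y hy n _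
      rw [map_smul]
      apply Subtype.ext
      change y • (L n : B ⧸ K) = 0
      rw [Algebra.smul_def]
      have h1 : algebraMap B (B ⧸ K) y * (L n : B ⧸ K) ∈ Ibar ^ 2 := by
        rw [pow_two]
        exact Ideal.mul_mem_mul (Ideal.mem_map_of_mem _ hy) (L n).2
      rw [hIbar] at h1
      exact h1
    · intro a b ha hb
      rw [map_add, ha, hb, add_zero]
  have h0 : (D' x : B ⧸ K) = 0 := by
    rw [← hL, hzero _ hmem]
    rfl
  rw [hD', hf, hx, map_zero, zero_sub, neg_eq_zero] at h0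
  exact Ideal.Quotient.eq_zero_iff_mem.1 h0

end Groth.Agent.Helper18.CnAlg
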