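import Mathlib
import Groth.Prelude.Def_Omega2

set_option autoImplicit false
universe u
open CategoryTheory CategoryTheory.Limits AlgebraicGeometry TensorProduct TopologicalSpace

namespace Groth.Agent.Helper18.ConormalImm

variable {Y X : Scheme.{u}} (j : Y ⟶ X) [IsImmersion j]

theorem image_preimage_coborder {V : X.Opens} (hle : V ≤ j.coborderRange) :
    j.coborderRange.ι ''ᵁ (j.coborderRange.ι ⁻¹ᵁ V) = V := by
  rw [Scheme.Hom.image_preimage_eq_opensRange_inf]
  simpa using hle

theorem isAffineOpen_preimage_coborder {V : X.Opens} (hV : IsAffineOpen V)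
    (hle : V ≤ j.coborderRange) : IsAffineOpen (j.coborderRange.ι ⁻¹ᵁ V) :=
  hV.preimage_of_isOpenImmersion _ (by simpa using hle)

theorem preimage_eq {V : X.Opens} (hle : V ≤ j.coborderRange) :
    j.liftCoborder ⁻¹ᵁ (j.coborderRange.ι ⁻¹ᵁ V) = j ⁻¹ᵁ V := by
  rw [Scheme.Hom.liftCoborder_preimage, image_preimage_coborder j hle]

theorem isAffineOpen_preimage {V : X.Opens} (hV : IsAffineOpen V)
    (hle : V ≤ j.coborderRange) : IsAffineOpen (j ⁻¹ᵁ V) := by
  rw [← preimage_eq j hle]
  exact (isAffineOpen_preimage_coborder j hV hle).preimage j.liftCoborder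

theorem app_surjective {V : X.Opens} (hV : IsAffineOpen V)
    (hle : V ≤ j.coborderRange) : Function.Surjective (j.app V) := by
  have h1 := j.liftCoborder.app_surjective _ (isAffineOpen_preimage_coborder j hV hle)
  rw [liftCoborder_app] at h1
  have h2 : Function.Surjective (j.app (j.coborderRange.ι ''ᵁ (j.coborderRange.ι ⁻¹ᵁ V))) := by
    intro b
    obtain ⟨a, ha⟩ := h1 (Y.presheaf.map (eqToHom <| j.liftCoborder_preimage _).op b)
    refine ⟨a, ?_⟩
    have hinj : Function.Injective (Y.presheaf.map (eqToHom <| j.liftCoborder_preimage (j.coborderRange.ι ⁻¹ᵁ V)).op) :=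
      ((ConcreteCategory.isIso_iff_bijective _).1 inferInstance).1
    exact hinj ha
  have key : ∀ (V' : X.Opens), V' = V → Function.Surjective (j.app V') → Function.Surjective (j.app V) := by
    rintro V' rfl h
    exact h
  exact key _ (image_preimage_coborder j hle) h2

end Groth.Agent.Helper18.ConormalImm
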