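import Mathlib

set_option autoImplicit false
universe u
open TensorProduct

namespace Groth.Agent.Helper18.OmegaSpec


theorem cot_smul_eq_zero {T : Type u} [CommRing T] (I : Ideal T) (s : T) (hs : s ∈ I) (c : I.Cotangent) : s • c = 0 := by
  obtain ⟨y, rfl⟩ := I.toCotangent_surjective c
  rw [← map_smul, Ideal.toCotangent_eq_zero]
  change s * (y : T) ∈ I ^ 2
  rw [pow_two]
  exact Ideal.mul_mem_mul hs y.2

section Kaehler

variable (R A : Type u) [CommRing R] [CommRing A] [Algebra R A]

/-- the action of `A ⊗ A` on `Ω` factors through multiplication. -/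
theorem kaehler_smul_eq (t : A ⊗[R] A) (ω : Ω[A⁄R]) :
    t • ω = (Algebra.TensorProduct.lmul' R t : A) • ω := by
  have h : t - (Algebra.TensorProduct.lmul' R t : A) ⊗ₜ[R] (1 : A) ∈ KaehlerDifferential.ideal R A := by
    rw [KaehlerDifferential.ideal, RingHom.mem_ker, map_sub]
    simp
  have h2 : (t - (Algebra.TensorProduct.lmul' R t : A) ⊗ₜ[R] (1 : A)) • ω = 0 :=
    cot_smul_eq_zero (KaehlerDifferential.ideal R A) _ h ω
  rw [sub_smul, sub_eq_zero] at h2
  rw [h2, ← algebraMap_smul (A ⊗[R] A) (Algebra.TensorProduct.lmul' R t : A) ω,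
    Algebra.TensorProduct.algebraMap_apply]
  rfl

end Kaehler



section Alg

variable {B A' : Type u} [CommRing B] [CommRing A'] [Algebra B A']

/-- `B ⧸ J → A'`, `J = ker (B → A')`. -/
noncomputable def quotKerLin : (B ⧸ RingHom.ker (algebraMap B A')) →ₗ[B] A' :=
  Submodule.liftQ (RingHom.ker (algebraMap B A')) (Algebra.linearMap B A') (fun x hx => by
    simpa using hx)

theorem quotKerLin_mk (b : B) :
    quotKerLin (A' := A') (Ideal.Quotient.mk _ b) = algebraMap B A' b := rfl

theorem quotKerLin_bijective (hsurj : Function.Surjective (algebraMap B A')) :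
    Function.Bijective (quotKerLin (B := B) (A' := A')) := by
  constructor
  · rw [← LinearMap.ker_eq_bot, LinearMap.ker_eq_bot']
    intro x hx
    obtain ⟨b, rfl⟩ := Ideal.Quotient.mk_surjective x
    rw [quotKerLin_mk] at hx
    exact Ideal.Quotient.eq_zero_iff_mem.mpr hx
  · intro a
    obtain ⟨b, rfl⟩ := hsurj a
    exact ⟨Ideal.Quotient.mk _ b, rfl⟩

/-- `(B ⧸ J) ⊗[B] J ≃ₗ[B] J/J²`. -/
noncomputable def quotTensorCot (J : Ideal B) : (B ⧸ J) ⊗[B] J ≃ₗ[B] J.Cotangent :=
  TensorProduct.quotTensorEquivQuotSMul J J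

theorem quotTensorCot_mk_tmul (J : Ideal B) (b : B) (x : J) :
    quotTensorCot J (Ideal.Quotient.mk J b ⊗ₜ x) = b • J.toCotangent x :=
  TensorProduct.quotTensorEquivQuotSMul_mk_tmul (M := J) J b x

/-- `A' ⊗[B] J ≃ₗ[B] J/J²` for `J = ker (B → A')`, `B → A'` surjective. -/
noncomputable def tensorKerEquiv (hsurj : Function.Surjective (algebraMap B A')) :
    A' ⊗[B] (RingHom.ker (algebraMap B A')) ≃ₗ[B] (RingHom.ker (algebraMap B A')).Cotangent :=
  (TensorProduct.congr (LinearEquiv.ofBijective quotKerLin (quotKerLin_bijective hsurj)).symm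
    (LinearEquiv.refl B (RingHom.ker (algebraMap B A')))) ≪≫ₗ
  quotTensorCot (RingHom.ker (algebraMap B A'))

theorem tensorKerEquiv_tmul (hsurj : Function.Surjective (algebraMap B A')) (b : B)
    (x : RingHom.ker (algebraMap B A')) :
    tensorKerEquiv hsurj (algebraMap B A' b ⊗ₜ x) =
      b • (RingHom.ker (algebraMap B A')).toCotangent x := by
  have h1 : (LinearEquiv.ofBijective quotKerLin (quotKerLin_bijective hsurj)).symm
      (algebraMap B A' b) = Ideal.Quotient.mk _ b := by
    rw [LinearEquiv.symm_apply_eq]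
    rfl
  unfold tensorKerEquiv
  rw [LinearEquiv.trans_apply, TensorProduct.congr_tmul, h1, LinearEquiv.refl_apply,
    quotTensorCot_mk_tmul]

end Alg



section Cot

variable {B T : Type u} [CommRing B] [CommRing T]

/-- map on cotangent spaces induced by a ring hom. -/
noncomputable def cotMap (β : B →+* T) (J : Ideal B) (I : Ideal T) (h : J ≤ I.comap β) :
    J.Cotangent →+ I.Cotangent :=
  (Ideal.mapCotangent J I β.toIntAlgHom h).toAddMonoidHom

theorem cotMap_toCotangent (β : B →+* T) (J : Ideal B) (I : Ideal T) (h : J ≤ I.comap β) (x : J) :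
    cotMap β J I h (J.toCotangent x) = I.toCotangent ⟨β x, h x.2⟩ := rfl

theorem cotMap_smul (β : B →+* T) (J : Ideal B) (I : Ideal T) (h : J ≤ I.comap β) (b : B)
    (c : J.Cotangent) : cotMap β J I h (b • c) = β b • cotMap β J I h c := by
  obtain ⟨y, rfl⟩ := J.toCotangent_surjective c
  rw [← map_smul, cotMap_toCotangent, cotMap_toCotangent, ← map_smul]
  congr 1
  ext
  change β (b * y) = β b * β y
  exact map_mul β b y

theorem comap_symm_le (β : B ≃+* T) (J : Ideal B) (I : Ideal T) (h : J = I.comap (β : B →+* T)) :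
    I ≤ J.comap (β.symm : T →+* B) := by
  intro x hx
  rw [Ideal.mem_comap, h, Ideal.mem_comap]
  change β (β.symm x) ∈ I
  rwa [β.apply_symm_apply]

/-- iso on cotangent spaces induced by a ring iso. -/
noncomputable def cotEquiv (β : B ≃+* T) (J : Ideal B) (I : Ideal T) (h : J = I.comap (β : B →+* T)) :
    J.Cotangent ≃+ I.Cotangent where
  toFun := cotMap (β : B →+* T) J I h.le
  invFun := cotMap (β.symm : T →+* B) I J (comap_symm_le β J I h)
  left_inv c := by
    obtain ⟨y, rfl⟩ := J.toCotangent_surjective c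
    rw [cotMap_toCotangent, cotMap_toCotangent]
    congr 1
    ext
    exact β.symm_apply_apply _
  right_inv c := by
    obtain ⟨y, rfl⟩ := I.toCotangent_surjective c
    rw [cotMap_toCotangent, cotMap_toCotangent]
    congr 1
    ext
    exact β.apply_symm_apply _
  map_add' := map_add _

theorem cotEquiv_smul (β : B ≃+* T) (J : Ideal B) (I : Ideal T) (h : J = I.comap (β : B →+* T)) (b : B)
    (c : J.Cotangent) : cotEquiv β J I h (b • c) = β b • cotEquiv β J I h c :=
  cotMap_smul (β : B →+* T) J I h.le b c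

end Cot


section Phi

variable {R A : Type u} [CommRing R] [CommRing A] [Algebra R A]
variable {B A' : Type u} [CommRing B] [CommRing A'] [Algebra B A']

theorem ker_eq_comap (β : B ≃+* A ⊗[R] A) (ψ : A' ≃+* A)
    (hcomp : ∀ b, ψ (algebraMap B A' b) = Algebra.TensorProduct.lmul' R (β b)) :
    RingHom.ker (algebraMap B A') =
      (KaehlerDifferential.ideal R A).comap (β : B →+* A ⊗[R] A) := by
  ext b
  rw [RingHom.mem_ker, Ideal.mem_comap, KaehlerDifferential.ideal, RingHom.mem_ker]
  change _ ↔ Algebra.TensorProduct.lmul' R (β b) = 0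
  rw [← hcomp b]
  exact (map_eq_zero_iff ψ ψ.injective).symm

/-- The additive equivalence `A' ⊗[B] J ≃ Ω[A/R]`. -/
noncomputable def Phi (hsurj : Function.Surjective (algebraMap B A'))
    (β : B ≃+* A ⊗[R] A) (ψ : A' ≃+* A)
    (hcomp : ∀ b, ψ (algebraMap B A' b) = Algebra.TensorProduct.lmul' R (β b)) :
    A' ⊗[B] (RingHom.ker (algebraMap B A')) ≃+ Ω[A⁄R] :=
  (tensorKerEquiv hsurj).toAddEquiv.trans
    (cotEquiv β _ (KaehlerDifferential.ideal R A) (ker_eq_comap β ψ hcomp))

theorem Phi_smul (hsurj : Function.Surjective (algebraMap B A'))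
    (β : B ≃+* A ⊗[R] A) (ψ : A' ≃+* A)
    (hcomp : ∀ b, ψ (algebraMap B A' b) = Algebra.TensorProduct.lmul' R (β b))
    (a' : A') (z : A' ⊗[B] (RingHom.ker (algebraMap B A'))) :
    Phi hsurj β ψ hcomp (a' • z) = ψ a' • Phi hsurj β ψ hcomp z := by
  obtain ⟨b, rfl⟩ := hsurj a'
  rw [algebraMap_smul, hcomp b, ← kaehler_smul_eq]
  change cotEquiv β _ _ (ker_eq_comap β ψ hcomp) (tensorKerEquiv hsurj (b • z)) =
    β b • cotEquiv β _ _ (ker_eq_comap β ψ hcomp) (tensorKerEquiv hsurj z)
  rw [map_smul, cotEquiv_smul]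

end Phi

end Groth.Agent.Helper18.OmegaSpec
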