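import Mathlib
import Groth.Prelude.Def_Omega2
import Groth.Agent.Lib.Helper13.PullbackSections
import Groth.Agent.Lib.Helper13.EffCartier
import Groth.Agent.Lib.Helper13.LocFree
import Groth.Agent.Lib.Helper18.OmegaSpecAlg

set_option autoImplicit false
set_option linter.style.haveILetI false
set_option linter.unusedSectionVars false
universe u
open CategoryTheory CategoryTheory.Limits AlgebraicGeometry TensorProduct TopologicalSpace
open Groth.Agent.Helper13.EffCartier Groth.Agent.Helper13.Pullback Groth.Agent.Helper13.LocFree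

namespace Groth.Agent.Helper18.OmegaSec


open Groth.Agent.Helper18.OmegaSpec

section General

variable {Z P : Scheme.{u}} (i : Z ⟶ P) [QuasiCompact i]
  {W : Z.Opens} {V : P.Opens}

/-- the algebra structure on `Γ(Z, W)` over `Γ(P, V)` -/
noncomputable abbrev algLE (e : W ≤ i ⁻¹ᵁ V) : Algebra Γ(P, V) Γ(Z, W) := (i.appLE V W e).hom.toAlgebra

theorem algebraMap_algLE (e : W ≤ i ⁻¹ᵁ V) (b : Γ(P, V)) :
    letI := algLE i e
    algebraMap Γ(P, V) Γ(Z, W) b = i.appLE V W e b := rfl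

/-- sections of the pulled back ideal module -/
noncomputable def secPull (hW : IsAffineOpen W) (hV : IsAffineOpen V) (e : W ≤ i ⁻¹ᵁ V) :
    letI := algLE i e
    Γ((Scheme.Modules.pullback i).obj (K i.ker), W) ≃ₗ[Γ(Z, W)]
      Γ(Z, W) ⊗[Γ(P, V)] Γ(K i.ker, V) :=
  sectionsPullbackEquiv i (K i.ker) hW hV e

theorem appLE_eq_zero_iff (e : W ≤ i ⁻¹ᵁ V) (hE : i ⁻¹ᵁ V = W) (b : Γ(P, V)) :
    i.appLE V W e b = 0 ↔ i.app V b = 0 := by
  subst hE
  rw [Scheme.Hom.appLE_eq_app]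

theorem fn_mem_ker (hV : IsAffineOpen V) (e : W ≤ i ⁻¹ᵁ V) (hE : i ⁻¹ᵁ V = W) (k : Γ(K i.ker, V)) :
    letI := algLE i e
    fn i.ker k ∈ RingHom.ker (algebraMap Γ(P, V) Γ(Z, W)) := by
  letI := algLE i e
  have h1 : fn i.ker k ∈ i.ker.ideal ⟨V, hV⟩ :=
    (mem_ideal_iff i.ker ⟨V, hV⟩ _).2 ⟨k, rfl⟩
  rw [Scheme.Hom.ker_apply, RingHom.mem_ker] at h1
  rw [RingHom.mem_ker, algebraMap_algLE, appLE_eq_zero_iff i e hE]
  exact h1

/-- sections of the ideal module are the kernel -/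
noncomputable def secKerLin (hV : IsAffineOpen V) (e : W ≤ i ⁻¹ᵁ V) (hE : i ⁻¹ᵁ V = W) :
    letI := algLE i e
    Γ(K i.ker, V) →ₗ[Γ(P, V)] RingHom.ker (algebraMap Γ(P, V) Γ(Z, W)) :=
  letI := algLE i e
  { toFun := fun k => ⟨fn i.ker k, fn_mem_ker i hV e hE k⟩
    map_add' := fun a b => by
      apply Subtype.ext
      exact map_add ((Groth.Agent.Helper13.VanishIdeal.idealι i.ker.subschemeι).app V).hom a b
    map_smul' := fun r k => by
      apply Subtype.ext
      exact fn_smul i.ker r k }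

theorem secKerLin_bijective (hV : IsAffineOpen V) (e : W ≤ i ⁻¹ᵁ V) (hE : i ⁻¹ᵁ V = W) :
    letI := algLE i e
    Function.Bijective (secKerLin i hV e hE) := by
  letI := algLE i e
  constructor
  · intro a b h
    exact fn_injective i.ker V (congrArg Subtype.val h)
  · rintro ⟨g, hg⟩
    rw [RingHom.mem_ker, algebraMap_algLE, appLE_eq_zero_iff i e hE] at hg
    have h1 : g ∈ i.ker.ideal ⟨V, hV⟩ := by
      rw [Scheme.Hom.ker_apply, RingHom.mem_ker]
      exact hg
    obtain ⟨k, hk⟩ := (mem_ideal_iff i.ker ⟨V, hV⟩ _).1 h1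
    exact ⟨k, Subtype.ext hk⟩

/-- the middle equivalence -/
noncomputable def secMid (hV : IsAffineOpen V) (e : W ≤ i ⁻¹ᵁ V) (hE : i ⁻¹ᵁ V = W) :
    letI := algLE i e
    Γ(Z, W) ⊗[Γ(P, V)] Γ(K i.ker, V) ≃ₗ[Γ(Z, W)]
      Γ(Z, W) ⊗[Γ(P, V)] (RingHom.ker (algebraMap Γ(P, V) Γ(Z, W))) :=
  letI := algLE i e
  TensorProduct.AlgebraTensorModule.congr (LinearEquiv.refl Γ(Z, W) Γ(Z, W))
      (LinearEquiv.ofBijective (secKerLin i hV e hE) (secKerLin_bijective i hV e hE))

variable {R A : Type u} [CommRing R] [CommRing A] [Algebra R A]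

/-- sections of the pullback of the ideal module, compared with Kähler differentials. -/
noncomputable def Psi (hW : IsAffineOpen W) (hV : IsAffineOpen V) (e : W ≤ i ⁻¹ᵁ V) (hE : i ⁻¹ᵁ V = W) (hsurj : Function.Surjective (i.appLE V W e))
    (β : Γ(P, V) ≃+* A ⊗[R] A) (ψ : Γ(Z, W) ≃+* A)
    (hcomp : ∀ b, ψ (i.appLE V W e b) = Algebra.TensorProduct.lmul' R (β b)) :
    Γ((Scheme.Modules.pullback i).obj (K i.ker), W) ≃+ Ω[A⁄R] :=
  letI := algLE i e
  (secPull i hW hV e).toAddEquiv.trans ((secMid i hV e hE).toAddEquiv.trans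
    (Phi (R := R) (A := A) (B := Γ(P, V)) (A' := Γ(Z, W)) hsurj β ψ hcomp))

theorem Psi_apply (hW : IsAffineOpen W) (hV : IsAffineOpen V) (e : W ≤ i ⁻¹ᵁ V) (hE : i ⁻¹ᵁ V = W) (hsurj : Function.Surjective (i.appLE V W e))
    (β : Γ(P, V) ≃+* A ⊗[R] A) (ψ : Γ(Z, W) ≃+* A)
    (hcomp : ∀ b, ψ (i.appLE V W e b) = Algebra.TensorProduct.lmul' R (β b))
    (s : Γ((Scheme.Modules.pullback i).obj (K i.ker), W)) :
    letI := algLE i e
    Psi i hW hV e hE hsurj β ψ hcomp s =
      Phi (R := R) (A := A) (B := Γ(P, V)) (A' := Γ(Z, W)) hsurj β ψ hcomp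
        (secMid i hV e hE (secPull i hW hV e s)) := rfl

theorem Psi_smul (hW : IsAffineOpen W) (hV : IsAffineOpen V) (e : W ≤ i ⁻¹ᵁ V) (hE : i ⁻¹ᵁ V = W) (hsurj : Function.Surjective (i.appLE V W e))
    (β : Γ(P, V) ≃+* A ⊗[R] A) (ψ : Γ(Z, W) ≃+* A)
    (hcomp : ∀ b, ψ (i.appLE V W e b) = Algebra.TensorProduct.lmul' R (β b))
    (a : Γ(Z, W)) (s : Γ((Scheme.Modules.pullback i).obj (K i.ker), W)) :
    Psi i hW hV e hE hsurj β ψ hcomp (a • s) = ψ a • Psi i hW hV e hE hsurj β ψ hcomp s := by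
  letI := algLE i e
  rw [Psi_apply, Psi_apply, LinearEquiv.map_smul, LinearEquiv.map_smul]
  exact Phi_smul _ β ψ _ a _

end General



section Diag

variable {X S : Scheme.{u}} (f : X ⟶ S) {U : X.Opens} {V : S.Opens}

/-- the open `U ×_V U` of `X ×_S X` -/
noncomputable abbrev WD (U : X.Opens) : (pullback f f).Opens :=
  (pullback.fst f f) ⁻¹ᵁ U ⊓ (pullback.snd f f) ⁻¹ᵁ U

theorem diag_preimage_WD (U : X.Opens) : (pullback.diagonal f) ⁻¹ᵁ (WD f U) = U := by
  ext x
  have h1 : (pullback.fst f f) ((pullback.diagonal f) x) = x := by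
    rw [← Scheme.Hom.comp_apply, pullback.diagonal_fst]; rfl
  have h2 : (pullback.snd f f) ((pullback.diagonal f) x) = x := by
    rw [← Scheme.Hom.comp_apply, pullback.diagonal_snd]; rfl
  change ((pullback.fst f f) ((pullback.diagonal f) x) ∈ U ∧
    (pullback.snd f f) ((pullback.diagonal f) x) ∈ U) ↔ x ∈ U
  rw [h1, h2, and_self]

theorem isAffineOpen_WD (hU : IsAffineOpen U) (hV : IsAffineOpen V) (e : U ≤ f ⁻¹ᵁ V) :
    IsAffineOpen (WD f U) := by
  have : IsAffine (V : Scheme) := hV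
  have : IsAffine (U : Scheme) := hU
  exact .of_isIso (Scheme.Hom.isPullback_resLE (IsPullback.of_hasPullback f f) e e rfl).isoPullback.hom

theorem isPushout_WD (hU : IsAffineOpen U) (hV : IsAffineOpen V) (e : U ≤ f ⁻¹ᵁ V) :
    IsPushout (f.appLE V U e) (f.appLE V U e)
      ((pullback.fst f f).appLE U (WD f U) inf_le_left)
      ((pullback.snd f f).appLE U (WD f U) inf_le_right) := by
  have h := isIso_pushoutSection_of_isAffineOpen (IsPullback.of_hasPullback f f) e e
    (UY := WD f U) rfl hV hU hU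
  exact (isIso_pushoutSection_iff ..).mp h

/-- algebra structure on sections -/
noncomputable abbrev algUV (e : U ≤ f ⁻¹ᵁ V) : Algebra Γ(S, V) Γ(X, U) := (f.appLE V U e).hom.toAlgebra

/-- sections of `X ×_S X` over `U ×_V U` -/
noncomputable def betaIso (hU : IsAffineOpen U) (hV : IsAffineOpen V) (e : U ≤ f ⁻¹ᵁ V) :
    letI := algUV f e
    Γ(pullback f f, WD f U) ≅ CommRingCat.of (Γ(X, U) ⊗[Γ(S, V)] Γ(X, U)) :=
  letI := algUV f e
  (isPushout_WD f hU hV e).isoIsPushout _ _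
    (CommRingCat.isPushout_tensorProduct Γ(S, V) Γ(X, U) Γ(X, U))

theorem le_diag_preimage (U : X.Opens) : U ≤ (pullback.diagonal f) ⁻¹ᵁ (WD f U) :=
  (diag_preimage_WD f U).ge

theorem id_appLE' (U : X.Opens) (h : U ≤ (𝟙 X : X ⟶ X) ⁻¹ᵁ U) :
    (𝟙 X : X ⟶ X).appLE U U h = 𝟙 _ := by
  simp only [Scheme.Hom.appLE, Scheme.Hom.id_app, homOfLE_leOfHom]
  erw [Category.id_comp]
  exact X.presheaf.map_id _

theorem fst_appLE_diag (U : X.Opens) :
    (pullback.fst f f).appLE U (WD f U) inf_le_left ≫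
      (pullback.diagonal f).appLE (WD f U) U (le_diag_preimage f U) = 𝟙 _ := by
  rw [Scheme.Hom.appLE_comp_appLE]
  have : pullback.diagonal f ≫ pullback.fst f f = 𝟙 X := pullback.diagonal_fst f
  simp only [this]
  exact id_appLE' U _

theorem snd_appLE_diag (U : X.Opens) :
    (pullback.snd f f).appLE U (WD f U) inf_le_right ≫
      (pullback.diagonal f).appLE (WD f U) U (le_diag_preimage f U) = 𝟙 _ := by
  rw [Scheme.Hom.appLE_comp_appLE]
  have : pullback.diagonal f ≫ pullback.snd f f = 𝟙 X := pullback.diagonal_snd f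
  simp only [this]
  exact id_appLE' U _

theorem diag_appLE_eq (hU : IsAffineOpen U) (hV : IsAffineOpen V) (e : U ≤ f ⁻¹ᵁ V) :
    letI := algUV f e
    (pullback.diagonal f).appLE (WD f U) U (le_diag_preimage f U) =
      (betaIso f hU hV e).hom ≫ CommRingCat.ofHom
        (Algebra.TensorProduct.lmul' Γ(S, V) (S := Γ(X, U))).toRingHom := by
  letI := algUV f e
  apply (isPushout_WD f hU hV e).hom_ext
  · rw [fst_appLE_diag]
    unfold betaIso
    rw [IsPushout.inl_isoIsPushout_hom_assoc]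
    ext a
    change a = Algebra.TensorProduct.lmul' Γ(S, V) (a ⊗ₜ 1)
    simp
  · rw [snd_appLE_diag]
    unfold betaIso
    rw [IsPushout.inr_isoIsPushout_hom_assoc]
    ext a
    change a = Algebra.TensorProduct.lmul' Γ(S, V) (1 ⊗ₜ a)
    simp

end Diag


section Main

variable {X S : Scheme.{u}} (f : X ⟶ S) [QuasiSeparated f] {U : X.Opens} {V : S.Opens}

theorem diag_appLE_surjective (U : X.Opens) :
    Function.Surjective ((pullback.diagonal f).appLE (WD f U) U (le_diag_preimage f U)) := by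
  intro a
  refine ⟨(pullback.fst f f).appLE U (WD f U) inf_le_left a, ?_⟩
  exact congr($(fst_appLE_diag f U) a)

theorem diag_hcomp (hU : IsAffineOpen U) (hV : IsAffineOpen V) (e : U ≤ f ⁻¹ᵁ V)
    (b : Γ(pullback f f, WD f U)) :
    letI := algUV f e
    (RingEquiv.refl Γ(X, U)) ((pullback.diagonal f).appLE (WD f U) U (le_diag_preimage f U) b) =
      Algebra.TensorProduct.lmul' Γ(S, V)
        ((betaIso f hU hV e).commRingCatIsoToRingEquiv b) := by
  letI := algUV f e
  exact congr($(diag_appLE_eq f hU hV e) b)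

/-- The comparison `Γ(Δ^* K, U) ≃ Ω[Γ(X,U)/Γ(S,V)]`. -/
noncomputable def PsiD (hU : IsAffineOpen U) (hV : IsAffineOpen V) (e : U ≤ f ⁻¹ᵁ V) :
    letI := algUV f e
    Γ((Scheme.Modules.pullback (pullback.diagonal f)).obj (K (pullback.diagonal f).ker), U) ≃+
      Ω[Γ(X, U)⁄Γ(S, V)] :=
  letI := algUV f e
  Psi (R := Γ(S, V)) (A := Γ(X, U)) (pullback.diagonal f) hU (isAffineOpen_WD f hU hV e)
    (le_diag_preimage f U) (diag_preimage_WD f U) (diag_appLE_surjective f U)
    (betaIso f hU hV e).commRingCatIsoToRingEquiv (RingEquiv.refl Γ(X, U))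
    (diag_hcomp f hU hV e)

theorem PsiD_smul (hU : IsAffineOpen U) (hV : IsAffineOpen V) (e : U ≤ f ⁻¹ᵁ V) (a : Γ(X, U))
    (s : Γ((Scheme.Modules.pullback (pullback.diagonal f)).obj (K (pullback.diagonal f).ker), U)) :
    letI := algUV f e
    PsiD f hU hV e (a • s) = a • PsiD f hU hV e s := by
  letI := algUV f e
  unfold PsiD
  rw [Psi_smul]
  rfl

set_option maxRecDepth 4000 in
/-- Sections of the sheaf of differentials over an affine open `U ≤ f⁻¹ V`, `V` affine, are the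
Kähler differentials of `Γ(X, U)` over `Γ(S, V)`. -/
noncomputable def omegaSections (hU : IsAffineOpen U) (hV : IsAffineOpen V) (e : U ≤ f ⁻¹ᵁ V) :
    letI := algUV f e
    Γ(Omega.sheaf f, U) ≃ₗ[Γ(X, U)] Ω[Γ(X, U)⁄Γ(S, V)] :=
  letI := algUV f e
  (appLinearEquiv ((Scheme.Modules.pullback (pullback.diagonal f)).mapIso
    (idealModIso (pullback.diagonal f).ker)) U).trans
  { toFun := fun s => PsiD f hU hV e s
    invFun := fun y => (PsiD f hU hV e).symm y
    map_add' := fun x y => map_add (PsiD f hU hV e) x y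
    map_smul' := fun a x => PsiD_smul f hU hV e a x
    left_inv := fun x => (PsiD f hU hV e).symm_apply_apply x
    right_inv := fun y => (PsiD f hU hV e).apply_symm_apply y }

end Main

end Groth.Agent.Helper18.OmegaSec
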