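import Mathlib
import Groth.Agent.Lib.Helper18.OmegaSec
import Groth.Agent.Lib.Helper13.QCohLoc

set_option autoImplicit false
set_option linter.style.haveILetI false
universe u
open CategoryTheory CategoryTheory.Limits AlgebraicGeometry TensorProduct TopologicalSpace
open Groth.Agent.Helper13.EffCartier Groth.Agent.Helper13.Pullback Groth.Agent.Helper13.QCohLoc

namespace Groth.Agent.Helper18.OmegaSec

variable {X S : Scheme.{u}} (f : X ⟶ S)

instance isQuasicoherent_omega : (Omega.sheaf f).IsQuasicoherent := by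
  haveI : ((Scheme.Modules.pullback (pullback.diagonal f)).obj
      (K (pullback.diagonal f).ker)).IsQuasicoherent :=
    isQuasicoherent_pullback (pullback.diagonal f) (K (pullback.diagonal f).ker)
  exact (SheafOfModules.isQuasicoherent X.ringCatSheaf).prop_of_iso
    ((Scheme.Modules.pullback (pullback.diagonal f)).mapIso
      (idealModIso (pullback.diagonal f).ker)).symm inferInstance

variable [QuasiSeparated f]

/-- The stalk of `Ω` vanishes iff the stalk is formally unramified over sections on an affine. -/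
theorem subsingleton_stalk_iff {U : X.Opens} {V : S.Opens} (hU : IsAffineOpen U)
    (hV : IsAffineOpen V) (e : U ≤ f ⁻¹ᵁ V) (x : U) :
    letI := algUV f e
    letI : Algebra Γ(S, V) (X.presheaf.stalk (x : X)) :=
      ((algebraMap Γ(X, U) (X.presheaf.stalk (x : X))).comp (algebraMap Γ(S, V) Γ(X, U))).toAlgebra
    Subsingleton ((Omega.sheaf f).presheaf.stalk (x : X)) ↔
      Algebra.FormallyUnramified Γ(S, V) (X.presheaf.stalk (x : X)) := by
  letI := algUV f e
  letI : Algebra Γ(S, V) (X.presheaf.stalk (x : X)) :=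
    ((algebraMap Γ(X, U) (X.presheaf.stalk (x : X))).comp (algebraMap Γ(S, V) Γ(X, U))).toAlgebra
  haveI : IsScalarTower Γ(S, V) Γ(X, U) (X.presheaf.stalk (x : X)) :=
    IsScalarTower.of_algebraMap_eq (fun _ => rfl)
  letI := modStalk (Omega.sheaf f) x
  haveI := isScalarTower_stalk (Omega.sheaf f) x
  haveI hloc := hU.isLocalization_stalk x
  have h1 : IsLocalizedModule (hU.primeIdealOf x).asIdeal.primeCompl
      (germLin (Omega.sheaf f) x) := isLocalizedModule_germ (Omega.sheaf f) hU x
  have h2 : IsLocalizedModule (hU.primeIdealOf x).asIdeal.primeCompl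
      ((germLin (Omega.sheaf f) x).comp (omegaSections f hU hV e).symm.toLinearMap) :=
    IsLocalizedModule.of_linearEquiv_right _ _ _
  have h3 : IsLocalizedModule (hU.primeIdealOf x).asIdeal.primeCompl
      (KaehlerDifferential.map Γ(S, V) Γ(S, V) Γ(X, U) (X.presheaf.stalk (x : X))) :=
    KaehlerDifferential.isLocalizedModule_map _ _ _ _
  rw [Algebra.formallyUnramified_iff]
  exact (IsLocalizedModule.linearEquiv (hU.primeIdealOf x).asIdeal.primeCompl
    ((germLin (Omega.sheaf f) x).comp (omegaSections f hU hV e).symm.toLinearMap)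
    (KaehlerDifferential.map Γ(S, V) Γ(S, V) Γ(X, U) (X.presheaf.stalk (x : X)))).toEquiv.subsingleton_congr

/-- restated with explicit instances -/
theorem subsingleton_stalk_iff' {U : X.Opens} {V : S.Opens} (hU : IsAffineOpen U)
    (hV : IsAffineOpen V) (e : U ≤ f ⁻¹ᵁ V) (x : X) (hxU : x ∈ U) :
    Subsingleton ((Omega.sheaf f).presheaf.stalk x) ↔
      @Algebra.FormallyUnramified Γ(S, V) (X.presheaf.stalk x) _ _
        ((X.presheaf.germ U x hxU).hom.comp (f.appLE V U e).hom).toAlgebra :=
  subsingleton_stalk_iff f hU hV e ⟨x, hxU⟩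

omit [QuasiSeparated f] in
theorem residueField_algebra_eq (x : X) :
    letI : Algebra (S.presheaf.stalk (f x)) (X.presheaf.stalk x) := (f.stalkMap x).hom.toAlgebra
    haveI : IsLocalHom (algebraMap (S.presheaf.stalk (f x)) (X.presheaf.stalk x)) :=
      (inferInstance : IsLocalHom (f.stalkMap x).hom)
    (inferInstance : Algebra (IsLocalRing.ResidueField (S.presheaf.stalk (f x)))
      (IsLocalRing.ResidueField (X.presheaf.stalk x))) = (f.residueFieldMap x).hom.toAlgebra := by
  letI : Algebra (S.presheaf.stalk (f x)) (X.presheaf.stalk x) := (f.stalkMap x).hom.toAlgebra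
  haveI : IsLocalHom (algebraMap (S.presheaf.stalk (f x)) (X.presheaf.stalk x)) :=
    (inferInstance : IsLocalHom (f.stalkMap x).hom)
  apply Algebra.algebra_ext
  intro r
  obtain ⟨r, rfl⟩ := IsLocalRing.residue_surjective r
  rfl

theorem stalk_crit [LocallyOfFiniteType f] (x : X) :
    Subsingleton ((Omega.sheaf f).presheaf.stalk x) ↔
      ((IsLocalRing.maximalIdeal (S.presheaf.stalk (f x))).map (f.stalkMap x).hom =
          IsLocalRing.maximalIdeal (X.presheaf.stalk x) ∧
        (f.residueFieldMap x).hom.Finite ∧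
        @Algebra.IsSeparable (S.residueField (f x)) (X.residueField x) _ _
          (f.residueFieldMap x).hom.toAlgebra) := by
  obtain ⟨_, ⟨V, hV, rfl⟩, hxV, -⟩ :=
    S.isBasis_affineOpens.exists_subset_of_mem_open (Set.mem_univ (f x)) isOpen_univ
  obtain ⟨_, ⟨U, hU, rfl⟩, hxU, hUV⟩ :=
    X.isBasis_affineOpens.exists_subset_of_mem_open
      (show x ∈ ((f ⁻¹ᵁ V : X.Opens) : Set X) from hxV) (f ⁻¹ᵁ V).2
  have e : U ≤ f ⁻¹ᵁ V := hUV
  rw [subsingleton_stalk_iff' f hU hV e x hxU]
  letI iAOx : Algebra Γ(S, V) (X.presheaf.stalk x) :=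
    ((X.presheaf.germ U x hxU).hom.comp (f.appLE V U e).hom).toAlgebra
  letI iOsOx : Algebra (S.presheaf.stalk (f x)) (X.presheaf.stalk x) := (f.stalkMap x).hom.toAlgebra
  letI iAOs : Algebra Γ(S, V) (S.presheaf.stalk (f x)) := (S.presheaf.germ V (f x) hxV).hom.toAlgebra
  haveI : IsScalarTower Γ(S, V) (S.presheaf.stalk (f x)) (X.presheaf.stalk x) := by
    refine IsScalarTower.of_algebraMap_eq (fun a => ?_)
    change X.presheaf.germ U x hxU (f.appLE V U e a) = f.stalkMap x (S.presheaf.germ V (f x) hxV a)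
    erw [Scheme.Hom.germ_stalkMap_apply]
    simp only [Scheme.Hom.appLE, CommRingCat.comp_apply]
    exact TopCat.Presheaf.germ_res_apply X.presheaf _ x hxU _
  haveI hlocS : IsLocalization.AtPrime (S.presheaf.stalk (f x))
      (hV.primeIdealOf ⟨f x, hxV⟩).asIdeal := hV.isLocalization_stalk ⟨f x, hxV⟩
  haveI : Algebra.FormallyUnramified Γ(S, V) (S.presheaf.stalk (f x)) :=
    Algebra.FormallyUnramified.of_isLocalization (hV.primeIdealOf ⟨f x, hxV⟩).asIdeal.primeCompl
  have hiff : Algebra.FormallyUnramified Γ(S, V) (X.presheaf.stalk x) ↔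
      Algebra.FormallyUnramified (S.presheaf.stalk (f x)) (X.presheaf.stalk x) :=
    ⟨fun _ => .of_restrictScalars Γ(S, V) _ _, fun _ => .comp _ (S.presheaf.stalk (f x)) _⟩
  rw [hiff]
  haveI : IsLocalHom (algebraMap (S.presheaf.stalk (f x)) (X.presheaf.stalk x)) :=
    (inferInstance : IsLocalHom (f.stalkMap x).hom)
  haveI : Algebra.EssFiniteType (S.presheaf.stalk (f x)) (X.presheaf.stalk x) :=
    LocallyOfFiniteType.stalkMap f x
  have hAlg := residueField_algebra_eq f x
  constructor
  · intro h
    have h1 := (Algebra.FormallyUnramified.iff_map_maximalIdeal_eq).1 h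
    refine ⟨h1.2, ?_, ?_⟩
    · have : Module.Finite (IsLocalRing.ResidueField (S.presheaf.stalk (f x)))
        (IsLocalRing.ResidueField (X.presheaf.stalk x)) := inferInstance
      rw [RingHom.Finite, ← hAlg]
      exact this
    · rw [← hAlg]
      exact h1.1
  · rintro ⟨hm, -, hsep⟩
    rw [← hAlg] at hsep
    exact (Algebra.FormallyUnramified.iff_map_maximalIdeal_eq).2 ⟨hsep, hm⟩

end Groth.Agent.Helper18.OmegaSec
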