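import Mathlib
import Groth.Agent.Lib.Helper18.OmegaStalk
import Groth.Agent.Lib.Helper13.FittSheaf

set_option autoImplicit false
set_option linter.style.haveILetI false
universe u
open CategoryTheory CategoryTheory.Limits AlgebraicGeometry TensorProduct TopologicalSpace
open Groth.Agent.Helper13.EffCartier Groth.Agent.Helper13.Pullback Groth.Agent.Helper13.QCohLoc

namespace Groth.Agent.Helper18.OmegaSec

/-- the zeroth Fitting ideal is the unit ideal iff the module vanishes. -/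
theorem fitt_zero_eq_top_iff {R : Type*} [CommRing R] {M : Type*} [AddCommGroup M] [Module R M] :
    Fitt.ideal R M 0 = ⊤ ↔ Subsingleton M := by
  constructor
  · intro h
    have h1 : (1 : R) ∈ Module.annihilator R M := by
      apply Groth.Agent.Lib.Helper10.Fitting.fitt_zero_le_annihilator
      rw [h]; trivial
    rw [Module.mem_annihilator] at h1
    refine ⟨fun a b => ?_⟩
    rw [← one_smul R a, ← one_smul R b, h1 a, h1 b]
  · intro h
    rw [Ideal.eq_top_iff_one]
    refine Ideal.subset_span ⟨0, Fin.elim0, 1, ?_, ?_, by simp⟩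
    · exact Subsingleton.elim _ _
    · intro i; exact i.elim0

variable {X S : Scheme.{u}} (f : X ⟶ S) [QuasiSeparated f]

/-- The stalk of `Ω` at `x` vanishes iff the stalk map at `x` is formally unramified. -/
theorem subsingleton_stalk_iff_stalkMap (x : X) :
    Subsingleton ((Omega.sheaf f).presheaf.stalk x) ↔ (f.stalkMap x).hom.FormallyUnramified := by
  obtain ⟨_, ⟨V, hV, rfl⟩, hxV, -⟩ :=
    S.isBasis_affineOpens.exists_subset_of_mem_open (Set.mem_univ (f x)) isOpen_univ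
  obtain ⟨_, ⟨U, hU, rfl⟩, hxU, hUV⟩ :=
    X.isBasis_affineOpens.exists_subset_of_mem_open
      (show x ∈ ((f ⁻¹ᵁ V : X.Opens) : Set X) from hxV) (f ⁻¹ᵁ V).2
  have e : U ≤ f ⁻¹ᵁ V := hUV
  rw [subsingleton_stalk_iff' f hU hV e x hxU]
  letI iAOx : Algebra Γ(S, V) (X.presheaf.stalk x) :=
    ((X.presheaf.germ U x hxU).hom.comp (f.appLE V U e).hom).toAlgebra
  letI iOsOx : Algebra (S.presheaf.stalk (f x)) (X.presheaf.stalk x) := (f.stalkMap x).hom.toAlgebra
  letI iAOs : Algebra Γ(S, V) (S.presheaf.stalk (f x)) := (S.presheaf.germ V (f x) hxV).hom.toAlgebra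
  haveI : IsScalarTower Γ(S, V) (S.presheaf.stalk (f x)) (X.presheaf.stalk x) := by
    refine IsScalarTower.of_algebraMap_eq (fun a => ?_)
    change X.presheaf.germ U x hxU (f.appLE V U e a) = f.stalkMap x (S.presheaf.germ V (f x) hxV a)
    erw [Scheme.Hom.germ_stalkMap_apply]
    simp only [Scheme.Hom.appLE, CommRingCat.comp_apply]
    exact TopCat.Presheaf.germ_res_apply X.presheaf _ x hxU _
  haveI hlocS : IsLocalization.AtPrime (S.presheaf.stalk (f x))
      (hV.primeIdealOf ⟨f x, hxV⟩).asIdeal := hV.isLocalization_stalk ⟨f x, hxV⟩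
  haveI : Algebra.FormallyUnramified Γ(S, V) (S.presheaf.stalk (f x)) :=
    Algebra.FormallyUnramified.of_isLocalization (hV.primeIdealOf ⟨f x, hxV⟩).asIdeal.primeCompl
  have hiff : Algebra.FormallyUnramified Γ(S, V) (X.presheaf.stalk x) ↔
      Algebra.FormallyUnramified (S.presheaf.stalk (f x)) (X.presheaf.stalk x) :=
    ⟨fun _ => .of_restrictScalars Γ(S, V) _ _, fun _ => .comp _ (S.presheaf.stalk (f x)) _⟩
  exact hiff

instance isFiniteType_omega [LocallyOfFiniteType f] :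
    SheafOfModules.IsFiniteType (R := X.ringCatSheaf) (Omega.sheaf f) := by
  apply Groth.Agent.Helper13.FinType.isFiniteType_of_finite_sections
  intro x
  obtain ⟨_, ⟨V, hV, rfl⟩, hxV, -⟩ :=
    S.isBasis_affineOpens.exists_subset_of_mem_open (Set.mem_univ (f x)) isOpen_univ
  obtain ⟨_, ⟨U, hU, rfl⟩, hxU, hUV⟩ :=
    X.isBasis_affineOpens.exists_subset_of_mem_open
      (show x ∈ ((f ⁻¹ᵁ V : X.Opens) : Set X) from hxV) (f ⁻¹ᵁ V).2
  have e : U ≤ f ⁻¹ᵁ V := hUV
  refine ⟨U, hxU, hU, ?_⟩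
  letI := algUV f e
  haveI : Algebra.FiniteType Γ(S, V) Γ(X, U) := f.finiteType_appLE hV hU e
  exact Module.Finite.equiv (omegaSections f hU hV e).symm

end Groth.Agent.Helper18.OmegaSec

namespace Groth.Agent.Helper18.OmegaSec

open Groth.Agent.Helper13.FinType

lemma mem_basicOpen_iff_notMem_primeIdealOf {X : Scheme.{u}} {U : X.Opens} (hU : IsAffineOpen U)
    (x : X) (hxU : x ∈ U) (c : Γ(X, U)) :
    x ∈ X.basicOpen c ↔ c ∉ (hU.primeIdealOf ⟨x, hxU⟩).asIdeal := by
  have h1 : hU.fromSpec (hU.primeIdealOf ⟨x, hxU⟩) = x := hU.fromSpec_primeIdealOf ⟨x, hxU⟩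
  have h2 : (hU.primeIdealOf ⟨x, hxU⟩ ∈ hU.fromSpec ⁻¹ᵁ X.basicOpen c) ↔ x ∈ X.basicOpen c := by
    change hU.fromSpec (hU.primeIdealOf ⟨x, hxU⟩) ∈ X.basicOpen c ↔ _
    rw [h1]
  rw [← h2, hU.fromSpec_preimage_basicOpen]
  rfl

/-- vanishing of the stalk of a quasi-coherent module of finite type is an open condition. -/
theorem exists_open_subsingleton_stalk {X : Scheme.{u}} (F : X.Modules) [F.IsQuasicoherent]
    [SheafOfModules.IsFiniteType (R := X.ringCatSheaf) F] (x : X)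
    (hx : Subsingleton (F.presheaf.stalk x)) :
    ∃ U : X.Opens, x ∈ U ∧ ∀ y ∈ U, Subsingleton (F.presheaf.stalk y) := by
  obtain ⟨_, ⟨U, hU, rfl⟩, hxU, -⟩ :=
    X.isBasis_affineOpens.exists_subset_of_mem_open (Set.mem_univ x) isOpen_univ
  haveI : Module.Finite Γ(X, U) Γ(F, U) := finite_sections_of_isFiniteType F hU
  letI := modStalk F ⟨x, hxU⟩
  haveI := isLocalizedModule_germ F hU ⟨x, hxU⟩
  obtain ⟨g, hg, hsub⟩ := IsLocalizedModule.exists_subsingleton_away (germLin F ⟨x, hxU⟩)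
    (hU.primeIdealOf ⟨x, hxU⟩).asIdeal
  refine ⟨X.basicOpen g, (mem_basicOpen_iff_notMem_primeIdealOf hU x hxU g).2 hg, ?_⟩
  intro y hy
  have hyU : y ∈ U := X.basicOpen_le g hy
  letI := modStalk F ⟨y, hyU⟩
  haveI hloc := isLocalizedModule_germ F hU ⟨y, hyU⟩
  have hgy : g ∈ (hU.primeIdealOf ⟨y, hyU⟩).asIdeal.primeCompl :=
    (mem_basicOpen_iff_notMem_primeIdealOf hU y hyU g).1 hy
  have key : ∀ t : F.presheaf.stalk y, t = 0 := by
    intro t
    obtain ⟨⟨m, s⟩, hms⟩ := IsLocalizedModule.surj (hU.primeIdealOf ⟨y, hyU⟩).asIdeal.primeCompl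
      (germLin F ⟨y, hyU⟩) t
    have hm0 : germLin F ⟨y, hyU⟩ m = 0 := by
      rw [IsLocalizedModule.eq_zero_iff (hU.primeIdealOf ⟨y, hyU⟩).asIdeal.primeCompl]
      have h0 : LocalizedModule.mkLinearMap (Submonoid.powers g) Γ(F, U) m = 0 := hsub.elim _ _
      rw [IsLocalizedModule.eq_zero_iff (Submonoid.powers g)] at h0
      obtain ⟨c, hc⟩ := h0
      obtain ⟨k, hk⟩ := c.2
      refine ⟨⟨c.1, ?_⟩, hc⟩
      rw [← hk]
      exact Submonoid.pow_mem _ hgy k
    rw [hm0] at hms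
    exact ((IsLocalizedModule.smul_inj (germLin F ⟨y, hyU⟩) s t 0).1 (by rw [hms, smul_zero]))
  exact ⟨fun a b => by rw [key a, key b]⟩

end Groth.Agent.Helper18.OmegaSec

namespace Groth.Agent.Helper18.OmegaSec

variable {X S : Scheme.{u}} (f : X ⟶ S)

/-- the stalk map of `U.ι ≫ f` is formally unramified iff that of `f` is. -/
theorem stalkMap_ι_comp_iff (U : X.Opens) (y : (U : Scheme.{u})) :
    ((U.ι ≫ f).stalkMap y).hom.FormallyUnramified ↔
      (f.stalkMap (U.ι y)).hom.FormallyUnramified := by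
  have h := Scheme.Hom.stalkMap_comp U.ι f y
  have h2 := RingHom.FormallyUnramified.respectsIso.cancel_right_isIso
    (f.stalkMap (U.ι y)) (U.ι.stalkMap y)
  rw [← h2]
  exact Iff.of_eq (congrArg (fun φ => RingHom.FormallyUnramified (CommRingCat.Hom.hom φ)) h)

variable [QuasiSeparated f]

/-- A point has an open neighbourhood on which `f` is formally unramified iff `Ω_{f,x} = 0`. -/
theorem subsingleton_stalk_iff_exists_open [LocallyOfFiniteType f] (x : X) :
    Subsingleton ((Omega.sheaf f).presheaf.stalk x) ↔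
      ∃ U : X.Opens, x ∈ U ∧ FormallyUnramified (U.ι ≫ f) := by
  constructor
  · intro hx
    obtain ⟨U, hxU, hU⟩ := exists_open_subsingleton_stalk (Omega.sheaf f) x hx
    refine ⟨U, hxU, ?_⟩
    refine HasRingHomProperty.of_stalkMap (P := @FormallyUnramified)
      RingHom.FormallyUnramified.ofLocalizationPrime (fun y => ?_)
    refine (stalkMap_ι_comp_iff f U y).2 ?_
    rw [← subsingleton_stalk_iff_stalkMap]
    exact hU (U.ι y) y.2
  · rintro ⟨U, hxU, hU⟩
    rw [subsingleton_stalk_iff_stalkMap]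
    have h1 := FormallyUnramified.stalkMap (U.ι ≫ f) (⟨x, hxU⟩ : (U : Scheme.{u}))
    exact (stalkMap_ι_comp_iff f U (⟨x, hxU⟩ : (U : Scheme.{u}))).1 h1

/-- the support of `Fitt_0(Ω_f)` is the ramification locus. -/
theorem mem_support_fitt_zero_iff [LocallyOfFiniteType f] (x : X) :
    x ∈ (Fitt.sheafIdeal (Omega.sheaf f) 0).support ↔
      ¬ ∃ U : X.Opens, x ∈ U ∧ FormallyUnramified (U.ι ≫ f) := by
  rw [← subsingleton_stalk_iff_exists_open,
    ← fitt_zero_eq_top_iff (R := X.presheaf.stalk x),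
    ← Groth.Agent.Helper13.FittSheaf.notMem_support_iff, not_not]

end Groth.Agent.Helper18.OmegaSec
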