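import Mathlib
import Groth.Agent.Lib.Helper18.ConormalImm
import Groth.Agent.Lib.Helper18.OmegaStalk
import Groth.Agent.Lib.Helper18.OmegaFitt

set_option autoImplicit false
set_option linter.style.haveILetI false
set_option linter.unusedSectionVars false
universe u
open CategoryTheory CategoryTheory.Limits AlgebraicGeometry TensorProduct TopologicalSpace
open Groth.Agent.Helper13.EffCartier Groth.Agent.Helper13.Pullback Groth.Agent.Helper13.LocFree
open Groth.Agent.Helper13.QCohLoc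
open Groth.Agent.Helper18.OmegaSec Groth.Agent.Helper18.OmegaSpec

namespace Groth.Agent.Helper18.ConormalImm

section A
variable {Y X : Scheme.{u}} (j : Y ⟶ X)

set_option backward.isDefEq.respectTransparency false in
/-- restricted to an affine where sections are bijective, `j` is an open immersion -/
theorem isOpenImmersion_of_bijective {U : X.Opens} (hU : IsAffineOpen U)
    (hU' : IsAffineOpen (j ⁻¹ᵁ U)) (hb : Function.Bijective (j.app U)) :
    IsOpenImmersion ((j ⁻¹ᵁ U).ι ≫ j) := by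
  haveI : IsAffine (U : Scheme.{u}) := hU
  haveI : IsAffine ((j ⁻¹ᵁ U : Y.Opens) : Scheme.{u}) := hU'
  have h1 : IsIso (j.app U) := (ConcreteCategory.isIso_iff_bijective _).2 hb
  have key : ∀ (U' : X.Opens), U' = U → IsIso (j.app U') := by
    rintro U' rfl
    exact h1
  have h2 : IsIso ((j ∣_ U).appTop) := by
    change IsIso ((j ∣_ U).app ⊤)
    rw [morphismRestrict_app]
    have := key (U.ι ''ᵁ ⊤) (by simp)
    exact IsIso.comp_isIso
  have h3 : IsIso (j ∣_ U) :=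
    (HasAffineProperty.iff_of_isAffine (P := MorphismProperty.isomorphisms Scheme.{u})).2
      ⟨inferInstance, h2⟩
  rw [← morphismRestrict_ι]
  infer_instance

end A
section B
variable {Y : Scheme.{u}} (F : Y.Modules) [F.IsQuasicoherent] {W : Y.Opens}

theorem subsingleton_stalk_of_sections (hW : IsAffineOpen W) (y : Y) (hy : y ∈ W)
    (h : Subsingleton Γ(F, W)) : Subsingleton (F.presheaf.stalk y) := by
  letI := modStalk F ⟨y, hy⟩
  haveI hloc := isLocalizedModule_germ F hW ⟨y, hy⟩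
  have key : ∀ t : F.presheaf.stalk y, t = 0 := by
    intro t
    obtain ⟨⟨m, s⟩, hms⟩ := IsLocalizedModule.surj (hW.primeIdealOf ⟨y, hy⟩).asIdeal.primeCompl
      (germLin F ⟨y, hy⟩) t
    have hm0 : m = 0 := Subsingleton.elim _ _
    rw [hm0, map_zero] at hms
    exact ((IsLocalizedModule.smul_inj (germLin F ⟨y, hy⟩) s t 0).1 (by rw [hms, smul_zero]))
  exact ⟨fun a b => by rw [key a, key b]⟩

theorem exists_basicOpen_subsingleton (hW : IsAffineOpen W) (y : Y) (hy : y ∈ W)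
    [Module.Finite Γ(Y, W) Γ(F, W)]
    (h : Subsingleton (F.presheaf.stalk y)) :
    ∃ b : Γ(Y, W), y ∈ Y.basicOpen b ∧ Subsingleton Γ(F, Y.basicOpen b) := by
  letI := modStalk F ⟨y, hy⟩
  haveI := isLocalizedModule_germ F hW ⟨y, hy⟩
  obtain ⟨g, hg, hsub⟩ := IsLocalizedModule.exists_subsingleton_away (germLin F ⟨y, hy⟩)
    (hW.primeIdealOf ⟨y, hy⟩).asIdeal
  refine ⟨g, (Groth.Agent.Helper18.OmegaSec.mem_basicOpen_iff_notMem_primeIdealOf hW y hy g).2 hg, ?_⟩
  letI := modBasicOpen F g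
  haveI := isLocalizedModule_basicOpen F hW g
  exact (IsLocalizedModule.iso (Submonoid.powers g) (resBasicOpen F g)).symm.toEquiv.subsingleton

end B
section C
variable {Y X : Scheme.{u}} (j : Y ⟶ X) [IsImmersion j] [QuasiCompact j]

instance isQuasicoherent_conormal : (Omega.conormal j).IsQuasicoherent := by
  haveI : ((Scheme.Modules.pullback j).obj (K j.ker)).IsQuasicoherent :=
    isQuasicoherent_pullback j (K j.ker)
  exact (SheafOfModules.isQuasicoherent Y.ringCatSheaf).prop_of_iso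
    ((Scheme.Modules.pullback j).mapIso (idealModIso j.ker)).symm inferInstance

/-- sections of the conormal sheaf -/
noncomputable def conSec {V : X.Opens} (hV : IsAffineOpen V) (hle : V ≤ j.coborderRange) :
    letI := algLE j (le_refl (j ⁻¹ᵁ V))
    Γ(Omega.conormal j, j ⁻¹ᵁ V) ≃ₗ[Γ(Y, j ⁻¹ᵁ V)]
      Γ(Y, j ⁻¹ᵁ V) ⊗[Γ(X, V)] (RingHom.ker (algebraMap Γ(X, V) Γ(Y, j ⁻¹ᵁ V))) :=
  letI := algLE j (le_refl (j ⁻¹ᵁ V))
  (appLinearEquiv ((Scheme.Modules.pullback j).mapIso (idealModIso j.ker)) (j ⁻¹ᵁ V)).trans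
   ((secPull j (isAffineOpen_preimage j hV hle) hV le_rfl).trans (secMid j hV le_rfl rfl))

theorem algebraMap_eq_app {V : X.Opens} (a : Γ(X, V)) :
    letI := algLE j (le_refl (j ⁻¹ᵁ V))
    algebraMap Γ(X, V) Γ(Y, j ⁻¹ᵁ V) a = j.app V a := by
  letI := algLE j (le_refl (j ⁻¹ᵁ V))
  rw [algebraMap_algLE, Scheme.Hom.appLE_eq_app]

theorem subsingleton_sections_of_injective {V : X.Opens} (hV : IsAffineOpen V)
    (hle : V ≤ j.coborderRange) (hinj : Function.Injective (j.app V)) :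
    Subsingleton Γ(Omega.conormal j, j ⁻¹ᵁ V) := by
  letI := algLE j (le_refl (j ⁻¹ᵁ V))
  have h0 : ∀ x : RingHom.ker (algebraMap Γ(X, V) Γ(Y, j ⁻¹ᵁ V)), x = 0 := by
    rintro ⟨x, hx⟩
    apply Subtype.ext
    rw [RingHom.mem_ker, algebraMap_eq_app] at hx
    exact hinj (hx.trans (map_zero _).symm)
  have h1 : ∀ t : Γ(Y, j ⁻¹ᵁ V) ⊗[Γ(X, V)] (RingHom.ker (algebraMap Γ(X, V) Γ(Y, j ⁻¹ᵁ V))),
      t = 0 := by
    intro t
    induction t using TensorProduct.induction_on with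
    | zero => rfl
    | tmul b x => rw [h0 x, TensorProduct.tmul_zero]
    | add a b ha hb => rw [ha, hb, add_zero]
  haveI : Subsingleton
      (Γ(Y, j ⁻¹ᵁ V) ⊗[Γ(X, V)] (RingHom.ker (algebraMap Γ(X, V) Γ(Y, j ⁻¹ᵁ V)))) :=
    ⟨fun a b => by rw [h1 a, h1 b]⟩
  exact (conSec j hV hle).toEquiv.subsingleton

theorem isIdempotentElem_ker_of_subsingleton {V : X.Opens} (hV : IsAffineOpen V)
    (hle : V ≤ j.coborderRange) (h : Subsingleton Γ(Omega.conormal j, j ⁻¹ᵁ V)) :
    IsIdempotentElem (RingHom.ker (j.app V).hom) := by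
  letI := algLE j (le_refl (j ⁻¹ᵁ V))
  have hsurj : Function.Surjective (algebraMap Γ(X, V) Γ(Y, j ⁻¹ᵁ V)) := by
    intro b
    obtain ⟨a, ha⟩ := app_surjective j hV hle b
    exact ⟨a, (algebraMap_eq_app j a).trans ha⟩
  have hk : RingHom.ker (algebraMap Γ(X, V) Γ(Y, j ⁻¹ᵁ V)) = RingHom.ker (j.app V).hom := by
    ext a
    rw [RingHom.mem_ker, RingHom.mem_ker, algebraMap_eq_app]
  rw [← hk, ← Ideal.cotangent_subsingleton_iff]
  haveI : Subsingleton
      (Γ(Y, j ⁻¹ᵁ V) ⊗[Γ(X, V)] (RingHom.ker (algebraMap Γ(X, V) Γ(Y, j ⁻¹ᵁ V)))) :=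
    (conSec j hV hle).symm.toEquiv.subsingleton
  exact (tensorKerEquiv hsurj).symm.toEquiv.subsingleton

theorem ker_fg [LocallyOfFinitePresentation j] {V : X.Opens} (hV : IsAffineOpen V)
    (hle : V ≤ j.coborderRange) : (RingHom.ker (j.app V).hom).FG := by
  letI := algLE j (le_refl (j ⁻¹ᵁ V))
  haveI : Algebra.FinitePresentation Γ(X, V) Γ(Y, j ⁻¹ᵁ V) :=
    j.finitePresentation_appLE hV (isAffineOpen_preimage j hV hle) le_rfl
  have hsurj : Function.Surjective (Algebra.ofId Γ(X, V) Γ(Y, j ⁻¹ᵁ V)) := by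
    intro b
    obtain ⟨a, ha⟩ := app_surjective j hV hle b
    exact ⟨a, (algebraMap_eq_app j a).trans ha⟩
  have h1 := Algebra.FinitePresentation.ker_fG_of_surjective
    (Algebra.ofId Γ(X, V) Γ(Y, j ⁻¹ᵁ V)) hsurj
  have hk : RingHom.ker (Algebra.ofId Γ(X, V) Γ(Y, j ⁻¹ᵁ V)).toRingHom =
      RingHom.ker (j.app V).hom := by
    ext a
    rw [RingHom.mem_ker, RingHom.mem_ker]
    change algebraMap Γ(X, V) Γ(Y, j ⁻¹ᵁ V) a = 0 ↔ _
    rw [algebraMap_eq_app]
  rw [← hk]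
  exact h1

theorem finite_sections [LocallyOfFinitePresentation j] {V : X.Opens} (hV : IsAffineOpen V)
    (hle : V ≤ j.coborderRange) :
    Module.Finite Γ(Y, j ⁻¹ᵁ V) Γ(Omega.conormal j, j ⁻¹ᵁ V) := by
  letI := algLE j (le_refl (j ⁻¹ᵁ V))
  have hk : RingHom.ker (algebraMap Γ(X, V) Γ(Y, j ⁻¹ᵁ V)) = RingHom.ker (j.app V).hom := by
    ext a
    rw [RingHom.mem_ker, RingHom.mem_ker, algebraMap_eq_app]
  haveI : Module.Finite Γ(X, V) (RingHom.ker (algebraMap Γ(X, V) Γ(Y, j ⁻¹ᵁ V))) := by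
    rw [hk]
    exact Module.Finite.iff_fg.2 (ker_fg j hV hle)
  exact Module.Finite.equiv (conSec j hV hle).symm

end C
end Groth.Agent.Helper18.ConormalImm
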