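import Mathlib
import Groth.Agent.Lib.Helper18.ConormalImm2

set_option autoImplicit false
set_option linter.style.haveILetI false
set_option linter.unusedSectionVars false
universe u
open CategoryTheory CategoryTheory.Limits AlgebraicGeometry TensorProduct TopologicalSpace
open Groth.Agent.Helper13.EffCartier Groth.Agent.Helper13.Pullback Groth.Agent.Helper13.LocFree
open Groth.Agent.Helper13.QCohLoc
open Groth.Agent.Helper18.OmegaSec Groth.Agent.Helper18.OmegaSpec

namespace Groth.Agent.Helper18.ConormalImm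

variable {Y X : Scheme.{u}} (j : Y ⟶ X) [IsImmersion j] [QuasiCompact j]

theorem mem_coborderRange (y : Y) : j y ∈ j.coborderRange :=
  subset_coborder (Set.mem_range_self y)

/-- if `r` kills the kernel on `V`, then the kernel on `D(r)` vanishes. -/
theorem injective_app_basicOpen {V : X.Opens} (hV : IsAffineOpen V) (r : Γ(X, V))
    (hr : ∀ x ∈ RingHom.ker (j.app V).hom, r * x = 0) :
    Function.Injective (j.app (X.basicOpen r)) := by
  have h1 := j.ker.map_ideal (U := ⟨X.basicOpen r, hV.basicOpen r⟩) (V := ⟨V, hV⟩)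
    (X.basicOpen_le r)
  rw [Scheme.Hom.ker_apply, Scheme.Hom.ker_apply] at h1
  have hunit : IsUnit ((X.presheaf.map (homOfLE (X.basicOpen_le r)).op).hom r) :=
    RingedSpace.isUnit_res_basicOpen _ r
  have h2 : (RingHom.ker (j.app V).hom).map (X.presheaf.map (homOfLE (X.basicOpen_le r)).op).hom
      = ⊥ := by
    rw [eq_bot_iff, Ideal.map_le_iff_le_comap]
    intro x hx
    rw [Ideal.mem_comap, Ideal.mem_bot]
    have h3 := congrArg (X.presheaf.map (homOfLE (X.basicOpen_le r)).op).hom (hr x hx)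
    rw [map_mul, map_zero] at h3
    exact (hunit.mul_right_eq_zero).1 h3
  have h4 : RingHom.ker (j.app (X.basicOpen r)).hom = ⊥ := h1.symm.trans h2
  rw [injective_iff_map_eq_zero]
  intro a ha
  have : a ∈ RingHom.ker (j.app (X.basicOpen r)).hom := ha
  rw [h4] at this
  exact this

end Groth.Agent.Helper18.ConormalImm


namespace Groth.Agent.Helper18.ConormalImm

variable {Y X : Scheme.{u}} (j : Y ⟶ X) [IsImmersion j] [QuasiCompact j]

/-- from vanishing of conormal sections on `j⁻¹V`, get an affine `U ≤ V` with `j⁻¹U = j⁻¹V` and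
`j.app U` bijective. -/
theorem exists_bijective_of_subsingleton_sections [LocallyOfFinitePresentation j]
    {V : X.Opens} (hV : IsAffineOpen V) (hle : V ≤ j.coborderRange)
    (h : Subsingleton Γ(Omega.conormal j, j ⁻¹ᵁ V)) :
    ∃ U : X.Opens, U ≤ V ∧ IsAffineOpen U ∧ j ⁻¹ᵁ U = j ⁻¹ᵁ V ∧ Function.Bijective (j.app U) := by
  have hI := isIdempotentElem_ker_of_subsingleton j hV hle h
  have hfg := ker_fg j hV hle
  obtain ⟨r, hr1, hr2⟩ := Submodule.exists_sub_one_mem_and_smul_eq_zero_of_fg_of_le_smul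
    (RingHom.ker (j.app V).hom) (RingHom.ker (j.app V).hom) hfg (by
      rw [smul_eq_mul]
      exact hI.symm.le)
  have hUle : X.basicOpen r ≤ V := X.basicOpen_le r
  have hjr : j.app V r = 1 := by
    have h1 : (j.app V).hom (r - 1) = 0 := hr1
    rw [map_sub, map_one, sub_eq_zero] at h1
    exact h1
  refine ⟨X.basicOpen r, hUle, hV.basicOpen r, ?_, ?_, ?_⟩
  · rw [Scheme.preimage_basicOpen, hjr]
    exact Scheme.basicOpen_of_isUnit _ isUnit_one
  · exact injective_app_basicOpen j hV r (fun x hx => hr2 x hx)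
  · exact app_surjective j (hV.basicOpen r) (hUle.trans hle)

end Groth.Agent.Helper18.ConormalImm


namespace Groth.Agent.Helper18.ConormalImm

variable {Y X : Scheme.{u}} (j : Y ⟶ X) [IsImmersion j] [QuasiCompact j]

/-- (⇒) -/
theorem subsingleton_stalk_of_isOpenImmersion (y : Y) (Uo : Y.Opens) (hy : y ∈ Uo)
    [IsOpenImmersion (Uo.ι ≫ j)] :
    Subsingleton ((Omega.conormal j).presheaf.stalk y) := by
  have hyr : j y ∈ (Uo.ι ≫ j).opensRange := ⟨⟨y, hy⟩, rfl⟩
  obtain ⟨_, ⟨V, hV, rfl⟩, hyV, hVle⟩ :=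
    X.isBasis_affineOpens.exists_subset_of_mem_open
      (show j y ∈ ((j.coborderRange ⊓ (Uo.ι ≫ j).opensRange : X.Opens) : Set X) from
        ⟨mem_coborderRange j y, hyr⟩) (j.coborderRange ⊓ (Uo.ι ≫ j).opensRange).2
  have hle : V ≤ j.coborderRange := fun x hx => (hVle hx).1
  have hle2 : V ≤ (Uo.ι ≫ j).opensRange := fun x hx => (hVle hx).2
  have h1 : IsIso ((Uo.ι ≫ j).app V) := Scheme.Hom.isIso_app _ V hle2
  have h2 : Function.Injective ((Uo.ι ≫ j).app V) :=
    ((ConcreteCategory.isIso_iff_bijective _).1 h1).1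
  have hinj : Function.Injective (j.app V) := by
    intro a b hab
    apply h2
    rw [Scheme.Hom.comp_app]
    change (Uo.ι.app (j ⁻¹ᵁ V)) (j.app V a) = (Uo.ι.app (j ⁻¹ᵁ V)) (j.app V b)
    rw [hab]
  exact subsingleton_stalk_of_sections (Omega.conormal j) (isAffineOpen_preimage j hV hle) y hyV
    (subsingleton_sections_of_injective j hV hle hinj)

/-- (⇐) -/
theorem exists_isOpenImmersion_of_subsingleton_stalk [LocallyOfFinitePresentation j] (y : Y)
    (h : Subsingleton ((Omega.conormal j).presheaf.stalk y)) :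
    ∃ U : Y.Opens, y ∈ U ∧ IsOpenImmersion (U.ι ≫ j) := by
  obtain ⟨_, ⟨V, hV, rfl⟩, hyV, hVle⟩ :=
    X.isBasis_affineOpens.exists_subset_of_mem_open
      (show j y ∈ ((j.coborderRange : X.Opens) : Set X) from mem_coborderRange j y)
      j.coborderRange.2
  have hle : V ≤ j.coborderRange := hVle
  have hW := isAffineOpen_preimage j hV hle
  haveI := finite_sections j hV hle
  obtain ⟨b, hyb, hsub⟩ := exists_basicOpen_subsingleton (Omega.conormal j) hW y hyV h
  obtain ⟨a, rfl⟩ := app_surjective j hV hle b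
  have hVa : IsAffineOpen (X.basicOpen a) := hV.basicOpen a
  have hale : X.basicOpen a ≤ j.coborderRange := (X.basicOpen_le a).trans hle
  have hpre : j ⁻¹ᵁ (X.basicOpen a) = Y.basicOpen (j.app V a) := Scheme.preimage_basicOpen j a
  have hsub' : Subsingleton Γ(Omega.conormal j, j ⁻¹ᵁ (X.basicOpen a)) := by
    rw [hpre]
    exact hsub
  obtain ⟨U, hUle, hU, hUpre, hbij⟩ :=
    exists_bijective_of_subsingleton_sections j hVa hale hsub'
  refine ⟨j ⁻¹ᵁ U, ?_, ?_⟩
  · rw [hUpre, hpre]
    exact hyb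
  · exact isOpenImmersion_of_bijective j hU
      (isAffineOpen_preimage j hU (hUle.trans hale)) hbij

theorem conormal_stalk_iff [LocallyOfFinitePresentation j] (y : Y) :
    (∃ U : Y.Opens, y ∈ U ∧ IsOpenImmersion (U.ι ≫ j)) ↔
      Subsingleton ((Omega.conormal j).presheaf.stalk y) := by
  constructor
  · rintro ⟨U, hy, hU⟩
    exact subsingleton_stalk_of_isOpenImmersion j y U hy
  · exact exists_isOpenImmersion_of_subsingleton_stalk j y

end Groth.Agent.Helper18.ConormalImm

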