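import Mathlib
import Groth.Agent.Lib.Helper13.QCohLoc
import Groth.Agent.Lib.Helper13.LocFree
import Groth.Agent.Lib.Helper18.BasisCrit

set_option autoImplicit false
set_option linter.style.haveILetI false
universe u
open CategoryTheory CategoryTheory.Limits AlgebraicGeometry Opposite TopologicalSpace
open Groth.Agent.Helper13.QCoh Groth.Agent.Helper13.QCohLoc

namespace Groth.Agent.Helper18.QCBasic

variable {X : Scheme.{u}} {M N : X.Modules} [M.IsQuasicoherent] [N.IsQuasicoherent] (φ : M ⟶ N)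

/-- sections of a morphism as a linear map -/
noncomputable def appLin' (U : X.Opens) : Γ(M, U) →ₗ[Γ(X, U)] Γ(N, U) where
  toFun := φ.app U
  map_add' := map_add _
  map_smul' := Scheme.Modules.Hom.app_smul φ

/-- `φ` over `D(r)` is the localization of `φ` over `U`. -/
theorem app_basicOpen_eq_map {U : X.Opens} (hU : IsAffineOpen U) (r : Γ(X, U)) :
    letI := modBasicOpen M r
    letI := modBasicOpen N r
    haveI := isLocalizedModule_basicOpen M hU r
    haveI := isLocalizedModule_basicOpen N hU r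
    ∀ x : Γ(M, X.basicOpen r), φ.app (X.basicOpen r) x =
      IsLocalizedModule.map (Submonoid.powers r) (resBasicOpen M r) (resBasicOpen N r)
        (appLin' φ U) x := by
  letI := modBasicOpen M r
  letI := modBasicOpen N r
  haveI := isLocalizedModule_basicOpen M hU r
  haveI := isLocalizedModule_basicOpen N hU r
  let ψ : Γ(M, X.basicOpen r) →ₗ[Γ(X, U)] Γ(N, X.basicOpen r) :=
    { toFun := φ.app (X.basicOpen r)
      map_add' := map_add _
      map_smul' := fun a x => Scheme.Modules.Hom.app_smul φ _ x }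
  have h : ψ = IsLocalizedModule.map (Submonoid.powers r) (resBasicOpen M r) (resBasicOpen N r)
      (appLin' φ U) := by
    apply IsLocalizedModule.ext (Submonoid.powers r) (resBasicOpen M r)
      (IsLocalizedModule.map_units (resBasicOpen N r))
    rw [IsLocalizedModule.map_comp]
    ext t
    exact congr($(φ.mapPresheaf.naturality (homOfLE (X.basicOpen_le r)).op) t)
  intro x
  exact congrArg (fun L => L x) h

theorem injective_app_basicOpen {U : X.Opens} (hU : IsAffineOpen U) (r : Γ(X, U))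
    (h : Function.Injective (φ.app U)) : Function.Injective (φ.app (X.basicOpen r)) := by
  letI := modBasicOpen M r
  letI := modBasicOpen N r
  haveI := isLocalizedModule_basicOpen M hU r
  haveI := isLocalizedModule_basicOpen N hU r
  intro x y hxy
  rw [app_basicOpen_eq_map φ hU r, app_basicOpen_eq_map φ hU r] at hxy
  exact IsLocalizedModule.map_injective (Submonoid.powers r) (resBasicOpen M r) (resBasicOpen N r)
    (appLin' φ U) h hxy

theorem surjective_app_basicOpen {U : X.Opens} (hU : IsAffineOpen U) (r : Γ(X, U))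
    (h : Function.Surjective (φ.app U)) : Function.Surjective (φ.app (X.basicOpen r)) := by
  letI := modBasicOpen M r
  letI := modBasicOpen N r
  haveI := isLocalizedModule_basicOpen M hU r
  haveI := isLocalizedModule_basicOpen N hU r
  intro y
  obtain ⟨x, hx⟩ := IsLocalizedModule.map_surjective (Submonoid.powers r) (resBasicOpen M r)
    (resBasicOpen N r) (appLin' φ U) h y
  exact ⟨x, (app_basicOpen_eq_map φ hU r x).trans hx⟩

/-- the basic opens of the members of an affine open cover form a basis. -/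
theorem isBasis_basicOpen_cover (𝒰 : Set X.Opens) (hA : ∀ U ∈ 𝒰, IsAffineOpen U)
    (hcov : ∀ x : X, ∃ U ∈ 𝒰, x ∈ U) :
    Opens.IsBasis {D : X.Opens | ∃ U ∈ 𝒰, ∃ r : Γ(X, U), D = X.basicOpen r} := by
  rw [Opens.isBasis_iff_nbhd]
  intro W x hxW
  obtain ⟨U, hU𝒰, hxU⟩ := hcov x
  obtain ⟨r, hle, hxr⟩ := (hA U hU𝒰).exists_basicOpen_le (V := W ⊓ U) ⟨x, hxW, hxU⟩ hxU
  exact ⟨X.basicOpen r, ⟨U, hU𝒰, r, rfl⟩, hxr, hle.trans inf_le_left⟩

/-- a morphism of quasi-coherent modules bijective on the sections over an affine open cover is an iso -/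
theorem isIso_of_cover (𝒰 : Set X.Opens) (hA : ∀ U ∈ 𝒰, IsAffineOpen U)
    (hcov : ∀ x : X, ∃ U ∈ 𝒰, x ∈ U) (h : ∀ U ∈ 𝒰, Function.Bijective (φ.app U)) : IsIso φ := by
  apply Groth.Agent.Helper13.LocFree.isIso_of_app_bijective_of_isBasis φ
    (isBasis_basicOpen_cover 𝒰 hA hcov)
  rintro _ ⟨U, hU, r, rfl⟩
  exact ⟨injective_app_basicOpen φ (hA U hU) r (h U hU).1,
    surjective_app_basicOpen φ (hA U hU) r (h U hU).2⟩

theorem mono_of_cover (𝒰 : Set X.Opens) (hA : ∀ U ∈ 𝒰, IsAffineOpen U)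
    (hcov : ∀ x : X, ∃ U ∈ 𝒰, x ∈ U) (h : ∀ U ∈ 𝒰, Function.Injective (φ.app U)) : Mono φ := by
  apply Groth.Agent.Helper18.BasisCrit.mono_of_basis φ (isBasis_basicOpen_cover 𝒰 hA hcov)
  rintro _ ⟨U, hU, r, rfl⟩
  exact injective_app_basicOpen φ (hA U hU) r (h U hU)

theorem epi_of_cover (𝒰 : Set X.Opens) (hA : ∀ U ∈ 𝒰, IsAffineOpen U)
    (hcov : ∀ x : X, ∃ U ∈ 𝒰, x ∈ U) (h : ∀ U ∈ 𝒰, Function.Surjective (φ.app U)) : Epi φ := by
  apply Groth.Agent.Helper18.BasisCrit.epi_of_basis φ (isBasis_basicOpen_cover 𝒰 hA hcov)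
  rintro _ ⟨U, hU, r, rfl⟩
  exact surjective_app_basicOpen φ (hA U hU) r (h U hU)

end Groth.Agent.Helper18.QCBasic
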