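import Mathlib
import Groth.Agent.Lib.Helper18.QCBasic

set_option autoImplicit false
set_option linter.style.haveILetI false
universe u
open CategoryTheory CategoryTheory.Limits AlgebraicGeometry Opposite TopologicalSpace
open Groth.Agent.Helper13.QCoh Groth.Agent.Helper13.QCohLoc

namespace Groth.Agent.Helper18.QCBasic

variable {X : Scheme.{u}} (S : ShortComplex X.Modules) [S.X₁.IsQuasicoherent]
  [S.X₂.IsQuasicoherent] [S.X₃.IsQuasicoherent]

omit [S.X₁.IsQuasicoherent] [S.X₂.IsQuasicoherent] [S.X₃.IsQuasicoherent] in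
theorem zero_app (U : X.Opens) (n : Γ(S.X₁, U)) : S.g.app U (S.f.app U n) = 0 := by
  have h : (S.f ≫ S.g).app U n = 0 := by
    rw [S.zero]
    rfl
  exact h

/-- exactness on sections passes from an affine open to its basic opens -/
theorem exact_app_basicOpen {U : X.Opens} (hU : IsAffineOpen U) (r : Γ(X, U))
    (h : ∀ m : Γ(S.X₂, U), S.g.app U m = 0 → ∃ n : Γ(S.X₁, U), S.f.app U n = m)
    (m : Γ(S.X₂, X.basicOpen r)) (hm : S.g.app (X.basicOpen r) m = 0) :
    ∃ n : Γ(S.X₁, X.basicOpen r), S.f.app (X.basicOpen r) n = m := by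
  letI := modBasicOpen S.X₁ r
  letI := modBasicOpen S.X₂ r
  letI := modBasicOpen S.X₃ r
  haveI := isLocalizedModule_basicOpen S.X₁ hU r
  haveI := isLocalizedModule_basicOpen S.X₂ hU r
  haveI := isLocalizedModule_basicOpen S.X₃ hU r
  have hex : Function.Exact (appLin' S.f U) (appLin' S.g U) := by
    intro y
    constructor
    · intro hy
      obtain ⟨n, hn⟩ := h y hy
      exact ⟨n, hn⟩
    · rintro ⟨n, rfl⟩
      exact zero_app S U n
  have hex' := IsLocalizedModule.map_exact (Submonoid.powers r) (resBasicOpen S.X₁ r)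
    (resBasicOpen S.X₂ r) (resBasicOpen S.X₃ r) (appLin' S.f U) (appLin' S.g U) hex
  have h1 : IsLocalizedModule.map (Submonoid.powers r) (resBasicOpen S.X₂ r) (resBasicOpen S.X₃ r)
      (appLin' S.g U) m = 0 := by
    rw [← app_basicOpen_eq_map S.g hU r m]
    exact hm
  obtain ⟨n, hn⟩ := (hex' m).1 h1
  exact ⟨n, (app_basicOpen_eq_map S.f hU r n).trans hn⟩

/-- a complex of quasi-coherent modules exact on the sections over an affine open cover is exact -/
theorem exact_of_cover (𝒰 : Set X.Opens) (hA : ∀ U ∈ 𝒰, IsAffineOpen U)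
    (hcov : ∀ x : X, ∃ U ∈ 𝒰, x ∈ U)
    (h : ∀ U ∈ 𝒰, ∀ m : Γ(S.X₂, U), S.g.app U m = 0 → ∃ n : Γ(S.X₁, U), S.f.app U n = m) :
    S.Exact := by
  apply Groth.Agent.Helper18.BasisCrit.exact_of_basis S (isBasis_basicOpen_cover 𝒰 hA hcov)
  rintro _ ⟨U, hU, r, rfl⟩ m hm
  exact exact_app_basicOpen S (hA U hU) r (h U hU) m hm

end Groth.Agent.Helper18.QCBasic
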