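import Mathlib
import Groth.Agent.Lib.Helper18.QCBasic2

set_option autoImplicit false
set_option linter.style.haveILetI false
universe u
open CategoryTheory CategoryTheory.Limits AlgebraicGeometry Opposite TopologicalSpace
open Groth.Agent.Helper13.QCoh Groth.Agent.Helper13.QCohLoc

namespace Groth.Agent.Helper18.QCBasic

variable {X : Scheme.{u}}

/-- a morphism vanishing on sections over a basis is zero. -/
theorem eq_zero_of_basis {M N : X.Modules} (θ : M ⟶ N) {B : Set X.Opens} (hB : Opens.IsBasis B)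
    (h : ∀ V ∈ B, ∀ m : Γ(M, V), θ.app V m = 0) : θ = 0 := by
  apply Scheme.Modules.hom_ext
  intro W
  ext m
  change θ.app W m = 0
  apply TopCat.Presheaf.section_ext ⟨N.presheaf, N.isSheaf⟩ W _ 0
  intro x hx
  obtain ⟨V, hxV, hV, t, ht⟩ := TopCat.Presheaf.exists_mem_germ_eq_of_isBasis hB M.presheaf x
    (M.presheaf.germ W x hx m)
  have h1 : N.presheaf.germ W x hx (θ.app W m) = stalkMap θ x (M.presheaf.germ W x hx m) :=
    (stalkMap_germ θ x W hx m).symm
  change N.presheaf.germ W x hx (θ.app W m) = N.presheaf.germ W x hx 0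
  rw [h1, ← ht, stalkMap_germ, h V hV t, map_zero, map_zero]

/-- a morphism of quasi-coherent modules vanishing on the sections over an affine open cover is
zero. -/
theorem eq_zero_of_cover {M N : X.Modules} [M.IsQuasicoherent] [N.IsQuasicoherent] (θ : M ⟶ N)
    (𝒰 : Set X.Opens) (hA : ∀ U ∈ 𝒰, IsAffineOpen U)
    (hcov : ∀ x : X, ∃ U ∈ 𝒰, x ∈ U) (h : ∀ U ∈ 𝒰, ∀ m : Γ(M, U), θ.app U m = 0) : θ = 0 := by
  apply eq_zero_of_basis θ (isBasis_basicOpen_cover 𝒰 hA hcov)
  rintro _ ⟨U, hU, r, rfl⟩ m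
  letI := modBasicOpen M r
  letI := modBasicOpen N r
  haveI := isLocalizedModule_basicOpen M (hA U hU) r
  haveI := isLocalizedModule_basicOpen N (hA U hU) r
  rw [app_basicOpen_eq_map θ (hA U hU) r m]
  have h0 : appLin' θ U = 0 := by
    ext t
    exact h U hU t
  rw [h0]
  have : IsLocalizedModule.map (Submonoid.powers r) (resBasicOpen M r) (resBasicOpen N r)
      (0 : Γ(M, U) →ₗ[Γ(X, U)] Γ(N, U)) = 0 := by
    apply IsLocalizedModule.ext (Submonoid.powers r) (resBasicOpen M r)
      (IsLocalizedModule.map_units (resBasicOpen N r))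
    rw [IsLocalizedModule.map_comp]
    ext t
    simp
  rw [this]
  rfl

end Groth.Agent.Helper18.QCBasic
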