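import Mathlib
import Groth.Agent.Lib.Helper18.PbCompat3
import Groth.Agent.Lib.Helper18.OmegaSec
import Groth.Prelude.Def_Omega4

set_option autoImplicit false
set_option linter.style.haveILetI false
set_option linter.unusedSectionVars false
universe u
open CategoryTheory CategoryTheory.Limits AlgebraicGeometry TopologicalSpace Opposite TensorProduct
open Groth.Agent.Helper13.EffCartier Groth.Agent.Helper13.Pullback Groth.Agent.Helper13.LocFree

namespace Groth.Agent.Helper18.OmegaSec

open OmegaSh Groth.Agent.Helper18.PbCompat Groth.Agent.Helper18.OmegaSpec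

section

variable {X : Scheme.{u}} (I : X.IdealSheafData)

theorem fn_idealModIso {U : X.Opens} (k : Γ(ClSub.idealMod I, U)) :
    fn I ((idealModIso I).hom.app U k) = idealSect I U k := by
  have h : (idealModIso I).hom ≫ Groth.Agent.Helper13.VanishIdeal.idealι I.subschemeι =
      ClSub.idealModι I := by
    unfold idealModIso ClSub.idealModι Groth.Agent.Helper13.VanishIdeal.idealι
    exact kernelIsoOfEq_hom_comp_ι _
  have h2 := congr($(congrArg (fun φ => Scheme.Modules.Hom.app φ U) h) k)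
  exact h2

end

end Groth.Agent.Helper18.OmegaSec

namespace Groth.Agent.Helper18.OmegaSec

open OmegaSh Groth.Agent.Helper18.PbCompat Groth.Agent.Helper18.OmegaSpec

section General

variable {Z P : Scheme.{u}} (i : Z ⟶ P) [QuasiCompact i]
  {W : Z.Opens} {V : P.Opens}

/-- `secPull` sends the class of a pulled back section to `1 ⊗ k`. -/
theorem secPull_pullSect (hW : IsAffineOpen W) (hV : IsAffineOpen V) (e : W ≤ i ⁻¹ᵁ V)
    (k : Γ(K i.ker, V)) :
    letI := algLE i e
    secPull i hW hV e (((Scheme.Modules.pullback i).obj (K i.ker)).presheaf.map (homOfLE e).op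
      (pullSect i (K i.ker) V k)) = (1 : Γ(Z, W)) ⊗ₜ[Γ(P, V)] k :=
  sectionsPullbackEquiv_pullSect i (K i.ker) hW hV e k

theorem secMid_tmul (hV : IsAffineOpen V) (e : W ≤ i ⁻¹ᵁ V) (hE : i ⁻¹ᵁ V = W)
    (b : Γ(Z, W)) (k : Γ(K i.ker, V)) :
    letI := algLE i e
    secMid i hV e hE (b ⊗ₜ[Γ(P, V)] k) =
      b ⊗ₜ[Γ(P, V)] (⟨fn i.ker k, fn_mem_ker i hV e hE k⟩ :
        RingHom.ker (algebraMap Γ(P, V) Γ(Z, W))) := by
  letI := algLE i e
  unfold secMid
  rw [TensorProduct.AlgebraTensorModule.congr_tmul]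
  rfl

end General

end Groth.Agent.Helper18.OmegaSec

namespace Groth.Agent.Helper18.OmegaSpec

variable {R A : Type u} [CommRing R] [CommRing A] [Algebra R A]
variable {B A' : Type u} [CommRing B] [CommRing A'] [Algebra B A']

theorem Phi_one_tmul (hsurj : Function.Surjective (algebraMap B A'))
    (β : B ≃+* A ⊗[R] A) (ψ : A' ≃+* A)
    (hcomp : ∀ b, ψ (algebraMap B A' b) = Algebra.TensorProduct.lmul' R (β b))
    (x : RingHom.ker (algebraMap B A')) :
    Phi hsurj β ψ hcomp ((1 : A') ⊗ₜ[B] x) =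
      (KaehlerDifferential.ideal R A).toCotangent
        ⟨β x, (ker_eq_comap β ψ hcomp).le x.2⟩ := by
  have h1 : tensorKerEquiv hsurj ((1 : A') ⊗ₜ[B] x) =
      (RingHom.ker (algebraMap B A')).toCotangent x := by
    have := tensorKerEquiv_tmul hsurj (1 : B) x
    rw [map_one, one_smul] at this
    exact this
  change cotEquiv β _ _ (ker_eq_comap β ψ hcomp) (tensorKerEquiv hsurj ((1 : A') ⊗ₜ[B] x)) = _
  rw [h1]
  rfl

end Groth.Agent.Helper18.OmegaSpec

namespace Groth.Agent.Helper18.OmegaSec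

open OmegaSh Groth.Agent.Helper18.PbCompat Groth.Agent.Helper18.OmegaSpec

section Main

variable {X S : Scheme.{u}} (f : X ⟶ S) [QuasiSeparated f] {U : X.Opens} {V : S.Opens}

theorem beta_fst (hU : IsAffineOpen U) (hV : IsAffineOpen V) (e : U ≤ f ⁻¹ᵁ V) (a : Γ(X, U)) :
    letI := algUV f e
    (betaIso f hU hV e).commRingCatIsoToRingEquiv
      ((pullback.fst f f).appLE U (WD f U) inf_le_left a) = a ⊗ₜ[Γ(S, V)] (1 : Γ(X, U)) := by
  letI := algUV f e
  have h := IsPushout.inl_isoIsPushout_hom _ _ (isPushout_WD f hU hV e)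
    (CommRingCat.isPushout_tensorProduct Γ(S, V) Γ(X, U) Γ(X, U))
  exact congr($h a)

theorem beta_snd (hU : IsAffineOpen U) (hV : IsAffineOpen V) (e : U ≤ f ⁻¹ᵁ V) (a : Γ(X, U)) :
    letI := algUV f e
    (betaIso f hU hV e).commRingCatIsoToRingEquiv
      ((pullback.snd f f).appLE U (WD f U) inf_le_right a) = (1 : Γ(X, U)) ⊗ₜ[Γ(S, V)] a := by
  letI := algUV f e
  have h := IsPushout.inr_isoIsPushout_hom _ _ (isPushout_WD f hU hV e)
    (CommRingCat.isPushout_tensorProduct Γ(S, V) Γ(X, U) Γ(X, U))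
  exact congr($h a)

end Main

end Groth.Agent.Helper18.OmegaSec
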