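import Mathlib

set_option autoImplicit false
set_option linter.style.haveILetI false
universe u

namespace Groth.Agent.Helper18.KDiffIso

open KaehlerDifferential

variable {A B A' B' : Type u} [CommRing A] [CommRing B] [CommRing A'] [CommRing B']
  [Algebra A B] [Algebra A' B']

/-- left inverse direction: a semilinear map compatible with `D` along ring isomorphisms is injective
and surjective. -/
theorem bijective_of_semilinear (σ : A ≃+* A') (τ : B ≃+* B')
    (hστ : ∀ a, τ (algebraMap A B a) = algebraMap A' B' (σ a))
    (T : Ω[B⁄A] →+ Ω[B'⁄A']) (hsmul : ∀ b ω, T (b • ω) = τ b • T ω)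
    (hD : ∀ b, T (D A B b) = D A' B' (τ b)) : Function.Bijective T := by
  letI : Algebra A' A := σ.symm.toRingHom.toAlgebra
  letI : Algebra B' B := τ.symm.toRingHom.toAlgebra
  letI : Algebra A' B := ((algebraMap A B).comp σ.symm.toRingHom).toAlgebra
  haveI : IsScalarTower A' A B := IsScalarTower.of_algebraMap_eq (fun _ => rfl)
  haveI : IsScalarTower A' B' B := IsScalarTower.of_algebraMap_eq (fun a' => by
    change algebraMap A B (σ.symm a') = τ.symm (algebraMap A' B' a')
    apply τ.injective
    rw [hστ, RingEquiv.apply_symm_apply, RingEquiv.apply_symm_apply])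
  haveI : SMulCommClass A B' B := ⟨fun a b' x => by
    simp only [Algebra.smul_def]; ring⟩
  let L : Ω[B'⁄A'] →ₗ[B'] Ω[B⁄A] := KaehlerDifferential.map A' A B' B
  have hL : ∀ c, L (D A' B' c) = D A B (τ.symm c) := fun c => KaehlerDifferential.map_D A' A B' B c
  have hLsmul : ∀ (c : B') (η : Ω[B'⁄A']), L (c • η) = τ.symm c • L η := by
    intro c η
    rw [map_smul]
    exact (algebraMap_smul B c (L η)).symm
  have hLT : ∀ ω, L (T ω) = ω := by
    intro ω
    have hx : ω ∈ Submodule.span B (Set.range (D A B)) := by
      rw [KaehlerDifferential.span_range_derivation]; trivial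
    induction hx using Submodule.span_induction with
    | mem y hy =>
      obtain ⟨b, rfl⟩ := hy
      rw [hD, hL, RingEquiv.symm_apply_apply]
    | zero => rw [map_zero, map_zero]
    | add y z _ _ hy hz => rw [map_add, map_add, hy, hz]
    | smul b y _ hy => rw [hsmul, hLsmul, hy, RingEquiv.symm_apply_apply]
  have hTL : ∀ η, T (L η) = η := by
    intro η
    have hx : η ∈ Submodule.span B' (Set.range (D A' B')) := by
      rw [KaehlerDifferential.span_range_derivation]; trivial
    induction hx using Submodule.span_induction with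
    | mem y hy =>
      obtain ⟨c, rfl⟩ := hy
      rw [hL, hD, RingEquiv.apply_symm_apply]
    | zero => rw [map_zero, map_zero]
    | add y z _ _ hy hz => rw [map_add, map_add, hy, hz]
    | smul c y _ hy => rw [hLsmul, hsmul, hy, RingEquiv.apply_symm_apply]
  exact ⟨fun x y h => by rw [← hLT x, ← hLT y, h], fun η => ⟨L η, hTL η⟩⟩

end Groth.Agent.Helper18.KDiffIso
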