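import Mathlib
import Groth.Agent.Lib.Helper18.OmegaD

set_option autoImplicit false
set_option linter.style.haveILetI false
set_option linter.unusedSectionVars false
universe u
open CategoryTheory CategoryTheory.Limits AlgebraicGeometry TopologicalSpace Opposite TensorProduct
open Groth.Agent.Helper13.EffCartier Groth.Agent.Helper13.Pullback Groth.Agent.Helper13.LocFree

namespace Groth.Agent.Helper18.OmegaSec

open OmegaSh Groth.Agent.Helper18.PbCompat Groth.Agent.Helper18.OmegaSpec

section Main

variable {X S : Scheme.{u}} (f : X ⟶ S) [QuasiSeparated f] {U : X.Opens} {V : S.Opens}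

/-- step 2: transport `dSect` through `idealModIso` -/
theorem mapIso_dSect (b : Γ(X, U)) :
    ((Scheme.Modules.pullback (pullback.diagonal f)).map
        (idealModIso (pullback.diagonal f).ker).hom).app U (dSect f U b) =
      ((Scheme.Modules.pullback (pullback.diagonal f)).obj (K (pullback.diagonal f).ker)).presheaf.map
        (homOfLE (le_diag_preimage f U)).op
        (pullSect (pullback.diagonal f) (K (pullback.diagonal f).ker) (WD f U)
          ((idealModIso (pullback.diagonal f).ker).hom.app (WD f U) (idealLift f U b))) := by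
  unfold dSect
  rw [hom_naturality]
  congr 1
  exact pullback_map_app (pullback.diagonal f) (idealModIso (pullback.diagonal f).ker).hom
    (WD f U) (idealLift f U b)


theorem fn_idealLift (b : Γ(X, U)) :
    fn (pullback.diagonal f).ker
      ((idealModIso (pullback.diagonal f).ker).hom.app (WD f U) (idealLift f U b)) =
      diagDiff f U b := by
  rw [fn_idealModIso, idealSect_apply, ι_idealLift]
  rfl

theorem beta_diagDiff (hU : IsAffineOpen U) (hV : IsAffineOpen V) (e : U ≤ f ⁻¹ᵁ V)
    (b : Γ(X, U)) :
    letI := algUV f e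
    (betaIso f hU hV e).commRingCatIsoToRingEquiv (diagDiff f U b) =
      (1 : Γ(X, U)) ⊗ₜ[Γ(S, V)] b - b ⊗ₜ[Γ(S, V)] (1 : Γ(X, U)) := by
  letI := algUV f e
  unfold diagDiff
  rw [map_sub]
  exact congrArg₂ _ (beta_snd f hU hV e b) (beta_fst f hU hV e b)


set_option maxRecDepth 8000 in
theorem omegaSections_dSect (hU : IsAffineOpen U) (hV : IsAffineOpen V) (e : U ≤ f ⁻¹ᵁ V)
    (b : Γ(X, U)) :
    letI := algUV f e
    omegaSections f hU hV e (dSect f U b) = KaehlerDifferential.D Γ(S, V) Γ(X, U) b := by
  letI := algUV f e
  have h1 : omegaSections f hU hV e (dSect f U b) =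
      PsiD f hU hV e (((Scheme.Modules.pullback (pullback.diagonal f)).map
        (idealModIso (pullback.diagonal f).ker).hom).app U (dSect f U b)) := rfl
  rw [h1, mapIso_dSect]
  letI := algLE (pullback.diagonal f) (le_diag_preimage f U)
  unfold PsiD
  rw [Psi_apply]
  rw [secPull_pullSect (pullback.diagonal f) hU (isAffineOpen_WD f hU hV e) (le_diag_preimage f U)]
  rw [secMid_tmul, Phi_one_tmul, KaehlerDifferential.D_apply]
  congr 1
  apply Subtype.ext
  change (betaIso f hU hV e).commRingCatIsoToRingEquiv (fn (pullback.diagonal f).ker _) = _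
  rw [fn_idealLift, beta_diagDiff]

end Main

end Groth.Agent.Helper18.OmegaSec
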