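import Mathlib
import Groth.Agent.Lib.Helper18.OmegaD2
import Groth.Prelude.Def_OmAff

set_option autoImplicit false
set_option linter.style.haveILetI false
universe u
open CategoryTheory CategoryTheory.Limits AlgebraicGeometry TopologicalSpace Opposite TensorProduct

namespace Groth.Agent.Helper18.OmegaSec

open OmegaSh

variable {X Y : Scheme.{u}} (f : X ⟶ Y) [QuasiSeparated f]

/-- the module iso `Ω[Γ(X,U)/Γ(Y,V)] ≅ Γ(Ω_{X/Y}, U)` -/
noncomputable def sectIso {U : X.Opens} {V : Y.Opens} (hU : IsAffineOpen U) (hV : IsAffineOpen V)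
    (h : U ≤ f ⁻¹ᵁ V) :
    CommRingCat.KaehlerDifferential (f.appLE V U h) ≅ OmAff.sectMod (Omega.sheaf f) U :=
  letI := algUV f h
  (omegaSections f hU hV h).symm.toModuleIso

set_option maxRecDepth 8000 in
theorem toSect_eq {U : X.Opens} {V : Y.Opens} (hU : IsAffineOpen U) (hV : IsAffineOpen V)
    (h : U ≤ f ⁻¹ᵁ V) : OmAff.toSect f V U h = (sectIso f hU hV h).hom := by
  letI := algUV f h
  symm
  apply OmAff.toSect_unique
  intro b
  change (omegaSections f hU hV h).symm (KaehlerDifferential.D Γ(Y, V) Γ(X, U) b) = _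
  rw [← omegaSections_dSect f hU hV h b, LinearEquiv.symm_apply_apply]

theorem isIso_toSect {U : X.Opens} {V : Y.Opens} (hU : IsAffineOpen U) (hV : IsAffineOpen V)
    (h : U ≤ f ⁻¹ᵁ V) : IsIso (OmAff.toSect f V U h) := by
  rw [toSect_eq f hU hV h]
  infer_instance

end Groth.Agent.Helper18.OmegaSec
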