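import Mathlib
import Groth.Agent.Lib.Helper18.OmegaD3
import Groth.Agent.Lib.Helper18.DerLib

set_option autoImplicit false
set_option linter.style.haveILetI false
set_option linter.unusedSectionVars false
set_option maxRecDepth 8000
universe u
open CategoryTheory CategoryTheory.Limits AlgebraicGeometry TopologicalSpace Opposite TensorProduct

namespace Groth.Agent.Helper18.OmegaUniv

open OmegaSh Groth.Agent.Helper18.OmegaSec Groth.Agent.Helper18.DerLib

variable {X Y : Scheme.{u}} (f : X ⟶ Y) [QuasiSeparated f]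

/-- chart pairs -/
abbrev Chart : Type u :=
  {p : X.affineOpens × Y.affineOpens // (p.1 : X.Opens) ≤ f ⁻¹ᵁ (p.2 : Y.Opens)}

/-- the open of a chart pair -/
abbrev chartOpen (i : Chart f) : X.Opens := (i.1.1 : X.Opens)

theorem isBasis_chart : Opens.IsBasis (Set.range (chartOpen f)) := by
  rw [Opens.isBasis_iff_nbhd]
  intro W x hx
  obtain ⟨_, ⟨V, hV, rfl⟩, hxV, -⟩ :=
    Y.isBasis_affineOpens.exists_subset_of_mem_open (Set.mem_univ (f x)) isOpen_univ
  obtain ⟨_, ⟨U, hU, rfl⟩, hxU, hUle⟩ :=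
    X.isBasis_affineOpens.exists_subset_of_mem_open
      (show x ∈ ((W ⊓ f ⁻¹ᵁ V : X.Opens) : Set X) from ⟨hx, hxV⟩) (W ⊓ f ⁻¹ᵁ V).2
  refine ⟨U, ⟨⟨(⟨U, hU⟩, ⟨V, hV⟩), fun y hy => (hUle hy).2⟩, rfl⟩, hxU, fun y hy => (hUle hy).1⟩

/-- sections of `Ω` over a chart are spanned by differentials -/
theorem span_dSect {U : X.Opens} {V : Y.Opens} (hU : IsAffineOpen U) (hV : IsAffineOpen V)
    (e : U ≤ f ⁻¹ᵁ V) :
    Submodule.span Γ(X, U) (Set.range (dSect f U)) = ⊤ := by
  letI := algUV f e
  have h1 : Submodule.span Γ(X, U) (Set.range (KaehlerDifferential.D Γ(Y, V) Γ(X, U))) = ⊤ :=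
    KaehlerDifferential.span_range_derivation Γ(Y, V) Γ(X, U)
  have h2 : Set.range (dSect f U) =
      (omegaSections f hU hV e).symm '' (Set.range (KaehlerDifferential.D Γ(Y, V) Γ(X, U))) := by
    ext x
    constructor
    · rintro ⟨b, rfl⟩
      exact ⟨_, ⟨b, rfl⟩, by rw [← omegaSections_dSect f hU hV e b, LinearEquiv.symm_apply_apply]⟩
    · rintro ⟨_, ⟨b, rfl⟩, rfl⟩
      exact ⟨b, by rw [← omegaSections_dSect f hU hV e b, LinearEquiv.symm_apply_apply]⟩
  rw [h2]
  have h3 := Submodule.map_span (omegaSections f hU hV e).symm.toLinearMap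
    (Set.range (KaehlerDifferential.D Γ(Y, V) Γ(X, U)))
  rw [h1, Submodule.map_top, LinearMap.range_eq_top.2 (omegaSections f hU hV e).symm.surjective] at h3
  exact h3.symm

/-- two additive maps out of the sections of `Ω` over a chart which are semilinear along the same ring
map and agree on differentials are equal. -/
theorem ext_of_dSect {U : X.Opens} {V : Y.Opens} (hU : IsAffineOpen U) (hV : IsAffineOpen V)
    (e : U ≤ f ⁻¹ᵁ V) {B' : Type*} [CommRing B'] {N : Type*} [AddCommGroup N] [Module B' N]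
    (ρ : Γ(X, U) →+* B') (g g' : Γ(Omega.sheaf f, U) →+ N)
    (hg : ∀ b ω, g (b • ω) = ρ b • g ω) (hg' : ∀ b ω, g' (b • ω) = ρ b • g' ω)
    (h : ∀ c, g (dSect f U c) = g' (dSect f U c)) (ω : Γ(Omega.sheaf f, U)) : g ω = g' ω := by
  have hx : ω ∈ Submodule.span Γ(X, U) (Set.range (dSect f U)) := by
    rw [span_dSect f hU hV e]; trivial
  induction hx using Submodule.span_induction with
  | mem y hy => obtain ⟨c, rfl⟩ := hy; exact h c
  | zero => rw [map_zero, map_zero]
  | add y z _ _ hy hz => rw [map_add, map_add, hy, hz]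
  | smul b y _ hy => rw [hg, hg', hy]

end Groth.Agent.Helper18.OmegaUniv

namespace Groth.Agent.Helper18.OmegaUniv

open OmegaSh Groth.Agent.Helper18.OmegaSec Groth.Agent.Helper18.DerLib

variable {X Y : Scheme.{u}} (f : X ⟶ Y) [QuasiSeparated f] {F : X.Modules} (D : Der f F)

/-- the derivation on a chart -/
noncomputable def chartDer (V : Y.Opens) (U : X.Opens) (h : U ≤ f ⁻¹ᵁ V) :
    (OmAff.sectMod F U).Derivation (f.appLE V U h) :=
  ModuleCat.Derivation.mk (fun b => Der.app D U b) (fun a b => map_add (Der.app D U) a b)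
    (der_app_mul D U) (der_app_appLE D V U h)

/-- the local map `Γ(Ω, U) → Γ(F, U)` on a chart -/
noncomputable def chartMap {U : X.Opens} {V : Y.Opens} (hU : IsAffineOpen U) (hV : IsAffineOpen V)
    (h : U ≤ f ⁻¹ᵁ V) : OmAff.sectMod (Omega.sheaf f) U ⟶ OmAff.sectMod F U :=
  (sectIso f hU hV h).inv ≫ (chartDer f D V U h).desc

set_option maxRecDepth 8000 in
theorem chartMap_dSect {U : X.Opens} {V : Y.Opens} (hU : IsAffineOpen U) (hV : IsAffineOpen V)
    (h : U ≤ f ⁻¹ᵁ V) (b : Γ(X, U)) :
    chartMap f D hU hV h (dSect f U b) = Der.app D U b := by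
  have h1 : (sectIso f hU hV h).inv (dSect f U b) = CommRingCat.KaehlerDifferential.d b := by
    have h2 : (sectIso f hU hV h).hom (CommRingCat.KaehlerDifferential.d b) = dSect f U b := by
      rw [← toSect_eq]
      exact OmAff.toSect_d f V U h b
    rw [← h2]
    exact Iso.hom_inv_id_apply (sectIso f hU hV h) _
  change (chartDer f D V U h).desc ((sectIso f hU hV h).inv (dSect f U b)) = _
  rw [h1]
  exact (chartDer f D V U h).desc_d b

end Groth.Agent.Helper18.OmegaUniv

namespace Groth.Agent.Helper18.OmegaUniv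

open OmegaSh Groth.Agent.Helper18.OmegaSec Groth.Agent.Helper18.DerLib

variable {X Y : Scheme.{u}} (f : X ⟶ Y) [QuasiSeparated f] {F : X.Modules} (D : Der f F)

theorem chartMap_smul {U : X.Opens} {V : Y.Opens} (hU : IsAffineOpen U) (hV : IsAffineOpen V)
    (h : U ≤ f ⁻¹ᵁ V) (b : Γ(X, U)) (ω : Γ(Omega.sheaf f, U)) :
    chartMap f D hU hV h (b • ω) = b • chartMap f D hU hV h ω :=
  (chartMap f D hU hV h).hom.map_smul b ω

theorem chartMap_add {U : X.Opens} {V : Y.Opens} (hU : IsAffineOpen U) (hV : IsAffineOpen V)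
    (h : U ≤ f ⁻¹ᵁ V) (ω ω' : Γ(Omega.sheaf f, U)) :
    chartMap f D hU hV h (ω + ω') = chartMap f D hU hV h ω + chartMap f D hU hV h ω' :=
  (chartMap f D hU hV h).hom.map_add ω ω'

/-- compatibility of the chart maps with restriction -/
theorem chartMap_res {U U' : X.Opens} {V V' : Y.Opens} (hU : IsAffineOpen U) (hV : IsAffineOpen V)
    (h : U ≤ f ⁻¹ᵁ V) (hU' : IsAffineOpen U') (hV' : IsAffineOpen V') (h' : U' ≤ f ⁻¹ᵁ V')
    (hle : U' ≤ U) (ω : Γ(Omega.sheaf f, U)) :
    chartMap f D hU' hV' h' ((Omega.sheaf f).presheaf.map (homOfLE hle).op ω) =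
      F.presheaf.map (homOfLE hle).op (chartMap f D hU hV h ω) := by
  let g : Γ(Omega.sheaf f, U) →+ Γ(F, U') :=
    { toFun := fun ω => chartMap f D hU' hV' h' ((Omega.sheaf f).presheaf.map (homOfLE hle).op ω)
      map_zero' := by rw [map_zero]; exact map_zero (chartMap f D hU' hV' h').hom
      map_add' := fun a b => by rw [map_add]; exact chartMap_add f D hU' hV' h' _ _ }
  let g' : Γ(Omega.sheaf f, U) →+ Γ(F, U') :=
    { toFun := fun ω => F.presheaf.map (homOfLE hle).op (chartMap f D hU hV h ω)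
      map_zero' := by
        have : chartMap f D hU hV h 0 = 0 := map_zero (chartMap f D hU hV h).hom
        rw [this, map_zero]
      map_add' := fun a b => by rw [chartMap_add, map_add] }
  refine ext_of_dSect f hU hV h (X.presheaf.map (homOfLE hle).op).hom g g' ?_ ?_ ?_ ω
  · intro b ω
    change chartMap f D hU' hV' h' ((Omega.sheaf f).presheaf.map (homOfLE hle).op (b • ω)) = _
    rw [Scheme.Modules.map_smul, chartMap_smul]
    rfl
  · intro b ω
    change F.presheaf.map (homOfLE hle).op (chartMap f D hU hV h (b • ω)) = _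
    rw [chartMap_smul, Scheme.Modules.map_smul]
    rfl
  · intro c
    change chartMap f D hU' hV' h' ((Omega.sheaf f).presheaf.map (homOfLE hle).op (dSect f U c)) =
      F.presheaf.map (homOfLE hle).op (chartMap f D hU hV h (dSect f U c))
    rw [show (Omega.sheaf f).presheaf.map (homOfLE hle).op (dSect f U c) =
      dSect f U' (X.presheaf.map (homOfLE hle).op c) from (dSect_map f hle c).symm,
      chartMap_dSect, chartMap_dSect, der_app_map]

end Groth.Agent.Helper18.OmegaUniv
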