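import Mathlib
import Groth.Agent.Lib.Helper18.OmegaUniv

set_option autoImplicit false
set_option linter.style.haveILetI false
set_option linter.unusedSectionVars false
set_option maxRecDepth 8000
universe u
open CategoryTheory CategoryTheory.Limits AlgebraicGeometry TopologicalSpace Opposite TensorProduct

namespace Groth.Agent.Helper18.OmegaUniv

open OmegaSh Groth.Agent.Helper18.OmegaSec Groth.Agent.Helper18.DerLib

variable {X Y : Scheme.{u}} (f : X ⟶ Y) [QuasiSeparated f] {F : X.Modules} (D : Der f F)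

/-- the family of chart maps as a natural transformation on the basis -/
noncomputable def basisNat :
    (inducedFunctor (chartOpen f)).op ⋙ (Omega.sheaf f).presheaf ⟶
      (inducedFunctor (chartOpen f)).op ⋙ F.presheaf where
  app i := AddCommGrpCat.ofHom
    (chartMap f D i.unop.1.1.2 i.unop.1.2.2 i.unop.2).hom.toAddMonoidHom
  naturality i j g := by
    ext ω
    exact chartMap_res f D i.unop.1.1.2 i.unop.1.2.2 i.unop.2 j.unop.1.1.2 j.unop.1.2.2 j.unop.2
      (leOfHom g.unop.hom) ω

/-- the glued map of abelian presheaves -/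
noncomputable def gluedHom : (Omega.sheaf f).presheaf ⟶ F.presheaf :=
  TopCat.Sheaf.restrictHomEquivHom (Omega.sheaf f).presheaf
    (⟨F.presheaf, F.isSheaf⟩ : TopCat.Sheaf Ab X) (isBasis_chart f) (basisNat f D)

theorem gluedHom_app_chart {U : X.Opens} {V : Y.Opens} (hU : IsAffineOpen U) (hV : IsAffineOpen V)
    (h : U ≤ f ⁻¹ᵁ V) (ω : Γ(Omega.sheaf f, U)) :
    (gluedHom f D).app (op U) ω = chartMap f D hU hV h ω := by
  have h1 := TopCat.Sheaf.extend_hom_app (Omega.sheaf f).presheaf
    (⟨F.presheaf, F.isSheaf⟩ : TopCat.Sheaf Ab X) (isBasis_chart f) (basisNat f D)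
    (⟨(⟨U, hU⟩, ⟨V, hV⟩), h⟩ : Chart f)
  exact congr($h1 ω)

/-- sections of a module agreeing on all charts inside `W` agree -/
theorem eq_of_charts (G : X.Modules) (W : X.Opens) (s t : Γ(G, W))
    (h : ∀ (U : X.Opens) (V : Y.Opens) (_ : IsAffineOpen U) (_ : IsAffineOpen V)
      (_ : U ≤ f ⁻¹ᵁ V) (hle : U ≤ W),
      G.presheaf.map (homOfLE hle).op s = G.presheaf.map (homOfLE hle).op t) : s = t := by
  refine TopCat.Sheaf.eq_of_locally_eq' (⟨G.presheaf, G.isSheaf⟩ : TopCat.Sheaf Ab X)
    (fun i : {i : Chart f // chartOpen f i ≤ W} => chartOpen f i.1) W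
    (fun i => homOfLE i.2) ?_ s t (fun i => ?_)
  · intro x hx
    obtain ⟨_, ⟨i, rfl⟩, hxi, hiW⟩ := (Opens.isBasis_iff_nbhd.1 (isBasis_chart f)) hx
    exact Opens.mem_iSup.mpr ⟨⟨i, hiW⟩, hxi⟩
  · exact h _ _ i.1.1.1.2 i.1.1.2.2 i.1.2 i.2

theorem gluedHom_naturality {W W' : X.Opens} (hle : W' ≤ W) (m : Γ(Omega.sheaf f, W)) :
    (gluedHom f D).app (op W') ((Omega.sheaf f).presheaf.map (homOfLE hle).op m) =
      F.presheaf.map (homOfLE hle).op ((gluedHom f D).app (op W) m) :=
  congr($((gluedHom f D).naturality (homOfLE hle).op) m)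

theorem gluedHom_smul (W : X.Opens) (r : Γ(X, W)) (m : Γ(Omega.sheaf f, W)) :
    (gluedHom f D).app (op W) (r • m) = r • (gluedHom f D).app (op W) m := by
  refine eq_of_charts f F W _ _ (fun U V hU hV e hle => ?_)
  rw [← gluedHom_naturality, Scheme.Modules.map_smul, Scheme.Modules.map_smul,
    gluedHom_app_chart f D hU hV e, chartMap_smul, ← gluedHom_app_chart f D hU hV e,
    gluedHom_naturality]

/-- the glued morphism of modules -/
noncomputable def univHom : Omega.sheaf f ⟶ F :=
  ⟨PresheafOfModules.homMk (gluedHom f D) (fun W r m => gluedHom_smul f D W.unop r m)⟩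

theorem univHom_app (W : X.Opens) (m : Γ(Omega.sheaf f, W)) :
    (univHom f D).app W m = (gluedHom f D).app (op W) m := rfl

theorem univHom_dSect (W : X.Opens) (s : Γ(X, W)) :
    (univHom f D).app W (dSect f W s) = Der.app D W s := by
  refine eq_of_charts f F W _ _ (fun U V hU hV e hle => ?_)
  rw [univHom_app, ← gluedHom_naturality,
    show (Omega.sheaf f).presheaf.map (homOfLE hle).op (dSect f W s) =
      dSect f U (X.presheaf.map (homOfLE hle).op s) from (dSect_map f hle s).symm,
    gluedHom_app_chart f D hU hV e, chartMap_dSect, der_app_map]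

theorem postcomp_univHom : (dOmega f).postcomp (univHom f D).val = D := by
  apply der_ext
  intro U s
  rw [postcomp_app]
  exact univHom_dSect f D U s

theorem univHom_unique (α : Omega.sheaf f ⟶ F) (hα : (dOmega f).postcomp α.val = D) :
    α = univHom f D := by
  have hα' : ∀ (U : X.Opens) (s : Γ(X, U)), α.app U (dSect f U s) = Der.app D U s := by
    intro U s
    rw [← hα, postcomp_app]
    rfl
  apply Scheme.Modules.hom_ext
  intro W
  ext m
  refine eq_of_charts f F W _ _ (fun U V hU hV e hle => ?_)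
  rw [← Groth.Agent.Helper18.PbCompat.hom_naturality, ← Groth.Agent.Helper18.PbCompat.hom_naturality]
  generalize (Omega.sheaf f).presheaf.map (homOfLE hle).op m = ω
  let g : Γ(Omega.sheaf f, U) →+ Γ(F, U) := (α.app U).hom
  let g' : Γ(Omega.sheaf f, U) →+ Γ(F, U) := ((univHom f D).app U).hom
  refine ext_of_dSect f hU hV e (RingHom.id _) g g' ?_ ?_ ?_ ω
  · intro b ω
    exact Scheme.Modules.Hom.app_smul α b ω
  · intro b ω
    exact Scheme.Modules.Hom.app_smul (univHom f D) b ω
  · intro c
    change α.app U (dSect f U c) = (univHom f D).app U (dSect f U c)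
    rw [hα', univHom_dSect]

theorem isUniversal_dOmega : IsUniversal (dOmega f) := by
  intro F D
  exact ⟨univHom f D, postcomp_univHom f D, fun α hα => univHom_unique f D α hα⟩

end Groth.Agent.Helper18.OmegaUniv
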