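import Mathlib
import Groth.Prelude.Def_Omega4
import Groth.Agent.Lib.Helper18.DerLib

set_option autoImplicit false
universe u
open CategoryTheory CategoryTheory.Limits AlgebraicGeometry TopologicalSpace Opposite

namespace Groth.Agent.Helper18.Rec

open OmegaSh Groth.Agent.Helper18.DerLib

variable {X Y : Scheme.{u}}

theorem postcomp_comp {f : X ⟶ Y} {F G H : X.Modules} (D : Der f F) (α : F ⟶ G) (β : G ⟶ H) :
    D.postcomp (α ≫ β).val = (D.postcomp α.val).postcomp β.val := by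
  apply der_ext
  intro U s
  rfl

theorem postcomp_id {f : X ⟶ Y} {F : X.Modules} (D : Der f F) :
    D.postcomp (𝟙 F : F ⟶ F).val = D := by
  apply der_ext
  intro U s
  rfl

/-- two universal derivations are uniquely isomorphic -/
theorem exists_iso_of_isUniversal {f : X ⟶ Y} {Ω₁ Ω₂ : X.Modules} (d₁ : Der f Ω₁) (d₂ : Der f Ω₂)
    (h₁ : IsUniversal d₁) (h₂ : IsUniversal d₂) :
    ∃ e : Ω₁ ≅ Ω₂, d₁.postcomp e.hom.val = d₂ := by
  obtain ⟨α, hα, -⟩ := h₁ Ω₂ d₂
  obtain ⟨β, hβ, -⟩ := h₂ Ω₁ d₁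
  have hα' : d₁.postcomp α.val = d₂ := hα
  have hβ' : d₂.postcomp β.val = d₁ := hβ
  have h12 : α ≫ β = 𝟙 Ω₁ := by
    obtain ⟨γ, -, hγ⟩ := h₁ Ω₁ d₁
    rw [hγ (α ≫ β) (by change d₁.postcomp (α ≫ β).val = d₁; rw [postcomp_comp, hα', hβ']),
      hγ (𝟙 _) (postcomp_id d₁)]
  have h21 : β ≫ α = 𝟙 Ω₂ := by
    obtain ⟨γ, -, hγ⟩ := h₂ Ω₂ d₂
    rw [hγ (β ≫ α) (by change d₂.postcomp (β ≫ α).val = d₂; rw [postcomp_comp, hβ', hα']),
      hγ (𝟙 _) (postcomp_id d₂)]
  exact ⟨⟨α, β, h12, h21⟩, hα'⟩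

/-- universality transfers along an isomorphism -/
theorem isUniversal_of_iso {f : X ⟶ Y} {Ω₁ Ω₂ : X.Modules} (d₁ : Der f Ω₁) (h₁ : IsUniversal d₁)
    (e : Ω₁ ≅ Ω₂) : IsUniversal (d₁.postcomp e.hom.val) := by
  intro F D
  obtain ⟨α, hα, huniq⟩ := h₁ F D
  have hα' : d₁.postcomp α.val = D := hα
  refine ⟨e.inv ≫ α, ?_, ?_⟩
  · change (d₁.postcomp e.hom.val).postcomp (e.inv ≫ α).val = D
    rw [← postcomp_comp, Iso.hom_inv_id_assoc, hα']
  · intro β hβ
    have hβ' : (d₁.postcomp e.hom.val).postcomp β.val = D := hβ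
    have : e.hom ≫ β = α := huniq _ (by
      change d₁.postcomp (e.hom ≫ β).val = D
      rw [postcomp_comp, hβ'])
    rw [← this, Iso.inv_hom_id_assoc]

section Restrict

variable {W : Scheme.{u}} (j : W ⟶ X) [IsOpenImmersion j] {f : X ⟶ Y} {Ω' : X.Modules}
  (d : Der f Ω')

/-- restriction of a derivation along an open immersion -/
noncomputable def resDer : Der (j ≫ f) (Ω'.restrict j) where
  d {U} := (Der.app d (j ''ᵁ U.unop)).comp ((j.appIso U.unop).inv).hom.toAddMonoidHom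
  d_mul {U} a b := by
    change Der.app d (j ''ᵁ U.unop) ((j.appIso U.unop).inv (a * b)) = _
    rw [map_mul, der_app_mul]
    rfl
  d_map {U V} i a := by
    change Der.app d (j ''ᵁ V.unop) ((j.appIso V.unop).inv (W.presheaf.map i a)) =
      Ω'.presheaf.map (j.opensFunctor.map i.unop).op
        (Der.app d (j ''ᵁ U.unop) ((j.appIso U.unop).inv a))
    rw [← der_app_map]
    congr 1
    exact congr($(j.appIso_inv_naturality i) a)
  d_app {V} c := by
    change Der.app d (j ''ᵁ (j ⁻¹ᵁ (f ⁻¹ᵁ V.unop)))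
      ((j.appIso (j ⁻¹ᵁ (f ⁻¹ᵁ V.unop))).inv (j.app (f ⁻¹ᵁ V.unop) (f.app V.unop c))) = 0
    have h1 : (j.appIso (j ⁻¹ᵁ (f ⁻¹ᵁ V.unop))).inv (j.app (f ⁻¹ᵁ V.unop) (f.app V.unop c)) =
        X.presheaf.map (homOfLE (j.image_preimage_le (f ⁻¹ᵁ V.unop))).op (f.app V.unop c) :=
      congr($(j.app_appIso_inv (f ⁻¹ᵁ V.unop)) (f.app V.unop c))
    rw [h1, der_app_map, der_app_app, map_zero]

theorem resDer_app (U : W.Opens) (s : Γ(W, U)) :
    Der.app (resDer j d) U s = Der.app d (j ''ᵁ U) ((j.appIso U).inv s) := rfl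

theorem restrictAdj_homEquiv_app {F : W.Modules} (α : Ω'.restrict j ⟶ F) (V : X.Opens)
    (m : Γ(Ω', V)) :
    (((Scheme.Modules.restrictAdjunction j).homEquiv Ω' F α).app V m : Γ(F, j ⁻¹ᵁ V)) =
      α.app (j ⁻¹ᵁ V) (Ω'.presheaf.map (homOfLE (j.image_preimage_le V)).op m) := by
  rw [Adjunction.homEquiv_unit]
  rfl

theorem restrictAdj_homEquiv_symm_app {F : W.Modules}
    (ψ : Ω' ⟶ (Scheme.Modules.pushforward j).obj F) (U : W.Opens)
    (m : Γ(Ω', j ''ᵁ U)) :
    (((Scheme.Modules.restrictAdjunction j).homEquiv Ω' F).symm ψ).app U m =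
      F.presheaf.map (eqToHom (j.preimage_image_eq U).symm).op (ψ.app (j ''ᵁ U) m) := by
  rw [Adjunction.homEquiv_counit]
  rfl

theorem isUniversal_resDer (hd : IsUniversal d) : IsUniversal (resDer j d) := by
  intro F D
  have hsq : (j ≫ f) ≫ 𝟙 Y = j ≫ f := Category.comp_id _
  obtain ⟨ψ, hψ, huniq⟩ := hd _ (pushDer j (𝟙 Y) hsq D)
  have hψ' : d.postcomp ψ.val = pushDer j (𝟙 Y) hsq D := hψ
  refine ⟨((Scheme.Modules.restrictAdjunction j).homEquiv Ω' F).symm ψ, ?_, ?_⟩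
  · apply der_ext
    intro U s
    rw [postcomp_app, resDer_app, restrictAdj_homEquiv_symm_app]
    have h1 : ψ.app (j ''ᵁ U) (Der.app d (j ''ᵁ U) ((j.appIso U).inv s)) =
        Der.app (pushDer j (𝟙 Y) hsq D) (j ''ᵁ U) ((j.appIso U).inv s) := by
      rw [← hψ']; rfl
    rw [h1, pushDer_app]
    have h2 : j.app (j ''ᵁ U) ((j.appIso U).inv s) =
        W.presheaf.map (eqToHom (j.preimage_image_eq U)).op s :=
      congr($(j.appIso_inv_app U) s)
    rw [h2, der_app_map]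
    rw [← ConcreteCategory.comp_apply, ← Functor.map_comp]
    exact congr($(F.presheaf.map_id _) (Der.app D U s))
  · intro α hα
    have hα' : (resDer j d).postcomp α.val = D := hα
    have : (Scheme.Modules.restrictAdjunction j).homEquiv Ω' F α = ψ := huniq _ (by
      apply der_ext
      intro V s
      rw [postcomp_app, restrictAdj_homEquiv_app, pushDer_app, ← hα', postcomp_app, resDer_app,
        ← der_app_map]
      congr 2
      exact (congr($(j.app_appIso_inv V) s)).symm)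
    rw [← this, Equiv.symm_apply_apply]

end Restrict


end Groth.Agent.Helper18.Rec
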