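import Mathlib
import Groth.Agent.Lib.Helper18.Rec1
import Groth.Agent.Lib.Helper18.OmegaUniv2
import Groth.Agent.Lib.Helper18.OmegaStalk
import Groth.Agent.Lib.Helper18.KDiffIso
import Groth.Agent.Lib.Helper18.DerSeq
import Groth.Agent.Lib.Helper13.ExtQCoh
import Groth.Agent.Lib.Helper13.QCohKer

set_option autoImplicit false
set_option linter.style.haveILetI false
set_option linter.unusedSectionVars false
set_option maxRecDepth 8000
universe u
open CategoryTheory CategoryTheory.Limits AlgebraicGeometry TopologicalSpace Opposite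

namespace Groth.Agent.Helper18.Rec

open OmegaSh Groth.Agent.Helper18.DerLib Groth.Agent.Helper18.OmegaSec
  Groth.Agent.Helper18.OmegaUniv

variable {X Y : Scheme.{u}} {f : X ⟶ Y} {Ω' : X.Modules} (d : Der f Ω')

/-- restriction of a universal receptacle to an affine open is the sheaf of differentials. -/
theorem exists_iso_restrict (hd : IsUniversal d) (U : X.Opens) (hU : IsAffineOpen U) :
    haveI : IsAffine (U : Scheme.{u}) := hU
    ∃ e : Ω'.restrict U.ι ≅ Omega.sheaf (U.ι ≫ f),
      (resDer U.ι d).postcomp e.hom.val = dOmega (U.ι ≫ f) := by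
  haveI : IsAffine (U : Scheme.{u}) := hU
  exact exists_iso_of_isUniversal _ _ (isUniversal_resDer U.ι d hd) (isUniversal_dOmega (U.ι ≫ f))

/-- a universal receptacle is quasi-coherent. -/
theorem isQuasicoherent_of_isUniversal (hd : IsUniversal d) : Ω'.IsQuasicoherent := by
  apply Groth.Agent.Helper13.Ext.isQuasicoherent_of_forall_exists_restrict
  intro x
  obtain ⟨U, hU, hxU⟩ : ∃ U : X.Opens, IsAffineOpen U ∧ x ∈ U := by
    obtain ⟨_, ⟨U, hU, rfl⟩, hxU, -⟩ :=
      X.isBasis_affineOpens.exists_subset_of_mem_open (Set.mem_univ x) isOpen_univ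
    exact ⟨U, hU, hxU⟩
  refine ⟨U, hxU, ?_⟩
  obtain ⟨e, -⟩ := exists_iso_restrict d hd U hU
  haveI := isQuasicoherent_omega (U.ι ≫ f)
  exact Groth.Agent.Helper13.QCohLocal.isQuasicoherent_of_iso e.symm


section Chart

variable {U : X.Opens} {V : Y.Opens} (e : U ≤ f ⁻¹ᵁ V)

/-- the chart-level linear map `Ω[Γ(X,U)/Γ(Y,V)] → Γ(Ω', U)`, `D b ↦ d b`. -/
noncomputable def chartLin :
    letI := algUV f e
    Ω[Γ(X, U)⁄Γ(Y, V)] →ₗ[Γ(X, U)] Γ(Ω', U) :=
  letI := algUV f e
  ((ModuleCat.Derivation.mk (M := OmAff.sectMod Ω' U) (f := f.appLE V U e)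
    (fun b => Der.app d U b) (fun a b => map_add (Der.app d U) a b)
    (der_app_mul d U) (der_app_appLE d V U e)).desc).hom

theorem chartLin_D (b : Γ(X, U)) :
    letI := algUV f e
    chartLin d e (KaehlerDifferential.D Γ(Y, V) Γ(X, U) b) = Der.app d U b := by
  letI := algUV f e
  exact (ModuleCat.Derivation.mk (M := OmAff.sectMod Ω' U) (f := f.appLE V U e)
    (fun b => Der.app d U b) (fun a b => map_add (Der.app d U) a b)
    (der_app_mul d U) (der_app_appLE d V U e)).desc_d b

end Chart

end Groth.Agent.Helper18.Rec
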