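import Mathlib
import Groth.Agent.Lib.Helper18.Rec2

set_option autoImplicit false
set_option linter.style.haveILetI false
set_option linter.unusedSectionVars false
set_option maxRecDepth 8000
universe u
open CategoryTheory CategoryTheory.Limits AlgebraicGeometry TopologicalSpace Opposite

namespace Groth.Agent.Helper18.Rec

open OmegaSh Groth.Agent.Helper18.DerLib Groth.Agent.Helper18.OmegaSec
  Groth.Agent.Helper18.OmegaUniv

variable {X Y : Scheme.{u}} {f : X ⟶ Y} {Ω' : X.Modules} (d : Der f Ω')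

section Chart

variable {U : X.Opens} {V : Y.Opens} (e : U ≤ f ⁻¹ᵁ V)

include e in
theorem top_le_preimage : (⊤ : (U : Scheme.{u}).Opens) ≤ (U.ι ≫ f) ⁻¹ᵁ V := by
  intro x _
  exact e x.2

/-- the ring isomorphism `Γ(X, U) ≃ Γ(U, ⊤)` -/
noncomputable def tauIso (U : X.Opens) : Γ(X, U) ≅ Γ(U, ⊤) :=
  X.presheaf.mapIso (eqToIso U.ι_image_top).op ≪≫ U.ι.appIso ⊤

theorem tauIso_hom_apply (U : X.Opens) (b : Γ(X, U)) :
    (tauIso U).hom b = (U.ι.appIso ⊤).hom (X.presheaf.map (eqToHom U.ι_image_top).op b) := rfl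

theorem tauIso_appLE (a : Γ(Y, V)) :
    (tauIso U).hom (f.appLE V U e a) = (U.ι ≫ f).appLE V ⊤ (top_le_preimage e) a := by
  rw [tauIso_hom_apply, Scheme.Hom.appIso_hom']
  have h : f.appLE V U e ≫ X.presheaf.map (eqToHom U.ι_image_top).op ≫
      U.ι.appLE (U.ι ''ᵁ ⊤) ⊤ (U.ι.preimage_image_eq ⊤).ge =
      (U.ι ≫ f).appLE V ⊤ (top_le_preimage e) := by
    rw [Scheme.Hom.appLE_map_assoc, Scheme.Hom.appLE_comp_appLE]
  exact congr($h a)

/-- view a section over `j ''ᵁ W` as a section of the restriction -/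
noncomputable def toRes {W : Scheme.{u}} (j : W ⟶ X) [IsOpenImmersion j] (M : X.Modules) (T : W.Opens) :
    Γ(M, j ''ᵁ T) →+ Γ(M.restrict j, T) := AddMonoidHom.id _

theorem bijective_chartLin (hd : IsUniversal d) (hU : IsAffineOpen U) (hV : IsAffineOpen V) :
    letI := algUV f e
    Function.Bijective (chartLin d e) := by
  letI := algUV f e
  haveI : IsAffine (U : Scheme.{u}) := hU
  obtain ⟨eU, heU⟩ := exists_iso_restrict d hd U hU
  have hT : IsAffineOpen (⊤ : (U : Scheme.{u}).Opens) := isAffineOpen_top _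
  have eT : (⊤ : (U : Scheme.{u}).Opens) ≤ (U.ι ≫ f) ⁻¹ᵁ V := top_le_preimage e
  letI := algUV (U.ι ≫ f) eT
  -- the three later maps
  let r : Γ(Ω', U) →+ Γ(Ω', U.ι ''ᵁ ⊤) := (Ω'.presheaf.map (eqToHom U.ι_image_top).op).hom
  let q : Γ(Ω', U) → Ω[Γ(U, ⊤)⁄Γ(Y, V)] := fun m =>
    omegaSections (U.ι ≫ f) hT hV eT (eU.hom.app ⊤ (toRes U.ι Ω' ⊤ (r m)))
  have hq_inj : Function.Injective q := by
    intro m m' h
    have h1 := (omegaSections (U.ι ≫ f) hT hV eT).injective h
    have h2 : toRes U.ι Ω' ⊤ (r m) = toRes U.ι Ω' ⊤ (r m') := by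
      have := congrArg (eU.inv.app ⊤) h1
      rwa [iso_inv_hom_app,
        iso_inv_hom_app] at this
    have h3 : r m = r m' := h2
    have h4 := congrArg (Ω'.presheaf.map (eqToHom U.ι_image_top.symm).op) h3
    have h5 : ∀ x : Γ(Ω', U), Ω'.presheaf.map (eqToHom U.ι_image_top.symm).op (r x) = x := by
      intro x
      change (Ω'.presheaf.map (eqToHom U.ι_image_top).op ≫
        Ω'.presheaf.map (eqToHom U.ι_image_top.symm).op) x = x
      rw [← Functor.map_comp]
      exact congr($(Ω'.presheaf.map_id _) x)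
    rwa [h5, h5] at h4
  -- the composite
  have hqD : ∀ b : Γ(X, U), q (Der.app d U b) =
      KaehlerDifferential.D Γ(Y, V) Γ(U, ⊤) ((tauIso U).hom b) := by
    intro b
    have h1 : r (Der.app d U b) = Der.app d (U.ι ''ᵁ ⊤)
        (X.presheaf.map (eqToHom U.ι_image_top).op b) := (der_app_map d _ b).symm
    have h2 : toRes U.ι Ω' ⊤ (r (Der.app d U b)) =
        Der.app (resDer U.ι d) ⊤ ((tauIso U).hom b) := by
      rw [resDer_app, tauIso_hom_apply]
      have : (U.ι.appIso ⊤).inv ((U.ι.appIso ⊤).hom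
          (X.presheaf.map (eqToHom U.ι_image_top).op b)) =
          X.presheaf.map (eqToHom U.ι_image_top).op b :=
        congr($((U.ι.appIso ⊤).hom_inv_id) _)
      rw [this]
      exact h1
    have h3 : eU.hom.app ⊤ (Der.app (resDer U.ι d) ⊤ ((tauIso U).hom b)) =
        dSect (U.ι ≫ f) ⊤ ((tauIso U).hom b) := by
      rw [← postcomp_app, heU]
      rfl
    change omegaSections (U.ι ≫ f) hT hV eT (eU.hom.app ⊤ (toRes U.ι Ω' ⊤ (r (Der.app d U b)))) = _
    rw [h2, h3, omegaSections_dSect]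
  have hq_add : ∀ m m' : Γ(Ω', U), q (m + m') = q m + q m' := by
    intro m m'
    change omegaSections (U.ι ≫ f) hT hV eT (eU.hom.app ⊤ (toRes U.ι Ω' ⊤ (r (m + m')))) = _
    rw [map_add, map_add, map_add, map_add]
  have hq_smul : ∀ (b : Γ(X, U)) (m : Γ(Ω', U)), q (b • m) = (tauIso U).hom b • q m := by
    intro b m
    have h1 : r (b • m) = X.presheaf.map (eqToHom U.ι_image_top).op b • r m :=
      Scheme.Modules.map_smul Ω' _ b m
    have h2 : toRes U.ι Ω' ⊤ (r (b • m)) = (tauIso U).hom b • toRes U.ι Ω' ⊤ (r m) := by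
      rw [h1]
      change _ = (U.ι.appIso ⊤).inv ((tauIso U).hom b) • r m
      rw [tauIso_hom_apply]
      have : (U.ι.appIso ⊤).inv ((U.ι.appIso ⊤).hom
          (X.presheaf.map (eqToHom U.ι_image_top).op b)) =
          X.presheaf.map (eqToHom U.ι_image_top).op b :=
        congr($((U.ι.appIso ⊤).hom_inv_id) _)
      rw [this]
      rfl
    change omegaSections (U.ι ≫ f) hT hV eT (eU.hom.app ⊤ (toRes U.ι Ω' ⊤ (r (b • m)))) = _
    rw [h2, Scheme.Modules.Hom.app_smul, map_smul]
  let T : Ω[Γ(X, U)⁄Γ(Y, V)] →+ Ω[Γ(U, ⊤)⁄Γ(Y, V)] :=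
    { toFun := fun ω => q (chartLin d e ω)
      map_zero' := by
        have := hq_add 0 0
        rw [add_zero] at this
        rw [map_zero]
        exact left_eq_add.mp this
      map_add' := fun a b => by rw [map_add, hq_add] }
  have hTbij : Function.Bijective T :=
    Groth.Agent.Helper18.KDiffIso.bijective_of_semilinear (RingEquiv.refl _)
      (tauIso U).commRingCatIsoToRingEquiv (fun a => tauIso_appLE e a) T
      (fun b ω => by
        change q (chartLin d e (b • ω)) = _
        rw [map_smul, hq_smul]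
        rfl)
      (fun b => by
        change q (chartLin d e _) = _
        rw [chartLin_D, hqD]
        rfl)
  constructor
  · intro ω ω' h
    exact hTbij.1 (congrArg q h)
  · intro m
    obtain ⟨ω, hω⟩ := hTbij.2 (q m)
    exact ⟨ω, hq_inj hω⟩

/-- sections of a universal receptacle over an affine chart are the Kähler differentials -/
noncomputable def recSec (hd : IsUniversal d) (hU : IsAffineOpen U) (hV : IsAffineOpen V) :
    letI := algUV f e
    Γ(Ω', U) ≃ₗ[Γ(X, U)] Ω[Γ(X, U)⁄Γ(Y, V)] :=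
  letI := algUV f e
  (LinearEquiv.ofBijective (chartLin d e) (bijective_chartLin d e hd hU hV)).symm

theorem recSec_symm_D (hd : IsUniversal d) (hU : IsAffineOpen U) (hV : IsAffineOpen V)
    (b : Γ(X, U)) :
    letI := algUV f e
    (recSec d e hd hU hV).symm (KaehlerDifferential.D Γ(Y, V) Γ(X, U) b) = Der.app d U b := by
  letI := algUV f e
  exact chartLin_D d e b

theorem recSec_d (hd : IsUniversal d) (hU : IsAffineOpen U) (hV : IsAffineOpen V)
    (b : Γ(X, U)) :
    letI := algUV f e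
    recSec d e hd hU hV (Der.app d U b) = KaehlerDifferential.D Γ(Y, V) Γ(X, U) b := by
  letI := algUV f e
  rw [← recSec_symm_D d e hd hU hV b, LinearEquiv.apply_symm_apply]

include e in
theorem span_d (hd : IsUniversal d) (hU : IsAffineOpen U) (hV : IsAffineOpen V) :
    Submodule.span Γ(X, U) (Set.range (Der.app d U)) = ⊤ := by
  letI := algUV f e
  rw [eq_top_iff]
  intro m _
  have h1 : recSec d e hd hU hV m ∈
      Submodule.span Γ(X, U) (Set.range (KaehlerDifferential.D Γ(Y, V) Γ(X, U))) := by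
    rw [KaehlerDifferential.span_range_derivation]; trivial
  have h2 : m = (recSec d e hd hU hV).symm (recSec d e hd hU hV m) :=
    ((recSec d e hd hU hV).symm_apply_apply m).symm
  rw [h2]
  refine Submodule.span_induction (p := fun y _ => (recSec d e hd hU hV).symm y ∈
    Submodule.span Γ(X, U) (Set.range (Der.app d U))) ?_ ?_ ?_ ?_ h1
  · rintro _ ⟨b, rfl⟩
    rw [recSec_symm_D]
    exact Submodule.subset_span ⟨b, rfl⟩
  · rw [map_zero]; exact Submodule.zero_mem _
  · intro y z _ _ hy hz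
    rw [map_add]; exact Submodule.add_mem _ hy hz
  · intro b y _ hy
    rw [map_smul]; exact Submodule.smul_mem _ _ hy

end Chart

end Groth.Agent.Helper18.Rec
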