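import Mathlib
import Groth.Agent.Lib.Helper18.Rec3
import Groth.Agent.Lib.Helper18.RecPull
import Groth.Agent.Lib.Helper18.BasisCrit
import Groth.Agent.Lib.Helper18.ConormalImm
import Groth.Agent.Lib.Helper18.OmegaD

set_option autoImplicit false
set_option linter.style.haveILetI false
set_option linter.unusedSectionVars false
set_option maxRecDepth 8000
universe u
open CategoryTheory CategoryTheory.Limits AlgebraicGeometry TopologicalSpace Opposite TensorProduct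

namespace Groth.Agent.Helper18.RecCS

open OmegaSh Groth.Agent.Helper18.DerLib Groth.Agent.Helper18.OmegaSec
  Groth.Agent.Helper18.Rec Groth.Agent.Helper18.ConormalImm
  Groth.Agent.Helper13.EffCartier Groth.Agent.Helper13.Pullback

variable {X Y Z : Scheme.{u}} (f : Y ⟶ Z) (j : X ⟶ Y) [IsImmersion j]

/-- the chart opens `j⁻¹ V` -/
def chartSet : Set X.Opens :=
  {U | ∃ (V : Y.Opens) (W : Z.Opens), IsAffineOpen V ∧ V ≤ j.coborderRange ∧ IsAffineOpen W ∧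
    V ≤ f ⁻¹ᵁ W ∧ U = j ⁻¹ᵁ V}

theorem isBasis_chartSet : Opens.IsBasis (chartSet f j) := by
  rw [Opens.isBasis_iff_nbhd]
  intro U' x hx
  obtain ⟨V', hV'⟩ : ∃ V' : Y.Opens, j ⁻¹ᵁ V' = U' := by
    obtain ⟨s, hs, hs'⟩ := j.isEmbedding.isInducing.isOpen_iff.1 U'.2
    exact ⟨⟨s, hs⟩, Opens.ext hs'⟩
  obtain ⟨W, hW, hxW⟩ : ∃ W : Z.Opens, IsAffineOpen W ∧ f (j x) ∈ W := by
    obtain ⟨_, ⟨W, hW, rfl⟩, hxW, -⟩ :=
      Z.isBasis_affineOpens.exists_subset_of_mem_open (Set.mem_univ (f (j x))) isOpen_univ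
    exact ⟨W, hW, hxW⟩
  have hjx : j x ∈ V' ⊓ j.coborderRange ⊓ f ⁻¹ᵁ W := by
    refine ⟨⟨?_, ?_⟩, hxW⟩
    · have : x ∈ j ⁻¹ᵁ V' := by rw [hV']; exact hx
      exact this
    · exact subset_coborder (Set.mem_range_self x)
  obtain ⟨V, hV, hxV, hVle⟩ : ∃ V : Y.Opens, IsAffineOpen V ∧ j x ∈ V ∧
      V ≤ V' ⊓ j.coborderRange ⊓ f ⁻¹ᵁ W := by
    obtain ⟨_, ⟨V, hV, rfl⟩, hxV, hVle⟩ :=
      Y.isBasis_affineOpens.exists_subset_of_mem_open hjx (V' ⊓ j.coborderRange ⊓ f ⁻¹ᵁ W).2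
    exact ⟨V, hV, hxV, hVle⟩
  refine ⟨j ⁻¹ᵁ V, ⟨V, W, hV, fun y hy => (hVle hy).1.2, hW, fun y hy => (hVle hy).2, rfl⟩,
    hxV, ?_⟩
  rw [← hV']
  intro y hy
  exact (hVle hy).1.1

end Groth.Agent.Helper18.RecCS
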