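import Mathlib
import Groth.Agent.Lib.Helper18.RecCS1

set_option autoImplicit false
set_option linter.style.haveILetI false
set_option linter.unusedSectionVars false
set_option maxRecDepth 8000
universe u
open CategoryTheory CategoryTheory.Limits AlgebraicGeometry TopologicalSpace Opposite TensorProduct

namespace Groth.Agent.Helper18.RecCS

open OmegaSh Groth.Agent.Helper18.DerLib Groth.Agent.Helper18.OmegaSec
  Groth.Agent.Helper18.Rec Groth.Agent.Helper18.ConormalImm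
  Groth.Agent.Helper13.EffCartier Groth.Agent.Helper13.Pullback

variable {X Y Z : Scheme.{u}} (f : Y ⟶ Z) (j : X ⟶ Y) [IsImmersion j] [QuasiCompact j]

/-- sections of the ideal module surject onto the kernel on affine opens. -/
theorem exists_idealSect_eq {V : Y.Opens} (hV : IsAffineOpen V) (x : Γ(Y, V))
    (hx : j.app V x = 0) : ∃ s : Γ(ClSub.idealMod j.ker, V), idealSect j.ker V s = x := by
  have h1 : x ∈ j.ker.ideal ⟨V, hV⟩ := by
    rw [Scheme.Hom.ker_apply, RingHom.mem_ker]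
    exact hx
  obtain ⟨k, hk⟩ := (mem_ideal_iff j.ker ⟨V, hV⟩ _).1 h1
  refine ⟨(idealModIso j.ker).inv.app V k, ?_⟩
  rw [← fn_idealModIso]
  have : (idealModIso j.ker).hom.app V ((idealModIso j.ker).inv.app V k) = k :=
    iso_inv_hom_app (idealModIso j.ker).symm V k
  rw [this, hk]

omit [IsImmersion j] [QuasiCompact j] in
/-- local sections of the kernel ideal module are killed by `j♯`. -/
theorem app_idealSect (V : Y.Opens) (s : Γ(ClSub.idealMod j.ker, V)) :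
    j.app V (idealSect j.ker V s) = 0 := by
  rw [← fn_idealModIso]
  have h0 := Groth.Agent.Helper13.VanishIdeal.app_idealι j.ker.subschemeι V
    ((idealModIso j.ker).hom.app V s)
  have h1 := Scheme.Hom.congr_app j.toImage_imageι.symm V
  have h2 : j.imageι.app V (fn j.ker ((idealModIso j.ker).hom.app V s)) = 0 := h0
  have h3 : j.app V (fn j.ker ((idealModIso j.ker).hom.app V s)) =
      X.presheaf.map (eqToHom (by
        conv_lhs => rw [← j.toImage_imageι]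
        rfl)).op
        (j.toImage.app (j.imageι ⁻¹ᵁ V)
          (j.imageι.app V (fn j.ker ((idealModIso j.ker).hom.app V s)))) :=
    congr($h1 (fn j.ker ((idealModIso j.ker).hom.app V s)))
  rw [h3, h2, map_zero, map_zero]

variable (ΩY : Y.Modules) (dY : Der f ΩY) (hY : IsUniversal dY)
    (ΩX : X.Modules) (dX : Der (j ≫ f) ΩX) (hX : IsUniversal dX)
    (φ : Omega.conormal j ⟶ (Scheme.Modules.pullback j).obj ΩY) (hφ : IsConormalDiff j dY φ)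
    (c : (Scheme.Modules.pullback j).obj ΩY ⟶ ΩX) (hc : IsDiffCompat j dY dX c)

/-- sections of a morphism as a linear map -/
noncomputable def appLin {M N : X.Modules} (α : M ⟶ N) (U : X.Opens) :
    Γ(M, U) →ₗ[Γ(X, U)] Γ(N, U) where
  toFun := α.app U
  map_add' := map_add _
  map_smul' := Scheme.Modules.Hom.app_smul α

include hX hc in
theorem surjective_c_app {V : Y.Opens} {W : Z.Opens} (hV : IsAffineOpen V)
    (hle : V ≤ j.coborderRange) (hW : IsAffineOpen W) (e : V ≤ f ⁻¹ᵁ W) :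
    Function.Surjective (c.app (j ⁻¹ᵁ V)) := by
  have hU : IsAffineOpen (j ⁻¹ᵁ V) := isAffineOpen_preimage j hV hle
  have eU : j ⁻¹ᵁ V ≤ (j ≫ f) ⁻¹ᵁ W := fun x hx => e hx
  have hspan := span_d dX eU hX hU hW
  have hr : LinearMap.range (appLin c (j ⁻¹ᵁ V)) = ⊤ := by
    rw [eq_top_iff, ← hspan, Submodule.span_le]
    rintro _ ⟨b, rfl⟩
    obtain ⟨s, rfl⟩ := app_surjective j hV hle b
    exact ⟨pullSect j ΩY V (Der.app dY V s), hc V s⟩
  intro m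
  have : m ∈ LinearMap.range (appLin c (j ⁻¹ᵁ V)) := by rw [hr]; trivial
  exact this

include hX hc in
theorem epi_c : Epi c := by
  apply Groth.Agent.Helper18.BasisCrit.epi_of_basis c (isBasis_chartSet f j)
  rintro U ⟨V, W, hV, hle, hW, e, rfl⟩
  exact surjective_c_app f j ΩY dY ΩX dX hX c hc hV hle hW e

include hφ hc in
theorem φ_c : φ ≫ c = 0 := by
  apply ((Scheme.Modules.pullbackPushforwardAdjunction j).homEquiv _ _).injective
  ext V s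
  have h1 := homEquiv_app j (φ ≫ c) V s
  have h2 := homEquiv_app j (0 : Omega.conormal j ⟶ ΩX) V s
  refine h1.trans (Eq.trans ?_ h2.symm)
  change c.app (j ⁻¹ᵁ V) (φ.app (j ⁻¹ᵁ V) (conormalSect j V s)) = _
  rw [hφ V s, hc V, app_idealSect, map_zero]
  rfl

include hY hX hφ hc in
theorem exact_app {V : Y.Opens} {W : Z.Opens} (hV : IsAffineOpen V)
    (hle : V ≤ j.coborderRange) (hW : IsAffineOpen W) (e : V ≤ f ⁻¹ᵁ W)
    (m : Γ((Scheme.Modules.pullback j).obj ΩY, j ⁻¹ᵁ V)) (hm : c.app (j ⁻¹ᵁ V) m = 0) :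
    ∃ n : Γ(Omega.conormal j, j ⁻¹ᵁ V), φ.app (j ⁻¹ᵁ V) n = m := by
  have hU : IsAffineOpen (j ⁻¹ᵁ V) := isAffineOpen_preimage j hV hle
  have eU : j ⁻¹ᵁ V ≤ (j ≫ f) ⁻¹ᵁ W := fun x hx => e hx
  letI algAB : Algebra Γ(Z, W) Γ(Y, V) := algUV f e
  letI algBC : Algebra Γ(Y, V) Γ(X, j ⁻¹ᵁ V) := (j.appLE V (j ⁻¹ᵁ V) le_rfl).hom.toAlgebra
  letI algAC : Algebra Γ(Z, W) Γ(X, j ⁻¹ᵁ V) := algUV (j ≫ f) eU
  haveI : IsScalarTower Γ(Z, W) Γ(Y, V) Γ(X, j ⁻¹ᵁ V) := IsScalarTower.of_algebraMap_eq (fun a => by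
    change (j ≫ f).appLE W (j ⁻¹ᵁ V) eU a = j.appLE V (j ⁻¹ᵁ V) le_rfl (f.appLE W V e a)
    have := Scheme.Hom.appLE_comp_appLE j f W V (j ⁻¹ᵁ V) e le_rfl
    exact (congr($this a)).symm)
  have halg : ∀ b : Γ(Y, V), algebraMap Γ(Y, V) Γ(X, j ⁻¹ᵁ V) b = j.app V b := fun b => by
    change j.appLE V (j ⁻¹ᵁ V) le_rfl b = _
    rw [Scheme.Hom.appLE_eq_app]
  have hsurj : Function.Surjective (algebraMap Γ(Y, V) Γ(X, j ⁻¹ᵁ V)) := by
    intro b
    obtain ⟨a, ha⟩ := app_surjective j hV hle b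
    exact ⟨a, (halg a).trans ha⟩
  haveI qcY : ΩY.IsQuasicoherent := isQuasicoherent_of_isUniversal dY hY
  let α := sectionsPullbackEquiv j ΩY hU hV le_rfl
  let ρ := recSec dY e hY hV hW
  let β : Γ(X, j ⁻¹ᵁ V) ⊗[Γ(Y, V)] Γ(ΩY, V) ≃ₗ[Γ(X, j ⁻¹ᵁ V)]
      Γ(X, j ⁻¹ᵁ V) ⊗[Γ(Y, V)] Ω[Γ(Y, V)⁄Γ(Z, W)] :=
    TensorProduct.AlgebraTensorModule.congr (LinearEquiv.refl _ _) ρ
  let γ := recSec dX eU hX hU hW
  let L1 : Γ((Scheme.Modules.pullback j).obj ΩY, j ⁻¹ᵁ V) →ₗ[Γ(X, j ⁻¹ᵁ V)]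
      Ω[Γ(X, j ⁻¹ᵁ V)⁄Γ(Z, W)] := γ.toLinearMap ∘ₗ appLin c (j ⁻¹ᵁ V)
  let L2 : Γ((Scheme.Modules.pullback j).obj ΩY, j ⁻¹ᵁ V) →ₗ[Γ(X, j ⁻¹ᵁ V)]
      Ω[Γ(X, j ⁻¹ᵁ V)⁄Γ(Z, W)] :=
    (KaehlerDifferential.mapBaseChange Γ(Z, W) Γ(Y, V) Γ(X, j ⁻¹ᵁ V)) ∘ₗ
      β.toLinearMap ∘ₗ α.toLinearMap
  have hαβ : ∀ b : Γ(Y, V), β (α (pullSect j ΩY V (Der.app dY V b))) =
      (1 : Γ(X, j ⁻¹ᵁ V)) ⊗ₜ[Γ(Y, V)] KaehlerDifferential.D Γ(Z, W) Γ(Y, V) b := by
    intro b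
    have h1 : α (pullSect j ΩY V (Der.app dY V b)) =
        (1 : Γ(X, j ⁻¹ᵁ V)) ⊗ₜ[Γ(Y, V)] (Der.app dY V b) := by
      rw [← pullRes_refl j ΩY (Der.app dY V b)]
      exact sectionsPullbackEquiv_pullRes j ΩY hU hV le_rfl _
    rw [h1]
    change (1 : Γ(X, j ⁻¹ᵁ V)) ⊗ₜ[Γ(Y, V)] ρ (Der.app dY V b) = _
    rw [recSec_d]
  have hL : L1 = L2 := by
    apply LinearMap.ext_on (span_pullRes j ΩY hU hV le_rfl _ (span_d dY e hY hV hW))
    rintro _ ⟨_, ⟨b, rfl⟩, rfl⟩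
    change L1 (pullRes j ΩY le_rfl (Der.app dY V b)) = L2 (pullRes j ΩY le_rfl (Der.app dY V b))
    rw [pullRes_refl]
    change γ (c.app (j ⁻¹ᵁ V) (pullSect j ΩY V (Der.app dY V b))) =
      KaehlerDifferential.mapBaseChange Γ(Z, W) Γ(Y, V) Γ(X, j ⁻¹ᵁ V)
        (β (α (pullSect j ΩY V (Der.app dY V b))))
    rw [hαβ, hc V b, recSec_d, KaehlerDifferential.mapBaseChange_tmul, one_smul,
      KaehlerDifferential.map_D, halg]
  have h0 : KaehlerDifferential.mapBaseChange Γ(Z, W) Γ(Y, V) Γ(X, j ⁻¹ᵁ V) (β (α m)) = 0 := by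
    have : L2 m = L1 m := by rw [hL]
    change L2 m = 0
    rw [this]
    change γ (c.app (j ⁻¹ᵁ V) m) = 0
    rw [hm, map_zero]
  obtain ⟨ξ, hξ⟩ := (KaehlerDifferential.exact_kerCotangentToTensor_mapBaseChange
    Γ(Z, W) Γ(Y, V) Γ(X, j ⁻¹ᵁ V) hsurj (β (α m))).1 h0
  obtain ⟨x, rfl⟩ := Ideal.toCotangent_surjective _ ξ
  rw [KaehlerDifferential.kerCotangentToTensor_toCotangent] at hξ
  have hx : j.app V x.1 = 0 := by
    rw [← halg]
    exact RingHom.mem_ker.1 x.2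
  obtain ⟨s, hs⟩ := exists_idealSect_eq j hV x.1 hx
  refine ⟨conormalSect j V s, ?_⟩
  rw [hφ V s, hs]
  apply α.injective
  apply β.injective
  rw [hαβ, hξ]

include hY hX hφ hc in
/-- the conormal sequence `N_{X/Y} → j^*Ω_{Y/Z} → Ω_{X/Z} → 0`. -/
theorem conormal_sequence : Epi c ∧ imageSubobject φ = kernelSubobject c := by
  refine ⟨epi_c f j ΩY dY ΩX dX hX c hc, ?_⟩
  have w := φ_c f j ΩY dY ΩX dX φ hφ c hc
  have hex : (ShortComplex.mk φ c w).Exact := by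
    apply Groth.Agent.Helper18.BasisCrit.exact_of_basis _ (isBasis_chartSet f j)
    rintro U ⟨V, W, hV, hle, hW, e, rfl⟩ m hm
    exact exact_app f j ΩY dY hY ΩX dX hX φ hφ c hc hV hle hW e m hm
  exact (ShortComplex.exact_iff_image_eq_kernel _).1 hex

end Groth.Agent.Helper18.RecCS
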