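import Mathlib
import Groth.Agent.Lib.Helper18.RecCS2
import Groth.Agent.Lib.Helper18.QCBasic2

set_option autoImplicit false
set_option linter.style.haveILetI false
set_option linter.unusedSectionVars false
set_option maxRecDepth 8000
universe u
open CategoryTheory CategoryTheory.Limits AlgebraicGeometry TopologicalSpace Opposite TensorProduct

namespace Groth.Agent.Helper18.RecCS

open OmegaSh Groth.Agent.Helper18.DerLib Groth.Agent.Helper18.OmegaSec
  Groth.Agent.Helper18.Rec Groth.Agent.Helper18.ConormalImm
  Groth.Agent.Helper13.EffCartier Groth.Agent.Helper13.Pullback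

variable {X Y : Scheme.{u}} (j : X ⟶ Y) [QuasiCompact j]

theorem toImage_app_injective' (W : Y.Opens) :
    Function.Injective (j.toImage.app (j.imageι ⁻¹ᵁ W)) := by
  have := TopCat.Presheaf.app_injective_of_stalkFunctor_map_injective
    (F := j.image.sheaf) (G := (Opens.map j.toImage.base).op ⋙ X.presheaf)
    j.toImage.c (j.imageι ⁻¹ᵁ W) (fun x _ => j.stalkFunctor_toImage_injective x)
  exact this

/-- functions killed by `j♯` over ANY open are sections of the kernel ideal module. -/
theorem exists_idealSect_eq' (W : Y.Opens) (x : Γ(Y, W)) (hx : j.app W x = 0) :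
    ∃ s : Γ(ClSub.idealMod j.ker, W), idealSect j.ker W s = x := by
  have h1 := Scheme.Hom.congr_app j.toImage_imageι.symm W
  have h3 : j.app W x =
      X.presheaf.map (eqToHom (by
        conv_lhs => rw [← j.toImage_imageι]
        rfl)).op
        (j.toImage.app (j.imageι ⁻¹ᵁ W) (j.imageι.app W x)) :=
    congr($h1 x)
  rw [h3] at hx
  have h4 : j.toImage.app (j.imageι ⁻¹ᵁ W) (j.imageι.app W x) = 0 := by
    have hinj : Function.Injective (X.presheaf.map (eqToHom (by
        conv_lhs => rw [← j.toImage_imageι]
        rfl : j ⁻¹ᵁ W = j.toImage ⁻¹ᵁ (j.imageι ⁻¹ᵁ W))).op) :=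
      ((ConcreteCategory.isIso_iff_bijective _).1 inferInstance).1
    apply hinj
    rw [hx, map_zero]
  have h5 : j.imageι.app W x = 0 := by
    apply toImage_app_injective' j W
    rw [h4, map_zero]
  obtain ⟨k, hk⟩ := Groth.Agent.Helper13.KerSec.exists_kernel_section
    (Groth.Agent.Helper13.VanishIdeal.sharp j.ker.subschemeι) W x h5
  refine ⟨(idealModIso j.ker).inv.app W k, ?_⟩
  rw [← fn_idealModIso]
  have : (idealModIso j.ker).hom.app W ((idealModIso j.ker).inv.app W k) = k :=
    iso_inv_hom_app (idealModIso j.ker).symm W k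
  rw [this]
  exact hk

end Groth.Agent.Helper18.RecCS
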