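import Mathlib
import Groth.Agent.Lib.Helper18.RecCS3
import Groth.Agent.Lib.Helper18.QCBasic3
import Groth.Agent.Lib.Helper18.CnAlg
import Groth.Agent.Lib.Helper18.ConormalImm3
import Groth.Agent.Lib.Helper18.DerSeq

set_option autoImplicit false
set_option linter.style.haveILetI false
set_option linter.unusedSectionVars false
set_option maxRecDepth 8000
universe u
open CategoryTheory CategoryTheory.Limits AlgebraicGeometry TopologicalSpace Opposite TensorProduct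

namespace Groth.Agent.Helper18.CnSeq

open OmegaSh Groth.Agent.Helper18.DerLib Groth.Agent.Helper18.OmegaSec
  Groth.Agent.Helper18.Rec Groth.Agent.Helper18.ConormalImm
  Groth.Agent.Helper13.EffCartier Groth.Agent.Helper13.Pullback

section ChartExists

variable {Z X Y : Scheme.{u}} (p : X ⟶ Y) (i : Z ⟶ X) (j : Z ⟶ Y) [IsImmersion i] [IsImmersion j]
  (hij : i ≫ p = j)

include hij in
theorem preimage_preimage (V : Y.Opens) : i ⁻¹ᵁ (p ⁻¹ᵁ V) = j ⁻¹ᵁ V := by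
  subst hij
  rfl

include hij in
theorem exists_chart (z : Z) : ∃ (U : X.Opens) (V : Y.Opens), IsAffineOpen U ∧
    U ≤ i.coborderRange ∧ IsAffineOpen V ∧ V ≤ j.coborderRange ∧ U ≤ p ⁻¹ᵁ V ∧
    i ⁻¹ᵁ U = j ⁻¹ᵁ V ∧ z ∈ i ⁻¹ᵁ U := by
  have hjz : j z ∈ j.coborderRange := subset_coborder (Set.mem_range_self z)
  have hiz : i z ∈ i.coborderRange := subset_coborder (Set.mem_range_self z)
  obtain ⟨V₀, hV₀, hzV₀, hV₀le⟩ : ∃ V₀ : Y.Opens, IsAffineOpen V₀ ∧ j z ∈ V₀ ∧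
      V₀ ≤ j.coborderRange := by
    obtain ⟨_, ⟨V, hV, rfl⟩, hxV, hVle⟩ :=
      Y.isBasis_affineOpens.exists_subset_of_mem_open hjz j.coborderRange.2
    exact ⟨V, hV, hxV, hVle⟩
  have hpz : i z ∈ i.coborderRange ⊓ p ⁻¹ᵁ V₀ := by
    refine ⟨hiz, ?_⟩
    have : z ∈ i ⁻¹ᵁ (p ⁻¹ᵁ V₀) := by
      rw [preimage_preimage p i j hij]
      exact hzV₀
    exact this
  obtain ⟨U₀, hU₀, hzU₀, hU₀le⟩ : ∃ U₀ : X.Opens, IsAffineOpen U₀ ∧ i z ∈ U₀ ∧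
      U₀ ≤ i.coborderRange ⊓ p ⁻¹ᵁ V₀ := by
    obtain ⟨_, ⟨U, hU, rfl⟩, hxU, hUle⟩ :=
      X.isBasis_affineOpens.exists_subset_of_mem_open hpz (i.coborderRange ⊓ p ⁻¹ᵁ V₀).2
    exact ⟨U, hU, hxU, hUle⟩
  have hZaff : IsAffineOpen (j ⁻¹ᵁ V₀) := isAffineOpen_preimage j hV₀ hV₀le
  obtain ⟨c, hcle, hzc⟩ := hZaff.exists_basicOpen_le (V := j ⁻¹ᵁ V₀ ⊓ i ⁻¹ᵁ U₀)
    ⟨z, hzV₀, hzU₀⟩ hzV₀
  obtain ⟨a, rfl⟩ := app_surjective j hV₀ hV₀le c
  have e₀ : U₀ ≤ p ⁻¹ᵁ V₀ := hU₀le.trans inf_le_right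
  have hjV : j ⁻¹ᵁ (Y.basicOpen a) = Z.basicOpen (j.app V₀ a) := Scheme.preimage_basicOpen j a
  have hUeq : X.basicOpen (p.appLE V₀ U₀ e₀ a) = U₀ ⊓ p ⁻¹ᵁ (Y.basicOpen a) :=
    Scheme.basicOpen_appLE p U₀ V₀ e₀ a
  refine ⟨X.basicOpen (p.appLE V₀ U₀ e₀ a), Y.basicOpen a, hU₀.basicOpen _, ?_, hV₀.basicOpen _,
    ?_, ?_, ?_, ?_⟩
  · exact (X.basicOpen_le _).trans (hU₀le.trans inf_le_left)
  · exact (Y.basicOpen_le _).trans hV₀le
  · rw [hUeq]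
    exact inf_le_right
  · rw [hUeq]
    change i ⁻¹ᵁ U₀ ⊓ i ⁻¹ᵁ (p ⁻¹ᵁ (Y.basicOpen a)) = _
    rw [preimage_preimage p i j hij, hjV]
    exact inf_eq_right.2 (hcle.trans inf_le_right)
  · rw [hUeq]
    change z ∈ i ⁻¹ᵁ U₀ ⊓ i ⁻¹ᵁ (p ⁻¹ᵁ (Y.basicOpen a))
    rw [preimage_preimage p i j hij, hjV]
    exact ⟨hzU₀, hzc⟩


end ChartExists

variable {Z X Y : Scheme.{u}} (p : X ⟶ Y) (i : Z ⟶ X) [IsImmersion i] [IsImmersion (i ≫ p)]
  [QuasiCompact i] [QuasiCompact (i ≫ p)]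
  (Ω : X.Modules) (d : OmegaSh.Der p Ω) (hd : OmegaSh.IsUniversal d)
  (ψ : (Scheme.Modules.pullback (𝟙 Z)).obj (Omega.conormal (i ≫ p)) ⟶ Omega.conormal i)
  (hψ : OmegaSh.IsConormalMap i (i ≫ p) p (𝟙 Z) ψ)
  (φ : Omega.conormal i ⟶ (Scheme.Modules.pullback i).obj Ω) (hφ : OmegaSh.IsConormalDiff i d φ)

include hψ in
/-- the canonical map on classes, in a usable form -/
theorem psi_spec (V : Y.Opens) (s' : Γ(ClSub.idealMod (i ≫ p).ker, V))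
    (s : Γ(ClSub.idealMod i.ker, p ⁻¹ᵁ V))
    (h : idealSect i.ker (p ⁻¹ᵁ V) s = p.app V (idealSect (i ≫ p).ker V s'))
    (T : Z.Opens) (h₁ : T ≤ (i ≫ p) ⁻¹ᵁ V) :
    ψ.app T (pullSect (𝟙 Z) (Omega.conormal (i ≫ p)) T
      ((Omega.conormal (i ≫ p)).presheaf.map (homOfLE h₁).op (conormalSect (i ≫ p) V s'))) =
    (Omega.conormal i).presheaf.map (homOfLE (show T ≤ i ⁻¹ᵁ (p ⁻¹ᵁ V) from h₁)).op
      (conormalSect i (p ⁻¹ᵁ V) s) := by
  have h0 := hψ.2 V s' s h T h₁ h₁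
  rw [← h0]
  rw [pullSect_map (𝟙 Z) (Omega.conormal (i ≫ p)) h₁]
  exact congr($(ψ.mapPresheaf.naturality (homOfLE h₁).op) _)


omit [IsImmersion i] [IsImmersion (i ≫ p)] [QuasiCompact (i ≫ p)] in
/-- a section of the ideal of `Z ⊆ X` lifting `p♯` of a section of the ideal of `Z ⊆ Y`. -/
theorem exists_lift (V : Y.Opens) (s' : Γ(ClSub.idealMod (i ≫ p).ker, V)) :
    ∃ s : Γ(ClSub.idealMod i.ker, p ⁻¹ᵁ V),
      idealSect i.ker (p ⁻¹ᵁ V) s = p.app V (idealSect (i ≫ p).ker V s') := by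
  apply Groth.Agent.Helper18.RecCS.exists_idealSect_eq' i (p ⁻¹ᵁ V)
  exact Groth.Agent.Helper18.RecCS.app_idealSect (i ≫ p) V s'

include hψ hφ in
theorem psi_phi : ψ ≫ φ = 0 := by
  rw [← cancel_epi ((Scheme.Modules.pullbackId Z).inv.app (Omega.conormal (i ≫ p))), comp_zero]
  apply ((Scheme.Modules.pullbackPushforwardAdjunction (i ≫ p)).homEquiv _ _).injective
  ext V s'
  have h1 := homEquiv_app (i ≫ p)
    ((Scheme.Modules.pullbackId Z).inv.app (Omega.conormal (i ≫ p)) ≫ ψ ≫ φ) V s'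
  have h2 := homEquiv_app (i ≫ p)
    (0 : Omega.conormal (i ≫ p) ⟶ (Scheme.Modules.pullback i).obj Ω) V s'
  refine h1.trans (Eq.trans ?_ h2.symm)
  obtain ⟨s, hs⟩ := exists_lift p i V s'
  change φ.app ((i ≫ p) ⁻¹ᵁ V) (ψ.app ((i ≫ p) ⁻¹ᵁ V)
    (((Scheme.Modules.pullbackId Z).inv.app (Omega.conormal (i ≫ p))).app ((i ≫ p) ⁻¹ᵁ V)
      (conormalSect (i ≫ p) V s'))) = 0
  rw [pullbackId_inv_app]
  have h3 := psi_spec p i ψ hψ V s' s hs ((i ≫ p) ⁻¹ᵁ V) le_rfl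
  have h4 : (Omega.conormal (i ≫ p)).presheaf.map (homOfLE (le_refl ((i ≫ p) ⁻¹ᵁ V))).op
      (conormalSect (i ≫ p) V s') = conormalSect (i ≫ p) V s' :=
    congr($((Omega.conormal (i ≫ p)).presheaf.map_id _) (conormalSect (i ≫ p) V s'))
  rw [h4] at h3
  rw [h3]
  have h5 : (Omega.conormal i).presheaf.map
      (homOfLE (show (i ≫ p) ⁻¹ᵁ V ≤ i ⁻¹ᵁ (p ⁻¹ᵁ V) from le_rfl)).op
      (conormalSect i (p ⁻¹ᵁ V) s) = conormalSect i (p ⁻¹ᵁ V) s :=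
    congr($((Omega.conormal i).presheaf.map_id _) (conormalSect i (p ⁻¹ᵁ V) s))
  rw [h5]
  change φ.app (i ⁻¹ᵁ (p ⁻¹ᵁ V)) (conormalSect i (p ⁻¹ᵁ V) s) = 0
  rw [hφ (p ⁻¹ᵁ V) s, hs, der_app_app, map_zero]


omit [IsImmersion i] [IsImmersion (i ≫ p)] [QuasiCompact i] [QuasiCompact (i ≫ p)] in
theorem res_bijective_of_eq {T T' : Z.Opens} (h : T = T') (e : T ≤ T') :
    Function.Bijective (Z.presheaf.map (homOfLE e).op) := by
  subst h
  have : Z.presheaf.map (homOfLE e).op = 𝟙 _ := Z.presheaf.map_id _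
  rw [this]
  exact Function.bijective_id

/-- the inclusion of the ideal on sections as a linear map -/
noncomputable def ιlin (U : X.Opens) : Γ(ClSub.idealMod i.ker, U) →ₗ[Γ(X, U)] Γ(X, U) where
  toFun := idealSect i.ker U
  map_add' := map_add _
  map_smul' b s := by
    change idealSect i.ker U (b • s) = b * idealSect i.ker U s
    rw [idealSect_apply, Scheme.Modules.Hom.app_smul]
    rfl

omit [IsImmersion i] [IsImmersion (i ≫ p)] [QuasiCompact i] [QuasiCompact (i ≫ p)] in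
theorem ιlin_injective (U : X.Opens) : Function.Injective (ιlin i U) := by
  intro s t h
  exact idealModι_app_injective U i.ker h


theorem mem_of_eq' {R M : Type*} [Semiring R] [AddCommMonoid M] [Module R M] (S : Submodule R M)
    {a b : M} (h : a = b) (hb : b ∈ S) : a ∈ S := h ▸ hb

section Chart

variable {U : X.Opens} {V : Y.Opens} (hU : IsAffineOpen U) (hUle : U ≤ i.coborderRange)
  (hV : IsAffineOpen V) (hVle : V ≤ (i ≫ p).coborderRange) (e : U ≤ p ⁻¹ᵁ V)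
  (hT : i ⁻¹ᵁ U = (i ≫ p) ⁻¹ᵁ V)

include hd hφ hU hUle hV hVle e hT in
theorem surjective_phi_app : Function.Surjective (φ.app (i ⁻¹ᵁ U)) := by
  have hTaff : IsAffineOpen (i ⁻¹ᵁ U) := isAffineOpen_preimage i hU hUle
  have eT : i ⁻¹ᵁ U ≤ (i ≫ p) ⁻¹ᵁ V := hT.le
  haveI qcΩ : Ω.IsQuasicoherent := isQuasicoherent_of_isUniversal d hd
  have hspan := span_pullRes i Ω hTaff hU le_rfl _ (span_d d e hd hU hV)
  have hr : LinearMap.range (Groth.Agent.Helper18.RecCS.appLin φ (i ⁻¹ᵁ U)) = ⊤ := by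
    rw [eq_top_iff, ← hspan, Submodule.span_le]
    rintro _ ⟨_, ⟨b, rfl⟩, rfl⟩
    change pullRes i Ω le_rfl (Der.app d U b) ∈ _
    rw [pullRes_refl]
    -- decompose `b = p♯ a + x`
    obtain ⟨c', hc'⟩ := (res_bijective_of_eq hT eT).2 (i.app U b)
    obtain ⟨a, ha⟩ := app_surjective (i ≫ p) hV hVle c'
    have hx : i.app U (b - p.appLE V U e a) = 0 := by
      rw [map_sub, sub_eq_zero, ← hc', ← ha]
      have := Scheme.Hom.appLE_comp_appLE i p V U (i ⁻¹ᵁ U) e le_rfl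
      have h2 : i.app U (p.appLE V U e a) = (i ≫ p).appLE V (i ⁻¹ᵁ U) eT a := by
        rw [← Scheme.Hom.appLE_eq_app]
        exact congr($this a)
      rw [h2]
      rfl
    obtain ⟨t, ht⟩ := Groth.Agent.Helper18.RecCS.exists_idealSect_eq i hU _ hx
    refine ⟨conormalSect i U t, ?_⟩
    change φ.app (i ⁻¹ᵁ U) (conormalSect i U t) = _
    rw [hφ U t, ht, map_sub, der_app_appLE, sub_zero]
  intro m
  have : m ∈ LinearMap.range (Groth.Agent.Helper18.RecCS.appLin φ (i ⁻¹ᵁ U)) := by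
    rw [hr]; trivial
  exact this


include hd hψ hφ hU hUle hV hVle e hT in
theorem exact_app_chart (m : Γ(Omega.conormal i, i ⁻¹ᵁ U)) (hm : φ.app (i ⁻¹ᵁ U) m = 0) :
    ∃ n : Γ((Scheme.Modules.pullback (𝟙 Z)).obj (Omega.conormal (i ≫ p)), i ⁻¹ᵁ U),
      ψ.app (i ⁻¹ᵁ U) n = m := by
  have hTaff : IsAffineOpen (i ⁻¹ᵁ U) := isAffineOpen_preimage i hU hUle
  have eT : i ⁻¹ᵁ U ≤ (i ≫ p) ⁻¹ᵁ V := hT.le
  letI algAB : Algebra Γ(Y, V) Γ(X, U) := algUV p e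
  letI algBC : Algebra Γ(X, U) Γ(Z, i ⁻¹ᵁ U) := (i.appLE U (i ⁻¹ᵁ U) le_rfl).hom.toAlgebra
  letI algAC : Algebra Γ(Y, V) Γ(Z, i ⁻¹ᵁ U) := algUV (i ≫ p) eT
  haveI : IsScalarTower Γ(Y, V) Γ(X, U) Γ(Z, i ⁻¹ᵁ U) := IsScalarTower.of_algebraMap_eq (fun a => by
    change (i ≫ p).appLE V (i ⁻¹ᵁ U) eT a = i.appLE U (i ⁻¹ᵁ U) le_rfl (p.appLE V U e a)
    have := Scheme.Hom.appLE_comp_appLE i p V U (i ⁻¹ᵁ U) e le_rfl
    exact (congr($this a)).symm)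
  have halgBC : ∀ b : Γ(X, U), algebraMap Γ(X, U) Γ(Z, i ⁻¹ᵁ U) b = i.app U b := fun b => by
    change i.appLE U (i ⁻¹ᵁ U) le_rfl b = _
    rw [Scheme.Hom.appLE_eq_app]
  have halgAC : ∀ a : Γ(Y, V), algebraMap Γ(Y, V) Γ(Z, i ⁻¹ᵁ U) a =
      Z.presheaf.map (homOfLE eT).op ((i ≫ p).app V a) := fun a => rfl
  have hBC : Function.Surjective (algebraMap Γ(X, U) Γ(Z, i ⁻¹ᵁ U)) := by
    intro c
    obtain ⟨b, hb⟩ := app_surjective i hU hUle c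
    exact ⟨b, (halgBC b).trans hb⟩
  have hAC : Function.Surjective (algebraMap Γ(Y, V) Γ(Z, i ⁻¹ᵁ U)) := by
    intro c
    obtain ⟨c', hc'⟩ := (res_bijective_of_eq hT eT).2 c
    obtain ⟨a, ha⟩ := app_surjective (i ≫ p) hV hVle c'
    exact ⟨a, by rw [halgAC, ha, hc']⟩
  haveI qcΩ : Ω.IsQuasicoherent := isQuasicoherent_of_isUniversal d hd
  haveI qcI : (ClSub.idealMod i.ker).IsQuasicoherent :=
    (SheafOfModules.isQuasicoherent X.ringCatSheaf).prop_of_iso (idealModIso i.ker).symm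
      inferInstance
  -- Step 1: `m` is the class of a section `s` of the ideal
  let α' := sectionsPullbackEquiv i (ClSub.idealMod i.ker) hTaff hU le_rfl
  obtain ⟨s, hs⟩ := TensorProduct.mk_surjective Γ(X, U) Γ(ClSub.idealMod i.ker, U) Γ(Z, i ⁻¹ᵁ U)
    hBC (α' m)
  have hm_eq : m = conormalSect i U s := by
    apply α'.injective
    rw [← hs]
    have h1 := sectionsPullbackEquiv_pullRes i (ClSub.idealMod i.ker) hTaff hU le_rfl s
    rw [pullRes_refl] at h1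
    exact h1.symm
  -- Step 2: `1 ⊗ D x = 0`
  set x := idealSect i.ker U s with hx_def
  have hx0 : algebraMap Γ(X, U) Γ(Z, i ⁻¹ᵁ U) x = 0 := by
    rw [halgBC]
    exact Groth.Agent.Helper18.RecCS.app_idealSect i U s
  have hφm : pullSect i Ω U (Der.app d U x) = 0 := by
    rw [← hφ U s, ← hm_eq]
    exact hm
  let α := sectionsPullbackEquiv i Ω hTaff hU le_rfl
  let ρ := recSec d e hd hU hV
  let β : Γ(Z, i ⁻¹ᵁ U) ⊗[Γ(X, U)] Γ(Ω, U) ≃ₗ[Γ(Z, i ⁻¹ᵁ U)]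
      Γ(Z, i ⁻¹ᵁ U) ⊗[Γ(X, U)] Ω[Γ(X, U)⁄Γ(Y, V)] :=
    TensorProduct.AlgebraTensorModule.congr (LinearEquiv.refl _ _) ρ
  have hαβ : β (α (pullSect i Ω U (Der.app d U x))) =
      (1 : Γ(Z, i ⁻¹ᵁ U)) ⊗ₜ[Γ(X, U)] KaehlerDifferential.D Γ(Y, V) Γ(X, U) x := by
    have h1 : α (pullSect i Ω U (Der.app d U x)) =
        (1 : Γ(Z, i ⁻¹ᵁ U)) ⊗ₜ[Γ(X, U)] (Der.app d U x) := by
      rw [← pullRes_refl i Ω (Der.app d U x)]
      exact sectionsPullbackEquiv_pullRes i Ω hTaff hU le_rfl _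
    rw [h1]
    change (1 : Γ(Z, i ⁻¹ᵁ U)) ⊗ₜ[Γ(X, U)] ρ (Der.app d U x) = _
    rw [recSec_d]
  have h1D : (1 : Γ(Z, i ⁻¹ᵁ U)) ⊗ₜ[Γ(X, U)] KaehlerDifferential.D Γ(Y, V) Γ(X, U) x = 0 := by
    rw [← hαβ, hφm, map_zero, map_zero]
  -- Step 3
  have hxK := Groth.Agent.Helper18.CnAlg.mem_of_one_tmul_D_eq_zero hBC hAC x hx0 h1D
  -- Step 4
  let R : Submodule Γ(Z, i ⁻¹ᵁ U) Γ(Omega.conormal i, i ⁻¹ᵁ U) :=
    LinearMap.range (Groth.Agent.Helper18.RecCS.appLin ψ (i ⁻¹ᵁ U))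
  let K' : Submodule Γ(X, U) Γ(ClSub.idealMod i.ker, U) :=
    { carrier := {t | conormalSect i U t ∈ R}
      add_mem' := fun {a b} ha hb => by
        change conormalSect i U (a + b) ∈ R
        rw [map_add]; exact R.add_mem ha hb
      zero_mem' := by
        change conormalSect i U 0 ∈ R
        rw [map_zero]; exact R.zero_mem
      smul_mem' := fun b t ht => by
        change conormalSect i U (b • t) ∈ R
        exact mem_of_eq' R (pullSect_smul i (ClSub.idealMod i.ker) U b t) (R.smul_mem _ ht) }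
  have hKle : (RingHom.ker (algebraMap Γ(Y, V) Γ(Z, i ⁻¹ᵁ U))).map (algebraMap Γ(Y, V) Γ(X, U)) ⊔
      (RingHom.ker (algebraMap Γ(X, U) Γ(Z, i ⁻¹ᵁ U))) ^ 2 ≤ Submodule.map (ιlin i U) K' := by
    apply sup_le
    · rw [Ideal.map_le_iff_le_comap]
      intro a ha
      rw [Ideal.mem_comap]
      have ha0 : (i ≫ p).app V a = 0 := by
        apply (res_bijective_of_eq hT eT).1
        rw [map_zero]
        exact ha
      obtain ⟨s', hs'⟩ := Groth.Agent.Helper18.RecCS.exists_idealSect_eq (i ≫ p) hV a ha0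
      obtain ⟨s'', hs''⟩ := exists_lift p i V s'
      refine ⟨(ClSub.idealMod i.ker).presheaf.map (homOfLE e).op s'', ?_, ?_⟩
      · change conormalSect i U _ ∈ R
        have h3 := psi_spec p i ψ hψ V s' s'' hs'' (i ⁻¹ᵁ U) eT
        exact mem_of_eq' R (pullSect_map i (ClSub.idealMod i.ker) e s'') ⟨_, h3⟩
      · change idealSect i.ker U _ = p.appLE V U e a
        rw [idealSect_apply, idealModι_app_map]
        change X.presheaf.map (homOfLE e).op (idealSect i.ker (p ⁻¹ᵁ V) s'') = _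
        rw [hs'', hs']
        rfl
    · rw [pow_two, Ideal.mul_le]
      intro y hy z hz
      have hz0 : i.app U z = 0 := by rw [← halgBC]; exact hz
      have hy0 : i.app U y = 0 := by rw [← halgBC]; exact hy
      obtain ⟨t, ht⟩ := Groth.Agent.Helper18.RecCS.exists_idealSect_eq i hU z hz0
      refine ⟨y • t, ?_, ?_⟩
      · change conormalSect i U (y • t) ∈ R
        refine mem_of_eq' R (pullSect_smul i (ClSub.idealMod i.ker) U y t) ?_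
        rw [hy0, zero_smul]
        exact R.zero_mem
      · rw [map_smul, smul_eq_mul]
        congr 1
  have hxmem : ιlin i U s ∈ Submodule.map (ιlin i U) K' := hKle hxK
  obtain ⟨s₁, hs₁, hs₁'⟩ := hxmem
  have hss : s₁ = s := ιlin_injective i U hs₁'
  rw [hss] at hs₁
  have hR : conormalSect i U s ∈ R := hs₁
  obtain ⟨n, hn⟩ := hR
  exact ⟨n, hn.trans hm_eq.symm⟩

end Chart


include hd hψ hφ in
theorem conormal_seq : ∃ w : ψ ≫ φ = 0, (ShortComplex.mk ψ φ w).Exact ∧ Epi φ := by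
  have w := psi_phi p i Ω d ψ hψ φ hφ
  haveI qcΩ : Ω.IsQuasicoherent := isQuasicoherent_of_isUniversal d hd
  haveI q1 : ((Scheme.Modules.pullback (𝟙 Z)).obj (Omega.conormal (i ≫ p))).IsQuasicoherent :=
    isQuasicoherent_pullback (𝟙 Z) (Omega.conormal (i ≫ p))
  haveI q3 : ((Scheme.Modules.pullback i).obj Ω).IsQuasicoherent := isQuasicoherent_pullback i Ω
  let 𝒰 : Set Z.Opens := {T | ∃ (U : X.Opens) (V : Y.Opens), IsAffineOpen U ∧
    U ≤ i.coborderRange ∧ IsAffineOpen V ∧ V ≤ (i ≫ p).coborderRange ∧ U ≤ p ⁻¹ᵁ V ∧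
    i ⁻¹ᵁ U = (i ≫ p) ⁻¹ᵁ V ∧ T = i ⁻¹ᵁ U}
  have hA : ∀ T ∈ 𝒰, IsAffineOpen T := by
    rintro T ⟨U, V, hU, hUle, -, -, -, -, rfl⟩
    exact isAffineOpen_preimage i hU hUle
  have hcov : ∀ z : Z, ∃ T ∈ 𝒰, z ∈ T := by
    intro z
    obtain ⟨U, V, hU, hUle, hV, hVle, e, hT, hz⟩ := exists_chart p i (i ≫ p) rfl z
    exact ⟨i ⁻¹ᵁ U, ⟨U, V, hU, hUle, hV, hVle, e, hT, rfl⟩, hz⟩
  refine ⟨w, ?_, ?_⟩
  · haveI : (ShortComplex.mk ψ φ w).X₁.IsQuasicoherent := q1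
    haveI : (ShortComplex.mk ψ φ w).X₂.IsQuasicoherent :=
      (inferInstance : (Omega.conormal i).IsQuasicoherent)
    haveI : (ShortComplex.mk ψ φ w).X₃.IsQuasicoherent := q3
    apply Groth.Agent.Helper18.QCBasic.exact_of_cover (ShortComplex.mk ψ φ w) 𝒰 hA hcov
    rintro T ⟨U, V, hU, hUle, hV, hVle, e, hT, rfl⟩ m hm
    exact exact_app_chart p i Ω d hd ψ hψ φ hφ hU hUle hV hVle e hT m hm
  · apply Groth.Agent.Helper18.QCBasic.epi_of_cover φ 𝒰 hA hcov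
    rintro T ⟨U, V, hU, hUle, hV, hVle, e, hT, rfl⟩
    exact surjective_phi_app p i Ω d hd φ hφ hU hUle hV hVle e hT

end Groth.Agent.Helper18.CnSeq
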