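import Mathlib
import Groth.Agent.Lib.Helper18.Rec3
import Groth.Agent.Lib.Helper13.QCohStalk

set_option autoImplicit false
set_option linter.style.haveILetI false
universe u
open CategoryTheory CategoryTheory.Limits AlgebraicGeometry TensorProduct TopologicalSpace

namespace Groth.Agent.Helper18.Rec

open OmegaSh Groth.Agent.Helper18.OmegaSec

variable {X S : Scheme.{u}} {f : X ⟶ S} {Ω' : X.Modules} (d : Der f Ω')

theorem subsingleton_sections_iff (hd : IsUniversal d) {U : X.Opens} {V : S.Opens}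
    (hU : IsAffineOpen U) (hV : IsAffineOpen V) (e : U ≤ f ⁻¹ᵁ V) :
    Subsingleton Γ(Ω', U) ↔ (f.appLE V U e).hom.FormallyUnramified := by
  letI := algUV f e
  have h1 : (f.appLE V U e).hom.FormallyUnramified ↔ Algebra.FormallyUnramified Γ(S, V) Γ(X, U) :=
    Iff.rfl
  rw [h1, Algebra.formallyUnramified_iff]
  exact (recSec d e hd hU hV).toEquiv.subsingleton_congr

theorem formallyUnramified_iff_isZero (hd : IsUniversal d) :
    FormallyUnramified f ↔ IsZero Ω' := by
  constructor
  · intro h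
    rw [Groth.Agent.Helper13.QCoh.isZero_iff_stalk]
    intro x
    refine ⟨fun a b => ?_⟩
    have key : ∀ t : Ω'.presheaf.stalk x, t = 0 := by
      intro t
      obtain ⟨W, hxW, t₀, rfl⟩ := TopCat.Presheaf.exists_germ_eq Ω'.presheaf t
      obtain ⟨_, ⟨V, hV, rfl⟩, hxV, -⟩ :=
        S.isBasis_affineOpens.exists_subset_of_mem_open (Set.mem_univ (f x)) isOpen_univ
      obtain ⟨_, ⟨U, hU, rfl⟩, hxU, hUW⟩ :=
        X.isBasis_affineOpens.exists_subset_of_mem_open
          (show x ∈ ((W ⊓ f ⁻¹ᵁ V : X.Opens) : Set X) from ⟨hxW, hxV⟩) (W ⊓ f ⁻¹ᵁ V).2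
      have hUW' : U ≤ W := fun y hy => (hUW hy).1
      have e : U ≤ f ⁻¹ᵁ V := fun y hy => (hUW hy).2
      have hsub : Subsingleton Γ(Ω', U) :=
        (subsingleton_sections_iff d hd hU hV e).2 (h.formallyUnramified_appLE hV hU e)
      have h0 : Ω'.presheaf.map (homOfLE hUW').op t₀ = 0 := hsub.elim _ _
      rw [← TopCat.Presheaf.germ_res_apply Ω'.presheaf (homOfLE hUW') x hxU t₀, h0,
        map_zero]
    rw [key a, key b]
  · intro h
    rw [Groth.Agent.Helper13.QCoh.isZero_iff_sections] at h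
    refine ⟨fun {V} hV {U} hU e => ?_⟩
    exact (subsingleton_sections_iff d hd hU hV e).1 (h U)

end Groth.Agent.Helper18.Rec
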