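import Mathlib
import Groth.Agent.Lib.Helper18.DerSeq
import Groth.Agent.Lib.Helper18.RecUnram

set_option autoImplicit false
set_option linter.style.haveILetI false
universe u
open CategoryTheory CategoryTheory.Limits AlgebraicGeometry TopologicalSpace Opposite

namespace Groth.Agent.Helper18.Rec

open OmegaSh Groth.Agent.Helper18.DerLib

variable {X Y Z : Scheme.{u}} (f : X ⟶ Y) (g : Y ⟶ Z)
    (ΩY : Y.Modules) (dY : OmegaSh.Der g ΩY) (hY : OmegaSh.IsUniversal dY)
    (ΩX : X.Modules) (dX : OmegaSh.Der (f ≫ g) ΩX) (hX : OmegaSh.IsUniversal dX)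
    (c₁ : (Scheme.Modules.pullback f).obj ΩY ⟶ ΩX) (hc₁ : OmegaSh.IsDiffCompat f dY dX c₁)

include hY hX in
/-- the cokernel of `f^*Ω_{Y/Z} → Ω_{X/Z}` with the induced derivation is universal for `f`. -/
theorem isUniversal_dQ : IsUniversal (dQ f g ΩY dY ΩX dX c₁ hc₁) := by
  intro F D
  obtain ⟨α, hα, hαu⟩ := hX F (weaken f g D)
  have hα' : ∀ (U : X.Opens) (s : Γ(X, U)), α.app U (Der.app dX U s) = Der.app D U s := by
    intro U s
    exact congrArg (fun D' => Der.app D' U s) hα
  have hzero : c₁ ≫ α = 0 := by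
    have hsq : (f ≫ g) ≫ 𝟙 Z = f ≫ g := Category.comp_id _
    obtain ⟨c, -, huniq⟩ := existsUnique_isDiffCompat (f := g) (f' := f ≫ g) f (𝟙 Z) hsq
      (zeroDer (f ≫ g) F) dY hY
    have h1 : IsDiffCompat f dY (zeroDer (f ≫ g) F) (c₁ ≫ α) := by
      intro V t
      rw [comp_app_apply, hc₁ V t, hα', zeroDer_app]
      exact der_app_app D V t
    have h2 : IsDiffCompat f dY (zeroDer (f ≫ g) F)
        (0 : (Scheme.Modules.pullback f).obj ΩY ⟶ F) := by
      intro V t
      rw [zeroDer_app]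
      rfl
    rw [huniq _ h1, huniq _ h2]
  refine ⟨cokernel.desc c₁ α hzero, ?_, ?_⟩
  · apply der_ext
    intro U s
    rw [postcomp_app, dQ_app, ← comp_app_apply, cokernel.π_desc, hα']
  · intro β hβ
    have hβ' : ∀ (U : X.Opens) (s : Γ(X, U)),
        β.app U ((cokernel.π c₁).app U (Der.app dX U s)) = Der.app D U s := by
      intro U s
      exact congrArg (fun D' => Der.app D' U s) hβ
    have h1 : cokernel.π c₁ ≫ β = α := hαu _ (by
      apply der_ext
      intro U s
      rw [postcomp_app, comp_app_apply, hβ', weaken_app])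
    rw [← cancel_epi (cokernel.π c₁), h1, cokernel.π_desc]

include hY hX hc₁ in
theorem formallyUnramified_iff_epi : FormallyUnramified f ↔ Epi c₁ := by
  rw [formallyUnramified_iff_isZero _ (isUniversal_dQ f g ΩY dY hY ΩX dX hX c₁ hc₁),
    Preadditive.epi_iff_isZero_cokernel]

end Groth.Agent.Helper18.Rec
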