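import Mathlib
import Groth.Agent.Lib.Helper18.CnSeq
import Groth.Agent.Lib.Helper18.RecCoker
import Groth.Agent.Lib.Helper18.PbCompat

set_option autoImplicit false
set_option linter.style.haveILetI false
set_option linter.unusedSectionVars false
set_option maxRecDepth 8000
universe u
open CategoryTheory CategoryTheory.Limits AlgebraicGeometry TopologicalSpace Opposite TensorProduct

namespace Groth.Agent.Helper18.CnSplit

open OmegaSh Groth.Agent.Helper18.DerLib Groth.Agent.Helper18.Rec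

variable {Z X S : Scheme.{u}} (f : X ⟶ S) (i : Z ⟶ X)
    (g : X ⟶ Z) (hgi : i ≫ g = 𝟙 Z) (hgS : g ≫ i ≫ f = f)
    (ΩX : X.Modules) (dX : OmegaSh.Der f ΩX) (hX : OmegaSh.IsUniversal dX)
    (ΩZ : Z.Modules) (dZ : OmegaSh.Der (i ≫ f) ΩZ) (hZ : OmegaSh.IsUniversal dZ)
    (c : (Scheme.Modules.pullback i).obj ΩX ⟶ ΩZ) (hc : OmegaSh.IsDiffCompat i dX dZ c)

include hgi in
theorem preimage_eq (T : Z.Opens) : i ⁻¹ᵁ (g ⁻¹ᵁ T) = T := by
  change (i ≫ g) ⁻¹ᵁ T = T
  rw [hgi]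
  rfl

include hgi in
theorem app_app (T : Z.Opens) (z : Γ(Z, T)) :
    Z.presheaf.map (eqToHom (preimage_eq i g hgi T).symm).op (i.app (g ⁻¹ᵁ T) (g.app T z)) = z := by
  have h1 := Scheme.Hom.congr_app hgi T
  have h2 : i.app (g ⁻¹ᵁ T) (g.app T z) = (i ≫ g).app T z := rfl
  rw [h2, h1]
  have key : ∀ (W : Z.Opens) (a : op T ⟶ op W) (b : op W ⟶ op T),
      Z.presheaf.map b (Z.presheaf.map a z) = z := by
    intro W a b
    have h3 : Z.presheaf.map a ≫ Z.presheaf.map b = 𝟙 _ := by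
      rw [← Functor.map_comp]
      have : a ≫ b = 𝟙 _ := Subsingleton.elim _ _
      rw [this, CategoryTheory.Functor.map_id]
    exact congr($h3 z)
  exact key _ _ _

/-- the derivation `O_Z → i^*Ω_X`, `z ↦ i^*(d(g♯ z))`. -/
noncomputable def D₃ : OmegaSh.Der (i ≫ f) ((Scheme.Modules.pullback i).obj ΩX) :=
  ((pushDer g (𝟙 S) (show f ≫ 𝟙 S = g ≫ (i ≫ f) by rw [Category.comp_id, hgS]) dX).postcomp
    ((Scheme.Modules.pushforward g).map
      ((Scheme.Modules.pullbackPushforwardAdjunction i).unit.app ΩX) ≫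
     (Scheme.Modules.pushforwardComp i g).hom.app _ ≫
     (Scheme.Modules.pushforwardCongr hgi).hom.app _ ≫
     (Scheme.Modules.pushforwardId Z).hom.app _).val)

theorem D₃_app (T : Z.Opens) (z : Γ(Z, T)) :
    Der.app (D₃ f i g hgi hgS ΩX dX) T z =
      ((Scheme.Modules.pullback i).obj ΩX).presheaf.map
        (eqToHom (preimage_eq i g hgi T).symm).op
        (pullSect i ΩX (g ⁻¹ᵁ T) (Der.app dX (g ⁻¹ᵁ T) (g.app T z))) := rfl


include hgi hgS hZ hc in
/-- the section of `c : i^*Ω_X → Ω_Z` induced by the left inverse `g`. -/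
theorem exists_section : ∃ σ : ΩZ ⟶ (Scheme.Modules.pullback i).obj ΩX, σ ≫ c = 𝟙 _ := by
  obtain ⟨σ, hσ, -⟩ := hZ _ (D₃ f i g hgi hgS ΩX dX)
  refine ⟨σ, ?_⟩
  have hσ' : ∀ (T : Z.Opens) (z : Γ(Z, T)),
      σ.app T (Der.app dZ T z) = Der.app (D₃ f i g hgi hgS ΩX dX) T z := by
    intro T z
    exact congrArg (fun D' => Der.app D' T z) hσ
  obtain ⟨α, -, hαu⟩ := hZ ΩZ dZ
  have h1 : σ ≫ c = α := hαu _ (by
    apply der_ext
    intro T z
    rw [postcomp_app, comp_app_apply, hσ', D₃_app,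
      Groth.Agent.Helper18.PbCompat.hom_naturality, hc (g ⁻¹ᵁ T), ← der_app_map]
    congr 1
    exact app_app i g hgi T z)
  have h2 : 𝟙 ΩZ = α := hαu _ (by
    apply der_ext
    intro T z
    rw [postcomp_app]
    rfl)
  rw [h1, h2]


section Cast

variable {P Q : Scheme.{u}}

/-- transport a derivation along an equality of structure morphisms -/
def castDer {q q' : P ⟶ Q} (h : q = q') {F : P.Modules} (D : OmegaSh.Der q F) : OmegaSh.Der q' F :=
  h ▸ D

theorem castDer_app {q q' : P ⟶ Q} (h : q = q') {F : P.Modules} (D : OmegaSh.Der q F)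
    (U : P.Opens) (s : Γ(P, U)) : Der.app (castDer h D) U s = Der.app D U s := by
  subst h
  rfl

theorem isUniversal_castDer {q q' : P ⟶ Q} (h : q = q') {F : P.Modules} (D : OmegaSh.Der q F)
    (hD : IsUniversal D) : IsUniversal (castDer h D) := by
  subst h
  exact hD

end Cast

theorem conormal_seq' {Z X Y : Scheme.{u}} (p : X ⟶ Y) (i : Z ⟶ X) (j : Z ⟶ Y) [IsImmersion i]
    [IsImmersion j] [QuasiCompact i] [QuasiCompact j] (hij : i ≫ p = j)
    (Ω : X.Modules) (d : OmegaSh.Der p Ω) (hd : OmegaSh.IsUniversal d)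
    (ψ : (Scheme.Modules.pullback (𝟙 Z)).obj (Omega.conormal j) ⟶ Omega.conormal i)
    (hψ : OmegaSh.IsConormalMap i j p (𝟙 Z) ψ)
    (φ : Omega.conormal i ⟶ (Scheme.Modules.pullback i).obj Ω)
    (hφ : OmegaSh.IsConormalDiff i d φ) :
    ∃ w : ψ ≫ φ = 0, (ShortComplex.mk ψ φ w).Exact ∧ Epi φ := by
  subst hij
  exact Groth.Agent.Helper18.CnSeq.conormal_seq p i Ω d hd ψ hψ φ hφ

include hgi in
theorem isConormalMap_zero :
    OmegaSh.IsConormalMap i (𝟙 Z) g (𝟙 Z)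
      (0 : (Scheme.Modules.pullback (𝟙 Z)).obj (Omega.conormal (𝟙 Z)) ⟶ Omega.conormal i) := by
  refine ⟨by rw [hgi, Category.comp_id], ?_⟩
  intro U' s' s hs V h₁ h₂
  have h0 : idealSect (Scheme.Hom.ker (𝟙 Z)) U' s' = 0 := by
    have := Groth.Agent.Helper18.RecCS.app_idealSect (𝟙 Z) U' s'
    exact this
  rw [h0, map_zero] at hs
  have hs0 : s = 0 := by
    apply Groth.Agent.Helper18.CnSeq.ιlin_injective i (g ⁻¹ᵁ U')
    rw [map_zero]
    exact hs
  rw [hs0, map_zero, map_zero]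
  change (Omega.conormal i).presheaf.map (homOfLE h₁).op 0 = 0
  rw [map_zero]


include hgi hgS hX hZ in
/-- the retraction of `φ : C_{Z/X} → i^*Ω_X` induced by the left inverse `g`: through
`C_{Z/X} ≅ i^*Ω_{X/Z}`. -/
theorem exists_retraction [IsImmersion i] [QuasiCompact i]
    (φ : Omega.conormal i ⟶ (Scheme.Modules.pullback i).obj ΩX)
    (hφ : OmegaSh.IsConormalDiff i dX φ) :
    ∃ r : (Scheme.Modules.pullback i).obj ΩX ⟶ Omega.conormal i, φ ≫ r = 𝟙 _ := by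
  let dX' : OmegaSh.Der (g ≫ i ≫ f) ΩX := castDer hgS.symm dX
  have hX' : IsUniversal dX' := isUniversal_castDer _ _ hX
  have hsq : (g ≫ i ≫ f) ≫ 𝟙 S = g ≫ (i ≫ f) := Category.comp_id _
  obtain ⟨c', hc', -⟩ := existsUnique_isDiffCompat (f := i ≫ f) (f' := g ≫ i ≫ f) g (𝟙 S) hsq
    dX' dZ hZ
  have hc'' : IsDiffCompat g dZ dX' c' := hc'
  let dQ' := dQ g (i ≫ f) ΩZ dZ ΩX dX' c' hc''
  have hQ : IsUniversal dQ' := isUniversal_dQ g (i ≫ f) ΩZ dZ hZ ΩX dX' hX' c' hc''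
  let φQ : Omega.conormal i ⟶ (Scheme.Modules.pullback i).obj (cokernel c') :=
    φ ≫ (Scheme.Modules.pullback i).map (cokernel.π c')
  have hφQ : IsConormalDiff i dQ' φQ := by
    intro U s
    change ((Scheme.Modules.pullback i).map (cokernel.π c')).app (i ⁻¹ᵁ U)
      (φ.app (i ⁻¹ᵁ U) (conormalSect i U s)) = _
    rw [hφ U s, Groth.Agent.Helper18.PbCompat.pullback_map_app, dQ_app, castDer_app]
  obtain ⟨w, hex, hepi⟩ := conormal_seq' g i (𝟙 Z) hgi (cokernel c') dQ' hQ 0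
    (isConormalMap_zero i g hgi) φQ hφQ
  haveI : Mono φQ := (ShortComplex.exact_iff_mono _ rfl).1 hex
  haveI : IsIso φQ := isIso_of_mono_of_epi φQ
  refine ⟨(Scheme.Modules.pullback i).map (cokernel.π c') ≫ inv φQ, ?_⟩
  rw [← Category.assoc]
  exact IsIso.hom_inv_id φQ


include hgi hgS hX hZ hc in
theorem split_seq [IsImmersion i] [QuasiCompact i]
    (φ : Omega.conormal i ⟶ (Scheme.Modules.pullback i).obj ΩX)
    (hφ : OmegaSh.IsConormalDiff i dX φ) :
    ∃ w : φ ≫ c = 0, (ShortComplex.mk φ c w).Exact ∧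
      (∃ r : (Scheme.Modules.pullback i).obj ΩX ⟶ Omega.conormal i, φ ≫ r = 𝟙 _) ∧
      ∃ σ : ΩZ ⟶ (Scheme.Modules.pullback i).obj ΩX, σ ≫ c = 𝟙 _ := by
  have w := Groth.Agent.Helper18.RecCS.φ_c f i ΩX dX ΩZ dZ φ hφ c hc
  have hex : (ShortComplex.mk φ c w).Exact := by
    apply Groth.Agent.Helper18.BasisCrit.exact_of_basis _
      (Groth.Agent.Helper18.RecCS.isBasis_chartSet f i)
    rintro U ⟨V, W, hV, hle, hW, e, rfl⟩ m hm
    exact Groth.Agent.Helper18.RecCS.exact_app f i ΩX dX hX ΩZ dZ hZ φ hφ c hc hV hle hW e m hm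
  exact ⟨w, hex, exists_retraction f i g hgi hgS ΩX dX hX ΩZ dZ hZ φ hφ,
    exists_section f i g hgi hgS ΩX dX ΩZ dZ hZ c hc⟩

end Groth.Agent.Helper18.CnSplit
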