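import Mathlib
import Groth.Agent.Lib.Helper18.CnSplit
import Groth.Agent.Lib.Helper18.AffHom

set_option autoImplicit false
set_option linter.style.haveILetI false
set_option linter.unusedSectionVars false
set_option maxRecDepth 8000
universe u
open CategoryTheory CategoryTheory.Limits AlgebraicGeometry TopologicalSpace Opposite

namespace Groth.Agent.Helper18.CnDiff

open OmegaSh Groth.Agent.Helper18.DerLib

variable {X Y Z : Scheme.{u}} (i : Z ⟶ X) {f : X ⟶ Y} {Ω' : X.Modules} (d : Der f Ω')

theorem idealSect_smul (I : X.IdealSheafData) (U : X.Opens) (r : Γ(X, U))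
    (s : Γ(ClSub.idealMod I, U)) : idealSect I U (r • s) = r * idealSect I U s := by
  rw [idealSect_apply, idealSect_apply, Scheme.Modules.Hom.app_smul]
  rfl

theorem idealSect_map (I : X.IdealSheafData) {U V : X.Opens} (h : U ≤ V)
    (s : Γ(ClSub.idealMod I, V)) :
    idealSect I U ((ClSub.idealMod I).presheaf.map (homOfLE h).op s) =
      X.presheaf.map (homOfLE h).op (idealSect I V s) := by
  rw [idealSect_apply, idealSect_apply]
  have h1 := Groth.Agent.Helper18.AffHom.app_res (ClSub.idealModι I) h s
  rw [Groth.Agent.Helper18.AffHom.res] at h1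
  rw [h1]
  rfl

theorem pullSect_map (M : X.Modules) {U V : X.Opens} (h : U ≤ V) (m : Γ(M, V)) :
    pullSect i M U (M.presheaf.map (homOfLE h).op m) =
      ((Scheme.Modules.pullback i).obj M).presheaf.map
        (homOfLE (show i ⁻¹ᵁ U ≤ i ⁻¹ᵁ V from fun _ hx => h hx)).op (pullSect i M V m) := by
  have h1 := Groth.Agent.Helper18.AffHom.app_res
    ((Scheme.Modules.pullbackPushforwardAdjunction i).unit.app M) h m
  exact h1

theorem pullSect_smul (M : X.Modules) (U : X.Opens) (r : Γ(X, U)) (m : Γ(M, U)) :
    pullSect i M U (r • m) = i.app U r • pullSect i M U m := by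
  have h1 := Scheme.Modules.Hom.app_smul
    ((Scheme.Modules.pullbackPushforwardAdjunction i).unit.app M) r m
  exact h1

theorem pre_nat {U V : X.Opens} (hle : V ≤ U) (s : Γ(ClSub.idealMod i.ker, U)) :
    pullSect i Ω' V (d.app V (idealSect i.ker V
      ((ClSub.idealMod i.ker).presheaf.map (homOfLE hle).op s))) =
      ((Scheme.Modules.pullback i).obj Ω').presheaf.map
        (homOfLE (show i ⁻¹ᵁ V ≤ i ⁻¹ᵁ U from fun _ hx => hle hx)).op
        (pullSect i Ω' U (d.app U (idealSect i.ker U s))) := by
  rw [idealSect_map, der_app_map, pullSect_map]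

theorem pre_smul (U : X.Opens) (r : Γ(X, U)) (s : Γ(ClSub.idealMod i.ker, U)) :
    pullSect i Ω' U (d.app U (idealSect i.ker U (r • s))) =
      i.app U r • pullSect i Ω' U (d.app U (idealSect i.ker U s)) := by
  rw [idealSect_smul, der_app_mul, map_add, pullSect_smul, pullSect_smul,
    Groth.Agent.Helper18.RecCS.app_idealSect, zero_smul, add_zero]

/-- the `O_X`-linear map `𝓘 → i_* i^* Ω'`, `s ↦ i^*(d s)`. -/
noncomputable def pre :
    ClSub.idealMod i.ker ⟶
      (Scheme.Modules.pushforward i).obj ((Scheme.Modules.pullback i).obj Ω') :=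
  ⟨PresheafOfModules.homMk
    { app := fun U => AddCommGrpCat.ofHom
        ((pullSect i Ω' U.unop).hom.comp ((d.app U.unop).comp (idealSect i.ker U.unop)))
      naturality := fun U V j => by
        ext s
        obtain ⟨U⟩ := U
        obtain ⟨V⟩ := V
        have hle : V ≤ U := leOfHom j.unop
        have hj : j = (homOfLE hle).op := Subsingleton.elim _ _
        subst hj
        exact pre_nat i d hle s }
    (fun U r s => by
      obtain ⟨U⟩ := U
      exact pre_smul i d U r s)⟩

theorem pre_app (U : X.Opens) (s : Γ(ClSub.idealMod i.ker, U)) :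
    ((pre i d).app U s : Γ((Scheme.Modules.pullback i).obj Ω', i ⁻¹ᵁ U)) =
      pullSect i Ω' U (d.app U (idealSect i.ker U s)) := rfl

/-- existence of the canonical map `C_{Z/X} → i^* Ω'`. -/
theorem exists_isConormalDiff :
    ∃ φ : Omega.conormal i ⟶ (Scheme.Modules.pullback i).obj Ω', IsConormalDiff i d φ := by
  refine ⟨((Scheme.Modules.pullbackPushforwardAdjunction i).homEquiv _ _).symm (pre i d), ?_⟩
  intro U s
  have h1 := homEquiv_app i
    (((Scheme.Modules.pullbackPushforwardAdjunction i).homEquiv _ _).symm (pre i d)) U s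
  rw [Equiv.apply_symm_apply] at h1
  exact h1.symm

end Groth.Agent.Helper18.CnDiff
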