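import Mathlib
import Groth.Agent.Lib.Helper18.CnDiff
import Groth.Agent.Lib.Helper18.RecCS3
import Groth.Agent.Lib.Helper18.PbCompat

set_option autoImplicit false
set_option linter.style.haveILetI false
set_option linter.unusedSectionVars false
set_option maxRecDepth 8000
universe u
open CategoryTheory CategoryTheory.Limits AlgebraicGeometry TopologicalSpace Opposite

namespace Groth.Agent.Helper18.CnMap

open OmegaSh Groth.Agent.Helper18.DerLib Groth.Agent.Helper18.CnDiff Groth.Agent.Helper18.AffHom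

variable {Z X Z' X' : Scheme.{u}} (i : Z ⟶ X) (i' : Z' ⟶ X') [QuasiCompact i]
  (g : X ⟶ X') (gZ : Z ⟶ Z') (hsq : gZ ≫ i' = i ≫ g)

include hsq in
theorem app_app_idealSect (U' : X'.Opens) (s' : Γ(ClSub.idealMod i'.ker, U')) :
    i.app (g ⁻¹ᵁ U') (g.app U' (idealSect i'.ker U' s')) = 0 := by
  have h1 := Scheme.Hom.congr_app hsq.symm U'
  have h2 : (i ≫ g).app U' (idealSect i'.ker U' s') =
      i.app (g ⁻¹ᵁ U') (g.app U' (idealSect i'.ker U' s')) := rfl
  rw [← h2, h1]
  have h3 : (gZ ≫ i').app U' (idealSect i'.ker U' s') = 0 := by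
    change gZ.app (i' ⁻¹ᵁ U') (i'.app U' (idealSect i'.ker U' s')) = 0
    rw [Groth.Agent.Helper18.RecCS.app_idealSect, map_zero]
  rw [CommRingCat.comp_apply, h3, map_zero]
  rfl

/-- `ρ` on sections -/
noncomputable def rhoFun (U' : X'.Opens) (s' : Γ(ClSub.idealMod i'.ker, U')) :
    Γ(ClSub.idealMod i.ker, g ⁻¹ᵁ U') :=
  (Groth.Agent.Helper18.RecCS.exists_idealSect_eq' i (g ⁻¹ᵁ U') _
    (app_app_idealSect i i' g gZ hsq U' s')).choose

theorem rhoFun_spec (U' : X'.Opens) (s' : Γ(ClSub.idealMod i'.ker, U')) :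
    idealSect i.ker (g ⁻¹ᵁ U') (rhoFun i i' g gZ hsq U' s') =
      g.app U' (idealSect i'.ker U' s') :=
  (Groth.Agent.Helper18.RecCS.exists_idealSect_eq' i (g ⁻¹ᵁ U') _
    (app_app_idealSect i i' g gZ hsq U' s')).choose_spec

theorem idealSect_injective (I : X.IdealSheafData) (U : X.Opens) :
    Function.Injective (idealSect I U) := by
  intro s t h
  exact idealModι_app_injective U I h

theorem rhoFun_unique (U' : X'.Opens) (s' : Γ(ClSub.idealMod i'.ker, U'))
    (s : Γ(ClSub.idealMod i.ker, g ⁻¹ᵁ U'))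
    (h : idealSect i.ker (g ⁻¹ᵁ U') s = g.app U' (idealSect i'.ker U' s')) :
    s = rhoFun i i' g gZ hsq U' s' := by
  apply idealSect_injective
  rw [h, rhoFun_spec]

theorem rhoFun_add (U' : X'.Opens) (s' t' : Γ(ClSub.idealMod i'.ker, U')) :
    rhoFun i i' g gZ hsq U' (s' + t') =
      rhoFun i i' g gZ hsq U' s' + rhoFun i i' g gZ hsq U' t' := by
  symm
  apply rhoFun_unique
  rw [map_add, map_add, map_add, rhoFun_spec, rhoFun_spec]

theorem rhoFun_zero (U' : X'.Opens) : rhoFun i i' g gZ hsq U' 0 = 0 := by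
  symm
  apply rhoFun_unique
  rw [map_zero, map_zero, map_zero]

theorem rhoFun_smul (U' : X'.Opens) (r : Γ(X', U')) (s' : Γ(ClSub.idealMod i'.ker, U')) :
    rhoFun i i' g gZ hsq U' (r • s') = g.app U' r • rhoFun i i' g gZ hsq U' s' := by
  symm
  apply rhoFun_unique
  rw [idealSect_smul, idealSect_smul, rhoFun_spec, map_mul]

theorem rhoFun_map {U' V' : X'.Opens} (hle : V' ≤ U') (s' : Γ(ClSub.idealMod i'.ker, U')) :
    rhoFun i i' g gZ hsq V' ((ClSub.idealMod i'.ker).presheaf.map (homOfLE hle).op s') =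
      (ClSub.idealMod i.ker).presheaf.map
        (homOfLE (show g ⁻¹ᵁ V' ≤ g ⁻¹ᵁ U' from fun _ hx => hle hx)).op
        (rhoFun i i' g gZ hsq U' s') := by
  symm
  apply rhoFun_unique
  rw [idealSect_map, idealSect_map, rhoFun_spec]
  exact (congr($(g.naturality (homOfLE hle).op) (idealSect i'.ker U' s'))).symm

/-- the map of ideals `𝓘' → g_* 𝓘` induced by `g♯`. -/
noncomputable def rho :
    ClSub.idealMod i'.ker ⟶ (Scheme.Modules.pushforward g).obj (ClSub.idealMod i.ker) :=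
  ⟨PresheafOfModules.homMk
    { app := fun U' => AddCommGrpCat.ofHom
        { toFun := rhoFun i i' g gZ hsq U'.unop
          map_zero' := rhoFun_zero i i' g gZ hsq U'.unop
          map_add' := rhoFun_add i i' g gZ hsq U'.unop }
      naturality := fun U' V' j => by
        ext s'
        obtain ⟨U'⟩ := U'
        obtain ⟨V'⟩ := V'
        have hle : V' ≤ U' := leOfHom j.unop
        have hj : j = (homOfLE hle).op := Subsingleton.elim _ _
        subst hj
        exact rhoFun_map i i' g gZ hsq hle s' }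
    (fun U' r s' => by
      obtain ⟨U'⟩ := U'
      exact rhoFun_smul i i' g gZ hsq U' r s')⟩

theorem rho_app (U' : X'.Opens) (s' : Γ(ClSub.idealMod i'.ker, U')) :
    ((rho i i' g gZ hsq).app U' s' : Γ(ClSub.idealMod i.ker, g ⁻¹ᵁ U')) =
      rhoFun i i' g gZ hsq U' s' := rfl

/-- `g^* 𝓘' → 𝓘` -/
noncomputable def psiI : (Scheme.Modules.pullback g).obj (ClSub.idealMod i'.ker) ⟶
    ClSub.idealMod i.ker :=
  ((Scheme.Modules.pullbackPushforwardAdjunction g).homEquiv _ _).symm (rho i i' g gZ hsq)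

theorem psiI_app (U' : X'.Opens) (s' : Γ(ClSub.idealMod i'.ker, U')) :
    (psiI i i' g gZ hsq).app (g ⁻¹ᵁ U') (pullSect g (ClSub.idealMod i'.ker) U' s') =
      rhoFun i i' g gZ hsq U' s' := by
  have h1 := homEquiv_app g (psiI i i' g gZ hsq) U' s'
  rw [psiI, Equiv.apply_symm_apply] at h1
  exact h1.symm

/-- the canonical map of conormal sheaves. -/
noncomputable def cnMap :
    (Scheme.Modules.pullback gZ).obj (Omega.conormal i') ⟶ Omega.conormal i :=
  (Scheme.Modules.pullbackComp gZ i').hom.app (ClSub.idealMod i'.ker) ≫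
    (Scheme.Modules.pullbackCongr hsq).hom.app (ClSub.idealMod i'.ker) ≫
    (Scheme.Modules.pullbackComp i g).inv.app (ClSub.idealMod i'.ker) ≫
    (Scheme.Modules.pullback i).map (psiI i i' g gZ hsq)

include hsq in
theorem preimage_le (U' : X'.Opens) : gZ ⁻¹ᵁ (i' ⁻¹ᵁ U') ≤ i ⁻¹ᵁ (g ⁻¹ᵁ U') := by
  change (gZ ≫ i') ⁻¹ᵁ U' ≤ (i ≫ g) ⁻¹ᵁ U'
  rw [hsq]

theorem cnMap_app (U' : X'.Opens) (s' : Γ(ClSub.idealMod i'.ker, U')) :
    (cnMap i i' g gZ hsq).app (gZ ⁻¹ᵁ (i' ⁻¹ᵁ U'))
      (pullSect gZ (Omega.conormal i') (i' ⁻¹ᵁ U') (conormalSect i' U' s')) =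
    (Omega.conormal i).presheaf.map (homOfLE (preimage_le i i' g gZ hsq U')).op
      (conormalSect i (g ⁻¹ᵁ U') (rhoFun i i' g gZ hsq U' s')) := by
  have e1 := Groth.Agent.Helper18.PbCompat.pullbackComp_hom_app gZ i' (ClSub.idealMod i'.ker) U' s'
  have e2 := Groth.Agent.Helper18.PbCompat.pullbackCongr_hom_app hsq (ClSub.idealMod i'.ker) U' s'
    (preimage_le i i' g gZ hsq U')
  have e3 := Groth.Agent.Helper18.PbCompat.pullbackComp_inv_app i g (ClSub.idealMod i'.ker) U' s'
  have e4 := Groth.Agent.Helper18.PbCompat.pullback_map_app i (psiI i i' g gZ hsq) (g ⁻¹ᵁ U')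
    (pullSect g (ClSub.idealMod i'.ker) U' s')
  rw [psiI_app] at e4
  have hle := preimage_le i i' g gZ hsq U'
  have t3 := app_res ((Scheme.Modules.pullbackComp i g).inv.app (ClSub.idealMod i'.ker)) hle
    (pullSect (i ≫ g) (ClSub.idealMod i'.ker) U' s')
  have t4 := app_res ((Scheme.Modules.pullback i).map (psiI i i' g gZ hsq)) hle
    (pullSect i ((Scheme.Modules.pullback g).obj (ClSub.idealMod i'.ker)) (g ⁻¹ᵁ U')
      (pullSect g (ClSub.idealMod i'.ker) U' s'))
  change ((Scheme.Modules.pullback i).map (psiI i i' g gZ hsq)).app _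
    (((Scheme.Modules.pullbackComp i g).inv.app (ClSub.idealMod i'.ker)).app _
      (((Scheme.Modules.pullbackCongr hsq).hom.app (ClSub.idealMod i'.ker)).app _
        (((Scheme.Modules.pullbackComp gZ i').hom.app (ClSub.idealMod i'.ker)).app _
          (pullSect gZ (Omega.conormal i') (i' ⁻¹ᵁ U') (conormalSect i' U' s'))))) = _
  rw [conormalSect_eq]
  refine (congrArg (fun y => ((Scheme.Modules.pullback i).map (psiI i i' g gZ hsq)).app _
    (((Scheme.Modules.pullbackComp i g).inv.app (ClSub.idealMod i'.ker)).app _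
      (((Scheme.Modules.pullbackCongr hsq).hom.app (ClSub.idealMod i'.ker)).app _ y))) e1).trans ?_
  refine (congrArg (fun y => ((Scheme.Modules.pullback i).map (psiI i i' g gZ hsq)).app _
    (((Scheme.Modules.pullbackComp i g).inv.app (ClSub.idealMod i'.ker)).app _ y)) e2).trans ?_
  refine (congrArg (fun y => ((Scheme.Modules.pullback i).map (psiI i i' g gZ hsq)).app _ y)
    (t3.trans (congrArg _ e3))).trans ?_
  exact t4.trans (congrArg _ e4)

theorem isConormalMap_cnMap : IsConormalMap i i' g gZ (cnMap i i' g gZ hsq) := by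
  refine ⟨hsq, ?_⟩
  intro U' s' s hs V h₁ h₂
  rw [cnMap_app, ← rhoFun_unique i i' g gZ hsq U' s' s hs]
  exact res_res (Omega.conormal i) h₁ (preimage_le i i' g gZ hsq U') _

/-- morphisms out of a pullback are determined by their values on pulled back sections. -/
theorem hom_ext_pullSect {P Q : Scheme.{u}} (h : P ⟶ Q) {M : Q.Modules} {N : P.Modules}
    (α β : (Scheme.Modules.pullback h).obj M ⟶ N)
    (hαβ : ∀ (U : Q.Opens) (m : Γ(M, U)),
      α.app (h ⁻¹ᵁ U) (pullSect h M U m) = β.app (h ⁻¹ᵁ U) (pullSect h M U m)) : α = β := by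
  apply ((Scheme.Modules.pullbackPushforwardAdjunction h).homEquiv _ _).injective
  apply Scheme.Modules.hom_ext
  intro U
  ext m
  exact (homEquiv_app h α U m).trans ((hαβ U m).trans (homEquiv_app h β U m).symm)

theorem isConormalMap_unique
    (φ φ' : (Scheme.Modules.pullback gZ).obj (Omega.conormal i') ⟶ Omega.conormal i)
    (hφ : IsConormalMap i i' g gZ φ) (hφ' : IsConormalMap i i' g gZ φ') : φ = φ' := by
  have hsq := hφ.1
  apply hom_ext_pullSect
  intro W m
  -- reduce to `m = conormalSect i' U' s'` via a second adjunction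
  have key : ((Scheme.Modules.pullbackPushforwardAdjunction gZ).homEquiv _ _ φ) =
      ((Scheme.Modules.pullbackPushforwardAdjunction gZ).homEquiv _ _ φ') := by
    apply hom_ext_pullSect
    intro U' s'
    have h1 := homEquiv_app gZ φ (i' ⁻¹ᵁ U') (pullSect i' (ClSub.idealMod i'.ker) U' s')
    have h2 := homEquiv_app gZ φ' (i' ⁻¹ᵁ U') (pullSect i' (ClSub.idealMod i'.ker) U' s')
    refine h1.trans (Eq.trans ?_ h2.symm)
    have k1 := hφ.2 U' s' (rhoFun i i' g gZ hsq U' s') (rhoFun_spec i i' g gZ hsq U' s')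
      (gZ ⁻¹ᵁ (i' ⁻¹ᵁ U')) le_rfl (preimage_le i i' g gZ hsq U')
    have k2 := hφ'.2 U' s' (rhoFun i i' g gZ hsq U' s') (rhoFun_spec i i' g gZ hsq U' s')
      (gZ ⁻¹ᵁ (i' ⁻¹ᵁ U')) le_rfl (preimage_le i i' g gZ hsq U')
    rw [← conormalSect_eq]
    have r1 := res_self (Omega.conormal i) (φ.app (gZ ⁻¹ᵁ (i' ⁻¹ᵁ U'))
      (pullSect gZ (Omega.conormal i') (i' ⁻¹ᵁ U') (conormalSect i' U' s')))
    have r2 := res_self (Omega.conormal i) (φ'.app (gZ ⁻¹ᵁ (i' ⁻¹ᵁ U'))
      (pullSect gZ (Omega.conormal i') (i' ⁻¹ᵁ U') (conormalSect i' U' s')))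
    exact r1.symm.trans (k1.trans (k2.symm.trans r2))
  have h1 := homEquiv_app gZ φ W m
  have h2 := homEquiv_app gZ φ' W m
  rw [key] at h1
  exact h1.symm.trans h2

end Groth.Agent.Helper18.CnMap
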