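import Mathlib

set_option autoImplicit false
open TensorProduct

namespace Groth.Agent.Helper18.CnAlg

variable {A B C : Type*} [CommRing A] [CommRing B] [CommRing C] [Algebra A B] [Algebra B C]
  [Algebra A C] [IsScalarTower A B C]

/-- Left exactness of `J/J² → I/I²` for formally smooth `A → B`: an element of `J = ker (A → C)`
whose image lies in `I² = (ker (B → C))²` lies in `J²`. -/
theorem mem_sq_of_formallySmooth [Algebra.FormallySmooth A B]
    (hAC : Function.Surjective (algebraMap A C)) (a : A)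
    (h : algebraMap A B a ∈ (RingHom.ker (algebraMap B C)) ^ 2) :
    a ∈ (RingHom.ker (algebraMap A C)) ^ 2 := by
  set I := RingHom.ker (algebraMap B C) with hI
  set J := RingHom.ker (algebraMap A C) with hJ
  let g : (A ⧸ J ^ 2) →ₐ[A] C := Ideal.Quotient.liftₐ (J ^ 2) (Algebra.ofId A C) (by
    intro x hx
    have : x ∈ J := Ideal.pow_le_self two_ne_zero hx
    exact this)
  have hg_mk : ∀ x : A, g (Ideal.Quotient.mk (J ^ 2) x) = algebraMap A C x := fun x => rfl
  have hg : Function.Surjective g := by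
    intro c
    obtain ⟨x, rfl⟩ := hAC c
    exact ⟨Ideal.Quotient.mk (J ^ 2) x, hg_mk x⟩
  have hker : RingHom.ker (g : (A ⧸ J ^ 2) →+* C) = J.map (Ideal.Quotient.mk (J ^ 2)) := by
    ext y
    obtain ⟨x, rfl⟩ := Ideal.Quotient.mk_surjective y
    rw [RingHom.mem_ker]
    constructor
    · intro hx
      exact Ideal.mem_map_of_mem _ (by rw [hJ, RingHom.mem_ker]; exact hx)
    · intro hx
      rw [Ideal.mem_map_iff_of_surjective _ Ideal.Quotient.mk_surjective] at hx
      obtain ⟨x', hx', hxx'⟩ := hx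
      change g (Ideal.Quotient.mk (J ^ 2) x) = 0
      rw [← hxx']
      change algebraMap A C x' = 0
      exact hx'
  have hsq : (RingHom.ker (g : (A ⧸ J ^ 2) →+* C)) ^ 2 = ⊥ := by
    rw [hker, ← Ideal.map_pow]
    exact Ideal.map_mk_eq_bot_of_le le_rfl
  have hnil : IsNilpotent (RingHom.ker (g : (A ⧸ J ^ 2) →+* C)) := ⟨2, hsq⟩
  let τ : B →ₐ[A] (A ⧸ J ^ 2) :=
    Algebra.FormallySmooth.liftOfSurjective (IsScalarTower.toAlgHom A B C) g hg hnil
  have hτ : ∀ b : B, g (τ b) = algebraMap B C b := fun b =>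
    Algebra.FormallySmooth.liftOfSurjective_apply (IsScalarTower.toAlgHom A B C) g hg hnil b
  have hI_le : I ≤ (RingHom.ker (g : (A ⧸ J ^ 2) →+* C)).comap (τ : B →+* (A ⧸ J ^ 2)) := by
    intro b hb
    rw [Ideal.mem_comap, RingHom.mem_ker]
    change g (τ b) = 0
    rw [hτ]
    exact hb
  have hI2 : I ^ 2 ≤ ((RingHom.ker (g : (A ⧸ J ^ 2) →+* C)) ^ 2).comap
      (τ : B →+* (A ⧸ J ^ 2)) :=
    (Ideal.pow_right_mono hI_le 2).trans (Ideal.le_comap_pow _ 2)
  have h1 := hI2 h
  rw [hsq, Ideal.mem_comap, Ideal.mem_bot] at h1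
  have h2 : τ (algebraMap A B a) = Ideal.Quotient.mk (J ^ 2) a := τ.commutes a
  change τ (algebraMap A B a) = 0 at h1
  rw [h2] at h1
  exact Ideal.Quotient.eq_zero_iff_mem.1 h1

end Groth.Agent.Helper18.CnAlg
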