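import Mathlib
import Groth.Agent.Lib.Helper18.CnSeq
import Groth.Agent.Lib.Helper18.CnAlg2

set_option autoImplicit false
set_option linter.style.haveILetI false
set_option linter.unusedSectionVars false
set_option maxRecDepth 8000
universe u
open CategoryTheory CategoryTheory.Limits AlgebraicGeometry TopologicalSpace Opposite TensorProduct

namespace Groth.Agent.Helper18.CnSeq

open OmegaSh Groth.Agent.Helper18.DerLib Groth.Agent.Helper18.OmegaSec
  Groth.Agent.Helper18.Rec Groth.Agent.Helper18.ConormalImm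
  Groth.Agent.Helper13.EffCartier Groth.Agent.Helper13.Pullback

variable {Z X Y : Scheme.{u}} (p : X ⟶ Y) (i : Z ⟶ X) [IsImmersion i] [IsImmersion (i ≫ p)]
  [QuasiCompact i] [QuasiCompact (i ≫ p)]
  (ψ : (Scheme.Modules.pullback (𝟙 Z)).obj (Omega.conormal (i ≫ p)) ⟶ Omega.conormal i)
  (hψ : OmegaSh.IsConormalMap i (i ≫ p) p (𝟙 Z) ψ)

section ClassZero

variable {P Q : Scheme.{u}} (j : P ⟶ Q) [IsImmersion j] [QuasiCompact j]

/-- the range of the inclusion of the ideal on an affine open is the kernel of `j♯`. -/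
theorem map_ιlin_top {V : Q.Opens} (hV : IsAffineOpen V) :
    Submodule.map (ιlin j V) ⊤ = RingHom.ker (j.app V).hom := by
  ext x
  constructor
  · rintro ⟨s, -, rfl⟩
    exact Groth.Agent.Helper18.RecCS.app_idealSect j V s
  · intro hx
    obtain ⟨s, hs⟩ := Groth.Agent.Helper18.RecCS.exists_idealSect_eq j hV x hx
    exact ⟨s, trivial, hs⟩

/-- a section of the ideal lying in `J • ⊤` has zero class in the conormal sheaf. -/
theorem conormalSect_eq_zero_of_mem {V : Q.Opens} (s : Γ(ClSub.idealMod j.ker, V))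
    (hs : s ∈ (RingHom.ker (j.app V).hom) • (⊤ : Submodule Γ(Q, V) Γ(ClSub.idealMod j.ker, V))) :
    conormalSect j V s = 0 := by
  refine Submodule.smul_induction_on hs ?_ ?_
  · intro a ha t _
    have h := pullSect_smul j (ClSub.idealMod j.ker) V a t
    have ha0 : j.app V a = 0 := ha
    rw [ha0, zero_smul] at h
    exact h
  · intro x y hx hy
    rw [map_add, hx, hy, add_zero]

end ClassZero


section Chart

variable {U : X.Opens} {V : Y.Opens} (hU : IsAffineOpen U) (hUle : U ≤ i.coborderRange)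
  (hV : IsAffineOpen V) (hVle : V ≤ (i ≫ p).coborderRange) (e : U ≤ p ⁻¹ᵁ V)
  (hT : i ⁻¹ᵁ U = (i ≫ p) ⁻¹ᵁ V)

include hψ hU hUle hV hVle e hT in
theorem injective_psi_app [Smooth p] : Function.Injective (ψ.app (i ⁻¹ᵁ U)) := by
  have hTaff : IsAffineOpen (i ⁻¹ᵁ U) := isAffineOpen_preimage i hU hUle
  have eT : i ⁻¹ᵁ U ≤ (i ≫ p) ⁻¹ᵁ V := hT.le
  letI algAB : Algebra Γ(Y, V) Γ(X, U) := algUV p e
  letI algBC : Algebra Γ(X, U) Γ(Z, i ⁻¹ᵁ U) := (i.appLE U (i ⁻¹ᵁ U) le_rfl).hom.toAlgebra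
  letI algAC : Algebra Γ(Y, V) Γ(Z, i ⁻¹ᵁ U) := algUV (i ≫ p) eT
  haveI : IsScalarTower Γ(Y, V) Γ(X, U) Γ(Z, i ⁻¹ᵁ U) := IsScalarTower.of_algebraMap_eq (fun a => by
    change (i ≫ p).appLE V (i ⁻¹ᵁ U) eT a = i.appLE U (i ⁻¹ᵁ U) le_rfl (p.appLE V U e a)
    have := Scheme.Hom.appLE_comp_appLE i p V U (i ⁻¹ᵁ U) e le_rfl
    exact (congr($this a)).symm)
  haveI : Algebra.FormallySmooth Γ(Y, V) Γ(X, U) := by
    have h1 : (p.appLE V U e).hom.Smooth := Scheme.Hom.smooth_appLE p hV hU e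
    have h2 : Algebra.Smooth Γ(Y, V) Γ(X, U) := h1
    exact h2.formallySmooth
  have halgBC : ∀ b : Γ(X, U), algebraMap Γ(X, U) Γ(Z, i ⁻¹ᵁ U) b = i.app U b := fun b => by
    change i.appLE U (i ⁻¹ᵁ U) le_rfl b = _
    rw [Scheme.Hom.appLE_eq_app]
  have halgAC : ∀ a : Γ(Y, V), algebraMap Γ(Y, V) Γ(Z, i ⁻¹ᵁ U) a =
      Z.presheaf.map (homOfLE eT).op ((i ≫ p).app V a) := fun a => rfl
  have hBC : Function.Surjective (algebraMap Γ(X, U) Γ(Z, i ⁻¹ᵁ U)) := by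
    intro c
    obtain ⟨b, hb⟩ := app_surjective i hU hUle c
    exact ⟨b, (halgBC b).trans hb⟩
  have hAC : Function.Surjective (algebraMap Γ(Y, V) Γ(Z, i ⁻¹ᵁ U)) := by
    intro c
    obtain ⟨c', hc'⟩ := (res_bijective_of_eq hT eT).2 c
    obtain ⟨a, ha⟩ := app_surjective (i ≫ p) hV hVle c'
    exact ⟨a, by rw [halgAC, ha, hc']⟩
  have hkerB : RingHom.ker (algebraMap Γ(X, U) Γ(Z, i ⁻¹ᵁ U)) = RingHom.ker (i.app U).hom := by
    ext b
    rw [RingHom.mem_ker, RingHom.mem_ker, halgBC]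
  have hkerA : RingHom.ker (algebraMap Γ(Y, V) Γ(Z, i ⁻¹ᵁ U)) =
      RingHom.ker ((i ≫ p).app V).hom := by
    ext a
    rw [RingHom.mem_ker, RingHom.mem_ker, halgAC]
    constructor
    · intro h
      apply (res_bijective_of_eq hT eT).1
      rw [map_zero]
      exact h
    · intro h
      have h' : (i ≫ p).app V a = 0 := h
      rw [h', map_zero]
  haveI qcI : (ClSub.idealMod i.ker).IsQuasicoherent :=
    (SheafOfModules.isQuasicoherent X.ringCatSheaf).prop_of_iso (idealModIso i.ker).symm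
      inferInstance
  haveI qcJ : (ClSub.idealMod (i ≫ p).ker).IsQuasicoherent :=
    (SheafOfModules.isQuasicoherent Y.ringCatSheaf).prop_of_iso (idealModIso (i ≫ p).ker).symm
      inferInstance
  rw [← AddMonoidHom.coe_coe, injective_iff_map_eq_zero]
  intro n hn
  -- `n` is the pullback of a section `n₀` of the conormal sheaf of `Z ⊆ Y`
  set n₀ := ((Scheme.Modules.pullbackId Z).hom.app (Omega.conormal (i ≫ p))).app (i ⁻¹ᵁ U) n
    with hn₀
  have hn_eq : n = pullSect (𝟙 Z) (Omega.conormal (i ≫ p)) (i ⁻¹ᵁ U) n₀ := by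
    rw [← pullbackId_inv_app]
    exact (iso_inv_hom_app ((Scheme.Modules.pullbackId Z).app (Omega.conormal (i ≫ p))) _ n).symm
  -- `n₀` is the class of a section `s'` of the ideal
  let αj := sectionsPullbackEquiv (i ≫ p) (ClSub.idealMod (i ≫ p).ker) hTaff hV eT
  obtain ⟨s', hs'⟩ := TensorProduct.mk_surjective Γ(Y, V) Γ(ClSub.idealMod (i ≫ p).ker, V)
    Γ(Z, i ⁻¹ᵁ U) hAC (αj n₀)
  have hn₀_eq : n₀ = pullRes (i ≫ p) (ClSub.idealMod (i ≫ p).ker) eT s' := by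
    apply αj.injective
    rw [← hs']
    exact (sectionsPullbackEquiv_pullRes (i ≫ p) _ hTaff hV eT s').symm
  obtain ⟨s'', hs''⟩ := exists_lift p i V s'
  have h3 := psi_spec p i ψ hψ V s' s'' hs'' (i ⁻¹ᵁ U) eT
  set r := (ClSub.idealMod i.ker).presheaf.map (homOfLE e).op s'' with hr
  have hr_class : pullSect i (ClSub.idealMod i.ker) U r = 0 := by
    have h4 := pullSect_map i (ClSub.idealMod i.ker) e s''
    refine h4.trans ?_
    refine Eq.trans ?_ hn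
    rw [hn_eq, hn₀_eq]
    exact h3.symm
  have hιr : ιlin i U r = algebraMap Γ(Y, V) Γ(X, U) (ιlin (i ≫ p) V s') := by
    change idealSect i.ker U _ = p.appLE V U e _
    rw [idealSect_apply, idealModι_app_map]
    change X.presheaf.map (homOfLE e).op (idealSect i.ker (p ⁻¹ᵁ V) s'') = _
    rw [hs'']
    rfl
  -- `r ∈ I • ⊤`
  have h1r : (1 : Γ(Z, i ⁻¹ᵁ U)) ⊗ₜ[Γ(X, U)] r = 0 := by
    have h5 := sectionsPullbackEquiv_pullRes i (ClSub.idealMod i.ker) hTaff hU le_rfl r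
    rw [pullRes_refl] at h5
    rw [← h5, hr_class, map_zero]
  have hr_mem := Groth.Agent.Helper18.CnAlg.mem_smul_top_of_one_tmul_eq_zero hBC r h1r
  have hιr2 : ιlin i U r ∈ (RingHom.ker (algebraMap Γ(X, U) Γ(Z, i ⁻¹ᵁ U))) ^ 2 := by
    have h6 : ιlin i U r ∈ Submodule.map (ιlin i U)
        ((RingHom.ker (algebraMap Γ(X, U) Γ(Z, i ⁻¹ᵁ U))) • ⊤) := ⟨r, hr_mem, rfl⟩
    rw [Submodule.map_smul'', map_ιlin_top i hU, hkerB] at h6
    rw [pow_two, hkerB]
    exact h6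
  rw [hιr] at hιr2
  have ha2 := Groth.Agent.Helper18.CnAlg.mem_sq_of_formallySmooth hAC _ hιr2
  have hs'_mem : s' ∈ (RingHom.ker ((i ≫ p).app V).hom) •
      (⊤ : Submodule Γ(Y, V) Γ(ClSub.idealMod (i ≫ p).ker, V)) := by
    rw [hkerA, pow_two] at ha2
    have h7 : ιlin (i ≫ p) V s' ∈ Submodule.map (ιlin (i ≫ p) V)
        (RingHom.ker ((i ≫ p).app V).hom • ⊤) := by
      rw [Submodule.map_smul'', map_ιlin_top (i ≫ p) hV]
      exact ha2
    obtain ⟨s₁, hs₁, hs₁'⟩ := h7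
    rw [← ιlin_injective (i ≫ p) V hs₁']
    exact hs₁
  have hclass : pullSect (i ≫ p) (ClSub.idealMod (i ≫ p).ker) V s' = 0 :=
    conormalSect_eq_zero_of_mem (i ≫ p) s' hs'_mem
  rw [hn_eq, hn₀_eq]
  unfold pullRes
  rw [hclass, map_zero]
  exact map_zero _

end Chart


variable (Ω : X.Modules) (d : OmegaSh.Der p Ω) (hd : OmegaSh.IsUniversal d)
  (φ : Omega.conormal i ⟶ (Scheme.Modules.pullback i).obj Ω) (hφ : OmegaSh.IsConormalDiff i d φ)

include hψ in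
theorem mono_psi [Smooth p] : Mono ψ := by
  haveI q1 : ((Scheme.Modules.pullback (𝟙 Z)).obj (Omega.conormal (i ≫ p))).IsQuasicoherent :=
    isQuasicoherent_pullback (𝟙 Z) (Omega.conormal (i ≫ p))
  let 𝒰 : Set Z.Opens := {T | ∃ (U : X.Opens) (V : Y.Opens), IsAffineOpen U ∧
    U ≤ i.coborderRange ∧ IsAffineOpen V ∧ V ≤ (i ≫ p).coborderRange ∧ U ≤ p ⁻¹ᵁ V ∧
    i ⁻¹ᵁ U = (i ≫ p) ⁻¹ᵁ V ∧ T = i ⁻¹ᵁ U}
  have hA : ∀ T ∈ 𝒰, IsAffineOpen T := by
    rintro T ⟨U, V, hU, hUle, -, -, -, -, rfl⟩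
    exact isAffineOpen_preimage i hU hUle
  have hcov : ∀ z : Z, ∃ T ∈ 𝒰, z ∈ T := by
    intro z
    obtain ⟨U, V, hU, hUle, hV, hVle, e, hT, hz⟩ := exists_chart p i (i ≫ p) rfl z
    exact ⟨i ⁻¹ᵁ U, ⟨U, V, hU, hUle, hV, hVle, e, hT, rfl⟩, hz⟩
  apply Groth.Agent.Helper18.QCBasic.mono_of_cover ψ 𝒰 hA hcov
  rintro T ⟨U, V, hU, hUle, hV, hVle, e, hT, rfl⟩
  exact injective_psi_app p i ψ hψ hU hUle hV hVle e hT

include hd hψ hφ in
theorem conormal_shortExact [Smooth p] :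
    ∃ w : ψ ≫ φ = 0, (ShortComplex.mk ψ φ w).ShortExact := by
  obtain ⟨w, hex, hepi⟩ := conormal_seq p i Ω d hd ψ hψ φ hφ
  haveI := mono_psi p i ψ hψ
  exact ⟨w, { exact := hex, mono_f := inferInstance, epi_g := hepi }⟩

end Groth.Agent.Helper18.CnSeq
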