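import Mathlib
import Groth.Agent.Lib.Helper18.CnSeqSmooth

set_option autoImplicit false
set_option linter.style.haveILetI false
set_option linter.unusedSectionVars false
set_option maxRecDepth 8000
universe u
open CategoryTheory CategoryTheory.Limits AlgebraicGeometry TopologicalSpace Opposite TensorProduct

namespace Groth.Agent.Helper18.NrmSeq

open OmegaSh Groth.Agent.Helper18.DerLib Groth.Agent.Helper18.OmegaSec
  Groth.Agent.Helper18.Rec Groth.Agent.Helper18.ConormalImm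
  Groth.Agent.Helper13.EffCartier Groth.Agent.Helper13.Pullback Groth.Agent.Helper18.CnSeq

variable {Y' Y X : Scheme.{u}} (f : Y ⟶ X) [IsImmersion f] [QuasiCompact f]
    (j : Y' ⟶ Y) [IsImmersion j] [QuasiCompact j]
    (φ₁ : (Scheme.Modules.pullback j).obj (Omega.conormal f) ⟶ Omega.conormal (j ≫ f))
    (hφ₁ : OmegaSh.IsConormalMap (j ≫ f) f (𝟙 X) j φ₁)
    (φ₂ : (Scheme.Modules.pullback (𝟙 Y')).obj (Omega.conormal (j ≫ f)) ⟶ Omega.conormal j)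
    (hφ₂ : OmegaSh.IsConormalMap j (j ≫ f) f (𝟙 Y') φ₂)

include hφ₁ in
theorem phi1_spec (V : X.Opens) (t : Γ(ClSub.idealMod f.ker, V))
    (s : Γ(ClSub.idealMod (j ≫ f).ker, V))
    (h : idealSect (j ≫ f).ker V s = idealSect f.ker V t) :
    φ₁.app (j ⁻¹ᵁ (f ⁻¹ᵁ V)) (pullSect j (Omega.conormal f) (f ⁻¹ᵁ V) (conormalSect f V t)) =
      conormalSect (j ≫ f) V s := by
  have h0 := hφ₁.2 V t s h (j ⁻¹ᵁ (f ⁻¹ᵁ V)) le_rfl le_rfl
  have h1 : ∀ x : Γ(Omega.conormal (j ≫ f), j ⁻¹ᵁ (f ⁻¹ᵁ V)),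
      (Omega.conormal (j ≫ f)).presheaf.map (homOfLE (le_refl (j ⁻¹ᵁ (f ⁻¹ᵁ V)))).op x = x :=
    fun x => congr($((Omega.conormal (j ≫ f)).presheaf.map_id _) x)
  rw [h1] at h0
  exact h0.trans (h1 _)

/-- `φ₂` after the identification `𝟙^* ≅ id`. -/
noncomputable def φ₂' : Omega.conormal (j ≫ f) ⟶ Omega.conormal j :=
  (Scheme.Modules.pullbackId Y').inv.app (Omega.conormal (j ≫ f)) ≫ φ₂

include hφ₂ in
theorem phi2_spec (V : X.Opens) (s : Γ(ClSub.idealMod (j ≫ f).ker, V))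
    (s'' : Γ(ClSub.idealMod j.ker, f ⁻¹ᵁ V))
    (h : idealSect j.ker (f ⁻¹ᵁ V) s'' = f.app V (idealSect (j ≫ f).ker V s)) :
    (φ₂' f j φ₂).app (j ⁻¹ᵁ (f ⁻¹ᵁ V)) (conormalSect (j ≫ f) V s) =
      conormalSect j (f ⁻¹ᵁ V) s'' := by
  change φ₂.app ((j ≫ f) ⁻¹ᵁ V)
    (((Scheme.Modules.pullbackId Y').inv.app (Omega.conormal (j ≫ f))).app ((j ≫ f) ⁻¹ᵁ V)
      (conormalSect (j ≫ f) V s)) = _
  rw [pullbackId_inv_app]
  have h3 := psi_spec f j φ₂ hφ₂ V s s'' h ((j ≫ f) ⁻¹ᵁ V) le_rfl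
  have h4 : (Omega.conormal (j ≫ f)).presheaf.map (homOfLE (le_refl ((j ≫ f) ⁻¹ᵁ V))).op
      (conormalSect (j ≫ f) V s) = conormalSect (j ≫ f) V s :=
    congr($((Omega.conormal (j ≫ f)).presheaf.map_id _) (conormalSect (j ≫ f) V s))
  rw [h4] at h3
  refine h3.trans ?_
  exact congr($((Omega.conormal j).presheaf.map_id _) (conormalSect j (f ⁻¹ᵁ V) s''))


omit [IsImmersion f] [IsImmersion j] in
/-- sections of the ideal of `Y ⊆ X` are sections of the ideal of `Y' ⊆ X`. -/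
theorem exists_lift_f (V : X.Opens) (t : Γ(ClSub.idealMod f.ker, V)) :
    ∃ s : Γ(ClSub.idealMod (j ≫ f).ker, V),
      idealSect (j ≫ f).ker V s = idealSect f.ker V t := by
  apply Groth.Agent.Helper18.RecCS.exists_idealSect_eq' (j ≫ f) V
  change j.app (f ⁻¹ᵁ V) (f.app V (idealSect f.ker V t)) = 0
  rw [Groth.Agent.Helper18.RecCS.app_idealSect f V t, map_zero]

include hφ₁ hφ₂ in
theorem phi1_phi2 : φ₁ ≫ φ₂' f j φ₂ = 0 := by
  apply ((Scheme.Modules.pullbackPushforwardAdjunction j).homEquiv _ _).injective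
  apply ((Scheme.Modules.pullbackPushforwardAdjunction f).homEquiv _ _).injective
  ext V t
  have h1 := homEquiv_app f
    (((Scheme.Modules.pullbackPushforwardAdjunction j).homEquiv _ _) (φ₁ ≫ φ₂' f j φ₂)) V t
  have h2 := homEquiv_app j (φ₁ ≫ φ₂' f j φ₂) (f ⁻¹ᵁ V) (pullSect f (ClSub.idealMod f.ker) V t)
  have h1' := homEquiv_app f
    (((Scheme.Modules.pullbackPushforwardAdjunction j).homEquiv _ _)
      (0 : (Scheme.Modules.pullback j).obj (Omega.conormal f) ⟶ Omega.conormal j)) V t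
  have h2' := homEquiv_app j
    (0 : (Scheme.Modules.pullback j).obj (Omega.conormal f) ⟶ Omega.conormal j) (f ⁻¹ᵁ V)
    (pullSect f (ClSub.idealMod f.ker) V t)
  refine h1.trans (h2.trans (Eq.trans ?_ (h1'.trans h2').symm))
  obtain ⟨s, hs⟩ := exists_lift_f f j V t
  change (φ₂' f j φ₂).app (j ⁻¹ᵁ (f ⁻¹ᵁ V)) (φ₁.app (j ⁻¹ᵁ (f ⁻¹ᵁ V))
    (pullSect j (Omega.conormal f) (f ⁻¹ᵁ V) (conormalSect f V t))) = 0
  rw [phi1_spec f j φ₁ hφ₁ V t s hs]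
  have h0 : idealSect j.ker (f ⁻¹ᵁ V) 0 = f.app V (idealSect (j ≫ f).ker V s) := by
    rw [hs, Groth.Agent.Helper18.RecCS.app_idealSect f V t, map_zero]
  rw [phi2_spec f j φ₂ hφ₂ V s 0 h0, map_zero]


section Classes

variable {P Q : Scheme.{u}} (k : P ⟶ Q) [IsImmersion k] [QuasiCompact k]

/-- over a chart, every section of the conormal sheaf is the class of a section of the ideal. -/
theorem exists_conormalSect_eq {V : Q.Opens} (hV : IsAffineOpen V) (hle : V ≤ k.coborderRange)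
    (m : Γ(Omega.conormal k, k ⁻¹ᵁ V)) :
    ∃ s : Γ(ClSub.idealMod k.ker, V), conormalSect k V s = m := by
  have hT : IsAffineOpen (k ⁻¹ᵁ V) := isAffineOpen_preimage k hV hle
  letI alg : Algebra Γ(Q, V) Γ(P, k ⁻¹ᵁ V) := (k.appLE V (k ⁻¹ᵁ V) le_rfl).hom.toAlgebra
  have halg : ∀ b : Γ(Q, V), algebraMap Γ(Q, V) Γ(P, k ⁻¹ᵁ V) b = k.app V b := fun b => by
    change k.appLE V (k ⁻¹ᵁ V) le_rfl b = _
    rw [Scheme.Hom.appLE_eq_app]
  have hsurj : Function.Surjective (algebraMap Γ(Q, V) Γ(P, k ⁻¹ᵁ V)) := by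
    intro c
    obtain ⟨b, hb⟩ := app_surjective k hV hle c
    exact ⟨b, (halg b).trans hb⟩
  haveI qc : (ClSub.idealMod k.ker).IsQuasicoherent :=
    (SheafOfModules.isQuasicoherent Q.ringCatSheaf).prop_of_iso (idealModIso k.ker).symm
      inferInstance
  let α := sectionsPullbackEquiv k (ClSub.idealMod k.ker) hT hV le_rfl
  obtain ⟨s, hs⟩ := TensorProduct.mk_surjective Γ(Q, V) Γ(ClSub.idealMod k.ker, V)
    Γ(P, k ⁻¹ᵁ V) hsurj (α m)
  refine ⟨s, ?_⟩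
  apply α.injective
  rw [← hs]
  have h1 := sectionsPullbackEquiv_pullRes k (ClSub.idealMod k.ker) hT hV le_rfl s
  rw [pullRes_refl] at h1
  exact h1

/-- over a chart, a section of the ideal with zero class lies in the square of the ideal. -/
theorem ιlin_mem_sq {V : Q.Opens} (hV : IsAffineOpen V) (hle : V ≤ k.coborderRange)
    (s : Γ(ClSub.idealMod k.ker, V)) (h : conormalSect k V s = 0) :
    ιlin k V s ∈ (RingHom.ker (k.app V).hom) ^ 2 := by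
  have hT : IsAffineOpen (k ⁻¹ᵁ V) := isAffineOpen_preimage k hV hle
  letI alg : Algebra Γ(Q, V) Γ(P, k ⁻¹ᵁ V) := (k.appLE V (k ⁻¹ᵁ V) le_rfl).hom.toAlgebra
  have halg : ∀ b : Γ(Q, V), algebraMap Γ(Q, V) Γ(P, k ⁻¹ᵁ V) b = k.app V b := fun b => by
    change k.appLE V (k ⁻¹ᵁ V) le_rfl b = _
    rw [Scheme.Hom.appLE_eq_app]
  have hsurj : Function.Surjective (algebraMap Γ(Q, V) Γ(P, k ⁻¹ᵁ V)) := by
    intro c
    obtain ⟨b, hb⟩ := app_surjective k hV hle c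
    exact ⟨b, (halg b).trans hb⟩
  have hker : RingHom.ker (algebraMap Γ(Q, V) Γ(P, k ⁻¹ᵁ V)) = RingHom.ker (k.app V).hom := by
    ext b
    rw [RingHom.mem_ker, RingHom.mem_ker, halg]
  haveI qc : (ClSub.idealMod k.ker).IsQuasicoherent :=
    (SheafOfModules.isQuasicoherent Q.ringCatSheaf).prop_of_iso (idealModIso k.ker).symm
      inferInstance
  have h1 : (1 : Γ(P, k ⁻¹ᵁ V)) ⊗ₜ[Γ(Q, V)] s = 0 := by
    have h5 := sectionsPullbackEquiv_pullRes k (ClSub.idealMod k.ker) hT hV le_rfl s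
    rw [pullRes_refl] at h5
    have h6 : pullSect k (ClSub.idealMod k.ker) V s = 0 := h
    rw [← h5, h6, map_zero]
  have hmem := Groth.Agent.Helper18.CnAlg.mem_smul_top_of_one_tmul_eq_zero hsurj s h1
  have h6 : ιlin k V s ∈ Submodule.map (ιlin k V)
      ((RingHom.ker (algebraMap Γ(Q, V) Γ(P, k ⁻¹ᵁ V))) • ⊤) := ⟨s, hmem, rfl⟩
  rw [Submodule.map_smul'', map_ιlin_top k hV, hker] at h6
  rw [pow_two]
  exact h6

/-- a section of the ideal lying in the square of the ideal has zero class. -/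
theorem conormalSect_eq_zero_of_sq {V : Q.Opens} (hV : IsAffineOpen V)
    (s : Γ(ClSub.idealMod k.ker, V)) (h : ιlin k V s ∈ (RingHom.ker (k.app V).hom) ^ 2) :
    conormalSect k V s = 0 := by
  apply conormalSect_eq_zero_of_mem k s
  rw [pow_two] at h
  have h7 : ιlin k V s ∈ Submodule.map (ιlin k V) (RingHom.ker (k.app V).hom • ⊤) := by
    rw [Submodule.map_smul'', map_ιlin_top k hV]
    exact h
  obtain ⟨s₁, hs₁, hs₁'⟩ := h7
  rw [← ιlin_injective k V hs₁']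
  exact hs₁

end Classes


section Chart

variable {V : X.Opens} (hV : IsAffineOpen V) (hVf : V ≤ f.coborderRange)
  (hVjf : V ≤ (j ≫ f).coborderRange) (hUj : f ⁻¹ᵁ V ≤ j.coborderRange)

include hφ₂ hV hVf hUj in
theorem surjective_phi2_app :
    Function.Surjective ((φ₂' f j φ₂).app (j ⁻¹ᵁ (f ⁻¹ᵁ V))) := by
  have hU : IsAffineOpen (f ⁻¹ᵁ V) := isAffineOpen_preimage f hV hVf
  intro m₃
  obtain ⟨s₃, rfl⟩ := exists_conormalSect_eq j hU hUj m₃
  obtain ⟨a, ha⟩ := app_surjective f hV hVf (idealSect j.ker _ s₃)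
  have ha0 : (j ≫ f).app V a = 0 := by
    change j.app (f ⁻¹ᵁ V) (f.app V a) = 0
    rw [ha, Groth.Agent.Helper18.RecCS.app_idealSect]
  obtain ⟨s, hs⟩ := Groth.Agent.Helper18.RecCS.exists_idealSect_eq (j ≫ f) hV a ha0
  refine ⟨conormalSect (j ≫ f) V s, ?_⟩
  exact phi2_spec f j φ₂ hφ₂ V s s₃ (by rw [hs, ha])

include hφ₁ hφ₂ hV hVf hVjf hUj in
theorem exact_app_chart (m : Γ(Omega.conormal (j ≫ f), j ⁻¹ᵁ (f ⁻¹ᵁ V)))
    (hm : (φ₂' f j φ₂).app (j ⁻¹ᵁ (f ⁻¹ᵁ V)) m = 0) :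
    ∃ n : Γ((Scheme.Modules.pullback j).obj (Omega.conormal f), j ⁻¹ᵁ (f ⁻¹ᵁ V)),
      φ₁.app (j ⁻¹ᵁ (f ⁻¹ᵁ V)) n = m := by
  have hU : IsAffineOpen (f ⁻¹ᵁ V) := isAffineOpen_preimage f hV hVf
  obtain ⟨s, rfl⟩ := exists_conormalSect_eq (j ≫ f) hV hVjf m
  obtain ⟨s'', hs''⟩ := exists_lift f j V s
  rw [phi2_spec f j φ₂ hφ₂ V s s'' hs''] at hm
  have h2 := ιlin_mem_sq j hU hUj s'' hm
  -- `f♯ x ∈ I_j²`, so `x ∈ I_{jf}² + I_f`
  have hx : f.app V (ιlin (j ≫ f) V s) ∈ (RingHom.ker (j.app (f ⁻¹ᵁ V)).hom) ^ 2 := by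
    have : ιlin j (f ⁻¹ᵁ V) s'' = f.app V (ιlin (j ≫ f) V s) := hs''
    rw [← this]
    exact h2
  have hmap : (RingHom.ker (j.app (f ⁻¹ᵁ V)).hom) ^ 2 =
      ((RingHom.ker ((j ≫ f).app V).hom) ^ 2).map (f.app V).hom := by
    rw [Ideal.map_pow]
    congr 1
    apply le_antisymm
    · intro b hb
      obtain ⟨a, rfl⟩ := app_surjective f hV hVf b
      exact Ideal.mem_map_of_mem _ hb
    · rw [Ideal.map_le_iff_le_comap]
      intro a ha
      exact ha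
  rw [hmap] at hx
  obtain ⟨y, hy, hxy⟩ := (Ideal.mem_map_iff_of_surjective (f.app V).hom
    (app_surjective f hV hVf)).1 hx
  -- `y ∈ I_{jf}²`, `f♯ y = f♯ x`
  have hyI : (j ≫ f).app V y = 0 := Ideal.pow_le_self two_ne_zero hy
  obtain ⟨sy, hsy⟩ := Groth.Agent.Helper18.RecCS.exists_idealSect_eq (j ≫ f) hV y hyI
  have hz : f.app V (ιlin (j ≫ f) V s - y) = 0 := by
    rw [map_sub, sub_eq_zero]
    exact hxy.symm
  obtain ⟨t, ht⟩ := Groth.Agent.Helper18.RecCS.exists_idealSect_eq f hV _ hz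
  obtain ⟨sz, hsz⟩ := exists_lift_f f j V t
  have hs_eq : s = sy + sz := by
    apply ιlin_injective (j ≫ f) V
    rw [map_add]
    change _ = idealSect (j ≫ f).ker V sy + idealSect (j ≫ f).ker V sz
    rw [hsy, hsz, ht]
    ring
  have hsy0 : conormalSect (j ≫ f) V sy = 0 := by
    apply conormalSect_eq_zero_of_sq (j ≫ f) hV
    change idealSect (j ≫ f).ker V sy ∈ _
    rw [hsy]
    exact hy
  refine ⟨pullSect j (Omega.conormal f) (f ⁻¹ᵁ V) (conormalSect f V t), ?_⟩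
  rw [phi1_spec f j φ₁ hφ₁ V t sz hsz, hs_eq, map_add, hsy0, zero_add]

end Chart


omit [QuasiCompact f] [QuasiCompact j] in
theorem exists_chart' (y' : Y') : ∃ V : X.Opens, IsAffineOpen V ∧ V ≤ f.coborderRange ∧
    V ≤ (j ≫ f).coborderRange ∧ f ⁻¹ᵁ V ≤ j.coborderRange ∧ y' ∈ j ⁻¹ᵁ (f ⁻¹ᵁ V) := by
  obtain ⟨W, hW⟩ : ∃ W : X.Opens, f ⁻¹ᵁ W = j.coborderRange := by
    obtain ⟨s, hs, hs'⟩ := f.isEmbedding.isInducing.isOpen_iff.1 j.coborderRange.2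
    exact ⟨⟨s, hs⟩, Opens.ext hs'⟩
  have hx : f (j y') ∈ f.coborderRange ⊓ (j ≫ f).coborderRange ⊓ W := by
    refine ⟨⟨subset_coborder (Set.mem_range_self (j y')), ?_⟩, ?_⟩
    · exact subset_coborder (Set.mem_range_self (f := (j ≫ f)) y')
    · have : j y' ∈ f ⁻¹ᵁ W := by
        rw [hW]
        exact subset_coborder (Set.mem_range_self y')
      exact this
  obtain ⟨V, hV, hxV, hVle⟩ : ∃ V : X.Opens, IsAffineOpen V ∧ f (j y') ∈ V ∧
      V ≤ f.coborderRange ⊓ (j ≫ f).coborderRange ⊓ W := by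
    obtain ⟨_, ⟨V, hV, rfl⟩, hxV, hVle⟩ :=
      X.isBasis_affineOpens.exists_subset_of_mem_open hx
        (f.coborderRange ⊓ (j ≫ f).coborderRange ⊓ W).2
    exact ⟨V, hV, hxV, hVle⟩
  refine ⟨V, hV, fun x hx => (hVle hx).1.1, fun x hx => (hVle hx).1.2, ?_, hxV⟩
  rw [← hW]
  intro y hy
  exact (hVle hy).2

include hφ₁ hφ₂ in
theorem nrm_seq : Epi φ₂ ∧ imageSubobject φ₁ =
    kernelSubobject ((Scheme.Modules.pullbackId Y').inv.app (Omega.conormal (j ≫ f)) ≫ φ₂) := by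
  haveI q1 : ((Scheme.Modules.pullback j).obj (Omega.conormal f)).IsQuasicoherent :=
    isQuasicoherent_pullback j (Omega.conormal f)
  let 𝒰 : Set Y'.Opens := {T | ∃ V : X.Opens, IsAffineOpen V ∧ V ≤ f.coborderRange ∧
    V ≤ (j ≫ f).coborderRange ∧ f ⁻¹ᵁ V ≤ j.coborderRange ∧ T = j ⁻¹ᵁ (f ⁻¹ᵁ V)}
  have hA : ∀ T ∈ 𝒰, IsAffineOpen T := by
    rintro T ⟨V, hV, hVf, -, hUj, rfl⟩
    exact isAffineOpen_preimage j (isAffineOpen_preimage f hV hVf) hUj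
  have hcov : ∀ z : Y', ∃ T ∈ 𝒰, z ∈ T := by
    intro z
    obtain ⟨V, hV, hVf, hVjf, hUj, hz⟩ := exists_chart' f j z
    exact ⟨j ⁻¹ᵁ (f ⁻¹ᵁ V), ⟨V, hV, hVf, hVjf, hUj, rfl⟩, hz⟩
  have w := phi1_phi2 f j φ₁ hφ₁ φ₂ hφ₂
  constructor
  · have hepi : Epi (φ₂' f j φ₂) := by
      apply Groth.Agent.Helper18.QCBasic.epi_of_cover (φ₂' f j φ₂) 𝒰 hA hcov
      rintro T ⟨V, hV, hVf, hVjf, hUj, rfl⟩
      exact surjective_phi2_app f j φ₂ hφ₂ hV hVf hUj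
    have : φ₂ = (Scheme.Modules.pullbackId Y').hom.app (Omega.conormal (j ≫ f)) ≫ φ₂' f j φ₂ := by
      unfold φ₂'
      rw [Iso.hom_inv_id_app_assoc]
    rw [this]
    exact epi_comp _ _
  · have hex : (ShortComplex.mk φ₁ (φ₂' f j φ₂) w).Exact := by
      haveI : (ShortComplex.mk φ₁ (φ₂' f j φ₂) w).X₁.IsQuasicoherent := q1
      haveI : (ShortComplex.mk φ₁ (φ₂' f j φ₂) w).X₂.IsQuasicoherent :=
        (inferInstance : (Omega.conormal (j ≫ f)).IsQuasicoherent)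
      haveI : (ShortComplex.mk φ₁ (φ₂' f j φ₂) w).X₃.IsQuasicoherent :=
        (inferInstance : (Omega.conormal j).IsQuasicoherent)
      apply Groth.Agent.Helper18.QCBasic.exact_of_cover (ShortComplex.mk φ₁ (φ₂' f j φ₂) w) 𝒰 hA
        hcov
      rintro T ⟨V, hV, hVf, hVjf, hUj, rfl⟩ m hm
      exact exact_app_chart f j φ₁ hφ₁ φ₂ hφ₂ hV hVf hVjf hUj m hm
    exact (ShortComplex.exact_iff_image_eq_kernel _).1 hex

end Groth.Agent.Helper18.NrmSeq
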