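import Mathlib
import Groth.Agent.Lib.Helper18.CnMap
import Groth.Agent.Lib.Helper18.CnBCAlg
import Groth.Agent.Lib.Helper18.NrmSeq
import Groth.Agent.Lib.Helper18.QCBasic

set_option autoImplicit false
set_option linter.style.haveILetI false
set_option linter.unusedSectionVars false
set_option maxRecDepth 8000
universe u
open CategoryTheory CategoryTheory.Limits AlgebraicGeometry TopologicalSpace Opposite

namespace Groth.Agent.Helper18.CnBC

open OmegaSh Groth.Agent.Helper18.DerLib Groth.Agent.Helper18.CnDiff Groth.Agent.Helper18.AffHom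
  Groth.Agent.Helper18.CnMap Groth.Agent.Helper18.Rec Groth.Agent.Helper18.ConormalImm
  Groth.Agent.Helper18.CnSeq Groth.Agent.Helper18.NrmSeq

variable {Z X Z' X' : Scheme.{u}} (i : Z ⟶ X) (i' : Z' ⟶ X') [IsImmersion i] [IsImmersion i']
  [QuasiCompact i] [QuasiCompact i'] (g : X ⟶ X') (gZ : Z ⟶ Z') (hsq : IsPullback i gZ g i')
  (φ : (Scheme.Modules.pullback gZ).obj (Omega.conormal i') ⟶ Omega.conormal i)
  (hφ : OmegaSh.IsConormalMap i i' g gZ φ)

section Chart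

variable {U' : X'.Opens} {U : X.Opens} (hU' : IsAffineOpen U') (hU : IsAffineOpen U)
  (hc' : U' ≤ i'.coborderRange) (hc : U ≤ i.coborderRange) (hUU' : U ≤ g ⁻¹ᵁ U')

include hsq hUU' in
theorem chart_le : i ⁻¹ᵁ U ≤ gZ ⁻¹ᵁ (i' ⁻¹ᵁ U') := by
  change i ⁻¹ᵁ U ≤ (gZ ≫ i') ⁻¹ᵁ U'
  rw [← hsq.w]
  intro x hx
  exact hUU' hx

include hU' hU hc' in
theorem isPushout_chart :
    IsPushout (g.appLE U' U hUU') (i'.appLE U' (i' ⁻¹ᵁ U') le_rfl)
      (i.appLE U (i ⁻¹ᵁ U) le_rfl)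
      (gZ.appLE (i' ⁻¹ᵁ U') (i ⁻¹ᵁ U) (chart_le i i' g gZ hsq hUU')) := by
  have hUY : i ⁻¹ᵁ U = i ⁻¹ᵁ U ⊓ gZ ⁻¹ᵁ (i' ⁻¹ᵁ U') :=
    (inf_eq_left.2 (chart_le i i' g gZ hsq hUU')).symm
  have h := isIso_pushoutSection_of_isAffineOpen hsq (le_refl (i' ⁻¹ᵁ U')) hUU' hUY hU'
    (isAffineOpen_preimage i' hU' hc') hU
  exact (isIso_pushoutSection_iff ..).mp h

include hsq hU' hU hc' in
theorem ker_chart :
    RingHom.ker (i.app U).hom =
      Ideal.map (g.appLE U' U hUU').hom (RingHom.ker (i'.app U').hom) := by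
  have h := Groth.Agent.Helper18.CnBCAlg.ker_of_isPushout _ _ _ _
    (isPushout_chart i i' g gZ hsq hU' hU hc' hUU') (by
      intro b
      obtain ⟨a, ha⟩ := app_surjective i' hU' hc' b
      exact ⟨a, by rw [Scheme.Hom.appLE_eq_app]; exact ha⟩)
  rw [Scheme.Hom.appLE_eq_app, Scheme.Hom.appLE_eq_app] at h
  exact h

/-- `ρ` restricted to the chart -/
noncomputable def rhoC : Γ(ClSub.idealMod i'.ker, U') →+ Γ(ClSub.idealMod i.ker, U) :=
  AddMonoidHom.mk' (fun s' => res (ClSub.idealMod i.ker) hUU' (rhoFun i i' g gZ hsq.w.symm U' s'))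
    (fun s' t' => by
      change res _ _ _ = res _ _ _ + res _ _ _
      rw [rhoFun_add, res, map_add])

theorem ιlin_rhoC (s' : Γ(ClSub.idealMod i'.ker, U')) :
    ιlin i U (rhoC i i' g gZ hsq hUU' s') = (g.appLE U' U hUU').hom (ιlin i' U' s') := by
  change idealSect i.ker U (res (ClSub.idealMod i.ker) hUU' (rhoFun i i' g gZ hsq.w.symm U' s')) =
    (g.appLE U' U hUU') (idealSect i'.ker U' s')
  rw [res, idealSect_map, rhoFun_spec]
  rw [Scheme.Hom.appLE]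
  rfl

/-- `θ` on the chart -/
noncomputable def thetaC :
    Γ(ClSub.idealMod i'.ker, U') →+ Γ((Scheme.Modules.pullback gZ).obj (Omega.conormal i'), i ⁻¹ᵁ U) :=
  AddMonoidHom.mk' (fun s' => pullRes gZ (Omega.conormal i') (chart_le i i' g gZ hsq hUU')
      (conormalSect i' U' s'))
    (fun s' t' => by
      unfold pullRes
      rw [map_add, map_add, map_add])

theorem thetaC_apply (s' : Γ(ClSub.idealMod i'.ker, U')) :
    thetaC i i' g gZ hsq hUU' s' = pullRes gZ (Omega.conormal i') (chart_le i i' g gZ hsq hUU')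
      (conormalSect i' U' s') := rfl

theorem appLE_square (r : Γ(X', U')) :
    (gZ.appLE (i' ⁻¹ᵁ U') (i ⁻¹ᵁ U) (chart_le i i' g gZ hsq hUU')).hom ((i'.app U').hom r) =
      (i.app U).hom ((g.appLE U' U hUU').hom r) := by
  have h : g.appLE U' U hUU' ≫ i.appLE U (i ⁻¹ᵁ U) le_rfl =
      i'.appLE U' (i' ⁻¹ᵁ U') le_rfl ≫
        gZ.appLE (i' ⁻¹ᵁ U') (i ⁻¹ᵁ U) (chart_le i i' g gZ hsq hUU') := by
    simp only [Scheme.Hom.appLE_comp_appLE, hsq.w]
  have h2 := congr($h r)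
  rw [CommRingCat.comp_apply, CommRingCat.comp_apply, Scheme.Hom.appLE_eq_app,
    Scheme.Hom.appLE_eq_app] at h2
  exact h2.symm

theorem thetaC_smul (r : Γ(X', U')) (s' : Γ(ClSub.idealMod i'.ker, U')) :
    thetaC i i' g gZ hsq hUU' (r • s') =
      (i.app U).hom ((g.appLE U' U hUU').hom r) • thetaC i i' g gZ hsq hUU' s' := by
  rw [thetaC_apply, thetaC_apply]
  have h1 : conormalSect i' U' (r • s') = i'.app U' r • conormalSect i' U' s' :=
    OmegaSh.pullSect_smul i' _ U' r s'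
  rw [h1, pullRes, pullRes, OmegaSh.pullSect_smul]
  have h := res_smul ((Scheme.Modules.pullback gZ).obj (Omega.conormal i'))
    (chart_le i i' g gZ hsq hUU') (gZ.app (i' ⁻¹ᵁ U') (i'.app U' r))
    (pullSect gZ (Omega.conormal i') (i' ⁻¹ᵁ U') (conormalSect i' U' s'))
  rw [res] at h
  rw [h, ← appLE_square i i' g gZ hsq hUU' r]
  rfl

theorem range_ιlin {P Q : Scheme.{u}} (k : P ⟶ Q) [IsImmersion k] [QuasiCompact k]
    {V : Q.Opens} (hV : IsAffineOpen V) :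
    (LinearMap.range (ιlin k V) : Ideal Γ(Q, V)) = RingHom.ker (k.app V).hom := by
  rw [← map_ιlin_top k hV, Submodule.map_top]

include hU' in
theorem thetaC_eq_zero (s' : Γ(ClSub.idealMod i'.ker, U'))
    (h : ιlin i' U' s' ∈ (LinearMap.range (ιlin i' U') : Ideal Γ(X', U')) ^ 2) :
    thetaC i i' g gZ hsq hUU' s' = 0 := by
  rw [range_ιlin i' hU'] at h
  rw [thetaC_apply, conormalSect_eq_zero_of_sq i' hU' s' h, pullRes, map_zero, map_zero]

include hU' hU hc' hc in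
theorem span_thetaC :
    Submodule.span Γ(Z, i ⁻¹ᵁ U) (Set.range (thetaC i i' g gZ hsq hUU')) = ⊤ := by
  have h := span_pullRes gZ (Omega.conormal i') (isAffineOpen_preimage i hU hc)
    (isAffineOpen_preimage i' hU' hc') (chart_le i i' g gZ hsq hUU') Set.univ (by simp)
  rw [eq_top_iff, ← h]
  apply Submodule.span_mono
  rintro _ ⟨t, -, rfl⟩
  obtain ⟨s', rfl⟩ := exists_conormalSect_eq i' hU' hc' t
  exact ⟨s', rfl⟩

include hφ in
theorem phi_thetaC (s' : Γ(ClSub.idealMod i'.ker, U')) :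
    φ.app (i ⁻¹ᵁ U) (thetaC i i' g gZ hsq hUU' s') =
      conormalSect i U (rhoC i i' g gZ hsq hUU' s') := by
  have h := hφ.2 U' s' (rhoFun i i' g gZ hsq.w.symm U' s') (rhoFun_spec i i' g gZ hsq.w.symm U' s')
    (i ⁻¹ᵁ U) (chart_le i i' g gZ hsq hUU') (fun _ hx => hUU' hx)
  rw [thetaC_apply, pullRes]
  have h1 := app_res φ (chart_le i i' g gZ hsq hUU')
    (pullSect gZ (Omega.conormal i') (i' ⁻¹ᵁ U') (conormalSect i' U' s'))
  rw [res] at h1
  rw [h1]
  refine h.trans ?_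
  exact (OmegaSh.pullSect_map i (ClSub.idealMod i.ker) hUU' (rhoFun i i' g gZ hsq.w.symm U' s')).symm

include hsq hU' hU hc' in
theorem range_chart :
    LinearMap.range (ιlin i U) =
      Ideal.map (g.appLE U' U hUU').hom (LinearMap.range (ιlin i' U')) := by
  have h1 := range_ιlin i hU
  have h2 := range_ιlin i' hU'
  rw [h2]
  exact h1.trans (ker_chart i i' g gZ hsq hU' hU hc' hUU')

theorem kappa_smul (a : Γ(X, U)) (s : Γ(ClSub.idealMod i.ker, U)) :
    (conormalSect i U).hom (a • s) = (i.app U).hom a • (conormalSect i U).hom s :=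
  OmegaSh.pullSect_smul i _ U a s

include hsq hφ hU' hU hc' hc hUU' in
theorem surjective_chart : Function.Surjective (φ.app (i ⁻¹ᵁ U)) := by
  have h := Groth.Agent.Helper18.CnBCAlg.surj_key (g.appLE U' U hUU').hom (i.app U).hom
    (ιlin i' U') (ιlin i U) (ιlin_injective i U)
    (range_chart i i' g gZ hsq hU' hU hc' hUU')
    (rhoC i i' g gZ hsq hUU') (ιlin_rhoC i i' g gZ hsq hUU')
    (thetaC i i' g gZ hsq hUU') (conormalSect i U).hom (kappa_smul i)
    (appLin φ (i ⁻¹ᵁ U)) (phi_thetaC i i' g gZ hsq φ hφ hUU')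
    (fun m => exists_conormalSect_eq i hU hc m)
  exact h

include hsq hφ hU' hU hc' hc in
theorem injective_chart (hflat : (g.appLE U' U hUU').hom.Flat) :
    Function.Injective (φ.app (i ⁻¹ᵁ U)) := by
  have h := Groth.Agent.Helper18.CnBCAlg.inj_key (g.appLE U' U hUU').hom (i.app U).hom
    (ιlin i' U') (ιlin i U) (ιlin_injective i U)
    (range_chart i i' g gZ hsq hU' hU hc' hUU')
    (rhoC i i' g gZ hsq hUU') (ιlin_rhoC i i' g gZ hsq hUU')
    (thetaC i i' g gZ hsq hUU') (conormalSect i U).hom (kappa_smul i)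
    (appLin φ (i ⁻¹ᵁ U)) (phi_thetaC i i' g gZ hsq φ hφ hUU')
    hflat (app_surjective i hU hc) (ιlin_injective i' U')
    (thetaC_smul i i' g gZ hsq hUU') (thetaC_eq_zero i i' g gZ hsq hU' hUU')
    (span_thetaC i i' g gZ hsq hU' hU hc' hc hUU')
    (fun s hs => by
      rw [range_ιlin i hU]
      exact ιlin_mem_sq i hU hc s hs)
  exact h

end Chart

include hsq in
theorem exists_chart (x : Z) : ∃ (U' : X'.Opens) (U : X.Opens), IsAffineOpen U' ∧ IsAffineOpen U ∧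
    U' ≤ i'.coborderRange ∧ U ≤ i.coborderRange ∧ U ≤ g ⁻¹ᵁ U' ∧ x ∈ i ⁻¹ᵁ U := by
  have hx' : i' (gZ x) ∈ i'.coborderRange := subset_coborder (Set.mem_range_self _)
  obtain ⟨_, ⟨U', hU', rfl⟩, hxU', hU'le⟩ :=
    X'.isBasis_affineOpens.exists_subset_of_mem_open hx' i'.coborderRange.2
  have hgx : g (i x) = i' (gZ x) := by
    rw [← Scheme.Hom.comp_apply, ← Scheme.Hom.comp_apply, hsq.w]
  have hx : i x ∈ i.coborderRange ⊓ g ⁻¹ᵁ U' := by
    refine ⟨subset_coborder (Set.mem_range_self _), ?_⟩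
    change g (i x) ∈ U'
    rw [hgx]
    exact hxU'
  obtain ⟨_, ⟨U, hU, rfl⟩, hxU, hUle⟩ :=
    X.isBasis_affineOpens.exists_subset_of_mem_open hx (i.coborderRange ⊓ g ⁻¹ᵁ U').2
  exact ⟨U', U, hU', hU, hU'le, fun y hy => (hUle hy).1, fun y hy => (hUle hy).2, hxU⟩

include hsq hφ in
theorem main : Epi φ ∧ (Flat g → IsIso φ) := by
  haveI q1 : ((Scheme.Modules.pullback gZ).obj (Omega.conormal i')).IsQuasicoherent :=
    Groth.Agent.Helper13.Pullback.isQuasicoherent_pullback gZ (Omega.conormal i')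
  let 𝒰 : Set Z.Opens := {V | ∃ (U' : X'.Opens) (U : X.Opens), IsAffineOpen U' ∧ IsAffineOpen U ∧
    U' ≤ i'.coborderRange ∧ U ≤ i.coborderRange ∧ U ≤ g ⁻¹ᵁ U' ∧ V = i ⁻¹ᵁ U}
  have hA : ∀ V ∈ 𝒰, IsAffineOpen V := by
    rintro _ ⟨U', U, hU', hU, hc', hc, hUU', rfl⟩
    exact isAffineOpen_preimage i hU hc
  have hcov : ∀ x : Z, ∃ V ∈ 𝒰, x ∈ V := by
    intro x
    obtain ⟨U', U, hU', hU, hc', hc, hUU', hx⟩ := exists_chart i i' g gZ hsq x
    exact ⟨i ⁻¹ᵁ U, ⟨U', U, hU', hU, hc', hc, hUU', rfl⟩, hx⟩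
  have hsurj : ∀ V ∈ 𝒰, Function.Surjective (φ.app V) := by
    rintro _ ⟨U', U, hU', hU, hc', hc, hUU', rfl⟩
    exact surjective_chart i i' g gZ hsq φ hφ hU' hU hc' hc hUU'
  refine ⟨Groth.Agent.Helper18.QCBasic.epi_of_cover φ 𝒰 hA hcov hsurj, ?_⟩
  intro hg
  apply Groth.Agent.Helper18.QCBasic.isIso_of_cover φ 𝒰 hA hcov
  rintro _ ⟨U', U, hU', hU, hc', hc, hUU', rfl⟩
  exact ⟨injective_chart i i' g gZ hsq φ hφ hU' hU hc' hc hUU' (g.flat_appLE hU' hU hUU'),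
    surjective_chart i i' g gZ hsq φ hφ hU' hU hc' hc hUU'⟩

end Groth.Agent.Helper18.CnBC
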