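import Mathlib
import Groth.Prelude.Def_ShStab
import Groth.Prelude.Def_ClSub2
import Groth.Agent.Lib.Helper13.HilbZero
import Groth.Agent.Lib.Helper13.CurveDeg1
import Groth.Agent.Lib.Helper13.CurveVan3
import Groth.Agent.Lib.Helper24.PtIdeal0
import Groth.Agent.Lib.Helper24.PtIdeal2
import Groth.Agent.Lib.Helper9.GrBC1
import Groth.Agent.Lib.Lead.EulerK0

/-!
# The sheaf step for strict positivity of the leading Hilbert coefficient (helper18, for helper6)

`Z` integral proper over `k`, `L` ample, `I ≠ ⊥` an ideal sheaf: a mono `s : O ⟶ O ⊗ L^n` (`n ≥ 1`)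
whose cokernel maps onto `(O/I) ⊗ L^n`.
-/

set_option autoImplicit false
set_option linter.style.haveILetI false
set_option linter.unusedSectionVars false
set_option linter.unusedVariables false
universe u
open CategoryTheory CategoryTheory.Limits AlgebraicGeometry Polynomial

namespace Groth.Agent.Helper18.StepSheaf

open Groth.Agent.Helper13 Groth.Agent.Helper13.Tensor Groth.Agent.Helper13.TwistSES
  Groth.Agent.Helper24.PtIdeal

/-- sections of a zero module vanish. -/
theorem section_eq_zero_of_isZero {X : Scheme.{u}} (M : X.Modules) (hM : IsZero M) (V : X.Opens)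
    (s : Γ(M, V)) : s = 0 := by
  have h1 : (𝟙 M : M ⟶ M) = 0 := hM.eq_of_src _ _
  have h2 : (𝟙 M : M ⟶ M).app V s = s := rfl
  rw [← h2, h1]
  rfl

/-- an ideal sheaf whose ideal module is zero is the zero ideal sheaf. -/
theorem eq_bot_of_isZero_idealMod {X : Scheme.{u}} (I : X.IdealSheafData)
    (h : IsZero (ClSub.idealMod I)) : I = ⊥ := by
  apply Scheme.IdealSheafData.ext
  funext U
  have hr : (LinearMap.range (Groth.Agent.Helper9.GrBC1.ιl I U.1) : Ideal Γ(X, U.1)) = I.ideal U :=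
    Groth.Agent.Helper9.GrBC1.range_ιl I U.2
  rw [← hr]
  rw [Scheme.IdealSheafData.ideal_bot]
  ext x
  constructor
  · rintro ⟨s, rfl⟩
    rw [section_eq_zero_of_isZero _ h U.1 s, map_zero]
    exact Submodule.zero_mem _
  · intro hx
    have : x = 0 := by simpa using hx
    rw [this]
    exact Submodule.zero_mem _

theorem exists_section_step (k : Type u) [Field k] (Z : Scheme.{u}) [Z.Over (Spec (CommRingCat.of k))]
    [IsProper (Z ↘ Spec (CommRingCat.of k))] [IsIntegral Z] (L : Z.Modules) (hL : CohB1.IsAmple L)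
    (I : Z.IdealSheafData) (hI : I ≠ ⊥) :
    ∃ (n : ℕ) (s : Coh.structureModule Z ⟶ ShStab.twist Z L (Coh.structureModule Z) n),
      1 ≤ n ∧ Mono s ∧ ∃ π : cokernel s ⟶ ShStab.twist Z L (ClSub.quotMod I) n, Epi π := by
  haveI : IsNoetherian Z := Groth.Agent.Lead.EulerK0.isNoetherian_of_proper' k Z
  have hJ : Coh.IsCoh (ClSub.idealMod I) := Groth.Agent.Helper24.PtIdeal.isCoh_idealMod I
  haveI := hJ.1
  haveI := hJ.2
  obtain ⟨n₁, hn₁⟩ :=
    Groth.Agent.Helper13.GlobGen.exists_isGloballyGenerated_twist L hL (ClSub.idealMod I)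
  set n := max n₁ 1 with hn
  have hgg := hn₁ n (le_max_left _ _)
  have hLn : PicF.IsInvertible (CohB1.tensorPow L n) :=
    Groth.Agent.Helper13.Inv.isInvertible_tensorPow L hL.1 n
  -- the twist of the ideal is nonzero
  have hnz : ¬ IsZero (CohB1.tensorMod (ClSub.idealMod I) (CohB1.tensorPow L n)) := by
    intro hz
    exact hI (eq_bot_of_isZero_idealMod I
      (Groth.Agent.Helper13.HilbZero.isZero_of_isZero_twist _ _ hLn hz))
  have hnt : Nontrivial (Coh.HH Z (CohB1.tensorMod (ClSub.idealMod I) (CohB1.tensorPow L n)) 0) := by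
    by_contra hc
    rw [not_nontrivial_iff_subsingleton] at hc
    exact hnz (Groth.Agent.Helper13.CurveGG.isZero_of_gg_of_subsingleton _ hgg hc)
  obtain ⟨σ, hσ⟩ := Groth.Agent.Helper13.CurveVan.exists_hom_ne_zero _ hnt
  have hS := tensorSC_shortExact (idealSC I) (idealSC_shortExact I) (CohB1.tensorPow L n) hLn
  haveI : Mono (Tensor.map (ClSub.idealModι I) (𝟙 (CohB1.tensorPow L n))) := hS.mono_f
  haveI : Epi (Tensor.map (ClSub.toSubscheme I) (𝟙 (CohB1.tensorPow L n))) := hS.epi_g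
  have hzero : Tensor.map (ClSub.idealModι I) (𝟙 (CohB1.tensorPow L n)) ≫
      Tensor.map (ClSub.toSubscheme I) (𝟙 (CohB1.tensorPow L n)) = 0 :=
    (tensorSC (idealSC I) (CohB1.tensorPow L n)).zero
  have hs : σ ≫ Tensor.map (ClSub.idealModι I) (𝟙 (CohB1.tensorPow L n)) ≠ 0 := by
    intro h0
    apply hσ
    have : σ ≫ Tensor.map (ClSub.idealModι I) (𝟙 (CohB1.tensorPow L n)) =
        0 ≫ Tensor.map (ClSub.idealModι I) (𝟙 (CohB1.tensorPow L n)) := by
      rw [Limits.zero_comp]; exact h0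
    exact (cancel_mono _).1 this
  have hON : PicF.IsInvertible (CohB1.tensorMod (Coh.structureModule Z) (CohB1.tensorPow L n)) :=
    Groth.Agent.Helper13.Inv.isInvertible_tensorMod _ _
      Groth.Agent.Helper13.Inv.isInvertible_structureModule hLn
  have hmono : Mono (σ ≫ Tensor.map (ClSub.idealModι I) (𝟙 (CohB1.tensorPow L n))) :=
    Groth.Agent.Helper13.CurveDeg.mono_of_ne_zero _ _
      Groth.Agent.Helper13.Inv.isInvertible_structureModule hON _ hs
  have hw : (σ ≫ Tensor.map (ClSub.idealModι I) (𝟙 (CohB1.tensorPow L n))) ≫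
      Tensor.map (ClSub.toSubscheme I) (𝟙 (CohB1.tensorPow L n)) = 0 := by
    rw [Category.assoc, hzero, Limits.comp_zero]
  have hfac : cokernel.π (σ ≫ Tensor.map (ClSub.idealModι I) (𝟙 (CohB1.tensorPow L n))) ≫
      cokernel.desc (σ ≫ Tensor.map (ClSub.idealModι I) (𝟙 (CohB1.tensorPow L n)))
        (Tensor.map (ClSub.toSubscheme I) (𝟙 (CohB1.tensorPow L n))) hw =
      Tensor.map (ClSub.toSubscheme I) (𝟙 (CohB1.tensorPow L n)) := cokernel.π_desc _ _ _
  have hepi : Epi (cokernel.desc (σ ≫ Tensor.map (ClSub.idealModι I) (𝟙 (CohB1.tensorPow L n)))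
        (Tensor.map (ClSub.toSubscheme I) (𝟙 (CohB1.tensorPow L n))) hw) := epi_of_epi_fac hfac
  exact ⟨n, σ ≫ Tensor.map (ClSub.idealModι I) (𝟙 (CohB1.tensorPow L n)), le_max_right _ _, hmono,
    cokernel.desc (σ ≫ Tensor.map (ClSub.idealModι I) (𝟙 (CohB1.tensorPow L n)))
      (Tensor.map (ClSub.toSubscheme I) (𝟙 (CohB1.tensorPow L n))) hw, hepi⟩

end Groth.Agent.Helper18.StepSheaf
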