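import Mathlib

/-!
# Exactness of the Amitsur complex in degree one, with explicit tensor products (helper18)
-/

set_option autoImplicit false
universe u
open TensorProduct

namespace Groth.Agent.Helper18.AmitsurH1

variable (A B : Type u) [CommRing A] [CommRing B] [Algebra A B]

/-- `b ⊗ b' ↦ (b ⊗ b') ⊗ 1` -/
noncomputable def q12 : B ⊗[A] B →ₐ[A] (B ⊗[A] B) ⊗[A] B := Algebra.TensorProduct.includeLeft

/-- `b ⊗ b' ↦ (b ⊗ 1) ⊗ b'` -/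
noncomputable def q13 : B ⊗[A] B →ₐ[A] (B ⊗[A] B) ⊗[A] B :=
  Algebra.TensorProduct.map Algebra.TensorProduct.includeLeft (AlgHom.id A B)

/-- `b ⊗ b' ↦ (1 ⊗ b) ⊗ b'` -/
noncomputable def q23 : B ⊗[A] B →ₐ[A] (B ⊗[A] B) ⊗[A] B :=
  Algebra.TensorProduct.map Algebra.TensorProduct.includeRight (AlgHom.id A B)

@[simp] lemma q12_tmul (b b' : B) : q12 A B (b ⊗ₜ b') = (b ⊗ₜ[A] b') ⊗ₜ[A] (1 : B) := rfl
@[simp] lemma q13_tmul (b b' : B) : q13 A B (b ⊗ₜ b') = (b ⊗ₜ[A] (1 : B)) ⊗ₜ[A] b' := by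
  simp [q13]
@[simp] lemma q23_tmul (b b' : B) : q23 A B (b ⊗ₜ b') = ((1 : B) ⊗ₜ[A] b) ⊗ₜ[A] b' := by
  simp [q23]

/-- `b ↦ b ⊗ 1 - 1 ⊗ b` -/
noncomputable def d0 : B →ₗ[A] B ⊗[A] B :=
  (Algebra.TensorProduct.includeLeft (R := A) (S := A) (A := B) (B := B)).toLinearMap -
    (Algebra.TensorProduct.includeRight (R := A) (A := B) (B := B)).toLinearMap

/-- the alternating sum `q12 - q13 + q23` -/
noncomputable def d1 : B ⊗[A] B →ₗ[A] (B ⊗[A] B) ⊗[A] B :=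
  (q12 A B).toLinearMap - (q13 A B).toLinearMap + (q23 A B).toLinearMap

lemma d0_apply (b : B) : d0 A B b = b ⊗ₜ[A] (1 : B) - (1 : B) ⊗ₜ[A] b := rfl

lemma d1_tmul (b b' : B) : d1 A B (b ⊗ₜ b') =
    (b ⊗ₜ[A] b') ⊗ₜ[A] (1 : B) - (b ⊗ₜ[A] (1 : B)) ⊗ₜ[A] b' + ((1 : B) ⊗ₜ[A] b) ⊗ₜ[A] b' := by
  simp [d1]

lemma d1_d0 (b : B) : d1 A B (d0 A B b) = 0 := by
  rw [d0_apply, map_sub, d1_tmul, d1_tmul]
  abel

/-- `b₀ ⊗ (b₁ ⊗ b₂) ↦ b₀ b₁ ⊗ b₂` -/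
noncomputable def s1 : B ⊗[A] (B ⊗[A] B) →ₗ[A] B ⊗[A] B :=
  (LinearMap.mul' A B).rTensor B ∘ₗ (TensorProduct.assoc A B B B).symm.toLinearMap

lemma s1_tmul (b₀ b₁ b₂ : B) : s1 A B (b₀ ⊗ₜ (b₁ ⊗ₜ b₂)) = (b₀ * b₁) ⊗ₜ[A] b₂ := by
  simp [s1]

/-- `b₀ ⊗ ((b₁ ⊗ b₂) ⊗ b₃) ↦ b₀ b₁ ⊗ (b₂ ⊗ b₃)` -/
noncomputable def s2 : B ⊗[A] ((B ⊗[A] B) ⊗[A] B) →ₗ[A] B ⊗[A] (B ⊗[A] B) :=
  (LinearMap.mul' A B).rTensor (B ⊗[A] B) ∘ₗ
    (TensorProduct.assoc A B B (B ⊗[A] B)).symm.toLinearMap ∘ₗ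
      (TensorProduct.assoc A B B B).toLinearMap.lTensor B

lemma s2_tmul (b₀ b₁ b₂ b₃ : B) :
    s2 A B (b₀ ⊗ₜ ((b₁ ⊗ₜ b₂) ⊗ₜ b₃)) = (b₀ * b₁) ⊗ₜ[A] (b₂ ⊗ₜ[A] b₃) := by
  simp [s2]

lemma homotopy (t : B ⊗[A] (B ⊗[A] B)) :
    s2 A B ((d1 A B).lTensor B t) - (d0 A B).lTensor B (s1 A B t) = t := by
  induction t using TensorProduct.induction_on with
  | zero => simp
  | add x y hx hy =>
    simp only [map_add]
    rw [add_sub_add_comm, hx, hy]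
  | tmul b₀ x =>
    induction x using TensorProduct.induction_on with
    | zero => simp
    | add x y hx hy =>
      simp only [tmul_add, map_add]
      rw [add_sub_add_comm, hx, hy]
    | tmul b₁ b₂ =>
      rw [LinearMap.lTensor_tmul, d1_tmul, s1_tmul, LinearMap.lTensor_tmul, d0_apply]
      simp only [tmul_add, tmul_sub, map_add, map_sub, s2_tmul, mul_one]
      abel

theorem exact [Module.FaithfullyFlat A B] : Function.Exact (d0 A B) (d1 A B) := by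
  rw [← Module.FaithfullyFlat.lTensor_exact_iff_exact A B]
  intro t
  constructor
  · intro ht
    refine ⟨- s1 A B t, ?_⟩
    have := homotopy A B t
    rw [ht, map_zero, zero_sub] at this
    rw [map_neg]
    exact this
  · rintro ⟨s, rfl⟩
    have h : (d1 A B) ∘ₗ (d0 A B) = 0 := LinearMap.ext (d1_d0 A B)
    rw [← LinearMap.comp_apply, ← LinearMap.lTensor_comp, h, LinearMap.lTensor_zero,
      LinearMap.zero_apply]

/-- a one-cocycle of the Amitsur complex of a faithfully flat algebra is a coboundary -/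
theorem exists_eq_of_cocycle [Module.FaithfullyFlat A B] (γ : B ⊗[A] B)
    (h : q12 A B γ + q23 A B γ = q13 A B γ) :
    ∃ β : B, γ = β ⊗ₜ[A] (1 : B) - (1 : B) ⊗ₜ[A] β := by
  have h0 : d1 A B γ = 0 := by
    show q12 A B γ - q13 A B γ + q23 A B γ = 0
    rw [← h]
    abel
  obtain ⟨β, hβ⟩ := (exact A B γ).1 h0
  exact ⟨β, hβ.symm⟩

end Groth.Agent.Helper18.AmitsurH1
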