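import Mathlib
import Groth.Agent.Lib.Helper18.AmitsurH1

/-!
# Zariski-local Hilbert 90 for a faithfully flat algebra (helper18)

For `A → B` faithfully flat and a unit cocycle `u ∈ (B ⊗ B)ˣ`, around every prime of `A` there
is `g ∉ 𝔭` and `l ∈ B` with `u * (1 ⊗ l) = l ⊗ 1` and `l ∣ g`.
-/

set_option autoImplicit false
universe u
open TensorProduct

namespace Groth.Agent.Helper18.H90

open Groth.Agent.Helper18.AmitsurH1

variable (A B : Type u) [CommRing A] [CommRing B] [Algebra A B]

/-- `b ↦ u * (1 ⊗ b) - b ⊗ 1` -/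
noncomputable def delta (u : B ⊗[A] B) : B →ₗ[A] B ⊗[A] B :=
  (LinearMap.mulLeft A u) ∘ₗ
      (Algebra.TensorProduct.includeRight (R := A) (A := B) (B := B)).toLinearMap -
    (Algebra.TensorProduct.includeLeft (R := A) (S := A) (A := B) (B := B)).toLinearMap

lemma delta_apply (u : B ⊗[A] B) (b : B) :
    delta A B u b = u * ((1 : B) ⊗ₜ[A] b) - b ⊗ₜ[A] (1 : B) := rfl

/-- the twisted invariants -/
noncomputable def Lu (u : B ⊗[A] B) : Submodule A B := LinearMap.ker (delta A B u)

lemma mem_Lu (u : B ⊗[A] B) (b : B) :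
    b ∈ Lu A B u ↔ u * ((1 : B) ⊗ₜ[A] b) = b ⊗ₜ[A] (1 : B) := by
  rw [Lu, LinearMap.mem_ker, delta_apply, sub_eq_zero]

lemma rTensor_delta (u x : B ⊗[A] B) :
    (delta A B u).rTensor B x = q12 A B u * q23 A B x - q13 A B x := by
  induction x using TensorProduct.induction_on with
  | zero => simp
  | add x y hx hy =>
    rw [map_add, hx, hy, map_add, map_add, mul_add]
    abel
  | tmul b c =>
    rw [LinearMap.rTensor_tmul, delta_apply, q23_tmul, q13_tmul, sub_tmul]
    congr 1
    show _ = (u ⊗ₜ[A] (1 : B)) * _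
    rw [Algebra.TensorProduct.tmul_mul_tmul, _root_.one_mul]

/-- total multiplication `(B ⊗ B) ⊗ B → B` -/
noncomputable def m3 : (B ⊗[A] B) ⊗[A] B →ₐ[A] B :=
  (Algebra.TensorProduct.lmul' A).comp
    (Algebra.TensorProduct.map (Algebra.TensorProduct.lmul' A) (AlgHom.id A B))

lemma m3_q12 (x : B ⊗[A] B) : m3 A B (q12 A B x) = Algebra.TensorProduct.lmul' A x := by
  induction x using TensorProduct.induction_on with
  | zero => simp
  | add x y hx hy => rw [map_add, map_add, hx, hy, map_add]
  | tmul b c => simp [m3]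

lemma m3_q13 (x : B ⊗[A] B) : m3 A B (q13 A B x) = Algebra.TensorProduct.lmul' A x := by
  induction x using TensorProduct.induction_on with
  | zero => simp
  | add x y hx hy => rw [map_add, map_add, hx, hy, map_add]
  | tmul b c => simp [m3]

lemma m3_q23 (x : B ⊗[A] B) : m3 A B (q23 A B x) = Algebra.TensorProduct.lmul' A x := by
  induction x using TensorProduct.induction_on with
  | zero => simp
  | add x y hx hy => rw [map_add, map_add, hx, hy, map_add]
  | tmul b c => simp [m3]

lemma lmul_eq_one (u v : B ⊗[A] B) (huv : u * v = 1)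
    (hu : q12 A B u * q23 A B u = q13 A B u) : Algebra.TensorProduct.lmul' A u = 1 := by
  have h1 := congrArg (m3 A B) hu
  rw [map_mul, m3_q12, m3_q13, m3_q23] at h1
  have h2 : Algebra.TensorProduct.lmul' A u * Algebra.TensorProduct.lmul' A v = 1 := by
    rw [← map_mul, huv, map_one]
  calc Algebra.TensorProduct.lmul' A u
      = Algebra.TensorProduct.lmul' A u * (Algebra.TensorProduct.lmul' A u *
          Algebra.TensorProduct.lmul' A v) := by rw [h2, _root_.mul_one]
    _ = (Algebra.TensorProduct.lmul' A u * Algebra.TensorProduct.lmul' A u) *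
          Algebra.TensorProduct.lmul' A v := by ring
    _ = 1 := by rw [h1, h2]

lemma lmul_rTensor_mem (u : B ⊗[A] B) (z : (Lu A B u) ⊗[A] B) :
    Algebra.TensorProduct.lmul' A ((Lu A B u).subtype.rTensor B z) ∈
      Ideal.span ((Lu A B u : Submodule A B) : Set B) := by
  induction z using TensorProduct.induction_on with
  | zero => simp
  | add x y hx hy =>
    rw [map_add, map_add]
    exact Ideal.add_mem _ hx hy
  | tmul l c =>
    rw [LinearMap.rTensor_tmul, Algebra.TensorProduct.lmul'_apply_tmul]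
    exact Ideal.mul_mem_right _ _ (Ideal.subset_span l.2)

variable [Module.FaithfullyFlat A B]

theorem one_mem_span (u v : B ⊗[A] B) (huv : u * v = 1)
    (hu : q12 A B u * q23 A B u = q13 A B u) :
    (1 : B) ∈ Ideal.span ((Lu A B u : Submodule A B) : Set B) := by
  have hex := Module.Flat.rTensor_exact B (LinearMap.exact_subtype_ker_map (delta A B u))
  have h0 : (delta A B u).rTensor B u = 0 := by
    rw [rTensor_delta, hu, sub_self]
  obtain ⟨z, hz⟩ := (hex u).1 h0
  have := lmul_rTensor_mem A B u z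
  rw [show (Lu A B u).subtype.rTensor B z = u from hz, lmul_eq_one A B u v huv hu] at this
  exact this

theorem mul_mem_range (u v : B ⊗[A] B) (huv : u * v = 1) (l l' : B) (hl : l ∈ Lu A B u)
    (hl' : l' ∈ Lu A B v) : ∃ a : A, algebraMap A B a = l * l' := by
  rw [mem_Lu] at hl hl'
  have h1 : (l * l') ⊗ₜ[A] (1 : B) = (1 : B) ⊗ₜ[A] (l * l') := by
    calc (l * l') ⊗ₜ[A] (1 : B) = (l ⊗ₜ[A] (1 : B)) * (l' ⊗ₜ[A] (1 : B)) := by
          rw [Algebra.TensorProduct.tmul_mul_tmul, _root_.one_mul]
      _ = (u * ((1 : B) ⊗ₜ[A] l)) * (v * ((1 : B) ⊗ₜ[A] l')) := by rw [hl, hl']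
      _ = (u * v) * (((1 : B) ⊗ₜ[A] l) * ((1 : B) ⊗ₜ[A] l')) := by ring
      _ = (1 : B) ⊗ₜ[A] (l * l') := by
          rw [huv, _root_.one_mul, Algebra.TensorProduct.tmul_mul_tmul, _root_.one_mul]
  have h2 : Algebra.TensorProduct.includeLeftSubRight A B (l * l') = 0 := by
    rw [Algebra.TensorProduct.includeLeftSubRight_apply, h1, sub_self]
  obtain ⟨a, ha⟩ := ((Algebra.IsEffective.of_faithfullyFlat A B) (l * l')).1 h2
  exact ⟨a, ha⟩

/-- Zariski-local Hilbert 90 -/
theorem main (u v : B ⊗[A] B) (huv : u * v = 1)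
    (hu : q12 A B u * q23 A B u = q13 A B u) (𝔭 : Ideal A) [𝔭.IsPrime] :
    ∃ (l l' : B) (g : A), g ∉ 𝔭 ∧ u * ((1 : B) ⊗ₜ[A] l) = l ⊗ₜ[A] (1 : B) ∧
      l * l' = algebraMap A B g := by
  have hvu : v * u = 1 := by rw [mul_comm, huv]
  have hv : q12 A B v * q23 A B v = q13 A B v := by
    have e1 : q13 A B v * q13 A B u = 1 := by rw [← map_mul, hvu, map_one]
    have e2 : (q12 A B v * q23 A B v) * q13 A B u = 1 := by
      rw [← hu]
      calc q12 A B v * q23 A B v * (q12 A B u * q23 A B u)
          = (q12 A B v * q12 A B u) * (q23 A B v * q23 A B u) := by ring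
        _ = 1 := by rw [← map_mul, ← map_mul, hvu, map_one, map_one, _root_.mul_one]
    calc q12 A B v * q23 A B v
        = (q12 A B v * q23 A B v) * (q13 A B v * q13 A B u) := by rw [e1, _root_.mul_one]
      _ = ((q12 A B v * q23 A B v) * q13 A B u) * q13 A B v := by ring
      _ = q13 A B v := by rw [e2, _root_.one_mul]
  let gens : Set A := {a : A | ∃ l ∈ Lu A B u, ∃ l' ∈ Lu A B v, algebraMap A B a = l * l'}
  have htop : Ideal.span gens = ⊤ := by
    rw [← Ideal.comap_map_eq_self_of_faithfullyFlat (B := B) (Ideal.span gens)]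
    have h1 : (Ideal.span gens).map (algebraMap A B) = ⊤ := by
      rw [Ideal.eq_top_iff_one]
      have hmul : (1 : B) ∈ Ideal.span ((Lu A B u : Submodule A B) : Set B) *
          Ideal.span ((Lu A B v : Submodule A B) : Set B) := by
        have := Ideal.mul_mem_mul (one_mem_span A B u v huv hu) (one_mem_span A B v u hvu hv)
        rwa [_root_.one_mul] at this
      rw [Ideal.span_mul_span'] at hmul
      refine (Ideal.span_le.mpr ?_) hmul
      rintro _ ⟨l, hl, l', hl', rfl⟩
      obtain ⟨a, ha⟩ := mul_mem_range A B u v huv l l' hl hl'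
      show l * l' ∈ _
      rw [← ha]
      exact Ideal.mem_map_of_mem _ (Ideal.subset_span ⟨l, hl, l', hl', ha⟩)
    rw [h1, Ideal.comap_top]
  by_contra hcon
  push_neg at hcon
  have hle : Ideal.span gens ≤ 𝔭 := by
    rw [Ideal.span_le]
    rintro a ⟨l, hl, l', hl', ha⟩
    by_contra hna
    exact hcon l l' a hna ((mem_Lu A B u l).1 hl) ha.symm
  rw [htop] at hle
  exact (Ideal.IsPrime.ne_top ‹_›) (top_le_iff.mp hle)

end Groth.Agent.Helper18.H90
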