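import Groth.Agent.Lib.Helper18.StalkBC
import Groth.Agent.Lib.Helper14.GeomRedTFAE
import Groth.Prelude.Def_Curv2

/-!
# Geometric reducedness at a point via the local ring (helper18)
-/

set_option autoImplicit false
universe u
open CategoryTheory CategoryTheory.Limits AlgebraicGeometry
open scoped TensorProduct

namespace Groth.Agent.Helper18.StalkBC

variable {k : Type u} [Field k] {X : Scheme.{u}} (f : X ⟶ Spec (CommRingCat.of k)) (x : X)

/-- The ring map `k → 𝒪_{X,x}`. -/
noncomputable def stalkHom : k →+* X.presheaf.stalk x :=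
  (X.presheaf.germ ⊤ x trivial).hom.comp (Coh.toGlobal f)

/-- The `k`-algebra structure on `𝒪_{X,x}`. -/
noncomputable abbrev stalkAlg : Algebra k (X.presheaf.stalk x) := (stalkHom f x).toAlgebra

theorem fromSpecStalk_comp :
    X.fromSpecStalk x ≫ f = Spec.map (CommRingCat.ofHom (stalkHom f x)) := by
  apply ext_of_isAffine
  rw [← cancel_epi (Scheme.ΓSpecIso (CommRingCat.of k)).inv,
    ← cancel_mono (Scheme.ΓSpecIso (X.presheaf.stalk x)).hom]
  rw [Category.assoc, Category.assoc, Scheme.ΓSpecIso_naturality, Iso.inv_hom_id_assoc,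
    Scheme.Hom.comp_appTop, Scheme.fromSpecStalk_appTop]
  simp only [Category.assoc]
  have h1 : (Spec (X.presheaf.stalk x)).presheaf.map
      (homOfLE (le_top : (⊤ : (Spec (X.presheaf.stalk x)).Opens) ≤ ⊤)).op = 𝟙 _ := by
    exact (Spec (X.presheaf.stalk x)).presheaf.map_id _
  rw [h1, Category.id_comp, Iso.inv_hom_id, Category.comp_id]
  rfl


section Main

variable (K : Type u) [Field K] [Algebra k K]

/-- Theorem A. -/
theorem isReduced_stalk_of_isReduced_tensor
    (h : letI := stalkAlg f x; IsReduced ((X.presheaf.stalk x) ⊗[k] K))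
    (x' : ↥(FBase.bc f K)) (hx' : (FBase.bcπ f K).base x' ⤳ x) :
    IsReduced ((FBase.bc f K).presheaf.stalk x') := by
  letI := stalkAlg f x
  let j : Spec (CommRingCat.of (X.presheaf.stalk x)) ⟶ X := X.fromSpecStalk x
  haveI : Flat j := inferInstanceAs (Flat (X.fromSpecStalk x))
  haveI : IsPreimmersion j := inferInstanceAs (IsPreimmersion (X.fromSpecStalk x))
  have hj : j ≫ f = Spec.map (CommRingCat.ofHom (algebraMap k (X.presheaf.stalk x))) :=
    fromSpecStalk_comp f x
  refine isReduced_stalk_of_isReduced_tensor_gen f K j hj h x' ?_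
  show (FBase.bcπ f K).base x' ∈ Set.range (X.fromSpecStalk x)
  rw [Scheme.range_fromSpecStalk]; exact hx'

/-- Theorem B. -/
theorem isReduced_tensor_of_isReduced_stalk [Algebra.IsIntegral k K]
    (h : ∀ x' : ↥(FBase.bc f K), (FBase.bcπ f K).base x' = x →
      IsReduced ((FBase.bc f K).presheaf.stalk x')) :
    letI := stalkAlg f x; IsReduced ((X.presheaf.stalk x) ⊗[k] K) := by
  letI := stalkAlg f x
  let j : Spec (CommRingCat.of (X.presheaf.stalk x)) ⟶ X := X.fromSpecStalk x
  haveI : Flat j := inferInstanceAs (Flat (X.fromSpecStalk x))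
  haveI : IsPreimmersion j := inferInstanceAs (IsPreimmersion (X.fromSpecStalk x))
  have hj : j ≫ f = Spec.map (CommRingCat.ofHom (algebraMap k (X.presheaf.stalk x))) :=
    fromSpecStalk_comp f x
  refine isReduced_tensor_of_isReduced_stalk_gen f K j hj ?_
  intro x' hx'
  refine h x' ?_
  rw [hx']
  exact Scheme.fromSpecStalk_closedPoint

end Main

lemma isReduced_comm {R A B : Type u} [CommRing R] [CommRing A] [CommRing B] [Algebra R A]
    [Algebra R B] (h : IsReduced (A ⊗[R] B)) : IsReduced (B ⊗[R] A) :=
  isReduced_of_injective (Algebra.TensorProduct.comm R B A)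
    (Algebra.TensorProduct.comm R B A).injective

/-- `X` is geometrically reduced at `x` iff `𝒪_{X,x}` is a geometrically reduced `k`-algebra. -/
theorem isGeomReducedAt_iff_stalk :
    FBase.IsGeomReducedAt f x ↔
      (letI := stalkAlg f x; Algebra.IsGeometricallyReduced k (X.presheaf.stalk x)) := by
  letI := stalkAlg f x
  constructor
  · intro h
    apply Groth.Agent.Helper14.isGeometricallyReduced_of_forall_finite_purelyInseparable
    intro k' _ _ _ _
    haveI : Algebra.IsIntegral k k' := inferInstance
    exact isReduced_comm (isReduced_tensor_of_isReduced_stalk f x k' (fun x' hx' => h k' x' hx'))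
  · intro h K _ _ x' hx'
    haveI := h
    refine isReduced_stalk_of_isReduced_tensor f x K ?_ x' (hx' ▸ specializes_rfl)
    exact isReduced_comm (Groth.Agent.Helper14.isReduced_tensor_of_isGeometricallyReduced K)

/-- geometric reducedness passes to generisations -/
theorem isGeomReducedAt_of_specializes (y : X) (hy : y ⤳ x) (h : FBase.IsGeomReducedAt f x) :
    FBase.IsGeomReducedAt f y := by
  letI := stalkAlg f x
  haveI := (isGeomReducedAt_iff_stalk f x).mp h
  intro K _ _ y' hy'
  refine isReduced_stalk_of_isReduced_tensor f x K ?_ y' (hy' ▸ hy)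
  exact isReduced_comm (Groth.Agent.Helper14.isReduced_tensor_of_isGeometricallyReduced K)

/-- over a perfect field, reduced local ring implies geometrically reduced at the point -/
theorem isGeomReducedAt_of_perfectField [PerfectField k] [IsReduced (X.presheaf.stalk x)] :
    FBase.IsGeomReducedAt f x := by
  letI := stalkAlg f x
  intro K _ _ x' hx'
  refine isReduced_stalk_of_isReduced_tensor f x K ?_ x' (hx' ▸ specializes_rfl)
  exact Groth.Agent.Helper14.isReduced_tensor_of_perfectField

/-- criterion by finite purely inseparable extensions -/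
theorem isGeomReducedAt_iff_purelyInseparable :
    FBase.IsGeomReducedAt f x ↔
      ∀ (k' : Type u) [Field k'] [Algebra k k'] [FiniteDimensional k k']
        [IsPurelyInseparable k k'] (x' : ↥(FBase.bc f k')), (FBase.bcπ f k').base x' = x →
        IsReduced ((FBase.bc f k').presheaf.stalk x') := by
  letI := stalkAlg f x
  constructor
  · intro h k' _ _ _ _ x' hx'
    exact h k' x' hx'
  · intro h
    rw [isGeomReducedAt_iff_stalk]
    apply Groth.Agent.Helper14.isGeometricallyReduced_of_forall_finite_purelyInseparable
    intro k' _ _ _ _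
    haveI : Algebra.IsIntegral k k' := inferInstance
    exact isReduced_comm (isReduced_tensor_of_isReduced_stalk f x k' (fun x' hx' => h k' x' hx'))

end Groth.Agent.Helper18.StalkBC
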