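import Mathlib

/-!
# The norm of a finite free algebra commutes with base change
-/

namespace Groth.Agent.Lib.Helper18.NormBC

open TensorProduct

theorem norm_of_isPushout {A A' B B' : Type*} [CommRing A] [CommRing A'] [CommRing B] [CommRing B']
    [Algebra A B] [Algebra A A'] [Algebra A' B'] [Algebra B B'] [Algebra A B']
    [IsScalarTower A A' B'] [IsScalarTower A B B'] [hp : Algebra.IsPushout A A' B B']
    (hfree : ∃ s : Finset B, Nonempty (Module.Basis s A B)) (x : B) :
    Algebra.norm A' (algebraMap B B' x) = algebraMap A A' (Algebra.norm A x) := by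
  classical
  obtain ⟨s, ⟨b⟩⟩ := hfree
  have hbc : IsBaseChange A' (IsScalarTower.toAlgHom A B B').toLinearMap := hp.out
  let b' : Module.Basis s A' B' := (b.baseChange A').map hbc.equiv
  have hrepr : ∀ (y : B) (i : s), b'.repr (algebraMap B B' y) i = algebraMap A A' (b.repr y i) := by
    intro y i
    have h1 : algebraMap B B' y = hbc.equiv ((1 : A') ⊗ₜ[A] y) := by
      rw [IsBaseChange.equiv_tmul, one_smul]; rfl
    rw [h1]
    simp only [b', Module.Basis.map_repr, LinearEquiv.trans_apply, LinearEquiv.symm_apply_apply,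
      Module.Basis.baseChange_repr_tmul]
    rw [Algebra.smul_def, mul_one]
  have hb' : ∀ j : s, b' j = algebraMap B B' (b j) := by
    intro j
    simp only [b', Module.Basis.map_apply, Module.Basis.baseChange_apply]
    rw [IsBaseChange.equiv_tmul, one_smul]; rfl
  rw [Algebra.norm_eq_matrix_det b', Algebra.norm_eq_matrix_det b, RingHom.map_det]
  congr 1
  ext i j
  rw [RingHom.mapMatrix_apply, Matrix.map_apply, Algebra.leftMulMatrix_eq_repr_mul,
    Algebra.leftMulMatrix_eq_repr_mul, hb', ← map_mul, hrepr]

end Groth.Agent.Lib.Helper18.NormBC
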