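import Mathlib
import Groth.Agent.Lib.Helper14.SepGen

set_option autoImplicit false
set_option linter.style.haveILetI false
set_option linter.unusedSectionVars false
set_option maxRecDepth 8000
universe u
open CategoryTheory CategoryTheory.Limits AlgebraicGeometry TensorProduct

/-!
# Products of reduced schemes over a perfect field are reduced
-/

namespace Groth.Agent.Helper18.RedProd

/-- a reduced noetherian ring embeds in a finite product of fields -/
theorem exists_injective_pi_field (F : Type u) [Field F] (B : Type u) [CommRing B] [Algebra F B]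
    [IsNoetherianRing B] [IsReduced B] :
    ∃ (J : Type u) (_ : Fintype J) (K : J → Type u) (_ : ∀ j, Field (K j))
      (_ : ∀ j, Algebra F (K j)) (φ : B →ₐ[F] ∀ j, K j), Function.Injective φ := by
  have hfin : (minimalPrimes B).Finite := minimalPrimes.finite_of_isNoetherianRing B
  haveI : Fintype (minimalPrimes B) := hfin.fintype
  haveI : ∀ p : minimalPrimes B, p.1.IsPrime := fun p => p.2.1.1
  refine ⟨minimalPrimes B, inferInstance, fun p => FractionRing (B ⧸ p.1), fun p => inferInstance,
    fun p => inferInstance, AlgHom.pi (fun p => IsScalarTower.toAlgHom F B _), ?_⟩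
  rw [injective_iff_map_eq_zero]
  intro b hb
  have h1 : ∀ p : minimalPrimes B, b ∈ p.1 := by
    intro p
    have h2 := congrFun hb p
    have h3 : algebraMap B (FractionRing (B ⧸ p.1)) b = 0 := h2
    rw [IsScalarTower.algebraMap_apply B (B ⧸ p.1) (FractionRing (B ⧸ p.1))] at h3
    have h4 := (IsFractionRing.injective (B ⧸ p.1) (FractionRing (B ⧸ p.1)))
      (h3.trans (map_zero _).symm)
    exact Ideal.Quotient.eq_zero_iff_mem.mp h4
  have h5 : b ∈ sInf (minimalPrimes B) := by
    rw [Submodule.mem_sInf]
    intro p hp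
    exact h1 ⟨p, hp⟩
  have h6 : sInf (minimalPrimes B) = (⊥ : Ideal B) := by
    show sInf (⊥ : Ideal B).minimalPrimes = ⊥
    rw [Ideal.sInf_minimalPrimes]
    exact nilradical_eq_zero B
  rw [h6] at h5
  exact h5

theorem isReduced_tensor (F : Type u) [Field F] [PerfectField F] (R A : Type u) [CommRing R]
    [CommRing A] [Algebra F R] [Algebra F A] [IsReduced R] [IsReduced A] :
    IsReduced (R ⊗[F] A) := by
  apply IsReduced.tensorProduct_of_flat_of_forall_fg
  intro B hB
  haveI : Algebra.FiniteType F B := (Subalgebra.fg_iff_finiteType B).mp hB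
  haveI : IsNoetherianRing B := Algebra.FiniteType.isNoetherianRing F B
  haveI : IsReduced B := isReduced_of_injective B.val Subtype.val_injective
  obtain ⟨J, hJ, K, hK, hKa, φ, hφ⟩ := exists_injective_pi_field F B
  have h1 : Function.Injective (Algebra.TensorProduct.map (AlgHom.id F R) φ) :=
    Module.Flat.lTensor_preserves_injective_linearMap _ hφ
  haveI : ∀ j, IsReduced (R ⊗[F] K j) := fun j =>
    Groth.Agent.Helper14.isReduced_tensor_of_perfectField
  classical
  let e := Algebra.TensorProduct.piRight F F R K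
  exact isReduced_of_injective (e.toAlgHom.comp (Algebra.TensorProduct.map (AlgHom.id F R) φ))
    (e.injective.comp h1)

theorem isReduced_pullback_Spec (F : Type u) [Field F] [PerfectField F] (R S : CommRingCat.{u})
    (φ : CommRingCat.of F ⟶ R) (ψ : CommRingCat.of F ⟶ S) [IsReduced R] [IsReduced S] :
    IsReduced (pullback (Spec.map φ) (Spec.map ψ)) := by
  letI : Algebra F R := φ.hom.toAlgebra
  letI : Algebra F S := ψ.hom.toAlgebra
  haveI : IsReduced (R ⊗[F] S) := isReduced_tensor F R S
  haveI : IsReduced (CommRingCat.of (R ⊗[F] S)) := ‹IsReduced (R ⊗[F] S)›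
  have e := pullbackSpecIso F R S
  have : IsReduced (pullback (Spec.map (CommRingCat.ofHom (algebraMap F R)))
      (Spec.map (CommRingCat.ofHom (algebraMap F S)))) :=
    isReduced_of_isOpenImmersion e.hom
  exact this

theorem isReduced_pullback (F : Type u) [Field F] [PerfectField F] {X Y : Scheme.{u}}
    (f : X ⟶ Spec (CommRingCat.of F)) (g : Y ⟶ Spec (CommRingCat.of F))
    [IsReduced X] [IsReduced Y] : IsReduced (pullback f g) := by
  let 𝒰 := X.affineOpenCover
  let 𝒱 := Y.affineOpenCover
  let 𝒲 := Scheme.Pullback.openCoverOfLeftRight 𝒰.openCover 𝒱.openCover f g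
  haveI : ∀ ij, IsReduced (𝒲.X ij) := by
    rintro ⟨i, j⟩
    show IsReduced (pullback (𝒰.f i ≫ f) (𝒱.f j ≫ g))
    haveI : IsOpenImmersion (𝒰.f i) := 𝒰.map_prop i
    haveI : IsOpenImmersion (𝒱.f j) := 𝒱.map_prop j
    haveI : IsReduced (Spec (𝒰.X i)) := isReduced_of_isOpenImmersion (𝒰.f i)
    haveI : IsReduced (Spec (𝒱.X j)) := isReduced_of_isOpenImmersion (𝒱.f j)
    haveI : _root_.IsReduced (𝒰.X i) := (affine_isReduced_iff _).mp inferInstance
    haveI : _root_.IsReduced (𝒱.X j) := (affine_isReduced_iff _).mp inferInstance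
    have h1 : Spec.map (Spec.preimage (𝒰.f i ≫ f)) = 𝒰.f i ≫ f := Spec.map_preimage _
    have h2 : Spec.map (Spec.preimage (𝒱.f j ≫ g)) = 𝒱.f j ≫ g := Spec.map_preimage _
    rw [← h1, ← h2]
    exact isReduced_pullback_Spec F _ _ _ _
  exact IsReduced.of_openCover _ 𝒲

end Groth.Agent.Helper18.RedProd
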