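import Mathlib
import Groth.Agent.Lib.Helper18.RedProd

set_option autoImplicit false
set_option linter.style.haveILetI false
set_option linter.unusedSectionVars false
set_option maxRecDepth 8000
universe u
open CategoryTheory CategoryTheory.Limits AlgebraicGeometry MonoidalCategory CartesianMonoidalCategory
  MonObj GrpObj

/-!
# Morphisms from reduced schemes factor through closed subschemes containing their image
-/

namespace Groth.Agent.Helper18.RedLift

/-- a morphism from a reduced scheme whose image lies in the image of a closed immersion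
factors through it -/
theorem exists_lift_of_isReduced {T Z X : Scheme.{u}} (j : Z ⟶ X) [IsClosedImmersion j]
    (h : T ⟶ X) [IsReduced T] (hr : Set.range h ⊆ Set.range j) : ∃ h' : T ⟶ Z, h' ≫ j = h := by
  haveI : Surjective (pullback.fst h j) := by
    constructor
    intro t
    have : t ∈ Set.range (pullback.fst h j) := by
      rw [Scheme.Pullback.range_fst]
      exact hr ⟨t, rfl⟩
    exact this
  haveI : IsIso (pullback.fst h j) := isIso_of_isClosedImmersion_of_surjective _
  refine ⟨inv (pullback.fst h j) ≫ pullback.snd h j, ?_⟩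
  rw [Category.assoc, ← pullback.condition, IsIso.inv_hom_id_assoc]

theorem S11936 (k : Type u) [Field k] [PerfectField k]
    (G F : Over (Spec (CommRingCat.of k))) [GrpObj G] (j : F ⟶ G) [IsClosedImmersion j.left]
    [Surjective j.left] [IsReduced F.left] :
    (∃ m : F ⊗ F ⟶ F, m ≫ j = MonoidalCategory.tensorHom j j ≫ μ[G]) ∧
      (∃ i : F ⟶ F, i ≫ j = j ≫ ι[G]) ∧
      (∃ e : 𝟙_ (Over (Spec (CommRingCat.of k))) ⟶ F, e ≫ j = η[G]) := by
  have hsurj : ∀ {T : Scheme.{u}} (h : T ⟶ G.left), Set.range h ⊆ Set.range j.left := by
    intro T h x _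
    exact j.left.surjective x
  have key : ∀ (T : Over (Spec (CommRingCat.of k))) [IsReduced T.left] (h : T ⟶ G),
      ∃ h' : T ⟶ F, h' ≫ j = h := by
    intro T _ h
    obtain ⟨h', hh'⟩ := exists_lift_of_isReduced j.left h.left (hsurj h.left)
    refine ⟨Over.homMk h' ?_, ?_⟩
    · rw [← Over.w j, ← Category.assoc, hh', Over.w h]
    · ext
      exact hh'
  haveI : IsReduced (F ⊗ F).left := by
    show IsReduced (pullback F.hom F.hom)
    exact Groth.Agent.Helper18.RedProd.isReduced_pullback k F.hom F.hom
  haveI : IsReduced (𝟙_ (Over (Spec (CommRingCat.of k)))).left := by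
    show IsReduced (Spec (CommRingCat.of k))
    infer_instance
  exact ⟨key _ _, key _ _, key _ _⟩

end Groth.Agent.Helper18.RedLift
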