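import Mathlib
import Groth.Agent.Lib.Helper13.PbUnit
import Groth.Agent.Lib.Helper13.PullbackLocal

set_option autoImplicit false
set_option linter.style.haveILetI false
set_option linter.unusedSectionVars false
set_option maxRecDepth 8000
universe u v
open CategoryTheory CategoryTheory.Limits AlgebraicGeometry Opposite

namespace Groth.Agent.Helper18.FieldFree

/-- quasi-coherent modules over the spectrum of a field are free. -/
theorem exists_iso_free (K : Type u) [Field K] (M : (Spec (CommRingCat.of K)).Modules)
    [M.IsQuasicoherent] :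
    ∃ I : Type u, Nonempty (M ≅ SheafOfModules.free I) := by
  let N : ModuleCat K := (modulesSpecToSheaf.obj M).presheaf.obj (op ⊤)
  haveI : IsIso (Scheme.Modules.fromTildeΓ (R := CommRingCat.of K) M) :=
    Scheme.Modules.isIso_fromTildeΓ_of_isQuasicoherent (R := CommRingCat.of K) M
  let I := Module.Free.ChooseBasisIndex K N
  let b : Module.Basis I K N := Module.Free.chooseBasis K N
  let e : N ≅ ModuleCat.of K (I →₀ K) := b.repr.toModuleIso
  exact ⟨I, ⟨(asIso (Scheme.Modules.fromTildeΓ (R := CommRingCat.of K) M)).symm ≪≫ (tilde.functor (CommRingCat.of K)).mapIso e ≪≫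
    tildeFinsupp I⟩⟩

open Groth.Agent.Helper13.PbUnit in
/-- the pullback of a free module is free. -/
noncomputable def pullbackFreeIso {X Y : Scheme.{u}} (f : X ⟶ Y) (I : Type u) :
    (Scheme.Modules.pullback f).obj (SheafOfModules.free I) ≅
      ∐ fun _ : I => Coh.structureModule X :=
  SheafOfModules.pullbackObjFreeIso f.toRingCatSheafHom I

end Groth.Agent.Helper18.FieldFree
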