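import Mathlib
import Groth.Agent.Lib.Helper18.Rec3
import Groth.Agent.Lib.Helper18.RecPull
import Groth.Agent.Lib.Helper18.RecCS2

set_option autoImplicit false
set_option linter.style.haveILetI false
set_option linter.unusedSectionVars false
set_option maxRecDepth 8000
universe u
open CategoryTheory CategoryTheory.Limits AlgebraicGeometry TopologicalSpace Opposite TensorProduct

namespace Groth.Agent.Helper18.RecSq

open OmegaSh Groth.Agent.Helper18.DerLib Groth.Agent.Helper18.OmegaSec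
  Groth.Agent.Helper18.Rec Groth.Agent.Helper13.Pullback Groth.Agent.Helper18.RecCS

variable {X S X' S' : Scheme.{u}} {f : X ⟶ S} {f' : X' ⟶ S'} (h : X' ⟶ X)
  {Ω : X.Modules} (d : Der f Ω) (hd : IsUniversal d)
  {Ω' : X'.Modules} (d' : Der f' Ω') (hd' : IsUniversal d')
  (c : (Scheme.Modules.pullback h).obj Ω ⟶ Ω') (hc : IsDiffCompat h d d' c)
  {W : S.Opens} {W' : S'.Opens} {U : X.Opens} {U' : X'.Opens}
  (hW : IsAffineOpen W) (hW' : IsAffineOpen W') (hU : IsAffineOpen U) (hU' : IsAffineOpen U')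
  (eU : U ≤ f ⁻¹ᵁ W) (eU' : U' ≤ f' ⁻¹ᵁ W') (eh : U' ≤ h ⁻¹ᵁ U)

include hc in
theorem c_pullRes (b : Γ(X, U)) :
    c.app U' (pullRes h Ω eh (Der.app d U b)) = Der.app d' U' (h.appLE U U' eh b) := by
  unfold pullRes
  have hnat : c.app U' (((Scheme.Modules.pullback h).obj Ω).presheaf.map (homOfLE eh).op
      (pullSect h Ω U (Der.app d U b))) =
      Ω'.presheaf.map (homOfLE eh).op (c.app (h ⁻¹ᵁ U) (pullSect h Ω U (Der.app d U b))) :=
    congr($(c.mapPresheaf.naturality (homOfLE eh).op) (pullSect h Ω U (Der.app d U b)))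
  rw [hnat, hc U b, ← der_app_map]
  rfl

include hc in
/-- the chart description of the canonical map of differentials of a commutative square. -/
theorem chart_square :
    letI := algUV f eU
    letI := algUV f' eU'
    letI : Algebra Γ(X, U) Γ(X', U') := (h.appLE U U' eh).hom.toAlgebra
    haveI := isQuasicoherent_of_isUniversal d hd
    ∀ (κ : Γ(X', U') ⊗[Γ(X, U)] Ω[Γ(X, U)⁄Γ(S, W)] →+ Ω[Γ(X', U')⁄Γ(S', W')])
      (_ : ∀ (b' : Γ(X', U')) (b : Γ(X, U)),
        κ (b' ⊗ₜ[Γ(X, U)] KaehlerDifferential.D Γ(S, W) Γ(X, U) b) =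
          b' • KaehlerDifferential.D Γ(S', W') Γ(X', U') (h.appLE U U' eh b))
      (m : Γ((Scheme.Modules.pullback h).obj Ω, U')),
      recSec d' eU' hd' hU' hW' (c.app U' m) =
        κ ((TensorProduct.AlgebraTensorModule.congr (LinearEquiv.refl Γ(X', U') Γ(X', U'))
            (recSec d eU hd hU hW)) (sectionsPullbackEquiv h Ω hU' hU eh m)) := by
  letI := algUV f eU
  letI := algUV f' eU'
  letI : Algebra Γ(X, U) Γ(X', U') := (h.appLE U U' eh).hom.toAlgebra
  haveI := isQuasicoherent_of_isUniversal d hd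
  intro κ hκ m
  have hm : m ∈ Submodule.span Γ(X', U')
      ((fun t => pullRes h Ω eh t) '' (Set.range (Der.app d U))) := by
    rw [span_pullRes h Ω hU' hU eh _ (span_d d eU hd hU hW)]; trivial
  induction hm using Submodule.closure_induction with
  | zero =>
    rw [map_zero, map_zero, map_zero, map_zero, map_zero]
  | add x y _ _ hx hy =>
    rw [map_add, map_add, hx, hy, map_add, map_add, map_add]
  | smul_mem r x hx =>
    obtain ⟨_, ⟨b, rfl⟩, rfl⟩ := hx
    rw [Scheme.Modules.Hom.app_smul, map_smul, c_pullRes h d d' c hc eh b, recSec_d,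
      map_smul, sectionsPullbackEquiv_pullRes, map_smul]
    have : (TensorProduct.AlgebraTensorModule.congr (LinearEquiv.refl Γ(X', U') Γ(X', U'))
        (recSec d eU hd hU hW)) ((1 : Γ(X', U')) ⊗ₜ[Γ(X, U)] Der.app d U b) =
        (1 : Γ(X', U')) ⊗ₜ[Γ(X, U)] KaehlerDifferential.D Γ(S, W) Γ(X, U) b := by
      change (1 : Γ(X', U')) ⊗ₜ[Γ(X, U)] (recSec d eU hd hU hW (Der.app d U b)) = _
      rw [recSec_d]
    rw [this, TensorProduct.smul_tmul', smul_eq_mul, mul_one, hκ]

end Groth.Agent.Helper18.RecSq
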