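import Mathlib
import Groth.Agent.Lib.Helper18.RecSquare
import Groth.Agent.Lib.Helper18.QCBasic
import Groth.Agent.Lib.Helper13.PullbackLocal

set_option autoImplicit false
set_option linter.style.haveILetI false
set_option linter.unusedSectionVars false
set_option maxRecDepth 8000
universe u
open CategoryTheory CategoryTheory.Limits AlgebraicGeometry TopologicalSpace Opposite TensorProduct

namespace Groth.Agent.Helper18.RecSq

open OmegaSh Groth.Agent.Helper18.DerLib Groth.Agent.Helper18.OmegaSec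
  Groth.Agent.Helper18.Rec Groth.Agent.Helper13.Pullback Groth.Agent.Helper18.RecCS

section Bij

variable {X S X' S' : Scheme.{u}} {f : X ⟶ S} {f' : X' ⟶ S'} (h : X' ⟶ X)
  {Ω : X.Modules} (d : Der f Ω) (hd : IsUniversal d)
  {Ω' : X'.Modules} (d' : Der f' Ω') (hd' : IsUniversal d')
  (c : (Scheme.Modules.pullback h).obj Ω ⟶ Ω') (hc : IsDiffCompat h d d' c)
  {W : S.Opens} {W' : S'.Opens} {U : X.Opens} {U' : X'.Opens}
  (hW : IsAffineOpen W) (hW' : IsAffineOpen W') (hU : IsAffineOpen U) (hU' : IsAffineOpen U')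
  (eU : U ≤ f ⁻¹ᵁ W) (eU' : U' ≤ f' ⁻¹ᵁ W') (eh : U' ≤ h ⁻¹ᵁ U)

include hd hd' hc hW hW' hU hU' in
theorem bijective_app_of_bijective :
    letI := algUV f eU
    letI := algUV f' eU'
    letI : Algebra Γ(X, U) Γ(X', U') := (h.appLE U U' eh).hom.toAlgebra
    ∀ (κ : Γ(X', U') ⊗[Γ(X, U)] Ω[Γ(X, U)⁄Γ(S, W)] →+ Ω[Γ(X', U')⁄Γ(S', W')])
      (_ : ∀ (b' : Γ(X', U')) (b : Γ(X, U)),
        κ (b' ⊗ₜ[Γ(X, U)] KaehlerDifferential.D Γ(S, W) Γ(X, U) b) =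
          b' • KaehlerDifferential.D Γ(S', W') Γ(X', U') (h.appLE U U' eh b)),
      Function.Bijective κ → Function.Bijective (c.app U') := by
  letI := algUV f eU
  letI := algUV f' eU'
  letI : Algebra Γ(X, U) Γ(X', U') := (h.appLE U U' eh).hom.toAlgebra
  haveI := isQuasicoherent_of_isUniversal d hd
  intro κ hκ hbij
  have key := chart_square h d hd d' hd' c hc hW hW' hU hU' eU eU' eh κ hκ
  let β := (TensorProduct.AlgebraTensorModule.congr (LinearEquiv.refl Γ(X', U') Γ(X', U'))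
            (recSec d eU hd hU hW))
  let α := sectionsPullbackEquiv h Ω hU' hU eh
  let γ := recSec d' eU' hd' hU' hW'
  constructor
  · intro m m' hmm
    have h1 : κ (β (α m)) = κ (β (α m')) := by
      rw [← key m, ← key m', hmm]
    exact α.injective (β.injective (hbij.1 h1))
  · intro y
    obtain ⟨t, ht⟩ := hbij.2 (γ y)
    refine ⟨α.symm (β.symm t), γ.injective ?_⟩
    rw [key]
    change κ (β (α (α.symm (β.symm t)))) = _
    rw [LinearEquiv.apply_symm_apply, LinearEquiv.apply_symm_apply, ht]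

end Bij

section BC

variable {X S X' S' : Scheme.{u}} (f : X ⟶ S) (g : S' ⟶ S) (g' : X' ⟶ X) (f' : X' ⟶ S')
    (hsq : IsPullback g' f' f g) (Ω : X.Modules) (d : Der f Ω) (hd : IsUniversal d)
    (Ω' : X'.Modules) (d' : Der f' Ω') (hd' : IsUniversal d')
    (c : (Scheme.Modules.pullback g').obj Ω ⟶ Ω') (hc : IsDiffCompat g' d d' c)

include hsq hd hd' hc in
theorem bijective_app_WP {U : X.Opens} {V : S.Opens} {V' : S'.Opens} (hU : IsAffineOpen U)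
    (hV : IsAffineOpen V) (hV' : IsAffineOpen V') (eU : U ≤ f ⁻¹ᵁ V) (eV' : V' ≤ g ⁻¹ᵁ V) :
    IsAffineOpen (g' ⁻¹ᵁ U ⊓ f' ⁻¹ᵁ V') ∧
      Function.Bijective (c.app (g' ⁻¹ᵁ U ⊓ f' ⁻¹ᵁ V')) := by
  have hU' : IsAffineOpen (g' ⁻¹ᵁ U ⊓ f' ⁻¹ᵁ V') := by
    have : IsAffine (V : Scheme) := hV
    have : IsAffine (U : Scheme) := hU
    have : IsAffine (V' : Scheme) := hV'
    exact .of_isIso (Scheme.Hom.isPullback_resLE hsq eV' eU rfl).isoPullback.hom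
  refine ⟨hU', ?_⟩
  have hPO : IsPushout (f.appLE V U eU) (g.appLE V V' eV')
      (g'.appLE U (g' ⁻¹ᵁ U ⊓ f' ⁻¹ᵁ V') inf_le_left)
      (f'.appLE V' (g' ⁻¹ᵁ U ⊓ f' ⁻¹ᵁ V') inf_le_right) := by
    have h := isIso_pushoutSection_of_isAffineOpen hsq eV' eU
      (UY := g' ⁻¹ᵁ U ⊓ f' ⁻¹ᵁ V') rfl hV hV' hU
    exact (isIso_pushoutSection_iff ..).mp h
  letI iRA : Algebra Γ(S, V) Γ(X, U) := algUV f eU
  letI iRS : Algebra Γ(S, V) Γ(S', V') := (g.appLE V V' eV').hom.toAlgebra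
  letI iAB : Algebra Γ(X, U) Γ(X', g' ⁻¹ᵁ U ⊓ f' ⁻¹ᵁ V') :=
    (g'.appLE U (g' ⁻¹ᵁ U ⊓ f' ⁻¹ᵁ V') inf_le_left).hom.toAlgebra
  letI iSB : Algebra Γ(S', V') Γ(X', g' ⁻¹ᵁ U ⊓ f' ⁻¹ᵁ V') :=
    algUV f' (U := g' ⁻¹ᵁ U ⊓ f' ⁻¹ᵁ V') (V := V') inf_le_right
  letI iRB : Algebra Γ(S, V) Γ(X', g' ⁻¹ᵁ U ⊓ f' ⁻¹ᵁ V') :=
    ((algebraMap Γ(X, U) Γ(X', g' ⁻¹ᵁ U ⊓ f' ⁻¹ᵁ V')).comp
      (algebraMap Γ(S, V) Γ(X, U))).toAlgebra
  haveI : IsScalarTower Γ(S, V) Γ(X, U) Γ(X', g' ⁻¹ᵁ U ⊓ f' ⁻¹ᵁ V') :=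
    IsScalarTower.of_algebraMap_eq (fun _ => rfl)
  haveI : IsScalarTower Γ(S, V) Γ(S', V') Γ(X', g' ⁻¹ᵁ U ⊓ f' ⁻¹ᵁ V') := by
    refine IsScalarTower.of_algebraMap_eq (fun a => ?_)
    exact congr($(hPO.w) a)
  haveI : Algebra.IsPushout Γ(S, V) Γ(S', V') Γ(X, U) Γ(X', g' ⁻¹ᵁ U ⊓ f' ⁻¹ᵁ V') :=
    CommRingCat.isPushout_iff_isPushout.mp hPO.flip
  let κ := KaehlerDifferential.tensorKaehlerEquiv Γ(S, V) Γ(S', V') Γ(X, U)
      Γ(X', g' ⁻¹ᵁ U ⊓ f' ⁻¹ᵁ V')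
  exact bijective_app_of_bijective g' d hd d' hd' c hc hV hV' hU hU' eU inf_le_right inf_le_left
    κ.toLinearMap.toAddMonoidHom
    (fun b' b => KaehlerDifferential.tensorKaehlerEquiv_tmul_D _ _ _ _ b' b) κ.bijective

include hsq hd hd' hc in
/-- base change of the sheaf of differentials, receptacle form -/
theorem isIso_baseChange : IsIso c := by
  haveI := isQuasicoherent_of_isUniversal d hd
  haveI := isQuasicoherent_of_isUniversal d' hd'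
  haveI : ((Scheme.Modules.pullback g').obj Ω).IsQuasicoherent := isQuasicoherent_pullback g' Ω
  apply Groth.Agent.Helper18.QCBasic.isIso_of_cover c
    {U' | ∃ (U : X.Opens) (V : S.Opens) (V' : S'.Opens), IsAffineOpen U ∧ IsAffineOpen V ∧
      IsAffineOpen V' ∧ U ≤ f ⁻¹ᵁ V ∧ V' ≤ g ⁻¹ᵁ V ∧ U' = g' ⁻¹ᵁ U ⊓ f' ⁻¹ᵁ V'}
  · rintro _ ⟨U, V, V', hU, hV, hV', eU, eV', rfl⟩
    exact (bijective_app_WP f g g' f' hsq Ω d hd Ω' d' hd' c hc hU hV hV' eU eV').1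
  · intro x'
    obtain ⟨V, hV, hxV⟩ : ∃ V : S.Opens, IsAffineOpen V ∧ f (g' x') ∈ V := by
      obtain ⟨_, ⟨V, hV, rfl⟩, hxV, -⟩ :=
        S.isBasis_affineOpens.exists_subset_of_mem_open (Set.mem_univ (f (g' x'))) isOpen_univ
      exact ⟨V, hV, hxV⟩
    obtain ⟨U, hU, hxU, eU⟩ : ∃ U : X.Opens, IsAffineOpen U ∧ g' x' ∈ U ∧ U ≤ f ⁻¹ᵁ V := by
      obtain ⟨_, ⟨U, hU, rfl⟩, hxU, hUV⟩ :=
        X.isBasis_affineOpens.exists_subset_of_mem_open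
          (show g' x' ∈ ((f ⁻¹ᵁ V : X.Opens) : Set X) from hxV) (f ⁻¹ᵁ V).2
      exact ⟨U, hU, hxU, hUV⟩
    have hx' : g (f' x') ∈ V := by
      have : g (f' x') = f (g' x') := by
        have := congrArg (fun φ : X' ⟶ S => φ x') hsq.w
        exact this.symm
      rw [this]; exact hxV
    obtain ⟨V', hV', hxV', eV'⟩ : ∃ V' : S'.Opens, IsAffineOpen V' ∧ f' x' ∈ V' ∧ V' ≤ g ⁻¹ᵁ V := by
      obtain ⟨_, ⟨V', hV', rfl⟩, hxV', hVV⟩ :=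
        S'.isBasis_affineOpens.exists_subset_of_mem_open
          (show f' x' ∈ ((g ⁻¹ᵁ V : S'.Opens) : Set S') from hx') (g ⁻¹ᵁ V).2
      exact ⟨V', hV', hxV', hVV⟩
    exact ⟨_, ⟨U, V, V', hU, hV, hV', eU, eV', rfl⟩, hxU, hxV'⟩
  · rintro _ ⟨U, V, V', hU, hV, hV', eU, eV', rfl⟩
    exact (bijective_app_WP f g g' f' hsq Ω d hd Ω' d' hd' c hc hU hV hV' eU eV').2

end BC

end Groth.Agent.Helper18.RecSq
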