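import Mathlib
import Groth.Agent.Lib.Helper18.CnDiff
import Groth.Agent.Lib.Helper18.RecBC

set_option autoImplicit false
set_option linter.style.haveILetI false
set_option linter.unusedSectionVars false
set_option maxRecDepth 8000
universe u
open CategoryTheory CategoryTheory.Limits AlgebraicGeometry TopologicalSpace Opposite

namespace Groth.Agent.Helper18.GrpOm

open OmegaSh Groth.Agent.Helper18.DerLib Groth.Agent.Helper18.OmegaUniv

/-- the conormal sheaf of a section `e` of `t` is `e^* Ω_t`. -/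
theorem conormal_section_iso {R U : Scheme.{u}} (t : R ⟶ U) (e : U ⟶ R) (he : e ≫ t = 𝟙 U)
    [IsImmersion e] [QuasiCompact e]
    (Ω : R.Modules) (d : Der t Ω) (hd : IsUniversal d) :
    Nonempty (Omega.conormal e ≅ (Scheme.Modules.pullback e).obj Ω) := by
  obtain ⟨φ, hφ⟩ := Groth.Agent.Helper18.CnDiff.exists_isConormalDiff e d
  obtain ⟨w, hex, hepi⟩ := Groth.Agent.Helper18.CnSplit.conormal_seq' t e (𝟙 U) he Ω d hd 0
    (Groth.Agent.Helper18.CnSplit.isConormalMap_zero e t he) φ hφ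
  haveI : Mono φ := (ShortComplex.exact_iff_mono _ rfl).1 hex
  haveI : IsIso φ := isIso_of_mono_of_epi φ
  exact ⟨asIso φ⟩

/-- base change iso for differentials, abstract form. -/
theorem nonempty_baseChange_iso {X S X' S' : Scheme.{u}} (f : X ⟶ S) (g : S' ⟶ S) (g' : X' ⟶ X)
    (f' : X' ⟶ S') (hsq : IsPullback g' f' f g)
    (Ω : X.Modules) (d : Der f Ω) (hd : IsUniversal d)
    (Ω' : X'.Modules) (d' : Der f' Ω') (hd' : IsUniversal d') :
    Nonempty ((Scheme.Modules.pullback g').obj Ω ≅ Ω') := by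
  obtain ⟨c, hc, -⟩ := existsUnique_isDiffCompat (f := f) (f' := f') g' g hsq.w.symm d' d hd
  haveI := Groth.Agent.Helper18.RecSq.isIso_baseChange f g g' f' hsq Ω d hd Ω' d' hd' c hc
  exact ⟨asIso c⟩

/-- the general lemma: two cartesian squares and a section. -/
theorem nonempty_iso_of_squares {R U P : Scheme.{u}} (s t : R ⟶ U) (e : U ⟶ R)
    (he : e ≫ t = 𝟙 U) [QuasiSeparated t] [IsImmersion e] [QuasiCompact e]
    (pr₁ pr₂ c : P ⟶ R) (h1 : IsPullback pr₂ pr₁ t s) (h2 : IsPullback c pr₁ t t)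
    (σ : R ⟶ P) (hσ₂ : σ ≫ pr₂ = s ≫ e) (hσc : σ ≫ c = 𝟙 R) :
    Nonempty ((Scheme.Modules.pullback s).obj (Omega.conormal e) ≅ Omega.sheaf t) := by
  haveI : QuasiSeparated pr₁ := MorphismProperty.of_isPullback (P := @QuasiSeparated) h1 ‹_›
  obtain ⟨a1⟩ := nonempty_baseChange_iso t s pr₂ pr₁ h1 _ (dOmega t) (isUniversal_dOmega t)
    _ (dOmega pr₁) (isUniversal_dOmega pr₁)
  obtain ⟨a2⟩ := nonempty_baseChange_iso t t c pr₁ h2 _ (dOmega t) (isUniversal_dOmega t)
    _ (dOmega pr₁) (isUniversal_dOmega pr₁)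
  obtain ⟨a3⟩ := conormal_section_iso t e he _ (dOmega t) (isUniversal_dOmega t)
  refine ⟨(Scheme.Modules.pullback s).mapIso a3 ≪≫
    (Scheme.Modules.pullbackComp s e).app _ ≪≫
    (Scheme.Modules.pullbackCongr hσ₂.symm).app _ ≪≫
    ((Scheme.Modules.pullbackComp σ pr₂).app _).symm ≪≫
    (Scheme.Modules.pullback σ).mapIso (a1 ≪≫ a2.symm) ≪≫
    (Scheme.Modules.pullbackComp σ c).app _ ≪≫
    (Scheme.Modules.pullbackCongr hσc).app _ ≪≫
    (Scheme.Modules.pullbackId R).app _⟩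

end Groth.Agent.Helper18.GrpOm
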