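import Mathlib
import Groth.Prelude.Def_Grpd
import Groth.Agent.Lib.Helper18.GrpOm

set_option autoImplicit false
set_option linter.style.haveILetI false
set_option linter.unusedSectionVars false
set_option maxRecDepth 8000
universe u
open CategoryTheory CategoryTheory.Limits AlgebraicGeometry TopologicalSpace Opposite

namespace Groth.Agent.Helper18.GrpdOm

open Grpd

variable {S : Scheme.{u}} (G : GroupoidScheme S)

/-- composition on `T`-points -/
noncomputable def cmp {T : Scheme.{u}} (α β : T ⟶ G.R) (h : α ≫ G.s = β ≫ G.t) : T ⟶ G.R :=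
  pullback.lift α β h ≫ G.c

theorem cmp_congr {T : Scheme.{u}} {α α' β β' : T ⟶ G.R} (h : α ≫ G.s = β ≫ G.t)
    (hα : α = α') (hβ : β = β') :
    cmp G α β h = cmp G α' β' (by rw [← hα, ← hβ]; exact h) := by
  subst hα hβ; rfl

theorem precomp_cmp {T T' : Scheme.{u}} (φ : T' ⟶ T) (α β : T ⟶ G.R) (h : α ≫ G.s = β ≫ G.t) :
    φ ≫ cmp G α β h = cmp G (φ ≫ α) (φ ≫ β)
      (by rw [Category.assoc, Category.assoc, h]) := by
  unfold cmp
  rw [← Category.assoc]
  congr 1
  apply pullback.hom_ext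
  · rw [Category.assoc, pullback.lift_fst, pullback.lift_fst]
  · rw [Category.assoc, pullback.lift_snd, pullback.lift_snd]

theorem c_eq : G.c = cmp G (pullback.fst G.s G.t) (pullback.snd G.s G.t) pullback.condition := by
  unfold cmp
  have : pullback.lift (pullback.fst G.s G.t) (pullback.snd G.s G.t) pullback.condition = 𝟙 _ := by
    apply pullback.hom_ext
    · rw [pullback.lift_fst, Category.id_comp]
    · rw [pullback.lift_snd, Category.id_comp]
  rw [this, Category.id_comp]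

theorem cmp_s {T : Scheme.{u}} (α β : T ⟶ G.R) (h : α ≫ G.s = β ≫ G.t) :
    cmp G α β h ≫ G.s = β ≫ G.s := G.comp_s α β h

theorem cmp_t {T : Scheme.{u}} (α β : T ⟶ G.R) (h : α ≫ G.s = β ≫ G.t) :
    cmp G α β h ≫ G.t = α ≫ G.t := G.comp_t α β h

theorem cmp_assoc {T : Scheme.{u}} (α β γ : T ⟶ G.R) (h₁ : α ≫ G.s = β ≫ G.t)
    (h₂ : β ≫ G.s = γ ≫ G.t) :
    cmp G (cmp G α β h₁) γ ((cmp_s G α β h₁).trans h₂) =
      cmp G α (cmp G β γ h₂) (h₁.trans (cmp_t G β γ h₂).symm) := G.assoc α β γ h₁ h₂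

theorem e_cmp {T : Scheme.{u}} (α : T ⟶ G.R) :
    cmp G (α ≫ G.t ≫ G.e) α (by rw [Category.assoc, Category.assoc, G.e_s, Category.comp_id]) = α :=
  G.e_comp α

theorem cmp_e {T : Scheme.{u}} (α : T ⟶ G.R) :
    cmp G α (α ≫ G.s ≫ G.e) (by rw [Category.assoc, Category.assoc, G.e_t, Category.comp_id]) = α :=
  G.comp_e α

theorem cmp_i {T : Scheme.{u}} (α : T ⟶ G.R) :
    cmp G α (α ≫ G.i) (by rw [Category.assoc, G.i_t]) = α ≫ G.t ≫ G.e := G.comp_i α

theorem i_cmp {T : Scheme.{u}} (α : T ⟶ G.R) :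
    cmp G (α ≫ G.i) α (by rw [Category.assoc, G.i_s]) = α ≫ G.s ≫ G.e := G.i_comp α

/-- `(r, r') ↦ (r ∘ r', r)` -/
noncomputable def Φhom : pullback G.s G.t ⟶ pullback G.t G.t :=
  pullback.lift G.c (pullback.fst G.s G.t) (by rw [c_eq, cmp_t])

/-- `(a, b) ↦ (b, b⁻¹ ∘ a)` -/
noncomputable def Φinv : pullback G.t G.t ⟶ pullback G.s G.t :=
  pullback.lift (pullback.snd G.t G.t)
    (cmp G (pullback.snd G.t G.t ≫ G.i) (pullback.fst G.t G.t)
      (by rw [Category.assoc, G.i_s]; exact pullback.condition.symm))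
    (by rw [cmp_t, Category.assoc, G.i_t])

theorem Φhom_fst : Φhom G ≫ pullback.fst G.t G.t = G.c := pullback.lift_fst _ _ _
theorem Φhom_snd : Φhom G ≫ pullback.snd G.t G.t = pullback.fst G.s G.t := pullback.lift_snd _ _ _
theorem Φinv_fst : Φinv G ≫ pullback.fst G.s G.t = pullback.snd G.t G.t := pullback.lift_fst _ _ _
theorem Φinv_snd : Φinv G ≫ pullback.snd G.s G.t =
    cmp G (pullback.snd G.t G.t ≫ G.i) (pullback.fst G.t G.t)
      (by rw [Category.assoc, G.i_s]; exact pullback.condition.symm) := pullback.lift_snd _ _ _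

theorem Φ_hom_inv : Φhom G ≫ Φinv G = 𝟙 _ := by
  apply pullback.hom_ext
  · rw [Category.assoc, Φinv_fst, Φhom_snd, Category.id_comp]
  · rw [Category.assoc, Φinv_snd, precomp_cmp, Category.id_comp]
    have e1 : Φhom G ≫ pullback.snd G.t G.t ≫ G.i = pullback.fst G.s G.t ≫ G.i := by
      rw [← Category.assoc, Φhom_snd]
    have e2 : Φhom G ≫ pullback.fst G.t G.t =
        cmp G (pullback.fst G.s G.t) (pullback.snd G.s G.t) pullback.condition := by
      rw [Φhom_fst]; exact c_eq G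
    refine (cmp_congr G _ e1 e2).trans ?_
    have h1 : (pullback.fst G.s G.t ≫ G.i) ≫ G.s = pullback.fst G.s G.t ≫ G.t := by
      rw [Category.assoc, G.i_s]
    refine (cmp_assoc G (pullback.fst G.s G.t ≫ G.i) (pullback.fst G.s G.t)
      (pullback.snd G.s G.t) h1 pullback.condition).symm.trans ?_
    have e3 : cmp G (pullback.fst G.s G.t ≫ G.i) (pullback.fst G.s G.t) h1 =
        pullback.snd G.s G.t ≫ G.t ≫ G.e := by
      rw [i_cmp, ← Category.assoc, pullback.condition, Category.assoc]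
    refine (cmp_congr G _ e3 rfl).trans ?_
    exact e_cmp G _

theorem Φ_inv_hom : Φinv G ≫ Φhom G = 𝟙 _ := by
  apply pullback.hom_ext
  · rw [Category.assoc, Φhom_fst, Category.id_comp, c_eq, precomp_cmp]
    have e1 : Φinv G ≫ pullback.fst G.s G.t = pullback.snd G.t G.t := Φinv_fst G
    have e2 := Φinv_snd G
    refine (cmp_congr G _ e1 e2).trans ?_
    have h1 : pullback.snd G.t G.t ≫ G.s = (pullback.snd G.t G.t ≫ G.i) ≫ G.t := by
      rw [Category.assoc, G.i_t]
    have h2 : (pullback.snd G.t G.t ≫ G.i) ≫ G.s = pullback.fst G.t G.t ≫ G.t := by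
      rw [Category.assoc, G.i_s]; exact pullback.condition.symm
    refine (cmp_assoc G (pullback.snd G.t G.t) (pullback.snd G.t G.t ≫ G.i)
      (pullback.fst G.t G.t) h1 h2).symm.trans ?_
    have e3 : cmp G (pullback.snd G.t G.t) (pullback.snd G.t G.t ≫ G.i) h1 =
        pullback.fst G.t G.t ≫ G.t ≫ G.e := by
      rw [cmp_i, ← Category.assoc, ← pullback.condition, Category.assoc]
    refine (cmp_congr G _ e3 rfl).trans ?_
    exact e_cmp G _
  · rw [Category.assoc, Φhom_snd, Φinv_fst, Category.id_comp]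

/-- the composition square is cartesian -/
theorem isPullback_c : IsPullback G.c (pullback.fst G.s G.t) G.t G.t := by
  refine IsPullback.of_iso_pullback ⟨by rw [c_eq, cmp_t]⟩
    ⟨Φhom G, Φinv G, Φ_hom_inv G, Φ_inv_hom G⟩ (Φhom_fst G) (Φhom_snd G)

theorem isImmersion_section {R U : Scheme.{u}} (t : R ⟶ U) (e : U ⟶ R) (he : e ≫ t = 𝟙 U) :
    IsImmersion e := by
  haveI : IsImmersion (e ≫ t) := by rw [he]; infer_instance
  exact IsImmersion.of_comp e t

theorem quasiCompact_section {R U : Scheme.{u}} (t : R ⟶ U) [QuasiSeparated t] (e : U ⟶ R)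
    (he : e ≫ t = 𝟙 U) : QuasiCompact e := by
  haveI : QuasiCompact (e ≫ t) := by rw [he]; infer_instance
  exact QuasiCompact.of_comp e t

theorem main [QuasiSeparated G.t] :
    Nonempty ((Scheme.Modules.pullback G.s).obj (Omega.conormal G.e) ≅ Omega.sheaf G.t) := by
  haveI := isImmersion_section G.t G.e G.e_t
  haveI := quasiCompact_section G.t G.e G.e_t
  refine Groth.Agent.Helper18.GrpOm.nonempty_iso_of_squares G.s G.t G.e G.e_t
    (pullback.fst G.s G.t) (pullback.snd G.s G.t) G.c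
    (IsPullback.of_hasPullback G.s G.t).flip (isPullback_c G)
    (pullback.lift (𝟙 G.R) (𝟙 G.R ≫ G.s ≫ G.e)
      (by rw [Category.assoc, Category.assoc, G.e_t, Category.comp_id])) ?_ ?_
  · rw [pullback.lift_snd, Category.id_comp]
  · exact G.comp_e (𝟙 G.R)

end Groth.Agent.Helper18.GrpdOm
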