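import Mathlib
import Groth.Agent.Lib.Helper18.GrpdOm
import Groth.Agent.Lib.Helper18.FieldFree
import Groth.Agent.Lib.Helper18.ConormalImm2

set_option autoImplicit false
set_option linter.style.haveILetI false
set_option linter.unusedSectionVars false
set_option maxRecDepth 8000
universe u v
open CategoryTheory CategoryTheory.Limits AlgebraicGeometry MonoidalCategory CartesianMonoidalCategory
  MonObj GrpObj

namespace Groth.Agent.Helper18.GrpSchOm

section Cat

variable {C : Type u} [Category.{v} C] [CartesianMonoidalCategory C] (G : C) [GrpObj G]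

/-- the shear map `(g, h) ↦ (g h, g)` -/
def shear : G ⊗ G ≅ G ⊗ G where
  hom := lift (fst G G * snd G G) (fst G G)
  inv := lift (snd G G) ((snd G G)⁻¹ * fst G G)
  hom_inv_id := by
    apply CartesianMonoidalCategory.hom_ext
    · rw [Category.assoc, lift_fst, lift_snd, Category.id_comp]
    · rw [Category.assoc, lift_snd, MonObj.comp_mul, GrpObj.comp_inv, lift_snd, lift_fst,
        Category.id_comp, inv_mul_cancel_left]
  inv_hom_id := by
    apply CartesianMonoidalCategory.hom_ext
    · rw [Category.assoc, lift_fst, MonObj.comp_mul, lift_fst, lift_snd, Category.id_comp,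
        mul_inv_cancel_left]
    · rw [Category.assoc, lift_snd, lift_fst, Category.id_comp]

theorem shear_hom_fst : (shear G).hom ≫ fst G G = μ[G] := by
  rw [shear, lift_fst, ← MonObj.mul_eq_mul]

theorem shear_hom_snd : (shear G).hom ≫ snd G G = fst G G := by
  rw [shear, lift_snd]

theorem lift_id_one_mul : lift (𝟙 G) (toUnit G ≫ η[G]) ≫ μ[G] = 𝟙 G := by
  rw [← Hom.mul_def, ← Hom.one_def]
  exact _root_.mul_one _

end Cat

section Sch

variable {S : Scheme.{u}} (G : Over S) [GrpObj G]

theorem unit_section : η[G].left ≫ G.hom = 𝟙 S := Over.w η[G]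

theorem mul_left_hom : μ[G].left ≫ G.hom = pullback.fst G.hom G.hom ≫ G.hom := Over.w μ[G]

theorem isPullback_mul : IsPullback μ[G].left (pullback.fst G.hom G.hom) G.hom G.hom := by
  refine IsPullback.of_iso_pullback ⟨mul_left_hom G⟩ ((Over.forget S).mapIso (shear G)) ?_ ?_
  · have h := congrArg (fun k => k.left) (shear_hom_fst G)
    exact h
  · have h := congrArg (fun k => k.left) (shear_hom_snd G)
    exact h

theorem part1 [QuasiSeparated G.hom] :
    Nonempty (Omega.sheaf G.hom ≅
      (Scheme.Modules.pullback G.hom).obj (Omega.conormal η[G].left)) := by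
  haveI := Groth.Agent.Helper18.GrpdOm.isImmersion_section G.hom η[G].left (unit_section G)
  haveI := Groth.Agent.Helper18.GrpdOm.quasiCompact_section G.hom η[G].left (unit_section G)
  have h1 : (lift (𝟙 G) (toUnit G ≫ η[G])).left ≫ pullback.snd G.hom G.hom =
      G.hom ≫ η[G].left :=
    congrArg (fun k => k.left) (lift_snd (𝟙 G) (toUnit G ≫ η[G]))
  have h2 : (lift (𝟙 G) (toUnit G ≫ η[G])).left ≫ μ[G].left = 𝟙 G.left :=
    congrArg (fun k => k.left) (lift_id_one_mul G)
  obtain ⟨a⟩ := Groth.Agent.Helper18.GrpOm.nonempty_iso_of_squares G.hom G.hom η[G].left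
    (unit_section G) (pullback.fst G.hom G.hom) (pullback.snd G.hom G.hom) μ[G].left
    (IsPullback.of_hasPullback G.hom G.hom).flip (isPullback_mul G)
    (lift (𝟙 G) (toUnit G ≫ η[G])).left h1 h2
  exact ⟨a.symm⟩

theorem part2 [QuasiSeparated G.hom] (K : Type u) [Field K] (ψ : S ≅ Spec (CommRingCat.of K)) :
    ∃ I : Type u, Nonempty (Omega.sheaf G.hom ≅ ∐ fun _ : I => Coh.structureModule G.left) := by
  obtain ⟨a⟩ := part1 G
  haveI := Groth.Agent.Helper18.GrpdOm.isImmersion_section G.hom η[G].left (unit_section G)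
  haveI := Groth.Agent.Helper18.GrpdOm.quasiCompact_section G.hom η[G].left (unit_section G)
  haveI hC : (Omega.conormal η[G].left).IsQuasicoherent :=
    Groth.Agent.Helper18.ConormalImm.isQuasicoherent_conormal η[G].left
  haveI : ((Scheme.Modules.pullback ψ.inv).obj (Omega.conormal η[G].left)).IsQuasicoherent :=
    Groth.Agent.Helper13.Pullback.isQuasicoherent_pullback ψ.inv _
  obtain ⟨I, ⟨b⟩⟩ := Groth.Agent.Helper18.FieldFree.exists_iso_free K
    ((Scheme.Modules.pullback ψ.inv).obj (Omega.conormal η[G].left))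
  have c1 : Omega.conormal η[G].left ≅ (Scheme.Modules.pullback ψ.hom).obj
      ((Scheme.Modules.pullback ψ.inv).obj (Omega.conormal η[G].left)) :=
    ((Scheme.Modules.pullbackId S).app _).symm ≪≫
      (Scheme.Modules.pullbackCongr ψ.hom_inv_id.symm).app _ ≪≫
      ((Scheme.Modules.pullbackComp ψ.hom ψ.inv).app _).symm
  exact ⟨I, ⟨a ≪≫ (Scheme.Modules.pullback G.hom).mapIso
    (c1 ≪≫ (Scheme.Modules.pullback ψ.hom).mapIso b) ≪≫
    (Scheme.Modules.pullbackComp G.hom ψ.hom).app _ ≪≫
    Groth.Agent.Helper18.FieldFree.pullbackFreeIso (G.hom ≫ ψ.hom) I⟩⟩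

end Sch

end Groth.Agent.Helper18.GrpSchOm
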