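import Mathlib

/-!
# Reducedness of `R ⊗ K` from the generic points (helper18)
-/

set_option autoImplicit false
universe u
open scoped TensorProduct

namespace Groth.Agent.Helper18.GeomRedGen

/-- a jointly injective family of linear maps stays jointly injective after tensoring with a
vector space -/
theorem eq_zero_of_forall_rTensor_eq_zero {k : Type*} [Field k] {M : Type*} [AddCommGroup M]
    [Module k M] {ι : Type*} {N : ι → Type*} [∀ i, AddCommGroup (N i)] [∀ i, Module k (N i)]
    (φ : ∀ i, M →ₗ[k] N i) (hφ : ∀ m, (∀ i, φ i m = 0) → m = 0)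
    (K : Type*) [AddCommGroup K] [Module k K] (t : M ⊗[k] K)
    (ht : ∀ i, (φ i).rTensor K t = 0) : t = 0 := by
  classical
  let b := Module.Basis.ofVectorSpace k K
  apply (TensorProduct.equivFinsuppOfBasisRight b).injective
  rw [map_zero]
  ext j
  rw [TensorProduct.equivFinsuppOfBasisRight_apply, Finsupp.zero_apply]
  apply hφ
  intro i
  have key : ∀ s : M ⊗[k] K, φ i (TensorProduct.rid k M ((b.coord j).lTensor M s)) =
      TensorProduct.rid k (N i) ((b.coord j).lTensor (N i) ((φ i).rTensor K s)) := by
    intro s
    induction s with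
    | zero => simp
    | tmul m v => simp
    | add a b ha hb => simp [ha, hb]
  rw [key, ht i]; simp

/-- Ring-level criterion: a reduced `k`-algebra `R` with maps to algebras `B p` (indexed by the
minimal primes, kernel inside `p`) such that all `B p ⊗ K` are reduced has `R ⊗ K` reduced. -/
theorem isReduced_tensor_of_minimalPrimes {k : Type*} [Field k] (R : Type*) [CommRing R]
    [Algebra k R] [IsReduced R] (K : Type*) [Field K] [Algebra k K]
    (B : minimalPrimes R → Type*) [∀ p, CommRing (B p)] [∀ p, Algebra k (B p)]
    (ψ : ∀ p, R →ₐ[k] B p) (hψ : ∀ p r, ψ p r = 0 → r ∈ p.1)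
    (hB : ∀ p, IsReduced (B p ⊗[k] K)) : IsReduced (R ⊗[k] K) := by
  refine ⟨fun t ht => ?_⟩
  apply eq_zero_of_forall_rTensor_eq_zero (fun p => (ψ p).toLinearMap) ?_ K t
  · intro p
    have h1 : IsNilpotent (Algebra.TensorProduct.map (ψ p) (AlgHom.id k K) t) := ht.map _
    have h2 := (hB p).eq_zero _ h1
    exact h2
  · intro r hr
    have h5 : r ∈ sInf (minimalPrimes R) := by
      rw [Submodule.mem_sInf]
      intro p hp
      exact hψ ⟨p, hp⟩ r (hr ⟨p, hp⟩)
    have h6 : sInf (minimalPrimes R) = (⊥ : Ideal R) := by
      show sInf (⊥ : Ideal R).minimalPrimes = ⊥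
      rw [Ideal.sInf_minimalPrimes]
      exact nilradical_eq_zero R
    rw [h6] at h5
    exact h5

/-- in a quasi-sober space, the closure of a point without proper generisations is an irreducible
component -/
theorem closure_mem_irreducibleComponents {α : Type*} [TopologicalSpace α] [QuasiSober α]
    (η : α) (hη : ∀ y : α, y ⤳ η → y = η) : closure {η} ∈ irreducibleComponents α := by
  refine ⟨isIrreducible_singleton.closure, ?_⟩
  intro Z' hZ' hle
  have hirr : IsIrreducible (closure Z') := hZ'.closure
  have hgen := hirr.isGenericPoint_genericPoint isClosed_closure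
  have hmem : η ∈ closure Z' := subset_closure (hle (subset_closure rfl))
  have hsp : hirr.genericPoint ⤳ η := hgen.specializes hmem
  have heq := hη _ hsp
  intro z hz
  have : z ∈ closure Z' := subset_closure hz
  rw [← hgen.def, heq] at this
  exact this

end Groth.Agent.Helper18.GeomRedGen
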