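import Mathlib
import Groth.Agent.Lib.Helper11.Constr
import Groth.Agent.Lib.Helper18.GeomRedGen

set_option autoImplicit false
universe u
open CategoryTheory AlgebraicGeometry Limits TopologicalSpace Topology

namespace Groth.Agent.Helper18.MaxPtImage

/-- in a Noetherian space a dense constructible set contains the maximal points -/
theorem mem_of_isConstructible_of_dense {α : Type*} [TopologicalSpace α] [NoetherianSpace α]
    (E : Set α) (hE : IsConstructible E) (hd : Dense E) (ξ : α)
    (hξ : closure {ξ} ∈ irreducibleComponents α) : ξ ∈ E := by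
  classical
  obtain ⟨t, ht, rfl⟩ := Groth.Agent.Helper11.isConstructible_exists_finset_isLocallyClosed hE
  obtain ⟨W, hWo, hWne, hWZ⟩ :=
    NoetherianSpace.exists_isOpen_nonempty_subset_irreducibleComponent _ hξ
  have hξW : ξ ∈ W := by
    obtain ⟨y, hy⟩ := hWne
    have : ξ ⤳ y := specializes_iff_mem_closure.mpr (hWZ hy)
    exact this.mem_open hWo hy
  have hmem : ξ ∈ closure (⋃ p ∈ t, p) := hd ξ
  rw [Finset.closure_biUnion] at hmem
  simp only [Set.mem_iUnion, exists_prop] at hmem
  obtain ⟨p, hp, hξp⟩ := hmem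
  obtain ⟨⟨O, C, hO, hC, rfl⟩, -⟩ := ht p hp
  have hξC : ξ ∈ C := by
    have : closure (O ∩ C) ⊆ C := closure_minimal Set.inter_subset_right hC
    exact this hξp
  obtain ⟨y, hyW, hyOC⟩ := mem_closure_iff.mp hξp W hWo hξW
  have hsp : ξ ⤳ y := specializes_iff_mem_closure.mpr (hWZ hyW)
  have hξO : ξ ∈ O := hsp.mem_open hO hyOC.1
  simp only [Set.mem_iUnion, exists_prop]
  exact ⟨O ∩ C, hp, hξO, hξC⟩

/-- in a nonempty Noetherian space a dense constructible set contains a nonempty open set -/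
theorem exists_isOpen_subset_of_isConstructible_of_dense {α : Type*} [TopologicalSpace α]
    [NoetherianSpace α] [Nonempty α]
    (E : Set α) (hE : IsConstructible E) (hd : Dense E) :
    ∃ V : Set α, IsOpen V ∧ V.Nonempty ∧ V ⊆ E := by
  classical
  obtain ⟨t, ht, rfl⟩ := Groth.Agent.Helper11.isConstructible_exists_finset_isLocallyClosed hE
  obtain ⟨w₀⟩ := ‹Nonempty α›
  have hZ := irreducibleComponent_mem_irreducibleComponents w₀
  obtain ⟨W, hWo, hWne, hWZ⟩ :=
    NoetherianSpace.exists_isOpen_nonempty_subset_irreducibleComponent _ hZ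
  have hWirr : IsIrreducible W :=
    ⟨hWne, (isIrreducible_irreducibleComponent (x := w₀)).isPreirreducible.open_subset hWo hWZ⟩
  have hcov : W ⊆ ⋃₀ ↑(t.image closure) := by
    intro y _
    have hmem : y ∈ closure (⋃ p ∈ t, p) := hd y
    rw [Finset.closure_biUnion] at hmem
    simp only [Set.mem_iUnion, exists_prop] at hmem
    obtain ⟨p, hp, hyp⟩ := hmem
    exact ⟨closure p, Finset.mem_coe.mpr (Finset.mem_image_of_mem _ hp), hyp⟩
  obtain ⟨z, hz, hWz⟩ := isIrreducible_iff_sUnion_isClosed.mp hWirr (t.image closure) (by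
    intro z hz
    obtain ⟨p, -, rfl⟩ := Finset.mem_image.mp hz
    exact isClosed_closure) hcov
  obtain ⟨p, hp, rfl⟩ := Finset.mem_image.mp hz
  obtain ⟨⟨O, C, hO, hC, rfl⟩, -⟩ := ht p hp
  have hWC : W ⊆ C := hWz.trans (closure_minimal Set.inter_subset_right hC)
  obtain ⟨y₀, hy₀⟩ := hWne
  obtain ⟨y, hyW, hyOC⟩ := mem_closure_iff.mp (hWz hy₀) W hWo hy₀
  refine ⟨W ∩ O, hWo.inter hO, ⟨y, hyW, hyOC.1⟩, ?_⟩
  rintro v ⟨hvW, hvO⟩
  simp only [Set.mem_iUnion, exists_prop]
  exact ⟨O ∩ C, hp, hvO, hWC hvW⟩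

/-- a quasi-compact dominant morphism locally of finite presentation to a locally Noetherian
scheme hits all maximal points -/
theorem mem_range_of_maximal {X Y : Scheme.{u}} (f : X ⟶ Y) [QuasiCompact f]
    [LocallyOfFinitePresentation f] [IsDominant f] [IsLocallyNoetherian Y] (ξ : Y)
    (hξ : ∀ y : Y, y ⤳ ξ → y = ξ) : ξ ∈ Set.range f := by
  have hE : IsLocallyConstructible (Set.range f) := by
    rw [← Set.image_univ]
    exact f.isLocallyConstructible_image IsLocallyConstructible.univ
  obtain ⟨_, ⟨U, hU, rfl⟩, hξU, -⟩ :=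
    Y.isBasis_affineOpens.exists_subset_of_mem_open (Set.mem_univ ξ) isOpen_univ
  haveI : IsNoetherianRing Γ(Y, U) := IsLocallyNoetherian.component_noetherian ⟨U, hU⟩
  haveI : NoetherianSpace U := noetherianSpace_of_isAffineOpen U hU
  haveI : IsAffine (U : Scheme.{u}) := hU
  let j : (U : Scheme.{u}) ⟶ Y := Scheme.Opens.ι U
  have hj : IsOpenEmbedding j := j.isOpenEmbedding
  have hE' : IsConstructible (j ⁻¹' Set.range f) :=
    (hE.preimage_of_isOpenEmbedding hj).isConstructible
  have hd' : Dense (j ⁻¹' Set.range f) := f.denseRange.preimage hj.isOpenMap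
  let ξ' : (U : Scheme.{u}) := ⟨ξ, hξU⟩
  have hξ' : closure {ξ'} ∈ irreducibleComponents ↥(U : Scheme.{u}) := by
    apply Groth.Agent.Helper18.GeomRedGen.closure_mem_irreducibleComponents
    intro y hy
    have h1 : j y ⤳ j ξ' := hy.map j.continuous
    have h3 : j ξ' = ξ := rfl
    rw [h3] at h1
    have h2 : j y = j ξ' := (hξ _ h1).trans h3.symm
    exact hj.injective h2
  have h4 : ξ' ∈ j ⁻¹' Set.range f := mem_of_isConstructible_of_dense _ hE' hd' ξ' hξ'
  exact h4

end Groth.Agent.Helper18.MaxPtImage
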