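import Groth.Agent.Lib.Helper18.GrpFppf3
import Groth.Agent.Lib.Helper16.AlgSp.FlatDesc
import Groth.Agent.Lib.Helper28.AlgGrpShear

/-!
# fpqc descent along quotient maps of group schemes (helper18)
-/

set_option autoImplicit false
universe u
open CategoryTheory CategoryTheory.Limits MonoidalCategory CartesianMonoidalCategory MonObj
  AlgebraicGeometry

namespace Groth.Agent.Helper18.GrpFppf

variable {S : Scheme.{u}}

/-- the fibre product of `s ≫ q` with a homomorphism `q` with kernel `N` is `Y × N` -/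
theorem isPullback_mul_of_isKernel {N G Q Y : Over S} [GrpObj G] [GrpObj Q] (q : G ⟶ Q)
    [IsMonHom q] (i : N ⟶ G) (hK : AlgGrp.IsKernel i q) (s : Y ⟶ G) :
    IsPullback (lift (fst Y N ≫ s) (snd Y N ≫ i) ≫ μ[G]) (fst Y N) q (s ≫ q) := by
  have hiq : i ≫ q = 1 := IsKernel.comp_eq_one hK
  have hmul : ∀ {T : Over S} (a b : T ⟶ G), lift a b ≫ μ[G] = a * b := fun a b => rfl
  have hcomm : (lift (fst Y N ≫ s) (snd Y N ≫ i) ≫ μ[G]) ≫ q = fst Y N ≫ s ≫ q := by
    rw [hmul, MonObj.mul_comp, Category.assoc, Category.assoc, hiq, MonObj.comp_one, _root_.mul_one]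
  haveI : Mono i := by
    have := hK.flip
    exact CategoryTheory.Limits.PullbackCone.mono_snd_of_is_pullback_of_mono this.isLimit
  have key : ∀ c : PullbackCone q (s ≫ q), ((c.snd ≫ s)⁻¹ * c.fst) ≫ q = 1 := by
    intro c
    rw [MonObj.mul_comp, GrpObj.inv_comp, c.condition, Category.assoc, inv_mul_cancel]
  refine ⟨⟨hcomm⟩, ⟨PullbackCone.IsLimit.mk _
    (fun c => lift c.snd (IsKernel.exists_lift hK _ (key c)).choose) ?_ ?_ ?_⟩⟩
  · intro c
    have h := (IsKernel.exists_lift hK _ (key c)).choose_spec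
    rw [← Category.assoc, comp_lift, ← Category.assoc, lift_fst, ← Category.assoc, lift_snd, h,
      hmul, mul_inv_cancel_left]
  · intro c
    rw [lift_fst]
  · intro c m h1 h2
    have h := (IsKernel.exists_lift hK _ (key c)).choose_spec
    apply CartesianMonoidalCategory.hom_ext
    · rw [lift_fst, h2]
    · rw [lift_snd, ← cancel_mono i, h]
      rw [← h1, ← Category.assoc, comp_lift, hmul, ← Category.assoc, h2, inv_mul_cancel_left,
        Category.assoc]

/-- transfer of cartesian squares to schemes -/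
theorem isPullback_left {A X Y Z : Over S} {fst : A ⟶ X} {snd : A ⟶ Y} {f : X ⟶ Z} {g : Y ⟶ Z}
    (h : IsPullback fst snd f g) : IsPullback fst.left snd.left f.left g.left :=
  h.map (Over.forget S)

/-- descent of a property along a flat surjective quasi-compact morphism, in `Over S` -/
theorem descend (P : MorphismProperty Scheme.{u})
    [P.DescendsAlong (@Surjective ⊓ @Flat ⊓ @QuasiCompact)]
    {A X Y Z : Over S} {fst : A ⟶ X} {snd : A ⟶ Y} {f : X ⟶ Z} {g : Y ⟶ Z}
    (h : IsPullback fst snd f g) [Flat f.left] [Surjective f.left] [QuasiCompact f.left]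
    (hfst : P fst.left) : P g.left :=
  MorphismProperty.of_isPullback_of_descendsAlong (P := P)
    (Q := @Surjective ⊓ @Flat ⊓ @QuasiCompact) (isPullback_left h)
    ⟨⟨inferInstance, inferInstance⟩, inferInstance⟩ hfst

end Groth.Agent.Helper18.GrpFppf
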