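import Mathlib
import Groth.Prelude
import Groth.Agent.Lib.Helper28.AlgGrpShear
import Groth.Agent.Lib.Helper18.GrpDesc

set_option autoImplicit false
universe u
open CategoryTheory MonoidalCategory CartesianMonoidalCategory MonObj AlgebraicGeometry Limits
open Groth.Agent.Helper28.AlgGrpShear

namespace Groth.Agent.Helper18.FlatEpi

variable {S : Scheme.{u}}

theorem epi_of_flat_surj {A B : Over S} (f : A ⟶ B) [Flat f.left] [Surjective f.left] : Epi f := by
  haveI : Epi f.left := Flat.epi_of_flat_of_surjective _
  exact Over.epi_of_epi_left _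

instance flat_whiskerRight {A B : Over S} (i : A ⟶ B) [Flat i.left] (Z : Over S) :
    Flat (i ▷ Z).left :=
  MorphismProperty.of_isPullback (P := @Flat)
    (Groth.Agent.Helper18.GrpFppf.isPullback_left (isPullback_fst i Z)) inferInstance

instance surjective_whiskerRight {A B : Over S} (i : A ⟶ B) [Surjective i.left] (Z : Over S) :
    Surjective (i ▷ Z).left :=
  MorphismProperty.of_isPullback (P := @Surjective)
    (Groth.Agent.Helper18.GrpFppf.isPullback_left (isPullback_fst i Z)) inferInstance

instance flat_whiskerLeft {A B : Over S} (i : A ⟶ B) [Flat i.left] (Z : Over S) :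
    Flat (Z ◁ i).left :=
  MorphismProperty.of_isPullback (P := @Flat)
    (Groth.Agent.Helper18.GrpFppf.isPullback_left (isPullback_snd Z i)) inferInstance

instance surjective_whiskerLeft {A B : Over S} (i : A ⟶ B) [Surjective i.left] (Z : Over S) :
    Surjective (Z ◁ i).left :=
  MorphismProperty.of_isPullback (P := @Surjective)
    (Groth.Agent.Helper18.GrpFppf.isPullback_left (isPullback_snd Z i)) inferInstance

instance flat_tensorHom {A B A' B' : Over S} (i : A ⟶ B) (j : A' ⟶ B') [Flat i.left]
    [Flat j.left] : Flat (i ⊗ₘ j).left := by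
  rw [MonoidalCategory.tensorHom_def, Over.comp_left]
  infer_instance

instance surjective_tensorHom {A B A' B' : Over S} (i : A ⟶ B) (j : A' ⟶ B') [Surjective i.left]
    [Surjective j.left] : Surjective (i ⊗ₘ j).left := by
  rw [MonoidalCategory.tensorHom_def, Over.comp_left]
  infer_instance

/-- descent of a morphism along a flat surjective lfp morphism in `Over S` -/
theorem exists_desc {G Q K : Over S} (q : G ⟶ Q) [EffectiveEpi q.left] (f : G ⟶ K)
    (hf : ∀ (T : Over S) (g₁ g₂ : T ⟶ G), g₁ ≫ q = g₂ ≫ q → g₁ ≫ f = g₂ ≫ f) :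
    ∃ g : Q ⟶ K, q ≫ g = f := by
  haveI : Epi q.left := inferInstance
  let g₀ : Q.left ⟶ K.left := EffectiveEpi.desc q.left f.left (by
    intro Z g₁ g₂ hg
    have hw : g₂ ≫ G.hom = g₁ ≫ G.hom := by
      rw [← Over.w q, ← Category.assoc, ← hg, Category.assoc]
    have := hf (Over.mk (g₁ ≫ G.hom)) (Over.homMk g₁ rfl) (Over.homMk g₂ hw) (by
      ext
      simpa using hg)
    have h2 := congrArg (fun φ => φ.left) this
    simpa using h2)
  have hfac : q.left ≫ g₀ = f.left := EffectiveEpi.fac q.left f.left _
  refine ⟨Over.homMk g₀ ?_, ?_⟩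
  · rw [← cancel_epi q.left, ← Category.assoc, hfac, Over.w f, Over.w q]
  · ext
    simpa using hfac

end Groth.Agent.Helper18.FlatEpi
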