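import Mathlib
import Groth.Prelude.Def_AlgGrp

/-!
# fppf-local arguments for group schemes of finite type over a field (helper18)
-/

set_option autoImplicit false
universe u
open CategoryTheory CategoryTheory.Limits MonoidalCategory CartesianMonoidalCategory MonObj
  AlgebraicGeometry

namespace Groth.Agent.Helper18.GrpFppf

variable {k : Type u} [Field k]

/-- morphisms between finite type `k`-schemes are quasi-compact -/
theorem quasiCompact_left {X Y : Over (Spec (CommRingCat.of k))} [LocallyOfFiniteType Y.hom]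
    [QuasiCompact X.hom] (f : X ⟶ Y) : QuasiCompact f.left := by
  haveI : IsLocallyNoetherian Y.left := LocallyOfFiniteType.isLocallyNoetherian Y.hom
  haveI : QuasiSeparatedSpace Y.left := inferInstance
  haveI : QuasiSeparated Y.hom := inferInstance
  haveI : QuasiCompact (f.left ≫ Y.hom) := by rw [Over.w]; infer_instance
  exact QuasiCompact.of_comp f.left Y.hom

variable {S : Scheme.{u}}

/-- kernels via points: existence of the lift -/
theorem IsKernel.exists_lift {N G Q : Over S} [GrpObj Q] {i : N ⟶ G} {q : G ⟶ Q}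
    (h : AlgGrp.IsKernel i q) {T : Over S} (g : T ⟶ G) (hg : g ≫ q = 1) :
    ∃ n : T ⟶ N, n ≫ i = g :=
  ⟨h.lift g (toUnit T) (by rw [hg]; rfl), h.lift_fst _ _ _⟩

theorem IsKernel.comp_eq_one {N G Q : Over S} [GrpObj Q] {i : N ⟶ G} {q : G ⟶ Q}
    (h : AlgGrp.IsKernel i q) : i ≫ q = 1 := h.w

/-- kernels via points: construction -/
theorem isKernel_of_points {N G Q : Over S} [GrpObj Q] (i : N ⟶ G) [Mono i] (q : G ⟶ Q)
    (hcomm : i ≫ q = 1)
    (hex : ∀ {T : Over S} (g : T ⟶ G), g ≫ q = 1 → ∃ n : T ⟶ N, n ≫ i = g) :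
    AlgGrp.IsKernel i q := by
  have key : ∀ s : PullbackCone q η[Q], s.fst ≫ q = 1 := by
    intro s
    rw [s.condition, toUnit_unique s.snd (toUnit _)]; rfl
  refine ⟨⟨hcomm⟩, ⟨PullbackCone.IsLimit.mk _ (fun s => (hex s.fst (key s)).choose)
    (fun s => (hex s.fst (key s)).choose_spec) (fun s => toUnit_unique _ _)
    (fun s m h1 _ => ?_)⟩⟩
  rw [← cancel_mono i, h1]
  exact (hex s.fst (key s)).choose_spec.symm

/-- descent of a factorisation through a monomorphism along an effective epimorphism -/
theorem exists_factor_of_cover {H G T T' : Over S} (i : H ⟶ G) [Mono i.left] (c : T' ⟶ T)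
    [EffectiveEpi c.left] (g : T ⟶ G) (h' : T' ⟶ H) (hh : h' ≫ i = c ≫ g) :
    ∃ h : T ⟶ H, h ≫ i = g := by
  have hh' : h'.left ≫ i.left = c.left ≫ g.left := by
    rw [← Over.comp_left, ← Over.comp_left, hh]
  let h₀ : T.left ⟶ H.left := EffectiveEpi.desc c.left h'.left (by
    intro Z g₁ g₂ hg
    rw [← cancel_mono i.left, Category.assoc, Category.assoc, hh', reassoc_of% hg])
  have hfac : c.left ≫ h₀ = h'.left := EffectiveEpi.fac c.left h'.left _
  have hi : h₀ ≫ i.left = g.left := by
    haveI : Epi c.left := inferInstance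
    rw [← cancel_epi c.left, ← Category.assoc, hfac, hh']
  refine ⟨Over.homMk h₀ ?_, ?_⟩
  · rw [← Over.w i, ← Category.assoc, hi, Over.w g]
  · ext
    simpa using hi

/-- local lifting along a flat surjective quasi-compact morphism -/
theorem exists_cover_lift {H Hb : Over S} (p : H ⟶ Hb) [Flat p.left] [Surjective p.left]
    [QuasiCompact p.left] {T : Over S} (b : T ⟶ Hb) :
    ∃ (T' : Over S) (c : T' ⟶ T) (h : T' ⟶ H), EffectiveEpi c.left ∧ Flat c.left ∧
      Surjective c.left ∧ QuasiCompact c.left ∧ h ≫ p = c ≫ b := by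
  let c₀ : pullback b.left p.left ⟶ T.left := pullback.fst b.left p.left
  let T' : Over S := Over.mk (c₀ ≫ T.hom)
  let c : T' ⟶ T := Over.homMk c₀ rfl
  have hw : pullback.snd b.left p.left ≫ H.hom = c₀ ≫ T.hom := by
    rw [← Over.w p, ← Category.assoc, ← pullback.condition, Category.assoc, Over.w b]
  let h : T' ⟶ H := Over.homMk (pullback.snd b.left p.left) hw
  refine ⟨T', c, h, ?_, ?_, ?_, ?_, ?_⟩
  · show EffectiveEpi (pullback.fst b.left p.left)
    infer_instance
  · show Flat (pullback.fst b.left p.left)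
    infer_instance
  · show Surjective (pullback.fst b.left p.left)
    infer_instance
  · show QuasiCompact (pullback.fst b.left p.left)
    infer_instance
  · ext
    simp only [Over.comp_left]
    exact pullback.condition.symm

/-- cartesian squares with two monos via points -/
theorem isPullback_of_points {C : Type*} [Category C] {M G Q Hb : C} (jM : M ⟶ G) [Mono jM]
    (c : M ⟶ Hb) (q : G ⟶ Q) (jb : Hb ⟶ Q) [Mono jb] (hcomm : jM ≫ q = c ≫ jb)
    (hex : ∀ {T : C} (g : T ⟶ G) (b : T ⟶ Hb), g ≫ q = b ≫ jb → ∃ x : T ⟶ M, x ≫ jM = g) :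
    IsPullback jM c q jb := by
  refine ⟨⟨hcomm⟩, ⟨PullbackCone.IsLimit.mk _ (fun s => (hex s.fst s.snd s.condition).choose)
    (fun s => (hex s.fst s.snd s.condition).choose_spec) (fun s => ?_) (fun s m h1 _ => ?_)⟩⟩
  · rw [← cancel_mono jb, Category.assoc, ← hcomm, ← Category.assoc,
      (hex s.fst s.snd s.condition).choose_spec, s.condition]
  · rw [← cancel_mono jM, h1]
    exact (hex s.fst s.snd s.condition).choose_spec.symm

end Groth.Agent.Helper18.GrpFppf
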