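import Groth.Agent.Lib.Helper18.GrpFppf
import Groth.Agent.Lib.Helper12.GorBC2

/-!
# Flatness descends along faithfully flat morphisms; products over a field (helper18)
-/

set_option autoImplicit false
universe u
open CategoryTheory CategoryTheory.Limits MonoidalCategory CartesianMonoidalCategory MonObj
  AlgebraicGeometry

namespace Groth.Agent.Helper18.GrpFppf

/-- if `a` is flat and surjective and `a ≫ b` is flat then `b` is flat -/
theorem flat_of_comp_of_surjective {P Q S : Scheme.{u}} (a : P ⟶ Q) (b : Q ⟶ S) [Flat a]
    [Surjective a] [Flat (a ≫ b)] : Flat b := by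
  rw [Flat.iff_flat_stalkMap]
  intro y
  obtain ⟨p, rfl⟩ := a.surjective y
  exact Groth.Agent.Helper12.FlatPt.flat_stalkMap_of_comp a b p (Flat.stalkMap a p)
    (Flat.stalkMap (a ≫ b) p)

variable {k : Type u} [Field k]

instance flat_hom (X : Over (Spec (CommRingCat.of k))) : Flat X.hom := inferInstance

/-- a group scheme over a field surjects onto the base -/
theorem surjective_hom (N : Over (Spec (CommRingCat.of k))) [MonObj N] : Surjective N.hom := by
  refine ⟨fun y => ⟨η[N].left y, ?_⟩⟩
  have h : η[N].left ≫ N.hom = 𝟙 _ := Over.w η[N]
  rw [← Scheme.Hom.comp_apply, h]; rfl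

instance flat_snd (N H : Over (Spec (CommRingCat.of k))) : Flat (snd N H).left := by
  show Flat (pullback.snd N.hom H.hom); infer_instance

theorem surjective_snd (N H : Over (Spec (CommRingCat.of k))) [MonObj N] :
    Surjective (snd N H).left := by
  haveI := surjective_hom N
  show Surjective (pullback.snd N.hom H.hom); infer_instance

instance flat_fst (N H : Over (Spec (CommRingCat.of k))) : Flat (fst N H).left := by
  show Flat (pullback.fst N.hom H.hom); infer_instance

theorem surjective_fst (N H : Over (Spec (CommRingCat.of k))) [MonObj H] :
    Surjective (fst N H).left := by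
  haveI := surjective_hom H
  show Surjective (pullback.fst N.hom H.hom); infer_instance

end Groth.Agent.Helper18.GrpFppf
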