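import Groth.Agent.Lib.Helper18.GrpDesc
import Groth.Agent.Lib.Helper18.GrpFppf2
import Groth.Agent.S0414
import Groth.Prelude.Def_NonAbH2
import Groth.Prelude.Def_ChGrp

/-!
# Surjective homomorphisms onto reduced group schemes are flat (helper18)
-/

set_option autoImplicit false
universe u
open CategoryTheory CategoryTheory.Limits MonoidalCategory CartesianMonoidalCategory MonObj
  AlgebraicGeometry

namespace Groth.Agent.Helper18.GrpFppf

section
variable {S : Scheme.{u}}

/-- right translation shear `(g, w) ↦ (g * j w, w)` -/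
noncomputable def rshear {G W : Over S} [GrpObj G] (j : W ⟶ G) : G ⊗ W ≅ G ⊗ W where
  hom := lift (fst G W * (snd G W ≫ j)) (snd G W)
  inv := lift (fst G W * (snd G W ≫ j)⁻¹) (snd G W)
  hom_inv_id := by
    apply CartesianMonoidalCategory.hom_ext
    · rw [Category.assoc, lift_fst, MonObj.comp_mul, GrpObj.comp_inv, lift_fst, ← Category.assoc,
        lift_snd, Category.id_comp, mul_inv_cancel_right]
    · rw [Category.assoc, lift_snd, lift_snd, Category.id_comp]
  inv_hom_id := by
    apply CartesianMonoidalCategory.hom_ext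
    · rw [Category.assoc, lift_fst, MonObj.comp_mul, lift_fst, ← Category.assoc,
        lift_snd, Category.id_comp, inv_mul_cancel_right]
    · rw [Category.assoc, lift_snd, lift_snd, Category.id_comp]

theorem rshear_hom_fst {G W : Over S} [GrpObj G] (j : W ⟶ G) :
    (rshear j).hom ≫ fst G W = (G ◁ j) ≫ μ[G] := by
  have : (G ◁ j) = lift (fst G W) (snd G W ≫ j) := by
    apply CartesianMonoidalCategory.hom_ext <;> simp
  rw [this]
  show lift _ _ ≫ fst G W = _
  rw [lift_fst]
  rfl

/-- base change of a morphism in the second factor -/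
theorem whiskerLeft_left_of_property (P : MorphismProperty Scheme.{u}) [P.IsStableUnderBaseChange]
    (M : Over S) {Z X : Over S} (z : Z ⟶ X) (hz : P z.left) : P (M ◁ z).left :=
  MorphismProperty.of_isPullback (P := P)
    (isPullback_left (Groth.Agent.Helper28.AlgGrpShear.isPullback_snd M z)) hz

end

variable {k : Type u} [Field k]

/-- the action map of a group scheme over a field is flat -/
theorem flat_act {G X : Over (Spec (CommRingCat.of k))} [GrpObj G] (a : AlgGrp.Action G X) :
    Flat a.act.left := by
  have hact := Groth.Agent.Helper28.AlgGrpShear.act_left a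
  haveI : IsIso (Groth.Agent.Helper28.AlgGrpShear.shear a).hom.left :=
    inferInstanceAs (IsIso ((Over.forget (Spec (CommRingCat.of k))).map
      (Groth.Agent.Helper28.AlgGrpShear.shear a).hom))
  rw [hact]; infer_instance

theorem surjective_hom_of_nonempty (V : Over (Spec (CommRingCat.of k))) [Nonempty V.left] :
    Surjective V.hom := by
  refine ⟨fun y => ?_⟩
  obtain ⟨v⟩ := ‹Nonempty V.left›
  exact ⟨v, Subsingleton.elim (α := PrimeSpectrum k) _ _⟩

/-- a surjective homomorphism onto a reduced group scheme of finite type over a field is flat -/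
theorem flat_of_surjective_hom_of_isReduced (G H : Over (Spec (CommRingCat.of k))) [GrpObj G]
    [GrpObj H] [LocallyOfFiniteType G.hom] [QuasiCompact G.hom] [LocallyOfFiniteType H.hom]
    [IsReduced H.left] (f : G ⟶ H) [IsMonHom f] [Surjective f.left] : Flat f.left := by
  haveI : QuasiCompact f.left := quasiCompact_left f
  haveI : LocallyOfFiniteType f.left := by
    haveI : LocallyOfFiniteType (f.left ≫ H.hom) := by rw [Over.w]; infer_instance
    exact locallyOfFiniteType_of_comp f.left H.hom
  obtain ⟨U, hUd, hUf, -⟩ := Groth.Agent.S0414.result f.left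
  haveI : Nonempty H.left := ⟨η[H].left (IsLocalRing.closedPoint k)⟩
  obtain ⟨u, hu⟩ := hUd.nonempty
  obtain ⟨v, rfl⟩ := f.left.surjective u
  let V : G.left.Opens := f.left ⁻¹ᵁ U
  let V' : Over (Spec (CommRingCat.of k)) := Over.mk (V.ι ≫ G.hom)
  let U' : Over (Spec (CommRingCat.of k)) := Over.mk (U.ι ≫ H.hom)
  let jV : V' ⟶ G := Over.homMk V.ι rfl
  let jU : U' ⟶ H := Over.homMk U.ι rfl
  let fU : V' ⟶ U' := Over.homMk (f.left ∣_ U) (by
    show (f.left ∣_ U) ≫ U.ι ≫ H.hom = V.ι ≫ G.hom
    rw [← Category.assoc, morphismRestrict_ι, Category.assoc, Over.w])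
  have hfj : fU ≫ jU = jV ≫ f := by
    ext
    show (f.left ∣_ U) ≫ U.ι = V.ι ≫ f.left
    exact morphismRestrict_ι _ _
  haveI : Nonempty V'.left := ⟨⟨v, hu⟩⟩
  haveI := surjective_hom_of_nonempty V'
  let m : G ⊗ V' ⟶ G := (G ◁ jV) ≫ μ[G]
  have hm : m = (rshear jV).hom ≫ fst G V' := (rshear_hom_fst jV).symm
  haveI : IsIso (rshear jV).hom.left :=
    inferInstanceAs (IsIso ((Over.forget (Spec (CommRingCat.of k))).map (rshear jV).hom))
  haveI : Surjective (fst G V').left := by
    show Surjective (pullback.fst G.hom V'.hom); infer_instance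
  haveI : Flat m.left := by rw [hm, Over.comp_left]; infer_instance
  haveI : Surjective m.left := by rw [hm, Over.comp_left]; infer_instance
  let aH : AlgGrp.Action G H := (NonAbH1.trivialAction H).restrict f
  have hmf : m ≫ f = (G ◁ fU) ≫ (G ◁ jU) ≫ aH.act := by
    show ((G ◁ jV) ≫ μ[G]) ≫ f = (G ◁ fU) ≫ (G ◁ jU) ≫ (f ▷ H) ≫ μ[H]
    rw [Category.assoc, IsMonHom.mul_hom, ← MonoidalCategory.whiskerLeft_comp_assoc, hfj,
      MonoidalCategory.whiskerLeft_comp_assoc, tensorHom_def'_assoc]
  haveI : Flat aH.act.left := flat_act aH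
  haveI : Flat (G ◁ fU).left := whiskerLeft_left_of_property @Flat G fU hUf
  haveI : Flat (G ◁ jU).left :=
    whiskerLeft_left_of_property @Flat G jU (inferInstanceAs (Flat U.ι))
  haveI : Flat (m.left ≫ f.left) := by
    rw [← Over.comp_left, hmf, Over.comp_left, Over.comp_left]; infer_instance
  exact flat_of_comp_of_surjective m.left f.left

end Groth.Agent.Helper18.GrpFppf
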