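import Mathlib
import Groth.Prelude
import Groth.Agent.Lib.Helper18.GrpGenFlat
import Groth.Agent.Lib.Helper16.Sch.GenGS1
import Groth.Agent.Lib.Helper16.Sch.GrpSm1
import Groth.Agent.Lib.Helper16.AlgSp.RedSp

set_option autoImplicit false
universe u
open CategoryTheory MonoidalCategory CartesianMonoidalCategory MonObj GrpObj AlgebraicGeometry

namespace Groth.Agent.Helper18.HomogSmooth

/-- a geometrically reduced locally finite type `k`-scheme with an action of a locally finite
type group scheme having a surjective orbit map is smooth -/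
theorem smooth_of_homogeneous (k : Type u) [Field k]
    (G X : Over (Spec (CommRingCat.of k))) [GrpObj G] [LocallyOfFiniteType G.hom]
    [LocallyOfFiniteType X.hom] [GeometricallyReduced X.hom]
    (a : AlgGrp.Action G X) (o : 𝟙_ (Over (Spec (CommRingCat.of k))) ⟶ X)
    [Surjective (a.orbitMap o).left] : Smooth X.hom := by
  haveI : IsLocallyNoetherian (Spec (CommRingCat.of k)) := inferInstance
  haveI : LocallyOfFinitePresentation X.hom := inferInstance
  haveI : LocallyOfFinitePresentation G.hom := inferInstance
  have hdense := Groth.Agent.Helper16.GenGS.dense_smoothLocus_of_geometricallyReduced k X.hom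
  -- the smooth locus is stable under the action
  haveI : LocallyOfFinitePresentation (fst G X).left := by
    show LocallyOfFinitePresentation (Limits.pullback.fst G.hom X.hom); infer_instance
  have Hpb : IsPullback (snd G X).left (fst G X).left X.hom G.hom :=
    (IsPullback.of_hasPullback G.hom X.hom).flip
  have hloc := Groth.Agent.Helper16.SmoothLocusBC.smoothLocus_eq_preimage_of_flat Hpb
  haveI : IsIso (Groth.Agent.Helper28.AlgGrpShear.shear a).hom.left :=
    inferInstanceAs (IsIso ((Over.forget (Spec (CommRingCat.of k))).map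
      (Groth.Agent.Helper28.AlgGrpShear.shear a).hom))
  have hτ : (Groth.Agent.Helper28.AlgGrpShear.shear a).hom.left ≫ (fst G X).left = (fst G X).left := by
    rw [← Over.comp_left, Groth.Agent.Helper28.AlgGrpShear.shear_hom_fst]
  have hτs : (Groth.Agent.Helper28.AlgGrpShear.shear a).hom.left ≫ (snd G X).left = a.act.left := by
    rw [← Over.comp_left, Groth.Agent.Helper28.AlgGrpShear.shear_hom_snd]
  have hstab : ∀ z : (G ⊗ X).left, a.act.left z ∈ X.hom.smoothLocus ↔
      (snd G X).left z ∈ X.hom.smoothLocus := by
    intro z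
    have h1 := Groth.Agent.Helper16.GrpSm.mem_smoothLocus_of_iso (fst G X).left
      (Groth.Agent.Helper28.AlgGrpShear.shear a).hom.left hτ z
    rw [hloc] at h1
    have h2 : (snd G X).left ((Groth.Agent.Helper28.AlgGrpShear.shear a).hom.left z)
        = a.act.left z := by
      rw [← Scheme.Hom.comp_apply, hτs]
    rw [← h2]
    exact h1
  -- orbit map
  have horb : ∀ g : G.left, (a.orbitMap o).left g ∈ X.hom.smoothLocus ↔
      o.left ((toUnit G).left g) ∈ X.hom.smoothLocus := by
    intro g
    have e1 : (a.orbitMap o).left g
        = a.act.left ((lift (𝟙 G) (toUnit G ≫ o)).left g) := by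
      rw [← Scheme.Hom.comp_apply, ← Over.comp_left]; rfl
    have e2 : (snd G X).left ((lift (𝟙 G) (toUnit G ≫ o)).left g) = o.left ((toUnit G).left g) := by
      rw [← Scheme.Hom.comp_apply, ← Scheme.Hom.comp_apply, ← Over.comp_left, ← Over.comp_left,
        lift_snd]
    rw [e1, hstab, e2]
  have hpt : ∀ g g' : G.left, (toUnit G).left g = (toUnit G).left g' := fun g g' =>
    Subsingleton.elim (α := PrimeSpectrum k) _ _
  haveI : Nonempty X.left := ⟨(a.orbitMap o).left (η[G].left (IsLocalRing.closedPoint k))⟩
  obtain ⟨x, hx⟩ := hdense.nonempty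
  obtain ⟨g₀, rfl⟩ := (a.orbitMap o).left.surjective x
  rw [← Scheme.Hom.smoothLocus_eq_top_iff, eq_top_iff]
  intro y _
  obtain ⟨g, rfl⟩ := (a.orbitMap o).left.surjective y
  rw [horb, hpt g g₀, ← horb]
  exact hx

/-- a geometrically reduced group scheme locally of finite type over a field is smooth -/
theorem smooth_of_geometricallyReduced_grp (k : Type u) [Field k]
    (X : Over (Spec (CommRingCat.of k))) [GrpObj X] [LocallyOfFiniteType X.hom]
    [GeometricallyReduced X.hom] : Smooth X.hom := by
  let a : AlgGrp.Action X X :=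
    { act := μ[X]
      one_act := MonObj.one_mul X
      mul_act := MonObj.mul_assoc X }
  have horb : a.orbitMap η[X] = 𝟙 X := by
    show lift (𝟙 X) (toUnit X ≫ η[X]) ≫ μ[X] = 𝟙 X
    simp
  haveI : Surjective (a.orbitMap η[X]).left := by
    rw [horb]
    show Surjective (𝟙 X.left)
    infer_instance
  exact smooth_of_homogeneous k X X a η[X]

end Groth.Agent.Helper18.HomogSmooth
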