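import Mathlib
import Groth.Prelude
import Groth.Agent.Lib.Helper28.AlgGrpShear
import Groth.Agent.Lib.Helper18.GrpDesc

set_option autoImplicit false
universe u
open CategoryTheory MonoidalCategory CartesianMonoidalCategory MonObj GrpObj AlgebraicGeometry Limits
open Groth.Agent.Helper28.AlgGrpShear

namespace Groth.Agent.Helper18.KerAct

variable {S : Scheme.{u}}

theorem comp_orbit {G Q : Over S} [GrpObj G] (a : AlgGrp.Action G Q) (o : 𝟙_ (Over S) ⟶ Q)
    {T : Over S} (g : T ⟶ G) :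
    g ≫ a.orbitMap o = lift g (toUnit T ≫ o) ≫ a.act := by
  unfold AlgGrp.Action.orbitMap
  rw [comp_lift_assoc, Category.comp_id, ← Category.assoc, toUnit_unique (g ≫ toUnit G) (toUnit T)]

theorem main (G H Q N : Over S) [GrpObj G]
    [GrpObj H] (i : H ⟶ G) [IsMonHom i]
    (a : AlgGrp.Action G Q) (o : 𝟙_ (Over S) ⟶ Q) (hQ : AGF.IsQuotient i Q a o)
    [GrpObj N] (n : N ⟶ G) [IsMonHom n]
    (hN : ∀ (T : Over S) (g : T ⟶ G),
      (∃ m : T ⟶ N, m ≫ n = g) ↔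
        ∀ (T' : Over S) (s : T' ⟶ T) (x : T' ⟶ Q),
          CartesianMonoidalCategory.lift (s ≫ g) x ≫ a.act = x) :
    AlgGrp.IsNormalHom n ∧ (∃ f : N ⟶ H, f ≫ i = n) ∧
      ∀ (N' : Over S) [GrpObj N'] (n' : N' ⟶ G) [IsMonHom n'],
        AlgGrp.IsNormalHom n' → (∃ f : N' ⟶ H, f ≫ i = n') → ∃ f' : N' ⟶ N, f' ≫ n = n' := by
  obtain ⟨_, hfl, hsurj, hpb⟩ := hQ
  -- H stabilises o
  have hHo : ∀ {T : Over S} (h : T ⟶ H), lift (h ≫ i) (toUnit T ≫ o) ≫ a.act = toUnit T ≫ o := by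
    intro T h
    have h0 : lift (1 : T ⟶ G) h ≫ (G ◁ i) ≫ μ[G] = h ≫ i := by
      rw [lift_whiskerLeft_assoc]
      show (1 : T ⟶ G) * (h ≫ i) = h ≫ i
      rw [_root_.one_mul]
    have h1 := congrArg (fun φ => lift (1 : T ⟶ G) h ≫ φ) hpb.w
    simp only [lift_fst_assoc] at h1
    rw [← Category.assoc (lift 1 h), h0, comp_orbit, act_one,
      comp_orbit] at h1
    exact h1.symm
  refine ⟨?_, ?_, ?_⟩
  · intro T g m
    obtain ⟨n', hn'⟩ := (hN T (g * (m ≫ n) * g⁻¹)).2 (by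
      intro T' s x
      rw [MonObj.comp_mul, MonObj.comp_mul, GrpObj.comp_inv, act_mul, act_mul]
      have h1 := (hN T (m ≫ n)).1 ⟨m, rfl⟩ T' s (lift (s ≫ g)⁻¹ x ≫ a.act)
      rw [h1, ← act_mul, mul_inv_cancel, act_one])
    exact ⟨n', hn'.symm⟩
  · have h1 : n ≫ a.orbitMap o = toUnit N ≫ o := by
      rw [comp_orbit]
      have := (hN N n).1 ⟨𝟙 N, Category.id_comp _⟩ N (𝟙 N) (toUnit N ≫ o)
      rwa [Category.id_comp] at this
    have h2 : (1 : N ⟶ G) ≫ a.orbitMap o = toUnit N ≫ o := by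
      rw [comp_orbit, act_one]
    let l : N ⟶ G ⊗ H := hpb.lift (1 : N ⟶ G) n (h2.trans h1.symm)
    have hl1 : l ≫ fst G H = 1 := hpb.lift_fst _ _ _
    have hl2 : l ≫ (G ◁ i) ≫ μ[G] = n := hpb.lift_snd _ _ _
    refine ⟨l ≫ snd G H, ?_⟩
    have hl : l = lift (1 : N ⟶ G) (l ≫ snd G H) := by
      apply CartesianMonoidalCategory.hom_ext
      · rw [lift_fst, hl1]
      · rw [lift_snd]
    have hl3 : lift (1 : N ⟶ G) (l ≫ snd G H) ≫ (G ◁ i) ≫ μ[G] = (l ≫ snd G H) ≫ i := by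
      rw [lift_whiskerLeft_assoc]
      show (1 : N ⟶ G) * ((l ≫ snd G H) ≫ i) = (l ≫ snd G H) ≫ i
      rw [_root_.one_mul]
    rw [← hl3, ← hl, hl2]
  · intro N' _ n' _ hn' ⟨f, hf⟩
    apply (hN N' n').2
    intro T' s x
    haveI : Flat (a.orbitMap o).left := hfl
    haveI : Surjective (a.orbitMap o).left := hsurj
    let p1 : pullback x (a.orbitMap o) ⟶ T' := pullback.fst x (a.orbitMap o)
    let p2 : pullback x (a.orbitMap o) ⟶ G := pullback.snd x (a.orbitMap o)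
    have hP : IsPullback p1 p2 x (a.orbitMap o) := IsPullback.of_hasPullback _ _
    have hP' := Groth.Agent.Helper18.GrpFppf.isPullback_left hP
    haveI : Flat p1.left := MorphismProperty.of_isPullback (P := @Flat) hP'.flip inferInstance
    haveI : Surjective p1.left :=
      MorphismProperty.of_isPullback (P := @Surjective) hP'.flip inferInstance
    haveI : Epi p1.left := Flat.epi_of_flat_of_surjective _
    haveI : Epi p1 := Over.epi_of_epi_left _
    rw [← cancel_epi p1, comp_lift_assoc, hP.w, comp_orbit, ← act_mul]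
    -- (p1 ≫ s ≫ n') * p2 = p2 * (p2⁻¹ * (p1 ≫ s ≫ n') * p2)
    obtain ⟨m, hm⟩ := hn' _ (p2⁻¹) (p1 ≫ s)
    rw [_root_.inv_inv] at hm
    have h3 : (p1 ≫ s ≫ n') * p2 = p2 * (m ≫ f ≫ i) := by
      rw [hf, ← hm]
      simp only [Category.assoc]
      group
    rw [h3, act_mul]
    have := hHo (m ≫ f)
    rw [Category.assoc] at this
    rw [this]
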