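import Mathlib
import Groth.Prelude
import Groth.Agent.Lib.Helper18.HomogSmooth
import Groth.Agent.Lib.Helper18.RedLift
import Groth.Agent.Lib.Helper18.FlatEpi
import Groth.Agent.Lib.Helper18.GrpFppf
import Groth.Agent.Lib.Helper18.KerAct

set_option autoImplicit false
universe u
open CategoryTheory MonoidalCategory CartesianMonoidalCategory MonObj GrpObj AlgebraicGeometry Limits
open Groth.Agent.Helper28.AlgGrpShear

namespace Groth.Agent.Helper18.OrbitSmooth

/-- lifting a morphism from a reduced scheme through an immersion -/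
theorem exists_lift_of_isReduced_immersion {T O X : Scheme.{u}} (i : O ⟶ X) [IsImmersion i]
    (h : T ⟶ X) [IsReduced T] (hr : Set.range h ⊆ Set.range i) : ∃ h' : T ⟶ O, h' ≫ i = h := by
  have hi : i.liftCoborder ≫ i.coborderRange.ι = i := i.liftCoborder_ι
  have hU : Set.range h ⊆ Set.range i.coborderRange.ι := by
    intro y hy
    obtain ⟨o, rfl⟩ := hr hy
    exact ⟨i.liftCoborder o, by rw [← Scheme.Hom.comp_apply, hi]⟩
  let h₁ : T ⟶ i.coborderRange := IsOpenImmersion.lift i.coborderRange.ι h hU
  have hh₁ : h₁ ≫ i.coborderRange.ι = h := IsOpenImmersion.lift_fac _ _ _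
  obtain ⟨h₂, hh₂⟩ := Groth.Agent.Helper18.RedLift.exists_lift_of_isReduced i.liftCoborder h₁ (by
    rintro _ ⟨t, rfl⟩
    obtain ⟨o, ho⟩ := hr ⟨t, rfl⟩
    refine ⟨o, ?_⟩
    apply i.coborderRange.ι.isOpenEmbedding.injective
    rw [← Scheme.Hom.comp_apply, hi, ← Scheme.Hom.comp_apply, hh₁]
    exact ho)
  exact ⟨h₂, by rw [← hi, ← Category.assoc, hh₂, hh₁]⟩

theorem main (k : Type u) [Field k]
    (G X : Over (Spec (CommRingCat.of k))) [GrpObj G] [Smooth G.hom] [QuasiCompact G.hom]
    [LocallyOfFiniteType X.hom] (a : AlgGrp.Action G X)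
    (x : 𝟙_ (Over (Spec (CommRingCat.of k))) ⟶ X)
    (O : Scheme.{u}) (i : O ⟶ X.left) [IsImmersion i] [IsReduced O]
    (hO : Set.range i.base = Set.range (a.orbitMap x).left.base) : Smooth (i ≫ X.hom) := by
  let XO : Over (Spec (CommRingCat.of k)) := Over.mk (i ≫ X.hom)
  let i' : XO ⟶ X := Over.homMk i rfl
  haveI : IsImmersion i'.left := ‹IsImmersion i›
  haveI : Mono i'.left := inferInstance
  haveI : Mono i' := Over.mono_of_mono_left _
  haveI : IsReduced XO.left := ‹IsReduced O›
  haveI : LocallyOfFiniteType G.hom := inferInstance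
  haveI : LocallyOfFiniteType XO.hom := by
    show LocallyOfFiniteType (i ≫ X.hom)
    infer_instance
  haveI : IsReduced (Spec (CommRingCat.of k)) := inferInstance
  haveI : IsReduced G.left := Groth.Agent.Helper16.AS.isReduced_of_smooth G.hom
  -- factor the orbit map through XO
  obtain ⟨g₀, hg₀⟩ := exists_lift_of_isReduced_immersion i (a.orbitMap x).left (by
    rw [show Set.range i = Set.range i.base from rfl, hO])
  let g : G ⟶ XO := Over.homMk g₀ (by
    show g₀ ≫ i ≫ X.hom = G.hom
    rw [← Category.assoc, hg₀, Over.w (a.orbitMap x)])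
  have hg : g ≫ i' = a.orbitMap x := by
    ext
    exact hg₀
  haveI hgs : Surjective g.left := by
    constructor
    intro y
    have hy : i.base y ∈ Set.range (a.orbitMap x).left.base := hO ▸ ⟨y, rfl⟩
    obtain ⟨z, hz⟩ := hy
    refine ⟨z, ?_⟩
    apply i.isEmbedding.injective
    show (g₀ ≫ i) z = i y
    rw [hg₀]
    exact hz
  haveI : QuasiCompact g.left := Groth.Agent.Helper18.GrpFppf.quasiCompact_left g
  haveI : IsReduced (G ⊗ XO).left := by
    haveI : Smooth (snd G XO).left := by
      show Smooth (pullback.snd G.hom XO.hom)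
      infer_instance
    exact Groth.Agent.Helper16.AS.isReduced_of_smooth (snd G XO).left
  have horbmul : (G ◁ a.orbitMap x) ≫ a.act = μ[G] ≫ a.orbitMap x := by
    have e1 : (G ◁ a.orbitMap x) = lift (fst G G) (snd G G ≫ a.orbitMap x) := by
      apply CartesianMonoidalCategory.hom_ext <;> simp
    rw [e1, Groth.Agent.Helper18.KerAct.comp_orbit, Groth.Agent.Helper18.KerAct.comp_orbit]
    have e2 : snd G G ≫ toUnit G = toUnit (G ⊗ G) := toUnit_unique _ _
    rw [← act_mul]
    congr 2
    show (fst G G) * (snd G G) = μ[G]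
    show lift (fst G G) (snd G G) ≫ μ[G] = μ[G]
    rw [lift_fst_snd, Category.id_comp]
  -- the action on XO
  obtain ⟨act₀, hact₀⟩ := exists_lift_of_isReduced_immersion i ((G ◁ i') ≫ a.act).left (by
    rintro _ ⟨z, rfl⟩
    obtain ⟨w, rfl⟩ := (G ◁ g).left.surjective z
    have e : (G ◁ g) ≫ (G ◁ i') ≫ a.act = μ[G] ≫ a.orbitMap x := by
      rw [← Category.assoc, ← MonoidalCategory.whiskerLeft_comp, hg, horbmul]
    have e' : ((G ◁ i') ≫ a.act).left ((G ◁ g).left w) = (a.orbitMap x).left (μ[G].left w) := by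
      show ((G ◁ g) ≫ (G ◁ i') ≫ a.act).left w = (μ[G] ≫ a.orbitMap x).left w
      rw [e]
    rw [e']
    have : (a.orbitMap x).left (μ[G].left w) ∈ Set.range (a.orbitMap x).left.base := ⟨_, rfl⟩
    rw [← hO] at this
    exact this)
  let act : G ⊗ XO ⟶ XO := Over.homMk act₀ (by
    show act₀ ≫ i ≫ X.hom = (G ⊗ XO).hom
    rw [← Category.assoc, hact₀, Over.w])
  have hact : act ≫ i' = (G ◁ i') ≫ a.act := by
    ext
    exact hact₀
  have key : ∀ {W : Over (Spec (CommRingCat.of k))} (φ : W ⟶ G ⊗ XO),
      φ ≫ act ≫ i' = lift (φ ≫ fst G XO) (φ ≫ snd G XO ≫ i') ≫ a.act := by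
    intro W φ
    rw [hact, ← Category.assoc]
    congr 1
    apply CartesianMonoidalCategory.hom_ext <;> simp
  let aO : AlgGrp.Action G XO :=
    { act := act
      one_act := by
        rw [← cancel_mono i', Category.assoc, key]
        have e1 : (η[G] ▷ XO) ≫ fst G XO = fst _ XO ≫ η[G] := whiskerRight_fst _ _
        have e2 : (η[G] ▷ XO) ≫ snd G XO ≫ i' = snd _ XO ≫ i' := by
          rw [← Category.assoc, whiskerRight_snd]
        have : fst (𝟙_ _) XO ≫ η[G] = (1 : _ ⟶ G) := by
          rw [Hom.one_def, toUnit_unique (toUnit _) (fst (𝟙_ _) XO)]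
        rw [e1, e2, leftUnitor_hom, this, act_one]
      mul_act := by
        rw [← cancel_mono i', Category.assoc, key, Category.assoc, Category.assoc,
          ← Category.assoc (α_ G G XO).hom, key]
        simp only [Category.assoc, whiskerRight_fst_assoc, whiskerRight_snd_assoc,
          whiskerLeft_fst_assoc, whiskerLeft_snd_assoc, whiskerRight_fst, whiskerLeft_fst]
        rw [key]
        simp only [comp_lift_assoc, Category.assoc, associator_hom_fst_assoc,
          associator_hom_snd_fst_assoc, associator_hom_snd_snd_assoc, associator_hom_fst,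
          associator_hom_snd_fst, associator_hom_snd_snd]
        rw [← act_mul]
        congr 2
        show fst (G ⊗ G) XO ≫ μ[G] = (fst (G ⊗ G) XO ≫ fst G G) * (fst (G ⊗ G) XO ≫ snd G G)
        rw [← MonObj.comp_mul]
        congr 1
        show μ[G] = lift (fst G G) (snd G G) ≫ μ[G]
        rw [lift_fst_snd, Category.id_comp] }
  let o : 𝟙_ (Over (Spec (CommRingCat.of k))) ⟶ XO := η[G] ≫ g
  have horb : aO.orbitMap o = g := by
    rw [← cancel_mono i']
    show (lift (𝟙 G) (toUnit G ≫ o) ≫ act) ≫ i' = g ≫ i'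
    rw [Category.assoc, key, lift_fst, lift_snd_assoc, hg]
    show lift (𝟙 G) (toUnit G ≫ (η[G] ≫ g) ≫ i') ≫ a.act = _
    rw [Category.assoc, hg, Groth.Agent.Helper18.KerAct.comp_orbit]
    have : lift η[G] (toUnit (𝟙_ _) ≫ x) ≫ a.act = x := by
      have h1 : η[G] = (1 : 𝟙_ (Over (Spec (CommRingCat.of k))) ⟶ G) := by
        rw [Hom.one_def, toUnit_unique (toUnit _) (𝟙 _), Category.id_comp]
      rw [h1, act_one, toUnit_unique (toUnit _) (𝟙 _), Category.id_comp]
    rw [this]
    rfl
  haveI : Surjective (aO.orbitMap o).left := by rw [horb]; exact hgs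
  haveI : GeometricallyReduced XO.hom := by
    rw [geometricallyReduced_iff]
    intro L _ c Z p₁ p₂ Hpb
    have htop : IsPullback (pullback.fst g.left p₁) (pullback.snd g.left p₁) g.left p₁ :=
      .of_hasPullback _ _
    have hpaste := htop.paste_vert Hpb
    rw [Over.w] at hpaste
    haveI : Smooth (pullback.snd g.left p₁ ≫ p₂) :=
      MorphismProperty.of_isPullback (P := @Smooth) hpaste inferInstance
    haveI : IsReduced (pullback g.left p₁) :=
      Groth.Agent.Helper16.AS.isReduced_of_smooth (pullback.snd g.left p₁ ≫ p₂)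
    haveI : Flat c := inferInstance
    haveI : Flat p₁ := MorphismProperty.of_isPullback (P := @Flat) Hpb.flip inferInstance
    haveI : IsDominant g.left := inferInstance
    haveI : IsSchemeTheoreticallyDominant g.left := .of_isDominant g.left
    haveI : IsSchemeTheoreticallyDominant (pullback.snd g.left p₁) := inferInstance
    exact IsSchemeTheoreticallyDominant.isReduced (pullback.snd g.left p₁)
  exact Groth.Agent.Helper18.HomogSmooth.smooth_of_homogeneous k G XO aO o

end Groth.Agent.Helper18.OrbitSmooth
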