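import Mathlib
import Groth.Prelude
import Groth.Agent.Lib.Helper18.OrbitSmooth
import Groth.Agent.Lib.Helper18.MaxPtImage

set_option autoImplicit false
universe u
open CategoryTheory MonoidalCategory CartesianMonoidalCategory MonObj GrpObj AlgebraicGeometry Limits
open Groth.Agent.Helper28.AlgGrpShear
open Topology TopologicalSpace

namespace Groth.Agent.Helper18.OrbitLC

variable {k : Type u} [Field k]

theorem horbmul {G X : Over (Spec (CommRingCat.of k))} [GrpObj G] (a : AlgGrp.Action G X)
    (x : 𝟙_ (Over (Spec (CommRingCat.of k))) ⟶ X) :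
    (G ◁ a.orbitMap x) ≫ a.act = μ[G] ≫ a.orbitMap x := by
  have e1 : (G ◁ a.orbitMap x) = lift (fst G G) (snd G G ≫ a.orbitMap x) := by
    apply CartesianMonoidalCategory.hom_ext <;> simp
  rw [e1, Groth.Agent.Helper18.KerAct.comp_orbit, Groth.Agent.Helper18.KerAct.comp_orbit]
  have e2 : snd G G ≫ toUnit G = toUnit (G ⊗ G) := toUnit_unique _ _
  rw [← act_mul]
  congr 2
  show (fst G G) * (snd G G) = μ[G]
  show lift (fst G G) (snd G G) ≫ μ[G] = μ[G]
  rw [lift_fst_snd, Category.id_comp]

/-- the action map is open on underlying spaces -/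
theorem isOpenMap_act {G X : Over (Spec (CommRingCat.of k))} [GrpObj G] (a : AlgGrp.Action G X) :
    IsOpenMap a.act.left.base := by
  rw [act_left a]
  haveI : UniversallyOpen (snd G X).left := by
    show UniversallyOpen (pullback.snd G.hom X.hom)
    infer_instance
  have h1 : IsOpenMap (snd G X).left.base := (snd G X).left.isOpenMap
  haveI : IsIso (shear a).hom.left :=
    inferInstanceAs (IsIso ((Over.forget _).map (shear a).hom))
  have h2 : IsOpenMap (shear a).hom.left.base := (shear a).hom.left.homeomorph.isOpenMap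
  exact h1.comp h2

theorem isOpenMap_snd (G X : Over (Spec (CommRingCat.of k))) :
    IsOpenMap (snd G X).left.base := by
  haveI : UniversallyOpen (snd G X).left := by
    show UniversallyOpen (pullback.snd G.hom X.hom)
    infer_instance
  exact (snd G X).left.isOpenMap

/-- invariance of the orbit: `snd z ∈ O → act z ∈ O` -/
theorem act_mem_of_snd_mem {G X : Over (Spec (CommRingCat.of k))} [GrpObj G]
    (a : AlgGrp.Action G X) (x : 𝟙_ (Over (Spec (CommRingCat.of k))) ⟶ X)
    (z : (G ⊗ X).left) (hz : (snd G X).left z ∈ Set.range (a.orbitMap x).left) :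
    a.act.left z ∈ Set.range (a.orbitMap x).left := by
  obtain ⟨g, hg⟩ := hz
  have hpb := (isPullback_snd G (a.orbitMap x)).map (Over.forget _)
  obtain ⟨w, hw1, hw2⟩ := Scheme.exists_preimage_of_isPullback hpb g z hg
  refine ⟨μ[G].left w, ?_⟩
  have e : ((G ◁ a.orbitMap x) ≫ a.act).left w = (μ[G] ≫ a.orbitMap x).left w := by
    rw [horbmul]
  have hw2' : (G ◁ a.orbitMap x).left w = z := hw2
  rw [← hw2']
  exact e.symm

/-- the twist `(g, x) ↦ (g⁻¹, g x)` -/
noncomputable def tw {G X : Over (Spec (CommRingCat.of k))} [GrpObj G] (a : AlgGrp.Action G X) :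
    G ⊗ X ⟶ G ⊗ X := lift ((fst G X)⁻¹) a.act

theorem tw_snd {G X : Over (Spec (CommRingCat.of k))} [GrpObj G] (a : AlgGrp.Action G X) :
    tw a ≫ snd G X = a.act := by simp [tw]

theorem tw_act {G X : Over (Spec (CommRingCat.of k))} [GrpObj G] (a : AlgGrp.Action G X) :
    tw a ≫ a.act = snd G X := by
  have e2 := act_mul a ((fst G X)⁻¹) (fst G X) (snd G X)
  rw [lift_fst_snd, Category.id_comp, inv_mul_cancel, act_one] at e2
  exact e2.symm

theorem act_mem_iff_snd_mem {G X : Over (Spec (CommRingCat.of k))} [GrpObj G]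
    (a : AlgGrp.Action G X) (x : 𝟙_ (Over (Spec (CommRingCat.of k))) ⟶ X)
    (z : (G ⊗ X).left) :
    a.act.left z ∈ Set.range (a.orbitMap x).left ↔
      (snd G X).left z ∈ Set.range (a.orbitMap x).left := by
  refine ⟨fun h => ?_, act_mem_of_snd_mem a x z⟩
  have h1 : (snd G X).left ((tw a).left z) = a.act.left z := by
    show (tw a ≫ snd G X).left z = _
    rw [tw_snd]
  have h2 : a.act.left ((tw a).left z) = (snd G X).left z := by
    show (tw a ≫ a.act).left z = _
    rw [tw_act]
  rw [← h2]
  apply act_mem_of_snd_mem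
  rw [h1]
  exact h

theorem main (k : Type u) [Field k]
    (G X : Over (Spec (CommRingCat.of k))) [GrpObj G] [LocallyOfFiniteType G.hom] [QuasiCompact G.hom]
    [LocallyOfFiniteType X.hom] [QuasiCompact X.hom] (a : AlgGrp.Action G X)
    (x : 𝟙_ (Over (Spec (CommRingCat.of k))) ⟶ X) :
    IsLocallyClosed (Set.range (a.orbitMap x).left.base) := by
  classical
  set orb := a.orbitMap x with horb
  have hOdef : Set.range orb.left.base = Set.range orb.left := rfl
  rw [hOdef]
  set O : Set X.left := Set.range orb.left with hO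
  -- Noetherian
  haveI : IsLocallyNoetherian X.left := LocallyOfFiniteType.isLocallyNoetherian X.hom
  haveI : CompactSpace X.left := QuasiCompact.compactSpace_of_compactSpace X.hom
  haveI : IsNoetherian X.left := {}
  haveI : TopologicalSpace.NoetherianSpace X.left := inferInstance
  -- constructible
  haveI : QuasiCompact orb.left := Groth.Agent.Helper18.GrpFppf.quasiCompact_left orb
  haveI : LocallyOfFiniteType orb.left := by
    haveI : LocallyOfFiniteType (orb.left ≫ X.hom) := by rw [Over.w]; infer_instance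
    exact locallyOfFiniteType_of_comp orb.left X.hom
  haveI : LocallyOfFinitePresentation orb.left := inferInstance
  have hOc : IsConstructible O := by
    rw [hO, ← Set.image_univ]
    exact orb.left.isConstructible_image IsConstructible.univ
  -- nonempty
  haveI : Nonempty (𝟙_ (Over (Spec (CommRingCat.of k)))).left :=
    inferInstanceAs (Nonempty (PrimeSpectrum k))
  have hOne : O.Nonempty := ⟨orb.left (η[G].left (Classical.arbitrary _)), ⟨_, rfl⟩⟩
  -- open maps
  have hsnd_open := isOpenMap_snd G X
  have hact_open := isOpenMap_act a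
  have hsnd_cont : Continuous (snd G X).left := (snd G X).left.continuous
  have hact_cont : Continuous a.act.left := a.act.left.continuous
  -- preimages agree
  have hpre : a.act.left ⁻¹' O = (snd G X).left ⁻¹' O := by
    ext z
    exact act_mem_iff_snd_mem a x z
  have hpre_cl : a.act.left ⁻¹' (closure O) = (snd G X).left ⁻¹' (closure O) := by
    rw [hact_open.preimage_closure_eq_closure_preimage hact_cont,
      hsnd_open.preimage_closure_eq_closure_preimage hsnd_cont, hpre]
  -- the open subset of the closure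
  let Y : Set X.left := closure O
  haveI : Nonempty Y := by
    obtain ⟨y, hy⟩ := hOne
    exact ⟨⟨y, subset_closure hy⟩⟩
  let E : Set Y := Subtype.val ⁻¹' O
  have hEc : IsConstructible E := by
    refine hOc.preimage continuous_subtype_val ?_
    intro s _ _ U _ _
    exact NoetherianSpace.isCompact _
  have hEd : Dense E := by
    rw [Subtype.dense_iff]
    have : Subtype.val '' E = O := by
      rw [Subtype.image_preimage_coe]
      exact Set.inter_eq_right.mpr subset_closure
    rw [this]
  obtain ⟨V, hVo, hVne, hVE⟩ :=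
    Groth.Agent.Helper18.MaxPtImage.exists_isOpen_subset_of_isConstructible_of_dense E hEc hEd
  obtain ⟨V', hV'o, rfl⟩ := isOpen_induced_iff.mp hVo
  have hV'sub : V' ∩ closure O ⊆ O := by
    rintro v ⟨hv1, hv2⟩
    exact hVE (show (⟨v, hv2⟩ : Y) ∈ Subtype.val ⁻¹' V' from hv1)
  obtain ⟨⟨v, hvY⟩, hvV'⟩ := hVne
  have hvV : v ∈ V' := hvV'
  have hvO : v ∈ O := hV'sub ⟨hvV, hvY⟩
  -- the map `(g₁, g₀) ↦ (g₁ g₀⁻¹, g₀ x)`
  let ρ : G ⊗ G ⟶ G ⊗ X := lift (fst G G * (snd G G)⁻¹) (snd G G ≫ orb)
  have hρact : ρ ≫ a.act = fst G G ≫ orb := by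
    show lift (fst G G * (snd G G)⁻¹) (snd G G ≫ orb) ≫ a.act = _
    rw [horb, Groth.Agent.Helper18.KerAct.comp_orbit, Groth.Agent.Helper18.KerAct.comp_orbit,
      ← act_mul]
    congr 2
    rw [_root_.mul_assoc, inv_mul_cancel, _root_.mul_one]
  have hρsnd : ρ ≫ snd G X = snd G G ≫ orb := lift_snd _ _
  have hA : IsOpen (a.act.left '' ((snd G X).left ⁻¹' V')) :=
    hact_open _ (hV'o.preimage hsnd_cont)
  have hOeq : O = (a.act.left '' ((snd G X).left ⁻¹' V')) ∩ closure O := by
    apply Set.Subset.antisymm
    · intro y hy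
      refine ⟨?_, subset_closure hy⟩
      obtain ⟨g₁, rfl⟩ := hy
      obtain ⟨g₀, hg₀⟩ := hvO
      haveI : Subsingleton (Spec (CommRingCat.of k)) :=
        inferInstanceAs (Subsingleton (PrimeSpectrum k))
      obtain ⟨w, hw1, hw2⟩ := Scheme.Pullback.exists_preimage_pullback (f := G.hom) (g := G.hom)
        g₁ g₀ (Subsingleton.elim _ _)
      have hw1' : (fst G G).left w = g₁ := hw1
      have hw2' : (snd G G).left w = g₀ := hw2
      refine ⟨ρ.left w, ?_, ?_⟩
      · show (snd G X).left (ρ.left w) ∈ V'
        have : (snd G X).left (ρ.left w) = orb.left ((snd G G).left w) := by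
          show (ρ ≫ snd G X).left w = (snd G G ≫ orb).left w
          rw [hρsnd]
        rw [this, hw2', hg₀]
        exact hvV
      · have : a.act.left (ρ.left w) = orb.left ((fst G G).left w) := by
          show (ρ ≫ a.act).left w = (fst G G ≫ orb).left w
          rw [hρact]
        rw [this, hw1']
    · rintro y ⟨⟨z, hz, rfl⟩, hy⟩
      have h1 : z ∈ a.act.left ⁻¹' (closure O) := hy
      rw [hpre_cl] at h1
      have h2 : (snd G X).left z ∈ O := hV'sub ⟨hz, h1⟩
      exact (act_mem_iff_snd_mem a x z).mpr h2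
  rw [hOeq]
  exact hA.isLocallyClosed.inter isClosed_closure.isLocallyClosed

end Groth.Agent.Helper18.OrbitLC
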