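import Mathlib

set_option autoImplicit false
universe u
open CategoryTheory AlgebraicGeometry Limits TopologicalSpace Topology

namespace Groth.Agent.Helper18.MaxPtImage2

/-- a quasi-compact scheme-theoretically dominant morphism hits all maximal points -/
theorem mem_range_of_maximal {X Y : Scheme.{u}} (f : X ⟶ Y) [QuasiCompact f]
    [IsSchemeTheoreticallyDominant f] (ξ : Y)
    (hξ : ∀ y : Y, y ⤳ ξ → y = ξ) : ξ ∈ Set.range f := by
  classical
  obtain ⟨_, ⟨U, hU, rfl⟩, hξU, -⟩ :=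
    Y.isBasis_affineOpens.exists_subset_of_mem_open (Set.mem_univ ξ) isOpen_univ
  have hc : IsCompact (X := X) (f ⁻¹ᵁ U) := f.isCompact_preimage hU.isCompact
  obtain ⟨I, hI, hIU⟩ := isCompact_iff_finite_and_eq_biUnion_affineOpens.mp hc
  have hle : ∀ V ∈ I, (V : X.Opens) ≤ f ⁻¹ᵁ U := by
    intro V hV
    rw [hIU]
    exact le_iSup₂ (f := fun (i : X.affineOpens) (_ : i ∈ I) => (i : X.Opens)) V hV
  haveI := hU.isOpenImmersion_fromSpec
  -- the prime of ξ
  let p : PrimeSpectrum Γ(Y, U) := hU.primeIdealOf ⟨ξ, hξU⟩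
  have hp : hU.fromSpec p = ξ := hU.fromSpec_primeIdealOf ⟨ξ, hξU⟩
  have hpmin : ∀ q : PrimeSpectrum Γ(Y, U), q ≤ p → q = p := by
    intro q hq
    have h1 : q ⤳ p := (PrimeSpectrum.le_iff_specializes q p).mp hq
    have h2 : hU.fromSpec q ⤳ hU.fromSpec p := h1.map hU.fromSpec.continuous
    rw [hp] at h2
    have h3 := hξ _ h2
    rw [← hp] at h3
    exact hU.fromSpec.isOpenEmbedding.injective h3
  -- the kernels
  let J : X.affineOpens → Ideal Γ(Y, U) := fun V =>
    if h : V ∈ I then RingHom.ker (f.appLE U V (hle V h)).hom else ⊤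
  have hinf : hI.toFinset.inf J ≤ p.asIdeal := by
    intro r hr
    have hr' : ∀ V (hV : V ∈ I), (f.appLE U V (hle V hV)).hom r = 0 := by
      intro V hV
      have := (Finset.inf_le (f := J) (hI.mem_toFinset.mpr hV)) hr
      simp only [J, hV, dif_pos] at this
      exact this
    have h0 : (f.app U).hom r = 0 := by
      refine X.IsSheaf.section_ext fun x hx => ?_
      have hx' : x ∈ (f ⁻¹ᵁ U : X.Opens) := hx
      rw [hIU] at hx'
      simp only [Opens.mem_iSup] at hx'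
      obtain ⟨V, hV, hxV⟩ := hx'
      refine ⟨V, hle V hV, hxV, ?_⟩
      rw [map_zero]
      have := hr' V hV
      rw [Scheme.Hom.appLE] at this
      exact this
    have : r = 0 := f.app_injective U (by rw [h0, map_zero])
    rw [this]
    exact Ideal.zero_mem _
  obtain ⟨V, hVI, hVp⟩ := (Ideal.IsPrime.inf_le' p.2).mp hinf
  have hVI' : V ∈ I := hI.mem_toFinset.mp hVI
  simp only [J, hVI', dif_pos] at hVp
  -- p is minimal over the kernel
  have hmin : p.asIdeal ∈ ((⊥ : Ideal Γ(X, V)).comap (f.appLE U V (hle V hVI')).hom).minimalPrimes := by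
    refine ⟨⟨p.2, hVp⟩, ?_⟩
    rintro q ⟨hq, -⟩ hqp
    have := hpmin ⟨q, hq⟩ hqp
    rw [← this]
  obtain ⟨p', hp', -, hcomap⟩ := Ideal.exists_comap_eq_of_mem_minimalPrimes _ _ hmin
  refine ⟨V.2.fromSpec ⟨p', hp'⟩, ?_⟩
  have hnat := IsAffineOpen.SpecMap_appLE_fromSpec f hU V.2 (hle V hVI')
  have h1 : f (V.2.fromSpec ⟨p', hp'⟩) = (V.2.fromSpec ≫ f) ⟨p', hp'⟩ := rfl
  rw [h1, ← hnat, ← hp]
  show hU.fromSpec (Spec.map (f.appLE U V (hle V hVI')) ⟨p', hp'⟩) = hU.fromSpec p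
  congr 1
  exact PrimeSpectrum.ext hcomap

end Groth.Agent.Helper18.MaxPtImage2
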