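import Mathlib
import Groth.Agent.Lib.Helper18.RedLift

set_option autoImplicit false
universe u
open CategoryTheory AlgebraicGeometry Limits

namespace Groth.Agent.Helper18.ArtUnivOpen

/-- a surjective closed immersion is universally open -/
theorem universallyOpen_of_isClosedImmersion_of_surjective {X Y : Scheme.{u}} (f : X ⟶ Y)
    [IsClosedImmersion f] [Surjective f] : UniversallyOpen f := by
  refine ⟨fun X' Y' i₁ i₂ f' hpb => ?_⟩
  haveI : IsClosedImmersion f' :=
    MorphismProperty.of_isPullback (P := @IsClosedImmersion) hpb.flip inferInstance
  haveI : Surjective f' :=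
    MorphismProperty.of_isPullback (P := @Surjective) hpb.flip inferInstance
  have hc : Topology.IsClosedEmbedding f' := f'.isClosedEmbedding
  exact (hc.isEmbedding.toHomeomorphOfSurjective f'.surjective).isOpenMap

variable (A : Type u) [CommRing A] [IsArtinianRing A] [IsLocalRing A]

theorem subsingleton_Spec : Subsingleton (Spec (CommRingCat.of A)) := by
  show Subsingleton (PrimeSpectrum A)
  exact Ring.KrullDimLE.subsingleton_primeSpectrum A

/-- every morphism from a reduced scheme to the spectrum of an artinian local ring is
universally open -/
theorem universallyOpen_of_isReduced {Y : Scheme.{u}} [IsReduced Y]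
    (h : Y ⟶ Spec (CommRingCat.of A)) : UniversallyOpen h := by
  haveI := subsingleton_Spec A
  let ι : Spec (CommRingCat.of (IsLocalRing.ResidueField A)) ⟶ Spec (CommRingCat.of A) :=
    Spec.map (CommRingCat.ofHom (IsLocalRing.residue A))
  haveI : IsClosedImmersion ι :=
    IsClosedImmersion.spec_of_surjective _ (IsLocalRing.residue_surjective)
  haveI : Nonempty (Spec (CommRingCat.of (IsLocalRing.ResidueField A))) :=
    inferInstanceAs (Nonempty (PrimeSpectrum (IsLocalRing.ResidueField A)))
  haveI : Surjective ι := inferInstance
  haveI : UniversallyOpen ι := universallyOpen_of_isClosedImmersion_of_surjective ι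
  obtain ⟨h', hh'⟩ := Groth.Agent.Helper18.RedLift.exists_lift_of_isReduced ι h (by
    intro x _
    exact ι.surjective x)
  haveI : IsIntegral (Spec (CommRingCat.of (IsLocalRing.ResidueField A))) := inferInstance
  haveI : Subsingleton (Spec (CommRingCat.of (IsLocalRing.ResidueField A))) :=
    inferInstanceAs (Subsingleton (PrimeSpectrum (IsLocalRing.ResidueField A)))
  haveI : UniversallyOpen h' := inferInstance
  rw [← hh']
  infer_instance

end Groth.Agent.Helper18.ArtUnivOpen
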