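import Mathlib
import Groth.Prelude
import Groth.Agent.Lib.Helper18.ArtUnivOpen

set_option autoImplicit false
universe u
open CategoryTheory MonoidalCategory CartesianMonoidalCategory MonObj GrpObj AlgebraicGeometry Limits

namespace Groth.Agent.Helper18.DenseMul

variable {S : Scheme.{u}}

/-- the twisting automorphism `(x, t) ↦ (x⁻¹ θ(t), t)` -/
noncomputable def twist {G W : Over S} [GrpObj G] (θ : W ⟶ G) : G ⊗ W ≅ G ⊗ W where
  hom := lift ((fst G W)⁻¹ * (snd G W ≫ θ)) (snd G W)
  inv := lift ((snd G W ≫ θ) * (fst G W)⁻¹) (snd G W)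
  hom_inv_id := by
    apply CartesianMonoidalCategory.hom_ext
    · rw [Category.assoc, lift_fst, MonObj.comp_mul, GrpObj.comp_inv, ← Category.assoc, lift_snd,
        lift_fst, Category.id_comp]
      group
    · rw [Category.assoc, lift_snd, lift_snd, Category.id_comp]
  inv_hom_id := by
    apply CartesianMonoidalCategory.hom_ext
    · rw [Category.assoc, lift_fst, MonObj.comp_mul, GrpObj.comp_inv, ← Category.assoc, lift_snd,
        lift_fst, Category.id_comp]
      group
    · rw [Category.assoc, lift_snd, lift_snd, Category.id_comp]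

/-- general form: a point `g` such that the residue field point has universally open surjective
structure morphism -/
theorem exists_mul_of_dense {G : Over S} [GrpObj G] (U V : G.left.Opens)
    (hU : Dense (U : Set G.left)) (hV : Dense (V : Set G.left)) (g : G.left)
    (hopen : UniversallyOpen (G.left.fromSpecResidueField g ≫ G.hom))
    (hsurj : Surjective (G.left.fromSpecResidueField g ≫ G.hom)) :
    ∃ z : ↥(G ⊗ G).left, (fst G G).left.base z ∈ U ∧ (snd G G).left.base z ∈ V ∧
      μ[G].left.base z = g := by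
  let W : Over S := Over.mk (G.left.fromSpecResidueField g ≫ G.hom)
  let θ : W ⟶ G := Over.homMk (G.left.fromSpecResidueField g) rfl
  have hθ : ∀ p : W.left, θ.left p = g := fun p => Scheme.fromSpecResidueField_apply _ p
  haveI : UniversallyOpen W.hom := hopen
  haveI : Surjective W.hom := hsurj
  haveI : UniversallyOpen (fst G W).left := by
    show UniversallyOpen (pullback.fst G.hom W.hom)
    infer_instance
  haveI : Surjective (fst G W).left := by
    show Surjective (pullback.fst G.hom W.hom)
    infer_instance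
  have hpro : IsOpenMap (fst G W).left := (fst G W).left.isOpenMap
  let τ := twist θ
  haveI : IsIso τ.hom.left := inferInstanceAs (IsIso ((Over.forget _).map τ.hom))
  let U' : (G ⊗ W).left.Opens := (fst G W).left ⁻¹ᵁ U
  let V' : (G ⊗ W).left.Opens := τ.hom.left ⁻¹ᵁ ((fst G W).left ⁻¹ᵁ V)
  have hU' : Dense (U' : Set (G ⊗ W).left) := hU.preimage hpro
  have hV'' : Dense (((fst G W).left ⁻¹ᵁ V : (G ⊗ W).left.Opens) : Set (G ⊗ W).left) :=
    hV.preimage hpro
  have hV' : Dense (V' : Set (G ⊗ W).left) := by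
    have : (V' : Set (G ⊗ W).left) = τ.hom.left.homeomorph ⁻¹'
        (((fst G W).left ⁻¹ᵁ V : (G ⊗ W).left.Opens) : Set (G ⊗ W).left) := rfl
    rw [this]
    exact hV''.preimage τ.hom.left.homeomorph.isOpenMap
  have hne : Nonempty (G ⊗ W).left := by
    obtain ⟨w, -⟩ := (fst G W).left.surjective g
    exact ⟨w⟩
  have hUV : Dense ((U' ⊓ V' : (G ⊗ W).left.Opens) : Set (G ⊗ W).left) :=
    hU'.inter_of_isOpen_left hV' U'.2
  obtain ⟨w, hwU, hwV⟩ := hUV.nonempty
  let ψ : G ⊗ W ⟶ G ⊗ G := lift (fst G W) (τ.hom ≫ fst G W)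
  refine ⟨ψ.left w, ?_, ?_, ?_⟩
  · show (ψ ≫ fst G G).left w ∈ U
    rw [lift_fst]
    exact hwU
  · show (ψ ≫ snd G G).left w ∈ V
    rw [lift_snd]
    exact hwV
  · show (ψ ≫ μ[G]).left w = g
    have e : ψ ≫ μ[G] = snd G W ≫ θ := by
      show (fst G W) * (τ.hom ≫ fst G W) = _
      show (fst G W) * (lift ((fst G W)⁻¹ * (snd G W ≫ θ)) (snd G W) ≫ fst G W) = _
      rw [lift_fst, mul_inv_cancel_left]
    rw [e]
    exact hθ _

theorem main (A : Type u) [CommRing A] [IsArtinianRing A] [IsLocalRing A]
    (G : Over (Spec (CommRingCat.of A))) [GrpObj G] (U V : G.left.Opens)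
    (hU : Dense (U : Set G.left)) (hV : Dense (V : Set G.left)) (g : G.left) :
    ∃ z : ↥(G ⊗ G).left, (fst G G).left.base z ∈ U ∧ (snd G G).left.base z ∈ V ∧
      μ[G].left.base z = g := by
  haveI := Groth.Agent.Helper18.ArtUnivOpen.subsingleton_Spec A
  haveI : IsReduced (Spec (G.left.residueField g)) := inferInstance
  refine exists_mul_of_dense U V hU hV g
    (Groth.Agent.Helper18.ArtUnivOpen.universallyOpen_of_isReduced A _) ?_
  haveI : Nonempty (Spec (G.left.residueField g)) :=
    inferInstanceAs (Nonempty (PrimeSpectrum (G.left.residueField g)))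
  infer_instance

end Groth.Agent.Helper18.DenseMul
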