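import Mathlib
import Groth.Prelude
import Groth.Agent.Lib.Helper18.DenseMul
import Groth.Agent.Lib.Helper18.GeomRedGen

set_option autoImplicit false
universe u
open CategoryTheory MonoidalCategory CartesianMonoidalCategory MonObj GrpObj AlgebraicGeometry Limits

namespace Groth.Agent.Helper18.MaxMul

variable {S : Scheme.{u}}

theorem exists_maximal {α : Type*} [TopologicalSpace α] [QuasiSober α] [T0Space α] [Nonempty α] :
    ∃ ξ : α, ∀ y : α, y ⤳ ξ → y = ξ := by
  obtain ⟨w₀⟩ := ‹Nonempty α›
  have hZ : IsIrreducible (irreducibleComponent w₀) := isIrreducible_irreducibleComponent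
  have hcl : IsClosed (irreducibleComponent w₀) := isClosed_irreducibleComponent
  have hξ := hZ.isGenericPoint_genericPoint hcl
  refine ⟨hZ.genericPoint, ?_⟩
  intro y hy
  have hmax := irreducibleComponent_mem_irreducibleComponents w₀
  have h1 : irreducibleComponent w₀ ⊆ closure {y} := by
    rw [← hξ.def]
    exact closure_minimal (Set.singleton_subset_iff.mpr hy.mem_closure) isClosed_closure
  have h2 : closure {y} ⊆ irreducibleComponent w₀ :=
    hmax.2 (isIrreducible_singleton.closure) h1
  have h3 : y ∈ closure {hZ.genericPoint} := by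
    rw [hξ.def]
    exact h2 (subset_closure rfl)
  exact ((specializes_iff_mem_closure.mpr h3).antisymm hy).symm.eq

theorem exists_mul_of_maximal {G : Over S} [GrpObj G] (x : G.left)
    (hflat : Flat (G.left.fromSpecResidueField x ≫ G.hom))
    (hsurj : Surjective (G.left.fromSpecResidueField x ≫ G.hom)) :
    ∃ z : ↥(G ⊗ G).left, μ[G].left.base z = x ∧
      closure {(fst G G).left.base z} ∈ irreducibleComponents ↥G.left ∧
      closure {(snd G G).left.base z} ∈ irreducibleComponents ↥G.left := by
  let W : Over S := Over.mk (G.left.fromSpecResidueField x ≫ G.hom)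
  let θ : W ⟶ G := Over.homMk (G.left.fromSpecResidueField x) rfl
  have hθ : ∀ p : W.left, θ.left p = x := fun p => Scheme.fromSpecResidueField_apply _ p
  haveI : Flat W.hom := hflat
  haveI : Surjective W.hom := hsurj
  haveI : Flat (fst G W).left := by
    show Flat (pullback.fst G.hom W.hom)
    infer_instance
  haveI : Surjective (fst G W).left := by
    show Surjective (pullback.fst G.hom W.hom)
    infer_instance
  have hgen : GeneralizingMap (fst G W).left := Flat.generalizingMap _
  let τ := Groth.Agent.Helper18.DenseMul.twist θ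
  haveI : IsIso τ.hom.left := inferInstanceAs (IsIso ((Over.forget _).map τ.hom))
  haveI : Nonempty (G ⊗ W).left := by
    obtain ⟨w, -⟩ := (fst G W).left.surjective x
    exact ⟨w⟩
  obtain ⟨ξ, hξ⟩ := exists_maximal (α := (G ⊗ W).left)
  -- maximal points map to maximal points
  have hmaxpr : ∀ w : (G ⊗ W).left, (∀ y, y ⤳ w → y = w) →
      closure {(fst G W).left w} ∈ irreducibleComponents ↥G.left := by
    intro w hw
    apply Groth.Agent.Helper18.GeomRedGen.closure_mem_irreducibleComponents
    intro y hy
    obtain ⟨w', hw', rfl⟩ := hgen hy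
    rw [hw w' hw']
  have hτξ : ∀ y, y ⤳ τ.hom.left ξ → y = τ.hom.left ξ := by
    intro y hy
    have h1 : τ.hom.left.homeomorph.symm y ⤳ τ.hom.left.homeomorph.symm (τ.hom.left ξ) :=
      hy.map τ.hom.left.homeomorph.symm.continuous
    have h2 : τ.hom.left.homeomorph.symm (τ.hom.left ξ) = ξ :=
      τ.hom.left.homeomorph.symm_apply_apply ξ
    rw [h2] at h1
    have h3 := hξ _ h1
    have h4 := congrArg τ.hom.left.homeomorph h3
    rwa [Homeomorph.apply_symm_apply] at h4
  let ψ : G ⊗ W ⟶ G ⊗ G := lift (fst G W) (τ.hom ≫ fst G W)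
  refine ⟨ψ.left ξ, ?_, ?_, ?_⟩
  · show (ψ ≫ μ[G]).left ξ = x
    have e : ψ ≫ μ[G] = snd G W ≫ θ := by
      show (fst G W) * (τ.hom ≫ fst G W) = _
      show (fst G W) * (lift ((fst G W)⁻¹ * (snd G W ≫ θ)) (snd G W) ≫ fst G W) = _
      rw [lift_fst, mul_inv_cancel_left]
    rw [e]
    exact hθ _
  · show closure {(ψ ≫ fst G G).left ξ} ∈ _
    rw [lift_fst]
    exact hmaxpr ξ hξ
  · show closure {(ψ ≫ snd G G).left ξ} ∈ _
    rw [lift_snd]
    exact hmaxpr _ hτξ

end Groth.Agent.Helper18.MaxMul
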