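import Mathlib

set_option autoImplicit false
universe u
open CategoryTheory MonoidalCategory CartesianMonoidalCategory MonObj GrpObj

namespace Groth.Agent.Helper18.SubGrpObj

variable {C : Type*} [Category C] [CartesianMonoidalCategory C]

/-- a monomorphism into a group object whose source carries compatible unit, multiplication and
inverse morphisms makes the source a group object and the monomorphism a homomorphism -/
@[instance_reducible] noncomputable def grpObjOfMono {G H : C} [GrpObj G] (i : H ⟶ G) [Mono i]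
    (e : 𝟙_ C ⟶ H) (he : e ≫ i = η[G])
    (m : H ⊗ H ⟶ H) (hm : m ≫ i = (i ⊗ₘ i) ≫ μ[G])
    (j : H ⟶ H) (hj : j ≫ i = i ≫ ι[G]) : GrpObj H :=
  have hm' : m ≫ i = (fst H H ≫ i) * (snd H H ≫ i) := by
    rw [hm]
    show _ = lift (fst H H ≫ i) (snd H H ≫ i) ≫ μ[G]
    congr 1
    apply CartesianMonoidalCategory.hom_ext <;> simp
  have key : ∀ {W : C} (φ : W ⟶ H ⊗ H), φ ≫ m ≫ i = (φ ≫ fst H H ≫ i) * (φ ≫ snd H H ≫ i) := by
    intro W φ
    rw [hm', MonObj.comp_mul]
  { one := e
    mul := m
    one_mul := by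
      rw [← cancel_mono i, Category.assoc, key, ← Category.assoc, whiskerRight_fst,
        ← Category.assoc (e ▷ H), whiskerRight_snd, Category.assoc, he, leftUnitor_hom]
      show (fst _ H ≫ η[G]) * _ = _
      rw [← toUnit_unique (toUnit _) (fst (𝟙_ _) H)]
      show (1 : _ ⟶ G) * _ = _
      rw [_root_.one_mul]
    mul_one := by
      rw [← cancel_mono i, Category.assoc, key, ← Category.assoc, whiskerLeft_fst,
        ← Category.assoc (H ◁ e), whiskerLeft_snd, Category.assoc, he, rightUnitor_hom]
      show _ * (snd H _ ≫ η[G]) = _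
      rw [← toUnit_unique (toUnit _) (snd H (𝟙_ _))]
      show _ * (1 : _ ⟶ G) = _
      rw [_root_.mul_one]
    mul_assoc := by
      rw [← cancel_mono i, Category.assoc, key, Category.assoc, Category.assoc,
        ← Category.assoc (α_ H H H).hom, key]
      simp only [Category.assoc, whiskerRight_fst_assoc, whiskerRight_snd_assoc,
        whiskerLeft_fst_assoc, whiskerLeft_snd_assoc]
      rw [key, hm']
      simp only [MonObj.comp_mul, Category.assoc, associator_hom_fst_assoc,
        associator_hom_snd_fst_assoc, associator_hom_snd_snd_assoc, associator_hom_fst,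
        associator_hom_snd_fst, associator_hom_snd_snd]
      rw [_root_.mul_assoc]
    inv := j
    left_inv := by
      rw [← cancel_mono i, Category.assoc, key, lift_fst_assoc, lift_snd_assoc, hj,
        Category.id_comp, Category.assoc, he]
      show i⁻¹ * i = 1
      rw [inv_mul_cancel]
    right_inv := by
      rw [← cancel_mono i, Category.assoc, key, lift_fst_assoc, lift_snd_assoc, hj,
        Category.id_comp, Category.assoc, he]
      show i * i⁻¹ = 1
      rw [mul_inv_cancel] }

theorem exists_grpObj_of_mono {G H : C} [GrpObj G] (i : H ⟶ G) [Mono i]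
    (h1 : ∃ e : 𝟙_ C ⟶ H, e ≫ i = η[G])
    (h2 : ∃ m : H ⊗ H ⟶ H, m ≫ i = (i ⊗ₘ i) ≫ μ[G])
    (h3 : ∃ j : H ⟶ H, j ≫ i = i ≫ ι[G]) :
    ∃ (_ : GrpObj H), IsMonHom i := by
  obtain ⟨e, he⟩ := h1
  obtain ⟨m, hm⟩ := h2
  obtain ⟨j, hj⟩ := h3
  letI inst : GrpObj H := grpObjOfMono i e he m hm j hj
  exact ⟨inst, ⟨he, hm⟩⟩

end Groth.Agent.Helper18.SubGrpObj
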