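import Mathlib
import Groth.Prelude
import Groth.Agent.Lib.Helper18.MaxPtImage
import Groth.Agent.Lib.Helper18.MaxMul
import Groth.Agent.Lib.Helper18.SubGrpObj
import Groth.Agent.Lib.Helper18.FlatEpi

set_option autoImplicit false
universe u
open CategoryTheory MonoidalCategory CartesianMonoidalCategory MonObj GrpObj AlgebraicGeometry Limits
open Groth.Agent.Helper28.AlgGrpShear

namespace Groth.Agent.Helper18.SchImgGrp

variable {S : Scheme.{u}}

/-- a morphism factors through a closed immersion as soon as its precomposition with a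
scheme-theoretically dominant morphism does -/
theorem exists_factor_of_schDominant {A B Z C : Over S} (h : A ⟶ B)
    [IsSchemeTheoreticallyDominant h.left] (j : Z ⟶ C) [IsClosedImmersion j.left] (φ : B ⟶ C)
    (h' : A ⟶ Z) (hh : h' ≫ j = h ≫ φ) : ∃ φ' : B ⟶ Z, φ' ≫ j = φ := by
  let c : pullback φ.left j.left ⟶ B.left := pullback.fst φ.left j.left
  have hw : h.left ≫ φ.left = h'.left ≫ j.left := by
    rw [← Over.comp_left, ← Over.comp_left, hh]
  let l : A.left ⟶ pullback φ.left j.left := pullback.lift h.left h'.left hw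
  have hl : l ≫ c = h.left := pullback.lift_fst _ _ _
  haveI : IsClosedImmersion c := inferInstance
  have hker : c.ker = ⊥ := by
    have h1 := Scheme.Hom.le_ker_comp l c
    rw [hl, h.left.ker_eq_bot] at h1
    exact le_bot_iff.mp h1
  haveI : IsIso c := IsClosedImmersion.isIso_iff_ker_eq_bot.mpr hker
  have hfac : (inv c ≫ pullback.snd φ.left j.left) ≫ j.left = φ.left := by
    rw [Category.assoc, ← pullback.condition, ← Category.assoc, IsIso.inv_hom_id, Category.id_comp]
  refine ⟨Over.homMk (inv c ≫ pullback.snd φ.left j.left) ?_, ?_⟩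
  · rw [← Over.w j, ← Category.assoc, hfac, Over.w φ]
  · ext
    exact hfac

theorem main (k : Type u) [Field k]
    (H G K : Over (Spec (CommRingCat.of k))) [GrpObj H] [GrpObj G]
    [LocallyOfFiniteType H.hom] [LocallyOfFiniteType G.hom]
    (f : H ⟶ G) [IsMonHom f] [QuasiCompact f.left]
    (i : K ⟶ G) [IsClosedImmersion i.left] (g : H ⟶ K) (hgi : g ≫ i = f)
    [IsSchemeTheoreticallyDominant g.left] :
    ((∃ e : 𝟙_ (Over (Spec (CommRingCat.of k))) ⟶ K, e ≫ i = η[G]) ∧
      ∀ (T : Over (Spec (CommRingCat.of k))) (k₁ k₂ : T ⟶ K),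
        ∃ k₃ : T ⟶ K, k₃ ≫ i = (k₁ ≫ i)⁻¹ * (k₂ ≫ i)) ∧
    Surjective g.left := by
  haveI : Mono i.left := inferInstance
  haveI : Mono i := Over.mono_of_mono_left _
  haveI : QuasiCompact (g.left ≫ i.left) := by
    rw [← Over.comp_left, hgi]; infer_instance
  haveI : QuasiCompact g.left := QuasiCompact.of_comp g.left i.left
  haveI : Flat H.hom := inferInstance
  haveI : Flat K.hom := inferInstance
  haveI : Flat (fst K H).left := by
    show Flat (pullback.fst K.hom H.hom); infer_instance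
  haveI : Flat (snd K K).left := by
    show Flat (pullback.snd K.hom K.hom); infer_instance
  haveI : IsSchemeTheoreticallyDominant (g ▷ H).left :=
    IsSchemeTheoreticallyDominant.of_isPullback
      (Groth.Agent.Helper18.GrpFppf.isPullback_left (isPullback_fst g H))
  haveI : IsSchemeTheoreticallyDominant (K ◁ g).left :=
    IsSchemeTheoreticallyDominant.of_isPullback
      (Groth.Agent.Helper18.GrpFppf.isPullback_left (isPullback_snd K g))
  haveI : IsSchemeTheoreticallyDominant (g ⊗ₘ g).left := by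
    rw [MonoidalCategory.tensorHom_def, Over.comp_left]
    infer_instance
  -- the unit
  have h1 : ∃ e : 𝟙_ (Over (Spec (CommRingCat.of k))) ⟶ K, e ≫ i = η[G] :=
    ⟨η[H] ≫ g, by rw [Category.assoc, hgi, IsMonHom.one_hom]⟩
  obtain ⟨e, he⟩ := h1
  -- the division morphism
  obtain ⟨δ', hδ'⟩ := exists_factor_of_schDominant (g ⊗ₘ g) i
    ((fst K K ≫ i)⁻¹ * (snd K K ≫ i)) (((fst H H)⁻¹ * (snd H H)) ≫ g) (by
      rw [Category.assoc, hgi, MonObj.mul_comp, GrpObj.inv_comp, MonObj.comp_mul, GrpObj.comp_inv,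
        ← Category.assoc, tensorHom_fst, ← Category.assoc (g ⊗ₘ g), tensorHom_snd,
        Category.assoc, Category.assoc, hgi])
  have hdiv : ∀ (T : Over (Spec (CommRingCat.of k))) (k₁ k₂ : T ⟶ K),
      (lift k₁ k₂ ≫ δ') ≫ i = (k₁ ≫ i)⁻¹ * (k₂ ≫ i) := by
    intro T k₁ k₂
    rw [Category.assoc, hδ', MonObj.comp_mul, GrpObj.comp_inv, lift_fst_assoc, lift_snd_assoc]
  refine ⟨⟨⟨e, he⟩, fun T k₁ k₂ => ⟨lift k₁ k₂ ≫ δ', hdiv T k₁ k₂⟩⟩, ?_⟩
  -- group structure on K
  let jK : K ⟶ K := lift (𝟙 K) (toUnit K ≫ e) ≫ δ'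
  have hjK : jK ≫ i = i ≫ ι[G] := by
    rw [hdiv, Category.id_comp, Category.assoc, he]
    show i⁻¹ * (1 : K ⟶ G) = i⁻¹
    rw [_root_.mul_one]
  let mK : K ⊗ K ⟶ K := lift (fst K K ≫ jK) (snd K K) ≫ δ'
  have hmK : mK ≫ i = (i ⊗ₘ i) ≫ μ[G] := by
    rw [hdiv, Category.assoc, hjK]
    show ((fst K K ≫ i)⁻¹)⁻¹ * (snd K K ≫ i) = lift (fst K K ≫ i) (snd K K ≫ i) ≫ μ[G]
    rw [_root_.inv_inv]
    rfl
  letI instK : GrpObj K := Groth.Agent.Helper18.SubGrpObj.grpObjOfMono i e he mK hmK jK hjK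
  have hgmul : (g ⊗ₘ g) ≫ μ[K] = μ[H] ≫ g := by
    rw [← cancel_mono i, Category.assoc, Category.assoc, hgi]
    show (g ⊗ₘ g) ≫ mK ≫ i = _
    rw [hmK, ← Category.assoc, tensorHom_comp_tensorHom, hgi, IsMonHom.mul_hom]
  -- surjectivity
  haveI : LocallyOfFiniteType K.hom := by
    rw [← Over.w i]; infer_instance
  haveI : IsLocallyNoetherian K.left := LocallyOfFiniteType.isLocallyNoetherian K.hom
  haveI : LocallyOfFiniteType g.left := by
    haveI : LocallyOfFiniteType (g.left ≫ K.hom) := by rw [Over.w]; infer_instance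
    exact locallyOfFiniteType_of_comp g.left K.hom
  haveI : LocallyOfFinitePresentation g.left := inferInstance
  haveI : IsDominant g.left := inferInstance
  constructor
  intro x
  haveI : Nonempty (Spec (K.left.residueField x)) :=
    inferInstanceAs (Nonempty (PrimeSpectrum (K.left.residueField x)))
  haveI : Subsingleton (Spec (CommRingCat.of k)) :=
    inferInstanceAs (Subsingleton (PrimeSpectrum k))
  obtain ⟨z, hz, hz1, hz2⟩ :=
    Groth.Agent.Helper18.MaxMul.exists_mul_of_maximal (G := K) x inferInstance inferInstance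
  have hmaxl : ∀ p : K.left, closure {p} ∈ irreducibleComponents ↥K.left →
      ∀ y : K.left, y ⤳ p → y = p := by
    intro p hp y hy
    have h1 : closure {p} ⊆ closure {y} :=
      closure_minimal (Set.singleton_subset_iff.mpr hy.mem_closure) isClosed_closure
    have h2 : closure {y} ⊆ closure {p} := hp.2 isIrreducible_singleton.closure h1
    have h3 : p ⤳ y := specializes_iff_mem_closure.mpr (h2 (subset_closure rfl))
    exact (h3.antisymm hy).symm.eq
  obtain ⟨a₁, ha₁⟩ := Groth.Agent.Helper18.MaxPtImage.mem_range_of_maximal g.left _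
    (hmaxl _ hz1)
  obtain ⟨a₂, ha₂⟩ := Groth.Agent.Helper18.MaxPtImage.mem_range_of_maximal g.left _
    (hmaxl _ hz2)
  obtain ⟨z', hz'1, hz'2⟩ := Scheme.exists_preimage_of_isPullback
    (Groth.Agent.Helper18.GrpFppf.isPullback_left (isPullback_snd K g)) a₂ z ha₂
  have hz'3 : (fst K H).left z' = g.left a₁ := by
    have : (fst K H) = (K ◁ g) ≫ fst K K := by simp
    rw [this, ha₁]
    show (fst K K).left ((K ◁ g).left z') = _
    rw [hz'2]
  obtain ⟨z'', hz''1, hz''2⟩ := Scheme.exists_preimage_of_isPullback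
    (Groth.Agent.Helper18.GrpFppf.isPullback_left (isPullback_fst g H)) a₁ z' hz'3.symm
  refine ⟨μ[H].left z'', ?_⟩
  show (μ[H] ≫ g).left z'' = x
  rw [← hgmul, MonoidalCategory.tensorHom_def]
  show μ[K].left ((K ◁ g).left ((g ▷ H).left z'')) = x
  rw [hz''2, hz'2]
  exact hz

end Groth.Agent.Helper18.SchImgGrp
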