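import Mathlib
import Groth.Prelude
import Groth.Agent.Lib.Helper18.SchImgGrp2
import Groth.Agent.Lib.Helper18.KerToImage

set_option autoImplicit false
universe u
open CategoryTheory MonoidalCategory CartesianMonoidalCategory MonObj GrpObj AlgebraicGeometry Limits

namespace Groth.Agent.Helper18.SchImgGrp

theorem main3 (k : Type u) [Field k] (H G : Over (Spec (CommRingCat.of k))) [GrpObj H] [GrpObj G]
    (f : H ⟶ G) [IsMonHom f] [QuasiCompact f.left] :
    ∃ (H' : Over (Spec (CommRingCat.of k))) (_ : GrpObj H') (i : H' ⟶ G) (f' : H ⟶ H'),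
      IsMonHom i ∧ IsMonHom f' ∧ f' ≫ i = f ∧ IsClosedImmersion i.left ∧
      f'.left.ker = ⊥ ∧ QuasiCompact f'.left ∧ Surjective f'.left := by
  let K : Over (Spec (CommRingCat.of k)) := Over.mk (f.left.imageι ≫ G.hom)
  let i : K ⟶ G := Over.homMk f.left.imageι rfl
  let g : H ⟶ K := Over.homMk f.left.toImage (by
    show f.left.toImage ≫ f.left.imageι ≫ G.hom = H.hom
    rw [← Category.assoc, Scheme.Hom.toImage_imageι, Over.w f])
  have hgi : g ≫ i = f := by
    ext
    exact Scheme.Hom.toImage_imageι f.left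
  haveI : IsClosedImmersion i.left := inferInstanceAs (IsClosedImmersion f.left.imageι)
  haveI : IsSchemeTheoreticallyDominant g.left :=
    inferInstanceAs (IsSchemeTheoreticallyDominant f.left.toImage)
  obtain ⟨inst, h1, h2, h3, h4⟩ := main2 k H G K f i g hgi
  exact ⟨K, inst, i, g, h1, h2, hgi, inferInstance,
    Groth.Agent.Helper18.KerToImage.ker_toImage f.left, h3, h4⟩

end Groth.Agent.Helper18.SchImgGrp
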