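import Mathlib
import Groth.Agent.Lib.Helper18.GrpSchOm

set_option autoImplicit false
set_option linter.style.haveILetI false
set_option linter.unusedSectionVars false
set_option maxRecDepth 8000
universe u v
open CategoryTheory CategoryTheory.Limits AlgebraicGeometry MonoidalCategory CartesianMonoidalCategory
  MonObj GrpObj

namespace Groth.Agent.Helper18.GrpSchOm

section Cat

variable {C : Type u} [Category.{v} C] [CartesianMonoidalCategory C] (G : C) [GrpObj G]

/-- the shear map `(g, h) ↦ (g, g⁻¹ h)` -/
def shear' : G ⊗ G ≅ G ⊗ G where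
  hom := lift (fst G G) ((fst G G)⁻¹ * snd G G)
  inv := lift (fst G G) (fst G G * snd G G)
  hom_inv_id := by
    apply CartesianMonoidalCategory.hom_ext
    · rw [Category.assoc, lift_fst, lift_fst, Category.id_comp]
    · rw [Category.assoc, lift_snd, MonObj.comp_mul, lift_fst, lift_snd,
        Category.id_comp, mul_inv_cancel_left]
  inv_hom_id := by
    apply CartesianMonoidalCategory.hom_ext
    · rw [Category.assoc, lift_fst, lift_fst, Category.id_comp]
    · rw [Category.assoc, lift_snd, MonObj.comp_mul, GrpObj.comp_inv, lift_fst, lift_snd,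
        Category.id_comp, inv_mul_cancel_left]

theorem diag_shear' : lift (𝟙 G) (𝟙 G) ≫ (shear' G).hom = lift (𝟙 G) (toUnit G ≫ η[G]) := by
  apply CartesianMonoidalCategory.hom_ext
  · rw [Category.assoc, shear', lift_fst, lift_fst, lift_fst]
  · rw [Category.assoc, shear', lift_snd, MonObj.comp_mul, GrpObj.comp_inv, lift_fst, lift_snd,
      lift_snd, ← Hom.one_def]
    exact inv_mul_cancel _

/-- translation `(t, g) ↦ (t, ψ(t) g)` -/
def translate {T : C} (ψ : T ⟶ G) : T ⊗ G ≅ T ⊗ G where
  hom := lift (fst T G) ((fst T G ≫ ψ) * snd T G)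
  inv := lift (fst T G) ((fst T G ≫ ψ)⁻¹ * snd T G)
  hom_inv_id := by
    apply CartesianMonoidalCategory.hom_ext
    · rw [Category.assoc, lift_fst, lift_fst, Category.id_comp]
    · rw [Category.assoc, lift_snd, MonObj.comp_mul, GrpObj.comp_inv, ← Category.assoc, lift_fst,
        lift_snd, Category.id_comp, inv_mul_cancel_left]
  inv_hom_id := by
    apply CartesianMonoidalCategory.hom_ext
    · rw [Category.assoc, lift_fst, lift_fst, Category.id_comp]
    · rw [Category.assoc, lift_snd, MonObj.comp_mul, ← Category.assoc, lift_fst,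
        lift_snd, Category.id_comp, mul_inv_cancel_left]

theorem translate_hom_snd {T : C} (ψ : T ⟶ G) :
    (translate G ψ).hom ≫ snd T G = ψ ▷ G ≫ μ[G] := by
  rw [translate, lift_snd, MonObj.mul_eq_mul, MonObj.comp_mul, whiskerRight_fst, whiskerRight_snd]

end Cat

section Sch

variable {S : Scheme.{u}} (G : Over S) [GrpObj G]

/-- the unit section pulled back along the second projection. -/
theorem isPullback_sigma :
    IsPullback (lift (𝟙 G) (toUnit G ≫ η[G])).left G.hom (pullback.snd G.hom G.hom) η[G].left := by
  have h1 : (lift (𝟙 G) (toUnit G ≫ η[G])).left ≫ pullback.snd G.hom G.hom =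
      G.hom ≫ η[G].left :=
    congrArg (fun k => k.left) (lift_snd (𝟙 G) (toUnit G ≫ η[G]))
  have h2 : (lift (𝟙 G) (toUnit G ≫ η[G])).left ≫ pullback.fst G.hom G.hom = 𝟙 G.left :=
    congrArg (fun k => k.left) (lift_fst (𝟙 G) (toUnit G ≫ η[G]))
  refine IsPullback.of_right ?_ h1 (IsPullback.of_hasPullback G.hom G.hom)
  rw [h2, unit_section G]
  exact IsPullback.of_horiz_isIso ⟨by simp⟩

/-- the diagonal of a group scheme is a base change of the unit section. -/
theorem isPullback_diagonal :
    IsPullback (pullback.diagonal G.hom) G.hom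
      ((shear' G).hom.left ≫ pullback.snd G.hom G.hom) η[G].left := by
  have hd : pullback.diagonal G.hom = (lift (𝟙 G) (𝟙 G)).left := by
    apply pullback.hom_ext
    · rw [pullback.diagonal_fst]
      exact (congrArg (fun k => k.left) (lift_fst (𝟙 G) (𝟙 G))).symm
    · rw [pullback.diagonal_snd]
      exact (congrArg (fun k => k.left) (lift_snd (𝟙 G) (𝟙 G))).symm
  have h1 : (lift (𝟙 G) (𝟙 G)).left ≫ (shear' G).hom.left =
      (lift (𝟙 G) (toUnit G ≫ η[G])).left :=
    congrArg (fun k => k.left) (diag_shear' G)
  have hv : IsPullback (pullback.diagonal G.hom) (𝟙 G.left) (shear' G).hom.left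
      (lift (𝟙 G) (toUnit G ≫ η[G])).left := by
    haveI : IsIso (shear' G).hom.left := inferInstanceAs (IsIso ((Over.forget S).map (shear' G).hom))
    exact IsPullback.of_vert_isIso ⟨by rw [hd, h1, Category.id_comp]⟩
  have := hv.paste_vert (isPullback_sigma G)
  rwa [Category.id_comp] at this

theorem isClosedImmersion_section {R U : Scheme.{u}} (t : R ⟶ U) [IsSeparated t] (e : U ⟶ R)
    (he : e ≫ t = 𝟙 U) : IsClosedImmersion e := by
  haveI : IsClosedImmersion (e ≫ t) := by rw [he]; infer_instance
  exact IsClosedImmersion.of_comp e t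

theorem isSeparated_iff : IsSeparated G.hom ↔ IsClosedImmersion η[G].left := by
  constructor
  · intro h
    exact isClosedImmersion_section G.hom η[G].left (unit_section G)
  · intro h
    exact ⟨MorphismProperty.of_isPullback (P := @IsClosedImmersion) (isPullback_diagonal G).flip h⟩

theorem quasiSeparated_iff : QuasiSeparated G.hom ↔ QuasiCompact η[G].left := by
  constructor
  · intro h
    exact Groth.Agent.Helper18.GrpdOm.quasiCompact_section G.hom η[G].left (unit_section G)
  · intro h
    exact ⟨MorphismProperty.of_isPullback (P := @QuasiCompact) (isPullback_diagonal G).flip h⟩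

theorem flat_translate (T : Over S) (ψ : T ⟶ G) (hT : Flat T.hom) :
    Flat (ψ ▷ G ≫ μ[G]).left := by
  rw [← translate_hom_snd]
  haveI : IsIso (translate G ψ).hom.left :=
    inferInstanceAs (IsIso ((Over.forget S).map (translate G ψ).hom))
  change Flat ((translate G ψ).hom.left ≫ pullback.snd T.hom G.hom)
  infer_instance

theorem flat_mul (hG : Flat G.hom) : Flat μ[G].left := by
  have := flat_translate G G (𝟙 G) hG
  rwa [id_whiskerRight, Category.id_comp] at this

end Sch

end Groth.Agent.Helper18.GrpSchOm
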