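import Mathlib
import Groth.Agent.Lib.Helper16.Sch.SmFibPt1

/-!
# Rational points of smooth schemes over separably closed fields (helper18)
-/

set_option autoImplicit false
universe u
open CategoryTheory AlgebraicGeometry Limits Polynomial

namespace Groth.Agent.Helper18.SepPts

/-- separably closed fields are infinite -/
theorem infinite_of_isSepClosed (K : Type*) [Field K] [IsSepClosed K] : Infinite K := by
  apply Infinite.of_not_fintype
  intro hfin
  set n := Fintype.card K
  set f := (X : K[X]) ^ (n + 1) - 1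
  have hfsep : Separable f := separable_X_pow_sub_C 1 (by simp [n]) one_ne_zero
  apply Nat.not_succ_le_self (Fintype.card K)
  have hroot : n.succ = Fintype.card (f.rootSet K) := by
    rw [card_rootSet_eq_natDegree hfsep (IsSepClosed.splits_domain (f := RingHom.id K) _ hfsep)]
    unfold f
    rw [← C_1, natDegree_X_pow_sub_C]
  rw [hroot]
  exact Fintype.card_le_of_injective _ Subtype.coe_injective

variable (k : Type u) [Field k]

/-- étale algebras over a separably closed field have rational points -/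
theorem exists_algHom_of_etale [IsSepClosed k] (B : Type u) [CommRing B] [Algebra k B]
    [Algebra.Etale k B] [Nontrivial B] : Nonempty (B →ₐ[k] k) := by
  obtain ⟨I, hI, Ai, i1, i2, e, hAi⟩ := (Algebra.Etale.iff_exists_algEquiv_prod k B).mp inferInstance
  haveI : Nonempty I := by
    by_contra hne
    rw [not_nonempty_iff] at hne
    haveI : Subsingleton (∀ i, Ai i) := inferInstance
    exact not_subsingleton B e.toEquiv.subsingleton
  obtain ⟨i⟩ := ‹Nonempty I›
  haveI := (hAi i).2
  have hbij := IsSepClosed.algebraMap_bijective k (Ai i)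
  let ε : Ai i ≃ₐ[k] k := (AlgEquiv.ofBijective (Algebra.ofId k (Ai i)) hbij).symm
  exact ⟨(ε.toAlgHom.comp (Pi.evalAlgHom k Ai i)).comp e.toAlgHom⟩

/-- rational points are dense in affine space over an infinite field -/
theorem exists_section_mem_open [Infinite k] (n : Type u)
    (W : (𝔸(n; Spec (CommRingCat.of k))).Opens) (hW : (W : Set 𝔸(n; Spec (CommRingCat.of k))).Nonempty) :
    ∃ a : Spec (CommRingCat.of k) ⟶ 𝔸(n; Spec (CommRingCat.of k)),
      a ≫ (𝔸(n; Spec (CommRingCat.of k)) ↘ Spec (CommRingCat.of k)) = 𝟙 _ ∧ ∀ t, a t ∈ W := by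
  let e := AffineSpace.SpecIso n (CommRingCat.of k)
  obtain ⟨w, hw⟩ := hW
  let W' : (Spec (CommRingCat.of (MvPolynomial n k))).Opens := e.inv ⁻¹ᵁ W
  have hw' : e.hom w ∈ W' := by
    show e.inv (e.hom w) ∈ W
    rw [← Scheme.Hom.comp_apply, e.hom_inv_id]
    exact hw
  obtain ⟨_, ⟨_, ⟨f, rfl⟩, rfl⟩, hfw, hfW⟩ :=
    PrimeSpectrum.isBasis_basic_opens.exists_subset_of_mem_open hw' W'.2
  have hf0 : f ≠ 0 := by
    rintro rfl
    let p : PrimeSpectrum (MvPolynomial n k) := e.hom w
    have : p ∈ PrimeSpectrum.basicOpen (0 : MvPolynomial n k) := hfw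
    rw [PrimeSpectrum.mem_basicOpen] at this
    exact this (Submodule.zero_mem _)
  obtain ⟨v, hv⟩ : ∃ v : n → k, MvPolynomial.eval v f ≠ 0 := by
    by_contra hcon
    push Not at hcon
    exact hf0 (MvPolynomial.funext (fun x => by rw [hcon x, map_zero]))
  let a₀ : Spec (CommRingCat.of k) ⟶ Spec (CommRingCat.of (MvPolynomial n k)) :=
    Spec.map (CommRingCat.ofHom (MvPolynomial.eval v))
  refine ⟨a₀ ≫ e.inv, ?_, ?_⟩
  · rw [Category.assoc, AffineSpace.SpecIso_inv_over, ← Spec.map_comp, ← Spec.map_id]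
    congr 1
    ext x
    simp
  · intro t
    have h1 : a₀ t ∈ W' := by
      apply hfW
      let p : PrimeSpectrum (MvPolynomial n k) := a₀ t
      let t' : PrimeSpectrum k := t
      show p ∈ PrimeSpectrum.basicOpen f
      rw [PrimeSpectrum.mem_basicOpen]
      intro hmem
      have h2 : MvPolynomial.eval v f ∈ t'.asIdeal := hmem
      have h3 : t'.asIdeal = ⊥ := by
        have := t'.isPrime.ne_top
        rcases Ideal.eq_bot_or_top t'.asIdeal with h | h
        · exact h
        · exact absurd h this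
      rw [h3, Ideal.mem_bot] at h2
      exact hv h2
    exact h1

/-- a nonempty smooth scheme over a separably closed field has a rational point -/
theorem exists_section_of_smooth [IsSepClosed k] {X : Scheme.{u}}
    (f : X ⟶ Spec (CommRingCat.of k)) [Smooth f] [Nonempty X] :
    ∃ s : Spec (CommRingCat.of k) ⟶ X, s ≫ f = 𝟙 _ := by
  obtain ⟨z⟩ := ‹Nonempty X›
  obtain ⟨V, n, ψ, hzV, hψ, hψf⟩ := Groth.Agent.Helper16.SmFibPt.exists_etale_affineSpace f z
  haveI := hψ
  haveI : Infinite k := infinite_of_isSepClosed k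
  haveI : UniversallyOpen ψ := inferInstance
  obtain ⟨a, ha1, ha2⟩ := exists_section_mem_open k (ULift.{u} (Fin n))
    ⟨Set.range ψ, ψ.isOpenMap.isOpen_range⟩ ⟨ψ ⟨z, hzV⟩, ⟨⟨z, hzV⟩, rfl⟩⟩
  let t₀ : ↥(Spec (CommRingCat.of k)) := (IsLocalRing.closedPoint k : PrimeSpectrum k)
  obtain ⟨v, hv⟩ := ha2 t₀
  obtain ⟨e₀, -, -⟩ := Scheme.Pullback.exists_preimage_pullback (f := ψ) (g := a) v t₀ hv
  obtain ⟨U, hU, he₀U, -⟩ := exists_isAffineOpen_mem_and_subset (x := e₀)
    (U := (⊤ : (pullback ψ a).Opens)) trivial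
  let g : Spec Γ(pullback ψ a, U) ⟶ Spec (CommRingCat.of k) := hU.fromSpec ≫ pullback.snd ψ a
  haveI : Etale g := inferInstance
  obtain ⟨φ, hφ⟩ : ∃ φ : CommRingCat.of k ⟶ Γ(pullback ψ a, U), Spec.map φ = g :=
    ⟨Spec.preimage g, Spec.map_preimage g⟩
  have hφet : φ.hom.Etale := by
    rw [← HasRingHomProperty.Spec_iff (P := @Etale), hφ]
    infer_instance
  letI : Algebra k Γ(pullback ψ a, U) := φ.hom.toAlgebra
  haveI : Algebra.Etale k Γ(pullback ψ a, U) := hφet
  haveI : Nontrivial Γ(pullback ψ a, U) := by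
    haveI : Nonempty (PrimeSpectrum Γ(pullback ψ a, U)) := ⟨hU.isoSpec.hom ⟨e₀, he₀U⟩⟩
    exact (PrimeSpectrum.nonempty_iff_nontrivial).mp inferInstance
  obtain ⟨χ⟩ := exists_algHom_of_etale k Γ(pullback ψ a, U)
  refine ⟨Spec.map (CommRingCat.ofHom χ.toRingHom) ≫ hU.fromSpec ≫ pullback.fst ψ a ≫ V.ι, ?_⟩
  have h1 : pullback.fst ψ a ≫ V.ι ≫ f = pullback.snd ψ a := by
    rw [← hψf, ← Category.assoc, pullback.condition, Category.assoc, ha1, Category.comp_id]
  rw [Category.assoc, Category.assoc, Category.assoc, h1]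
  show Spec.map (CommRingCat.ofHom χ.toRingHom) ≫ g = _
  rw [← hφ, ← Spec.map_comp, ← Spec.map_id]
  congr 1
  ext r
  exact χ.commutes r

end Groth.Agent.Helper18.SepPts
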