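import Mathlib
import Groth.Prelude.Def_Grpd
import Groth.Prelude.Def_Mor2
import Groth.Agent.Lib.Helper18.GrpdOm

set_option autoImplicit false
set_option linter.style.haveILetI false
set_option linter.unusedSectionVars false
universe u
open CategoryTheory CategoryTheory.Limits AlgebraicGeometry TopologicalSpace Opposite

namespace Groth.Agent.Helper18.GrpdRank

open Grpd Groth.Agent.Helper18.GrpdOm

variable {S : Scheme.{u}} (G : GroupoidScheme S)

theorem i_i_point {T : Scheme.{u}} (α : T ⟶ G.R) : (α ≫ G.i) ≫ G.i = α := by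
  have hβs : (α ≫ G.i) ≫ G.s = α ≫ G.t := by rw [Category.assoc, G.i_s]
  have hβt : (α ≫ G.i) ≫ G.t = α ≫ G.s := by rw [Category.assoc, G.i_t]
  have hγs : ((α ≫ G.i) ≫ G.i) ≫ G.s = (α ≫ G.i) ≫ G.t := by rw [Category.assoc, G.i_s]
  have e2 : cmp G (α ≫ G.i) α hβs = α ≫ G.s ≫ G.e := i_cmp G α
  have e5 : cmp G ((α ≫ G.i) ≫ G.i) (α ≫ G.i) hγs = (α ≫ G.i) ≫ G.s ≫ G.e := i_cmp G (α ≫ G.i)
  have e1 := cmp_e G ((α ≫ G.i) ≫ G.i)
  have e6 := e_cmp G α
  have e4 := cmp_assoc G ((α ≫ G.i) ≫ G.i) (α ≫ G.i) α hγs hβs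
  refine e1.symm.trans ?_
  refine (cmp_congr G _ rfl (show ((α ≫ G.i) ≫ G.i) ≫ G.s ≫ G.e = cmp G (α ≫ G.i) α hβs by
    rw [e2, ← Category.assoc, hγs, hβt, Category.assoc])).trans ?_
  refine e4.symm.trans ?_
  refine (cmp_congr G _ (show cmp G ((α ≫ G.i) ≫ G.i) (α ≫ G.i) hγs = α ≫ G.t ≫ G.e by
    rw [e5, ← Category.assoc, hβs, Category.assoc]) rfl).trans ?_
  exact e6

theorem i_i : G.i ≫ G.i = 𝟙 G.R := by
  have := i_i_point G (𝟙 G.R)
  rwa [Category.id_comp] at this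

instance : IsIso G.i := ⟨G.i, i_i G, i_i G⟩

section Rank

variable [IsFinite G.s] [Flat G.s] [LocallyOfFinitePresentation G.s]
  [IsFinite G.t] [Flat G.t] [LocallyOfFinitePresentation G.t]

theorem finrank_t_eq : G.t.finrank = G.s.finrank := by
  have h := Scheme.Hom.finrank_comp_left_of_isIso G.i G.s
  have h2 : G.i ≫ G.s = G.t := G.i_s
  have key : ∀ (f : G.R ⟶ G.U) (hf : f = G.t) [Flat f] [IsFinite f], f.finrank = G.t.finrank := by
    intro f hf _ _
    subst hf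
    rfl
  rw [← key (G.i ≫ G.s) h2]
  exact h

theorem finrank_s_t (ρ : G.R) : G.s.finrank (G.s ρ) = G.s.finrank (G.t ρ) := by
  have h1 := Scheme.Hom.finrank_of_isPullback G.c (pullback.fst G.s G.t) G.t G.t (isPullback_c G) ρ
  have h2 := Scheme.Hom.finrank_pullback_fst G.t G.s ρ
  rw [h1] at h2
  rw [← finrank_t_eq]
  exact h2.symm

theorem one_le_finrank (u : G.U) : 1 ≤ G.s.finrank u := by
  have h := Scheme.Hom.one_le_finrank_map G.s (G.e u)
  have h2 : G.s (G.e u) = u := by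
    rw [← Scheme.Hom.comp_apply, G.e_s]; rfl
  rwa [h2] at h

/-- the rank strata -/
noncomputable def V (r : ℕ) : G.U.Opens :=
  ⟨G.s.finrank ⁻¹' {r}, (Scheme.Hom.isLocallyConstant_finrank G.s).isOpen_fiber r⟩

theorem mem_V (r : ℕ) (u : G.U) : u ∈ V G r ↔ G.s.finrank u = r := Iff.rfl

theorem isFinLocFreeOfDeg_restrict {X Y : Scheme.{u}} (f : X ⟶ Y) [IsFinite f] [Flat f]
    [LocallyOfFinitePresentation f] (W : Y.Opens) (r : ℕ) (h : ∀ y ∈ W, f.finrank y = r) :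
    Mor2.IsFinLocFreeOfDeg r (f ∣_ W) := by
  refine ⟨⟨inferInstance, inferInstance, inferInstance⟩, fun y => ?_⟩
  rw [Scheme.Hom.finrank_of_isPullback _ _ _ _ (isPullback_morphismRestrict f W).flip y]
  exact h _ y.2

theorem main : ∃ V : ℕ → G.U.Opens, V 0 = ⊥ ∧ (∀ r r', r ≠ r' → Disjoint (V r) (V r')) ∧
    (⨆ r, V r) = ⊤ ∧ ∀ r, G.s ⁻¹ᵁ V r = G.t ⁻¹ᵁ V r ∧
      Mor2.IsFinLocFreeOfDeg r (G.s ∣_ V r) ∧ Mor2.IsFinLocFreeOfDeg r (G.t ∣_ V r) := by
  refine ⟨V G, ?_, ?_, ?_, ?_⟩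
  · ext u
    simp only [Opens.coe_bot, Set.mem_empty_iff_false, iff_false, SetLike.mem_coe, mem_V]
    have := one_le_finrank G u
    omega
  · intro r r' hrr'
    rw [disjoint_iff]
    ext u
    simp only [Opens.coe_inf, Set.mem_inter_iff, SetLike.mem_coe, mem_V, Opens.coe_bot,
      Set.mem_empty_iff_false, iff_false, not_and]
    intro h1 h2
    exact hrr' (h1.symm.trans h2)
  · rw [eq_top_iff]
    intro u _
    exact Opens.mem_iSup.2 ⟨G.s.finrank u, rfl⟩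
  · intro r
    refine ⟨?_, ?_, ?_⟩
    · ext ρ
      change G.s.finrank (G.s ρ) = r ↔ G.s.finrank (G.t ρ) = r
      rw [finrank_s_t]
    · exact isFinLocFreeOfDeg_restrict G.s (V G r) r (fun y hy => hy)
    · exact isFinLocFreeOfDeg_restrict G.t (V G r) r (fun y hy => by
        rw [finrank_t_eq]; exact hy)

end Rank

end Groth.Agent.Helper18.GrpdRank
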