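import Mathlib
import Groth.Prelude.Def_Grpd
import Groth.Agent.Lib.Helper18.GrpdOm
import Groth.Agent.Lib.Helper18.GrpdRank

set_option autoImplicit false
set_option linter.style.haveILetI false
set_option linter.unusedSectionVars false
set_option maxRecDepth 8000
universe u
open CategoryTheory CategoryTheory.Limits AlgebraicGeometry TopologicalSpace Opposite

namespace Groth.Agent.Helper18.GrpdFib

open Grpd Groth.Agent.Helper18.GrpdOm Groth.Agent.Helper18.GrpdRank

variable {S : Scheme.{u}} (G : GroupoidScheme S) {K : Scheme.{u}}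

/-- right translation by `δ : b → a` : `F_a → F_b`, `(ρ, x) ↦ (ρ ∘ δ(x), x)` -/
noncomputable def Ψ (a b : K ⟶ G.U) (δ : K ⟶ G.R) (hs : δ ≫ G.s = b) (ht : δ ≫ G.t = a) :
    pullback G.s a ⟶ pullback G.s b :=
  pullback.lift
    (cmp G (pullback.fst G.s a) (pullback.snd G.s a ≫ δ)
      (by rw [Category.assoc, ht, pullback.condition]))
    (pullback.snd G.s a)
    (by rw [cmp_s, Category.assoc, hs])

theorem Ψ_fst (a b : K ⟶ G.U) (δ : K ⟶ G.R) (hs : δ ≫ G.s = b) (ht : δ ≫ G.t = a) :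
    Ψ G a b δ hs ht ≫ pullback.fst G.s b =
      cmp G (pullback.fst G.s a) (pullback.snd G.s a ≫ δ)
        (by rw [Category.assoc, ht, pullback.condition]) := pullback.lift_fst _ _ _

theorem Ψ_snd (a b : K ⟶ G.U) (δ : K ⟶ G.R) (hs : δ ≫ G.s = b) (ht : δ ≫ G.t = a) :
    Ψ G a b δ hs ht ≫ pullback.snd G.s b = pullback.snd G.s a := pullback.lift_snd _ _ _

theorem Ψ_congr (a b : K ⟶ G.U) {δ δ' : K ⟶ G.R} (h : δ = δ') (hs : δ ≫ G.s = b)
    (ht : δ ≫ G.t = a) : Ψ G a b δ hs ht = Ψ G a b δ' (h ▸ hs) (h ▸ ht) := by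
  subst h; rfl

theorem Ψ_comp (a b : K ⟶ G.U) (δ : K ⟶ G.R) (hs : δ ≫ G.s = b) (ht : δ ≫ G.t = a) :
    Ψ G a b δ hs ht ≫ Ψ G b a (δ ≫ G.i) (by rw [Category.assoc, G.i_s, ht])
      (by rw [Category.assoc, G.i_t, hs]) = 𝟙 _ := by
  apply pullback.hom_ext
  · rw [Category.assoc, Ψ_fst, precomp_cmp, Category.id_comp]
    have h1 : Ψ G a b δ hs ht ≫ pullback.fst G.s b =
        cmp G (pullback.fst G.s a) (pullback.snd G.s a ≫ δ)
          (by rw [Category.assoc, ht, pullback.condition]) := Ψ_fst G a b δ hs ht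
    have h2 : Ψ G a b δ hs ht ≫ pullback.snd G.s b ≫ δ ≫ G.i =
        (pullback.snd G.s a ≫ δ) ≫ G.i := by
      rw [reassoc_of% Ψ_snd G a b δ hs ht, Category.assoc]
    refine (cmp_congr G _ h1 h2).trans ?_
    have hA : pullback.fst G.s a ≫ G.s = (pullback.snd G.s a ≫ δ) ≫ G.t := by
      rw [Category.assoc, ht, pullback.condition]
    have hB : (pullback.snd G.s a ≫ δ) ≫ G.s = ((pullback.snd G.s a ≫ δ) ≫ G.i) ≫ G.t := by
      rw [Category.assoc _ _ G.t, G.i_t]
    refine (cmp_assoc G (pullback.fst G.s a) (pullback.snd G.s a ≫ δ)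
      ((pullback.snd G.s a ≫ δ) ≫ G.i) hA hB).trans ?_
    have h3 := cmp_i G (pullback.snd G.s a ≫ δ)
    have h4 : (pullback.snd G.s a ≫ δ) ≫ G.t ≫ G.e = pullback.fst G.s a ≫ G.s ≫ G.e := by
      rw [← Category.assoc, ← hA, Category.assoc]
    refine (cmp_congr G _ rfl (h3.trans h4)).trans ?_
    exact cmp_e G (pullback.fst G.s a)
  · rw [Category.assoc, Ψ_snd, Ψ_snd, Category.id_comp]

/-- the isomorphism of fibres -/
noncomputable def fibIso (a b : K ⟶ G.U) (δ : K ⟶ G.R) (hs : δ ≫ G.s = b) (ht : δ ≫ G.t = a) :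
    pullback G.s a ≅ pullback G.s b where
  hom := Ψ G a b δ hs ht
  inv := Ψ G b a (δ ≫ G.i) (by rw [Category.assoc, G.i_s, ht]) (by rw [Category.assoc, G.i_t, hs])
  hom_inv_id := Ψ_comp G a b δ hs ht
  inv_hom_id := by
    have h := Ψ_comp G b a (δ ≫ G.i) (by rw [Category.assoc, G.i_s, ht])
      (by rw [Category.assoc, G.i_t, hs])
    have h2 := Ψ_congr G a b (i_i_point G δ) (by rw [Category.assoc, G.i_s, Category.assoc, G.i_t, hs])
      (by rw [Category.assoc, G.i_t, Category.assoc, G.i_s, ht])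
    rw [h2] at h
    exact h

theorem main (r r' : G.R) (h : G.t r = G.t r') :
    ∃ (k : Type u) (_ : Field k) (a b : Spec (CommRingCat.of k) ⟶ G.U)
      (φ : pullback G.s a ≅ pullback G.s b) (p : ↑(pullback G.s a)),
      a (IsLocalRing.closedPoint k) = G.s r ∧ b (IsLocalRing.closedPoint k) = G.s r' ∧
      φ.hom ≫ pullback.snd G.s b = pullback.snd G.s a ∧ pullback.fst G.s a p = r ∧
      pullback.fst G.s b (φ.hom p) = r' := by
  obtain ⟨q, hq1, hq2⟩ := Scheme.Pullback.exists_preimage_pullback (f := G.t) (g := G.t) r r' h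
  let X := pullback G.t G.t
  let ι : Spec (CommRingCat.of (X.residueField q)) ⟶ X := X.fromSpecResidueField q
  let α := ι ≫ pullback.fst G.t G.t
  let β := ι ≫ pullback.snd G.t G.t
  have hαβ : α ≫ G.t = β ≫ G.t := by
    simp only [α, β, Category.assoc, pullback.condition]
  have hδ : (α ≫ G.i) ≫ G.s = β ≫ G.t := by rw [Category.assoc, G.i_s, hαβ]
  let δ := cmp G (α ≫ G.i) β hδ
  have hδs : δ ≫ G.s = β ≫ G.s := cmp_s G _ _ _
  have hδt : δ ≫ G.t = α ≫ G.s := by
    rw [cmp_t, Category.assoc, G.i_t]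
  let P₀ : Spec (CommRingCat.of (X.residueField q)) ⟶ pullback G.s (α ≫ G.s) :=
    pullback.lift α (𝟙 _) (by rw [Category.id_comp])
  have hpt : ∀ pt : Spec (CommRingCat.of (X.residueField q)), ι pt = q :=
    fun pt => Scheme.fromSpecResidueField_apply q pt
  have hα : ∀ pt : Spec (CommRingCat.of (X.residueField q)), α pt = r := by
    intro pt
    change (ι ≫ pullback.fst G.t G.t) pt = r
    rw [Scheme.Hom.comp_apply, hpt, hq1]
  have hβ : ∀ pt : Spec (CommRingCat.of (X.residueField q)), β pt = r' := by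
    intro pt
    change (ι ≫ pullback.snd G.t G.t) pt = r'
    rw [Scheme.Hom.comp_apply, hpt, hq2]
  have hα' : ∀ pt : Spec (CommRingCat.of (X.residueField q)), (α ≫ G.s) pt = G.s r := by
    intro pt
    rw [Scheme.Hom.comp_apply, hα]
  have hβ' : ∀ pt : Spec (CommRingCat.of (X.residueField q)), (β ≫ G.s) pt = G.s r' := by
    intro pt
    rw [Scheme.Hom.comp_apply, hβ]
  have hP : ∀ pt : Spec (CommRingCat.of (X.residueField q)),
      pullback.fst G.s (α ≫ G.s) (P₀ pt) = r := by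
    intro pt
    rw [← Scheme.Hom.comp_apply, pullback.lift_fst]
    exact hα pt
  refine ⟨X.residueField q, inferInstance, α ≫ G.s, β ≫ G.s, fibIso G _ _ δ hδs hδt,
    P₀ (IsLocalRing.closedPoint _), ?_, ?_, ?_, ?_, ?_⟩
  · exact hα' _
  · exact hβ' _
  · exact Ψ_snd G _ _ δ hδs hδt
  · exact hP _
  · have key : P₀ ≫ Ψ G _ _ δ hδs hδt ≫ pullback.fst G.s (β ≫ G.s) = β := by
      rw [Ψ_fst, precomp_cmp]
      have h1 : P₀ ≫ pullback.fst G.s (α ≫ G.s) = α := pullback.lift_fst _ _ _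
      have h2 : P₀ ≫ pullback.snd G.s (α ≫ G.s) ≫ δ = δ := by
        rw [← Category.assoc]
        have : P₀ ≫ pullback.snd G.s (α ≫ G.s) = 𝟙 _ := pullback.lift_snd _ _ _
        rw [this, Category.id_comp]
      refine (cmp_congr G _ h1 h2).trans ?_
      have hA : α ≫ G.s = (α ≫ G.i) ≫ G.t := by rw [Category.assoc α G.i G.t, G.i_t]
      refine (cmp_assoc G α (α ≫ G.i) β hA hδ).symm.trans ?_
      have h3 := cmp_i G α
      have h4 : α ≫ G.t ≫ G.e = β ≫ G.t ≫ G.e := by
        rw [← Category.assoc, hαβ, Category.assoc]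
      refine (cmp_congr G _ (h3.trans h4) rfl).trans ?_
      exact e_cmp G β
    have hfin : ∀ pt : Spec (CommRingCat.of (X.residueField q)),
        pullback.fst G.s (β ≫ G.s) (Ψ G _ _ δ hδs hδt (P₀ pt)) = r' := by
      intro pt
      rw [← Scheme.Hom.comp_apply, ← Scheme.Hom.comp_apply, key]
      exact hβ pt
    exact hfin _

end Groth.Agent.Helper18.GrpdFib
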