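import Mathlib
import Groth.Prelude.Def_Grpd
import Groth.Agent.Lib.Helper18.GrpdOm
import Groth.Agent.Lib.Helper18.GrpdRank

set_option autoImplicit false
set_option linter.style.haveILetI false
set_option linter.unusedSectionVars false
set_option maxRecDepth 8000
universe u
open CategoryTheory CategoryTheory.Limits AlgebraicGeometry TopologicalSpace Opposite

namespace Groth.Agent.Helper18.GrpdHom

open Grpd Groth.Agent.Helper18.GrpdOm Groth.Agent.Helper18.GrpdRank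

section One

variable {S : Scheme.{u}} (G : GroupoidScheme S)

/-- an idempotent arrow is an identity -/
theorem idem_eq_e {T : Scheme.{u}} (ε : T ⟶ G.R) (hst : ε ≫ G.s = ε ≫ G.t)
    (h : cmp G ε ε hst = ε) : ε = ε ≫ G.t ≫ G.e := by
  have hA : ε ≫ G.s = (ε ≫ G.i) ≫ G.t := by rw [Category.assoc, G.i_t]
  have h1 := cmp_i G ε
  have h2 := cmp_assoc G ε ε (ε ≫ G.i) hst hA
  have h3 : cmp G ε (ε ≫ G.s ≫ G.e) (by rw [Category.assoc, Category.assoc, G.e_t, Category.comp_id]) = ε := cmp_e G ε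
  -- ε = ε ∘ e(s ε) = ε ∘ e (t ε) = ε ∘ (ε ∘ ε⁻¹) = (ε ∘ ε) ∘ ε⁻¹ = ε ∘ ε⁻¹ = e (t ε)
  have h4 : ε ≫ G.s ≫ G.e = cmp G ε (ε ≫ G.i) hA := by
    rw [h1, ← Category.assoc, hst, Category.assoc]
  refine h3.symm.trans ?_
  refine (cmp_congr G _ rfl h4).trans ?_
  refine h2.symm.trans ?_
  refine (cmp_congr G _ h rfl).trans ?_
  exact h1

/-- right inverses are inverses -/
theorem eq_inv_of_cmp {T : Scheme.{u}} (x y : T ⟶ G.R) (hxy : x ≫ G.s = y ≫ G.t)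
    (h : cmp G x y hxy = x ≫ G.t ≫ G.e) : y = x ≫ G.i := by
  -- y = e(t y) ∘ y = (x⁻¹ ∘ x) ∘ y = x⁻¹ ∘ (x ∘ y) = x⁻¹ ∘ e(t x) = x⁻¹
  have hA : (x ≫ G.i) ≫ G.s = x ≫ G.t := by rw [Category.assoc, G.i_s]
  have h1 := i_cmp G x
  have h2 := cmp_assoc G (x ≫ G.i) x y hA hxy
  have h3 := e_cmp G y
  have h5 := cmp_e G (x ≫ G.i)
  have h4 : y ≫ G.t ≫ G.e = cmp G (x ≫ G.i) x hA := by
    rw [h1, ← Category.assoc, ← hxy, Category.assoc]
  refine h3.symm.trans ?_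
  refine (cmp_congr G _ h4 rfl).trans ?_
  refine h2.trans ?_
  have h6 : cmp G x y hxy = (x ≫ G.i) ≫ G.s ≫ G.e := by
    rw [h, ← Category.assoc (x ≫ G.i), hA, Category.assoc]
  refine (cmp_congr G _ rfl h6).trans ?_
  exact h5

end One

section Two

variable {S : Scheme.{u}} {G₁ G₂ : GroupoidScheme S} (a : GroupoidScheme.Hom G₁ G₂)

theorem comm_cmp {T : Scheme.{u}} (α β : T ⟶ G₁.R) (h : α ≫ G₁.s = β ≫ G₁.t) :
    cmp G₁ α β h ≫ a.fR = cmp G₂ (α ≫ a.fR) (β ≫ a.fR)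
      (by rw [Category.assoc, Category.assoc, a.comm_s, a.comm_t, ← Category.assoc,
        ← Category.assoc, h]) := a.comm_c α β h

theorem comm_e : G₁.e ≫ a.fR = a.fU ≫ G₂.e := by
  have hs : (G₁.e ≫ a.fR) ≫ G₂.s = a.fU := by
    rw [Category.assoc, a.comm_s, ← Category.assoc, G₁.e_s, Category.id_comp]
  have ht : (G₁.e ≫ a.fR) ≫ G₂.t = a.fU := by
    rw [Category.assoc, a.comm_t, ← Category.assoc, G₁.e_t, Category.id_comp]
  have hee : G₁.e ≫ G₁.s = G₁.e ≫ G₁.t := by rw [G₁.e_s, G₁.e_t]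
  have h1 : cmp G₁ G₁.e G₁.e hee = G₁.e := by
    have h := e_cmp G₁ G₁.e
    have h2 : G₁.e ≫ G₁.t ≫ G₁.e = G₁.e := by rw [← Category.assoc, G₁.e_t, Category.id_comp]
    exact (cmp_congr G₁ _ h2.symm rfl).trans h
  have h3 := comm_cmp a G₁.e G₁.e hee
  rw [h1] at h3
  have h4 := idem_eq_e G₂ (G₁.e ≫ a.fR) (hs.trans ht.symm) h3.symm
  rw [h4, ← Category.assoc, ht]

theorem comm_i : G₁.i ≫ a.fR = a.fR ≫ G₂.i := by
  have hxy : a.fR ≫ G₂.s = (G₁.i ≫ a.fR) ≫ G₂.t := by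
    rw [Category.assoc, a.comm_t, ← Category.assoc, G₁.i_t, a.comm_s]
  have h1 : 𝟙 G₁.R ≫ G₁.s = G₁.i ≫ G₁.t := by rw [Category.id_comp, G₁.i_t]
  have h2 : cmp G₁ (𝟙 G₁.R) G₁.i h1 = G₁.t ≫ G₁.e := by
    have h := cmp_i G₁ (𝟙 G₁.R)
    exact ((cmp_congr G₁ _ rfl (Category.id_comp _).symm).trans h).trans (Category.id_comp _)
  have h3 := comm_cmp a (𝟙 G₁.R) G₁.i h1
  rw [h2] at h3
  have h4 : cmp G₂ a.fR (G₁.i ≫ a.fR) hxy = a.fR ≫ G₂.t ≫ G₂.e := by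
    refine (cmp_congr G₂ _ (Category.id_comp _).symm rfl).trans ?_
    rw [← h3, Category.assoc, comm_e, ← Category.assoc, ← a.comm_t, Category.assoc]
  exact eq_inv_of_cmp G₂ a.fR (G₁.i ≫ a.fR) hxy h4

end Two

end Groth.Agent.Helper18.GrpdHom
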