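import Mathlib
import Groth.Prelude.Def_Grpd
import Groth.Agent.Lib.Helper18.GrpdOm
import Groth.Agent.Lib.Helper18.GrpdHom

set_option autoImplicit false
set_option linter.style.haveILetI false
set_option linter.unusedSectionVars false
set_option maxRecDepth 8000
universe u
open CategoryTheory CategoryTheory.Limits AlgebraicGeometry TopologicalSpace Opposite

/-!
# The sub-groupoid on a monomorphism `Z ⟶ R` stable under identity, inverse and composition
-/

namespace Groth.Agent.Helper18.GrpdSub

open Grpd Groth.Agent.Helper18.GrpdOm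

variable {S : Scheme.{u}} (G : GroupoidScheme S)

/-- data of a sub-groupoid with the same objects -/
structure SubData where
  Z : Scheme.{u}
  m : Z ⟶ G.R
  mono : Mono m
  e' : G.U ⟶ Z
  he : e' ≫ m = G.e
  i' : Z ⟶ Z
  hi : i' ≫ m = m ≫ G.i
  c' : pullback (m ≫ G.s) (m ≫ G.t) ⟶ Z
  hc : c' ≫ m = cmp G (pullback.fst (m ≫ G.s) (m ≫ G.t) ≫ m) (pullback.snd (m ≫ G.s) (m ≫ G.t) ≫ m)
    (by rw [Category.assoc, Category.assoc]; exact pullback.condition)

variable {G} (D : SubData G)

theorem key {T : Scheme.{u}} (α β : T ⟶ D.Z) (h : α ≫ D.m ≫ G.s = β ≫ D.m ≫ G.t) :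
    (pullback.lift α β h ≫ D.c') ≫ D.m = cmp G (α ≫ D.m) (β ≫ D.m)
      (by rw [Category.assoc, Category.assoc]; exact h) := by
  rw [Category.assoc, D.hc]
  refine (precomp_cmp G _ _ _ _).trans ?_
  refine cmp_congr G _ ?_ ?_
  · rw [← Category.assoc, pullback.lift_fst]
  · rw [← Category.assoc, pullback.lift_snd]

/-- the sub-groupoid -/
noncomputable def sub : GroupoidScheme S where
  U := G.U
  R := D.Z
  pU := G.pU
  pR := D.m ≫ G.pR
  s := D.m ≫ G.s
  t := D.m ≫ G.t
  e := D.e'
  i := D.i'
  c := D.c'
  s_over := by rw [Category.assoc, G.s_over]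
  t_over := by rw [Category.assoc, G.t_over]
  comp_s := by
    intro T α β h
    rw [← Category.assoc, key D α β h, cmp_s, Category.assoc]
  comp_t := by
    intro T α β h
    rw [← Category.assoc, key D α β h, cmp_t, Category.assoc]
  assoc := by
    intro T α β γ h₁ h₂
    haveI := D.mono
    rw [← cancel_mono D.m]
    refine (key D _ _ _).trans ?_
    refine Eq.trans ?_ (key D _ _ _).symm
    refine (cmp_congr G _ (key D α β h₁) rfl).trans ?_
    refine Eq.trans ?_ (cmp_congr G _ rfl (key D β γ h₂)).symm
    exact cmp_assoc G _ _ _ _ _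
  e_s := by rw [← Category.assoc, D.he, G.e_s]
  e_t := by rw [← Category.assoc, D.he, G.e_t]
  comp_e := by
    intro T α
    haveI := D.mono
    rw [← cancel_mono D.m]
    refine (key D _ _ _).trans ?_
    refine (cmp_congr G _ rfl ?_).trans (cmp_e G (α ≫ D.m))
    simp only [Category.assoc, D.he]
  e_comp := by
    intro T α
    haveI := D.mono
    rw [← cancel_mono D.m]
    refine (key D _ _ _).trans ?_
    refine (cmp_congr G _ ?_ rfl).trans (e_cmp G (α ≫ D.m))
    simp only [Category.assoc, D.he]
  i_s := by rw [← Category.assoc, D.hi, Category.assoc, G.i_s]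
  i_t := by rw [← Category.assoc, D.hi, Category.assoc, G.i_t]
  comp_i := by
    intro T α
    haveI := D.mono
    rw [← cancel_mono D.m]
    refine (key D _ _ _).trans ?_
    refine (cmp_congr G _ rfl ?_).trans ((cmp_i G (α ≫ D.m)).trans ?_)
    · simp only [Category.assoc, D.hi]
    · simp only [Category.assoc, D.he]
  i_comp := by
    intro T α
    haveI := D.mono
    rw [← cancel_mono D.m]
    refine (key D _ _ _).trans ?_
    refine (cmp_congr G _ ?_ rfl).trans ((i_cmp G (α ≫ D.m)).trans ?_)
    · simp only [Category.assoc, D.hi]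
    · simp only [Category.assoc, D.he]

/-- the inclusion of the sub-groupoid -/
noncomputable def subHom : GroupoidScheme.Hom (sub D) G where
  fU := 𝟙 _
  fR := D.m
  fU_over := Category.id_comp _
  comm_s := (Category.comp_id _).symm
  comm_t := (Category.comp_id _).symm
  comm_c := by
    intro T α β h
    exact key D α β h

end Groth.Agent.Helper18.GrpdSub
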