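import Mathlib
import Groth.Prelude.Def_Grpd
import Groth.Agent.Lib.Helper18.GrpdSub

set_option autoImplicit false
set_option linter.style.haveILetI false
set_option linter.unusedSectionVars false
set_option maxRecDepth 8000
universe u
open CategoryTheory CategoryTheory.Limits AlgebraicGeometry TopologicalSpace Opposite

/-!
# The groupoid on the scheme-theoretic image of a morphism of groupoids on a field
-/

namespace Groth.Agent.Helper18.GrpdImg

open Grpd Groth.Agent.Helper18.GrpdOm Groth.Agent.Helper18.GrpdSub Groth.Agent.Helper18.GrpdHom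

set_option backward.isDefEq.respectTransparency false in
/-- The map to the scheme-theoretic image is scheme-theoretically dominant. -/
lemma isSTD_toImage {X Y : Scheme.{u}} (f : X ⟶ Y) [QuasiCompact f] :
    IsSchemeTheoreticallyDominant f.toImage := by
  rw [isSchemeTheoreticallyDominant_iff]
  refine Scheme.IdealSheafData.ext_of_iSup_eq_top
    (fun U : Y.affineOpens => (⟨f.imageι ⁻¹ᵁ U, U.2.preimage f.imageι⟩ : f.image.affineOpens))
    ?_ fun U => ?_
  · rw [← Scheme.Hom.preimage_iSup, iSup_affineOpens_eq_top, Scheme.Hom.preimage_top]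
  · rw [Scheme.Hom.ker_apply, Scheme.IdealSheafData.ideal_bot]
    exact (RingHom.injective_iff_ker_eq_bot _).mp (f.toImage_app_injective U)

lemma ker_le_of_std {X Z Y W : Scheme.{u}} (q : X ⟶ Z) [IsSchemeTheoreticallyDominant q]
    (g : Z ⟶ Y) (h : X ⟶ W) (f : W ⟶ Y) (hcomm : q ≫ g = h ≫ f) : f.ker ≤ g.ker := by
  have h1 : g.ker = (q ≫ g).ker := by
    rw [Scheme.Hom.ker_comp, q.ker_eq_bot, Scheme.IdealSheafData.map_bot]
  rw [h1, hcomm]
  exact Scheme.Hom.le_ker_comp _ _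

theorem flat_of_field {V : Scheme.{u}} (k : Type u) [Field k] (eU : V ≅ Spec (CommRingCat.of k))
    {Y : Scheme.{u}} (g : Y ⟶ V) : Flat g := by
  haveI : Subsingleton (Spec (CommRingCat.of k)) :=
    inferInstanceAs (Subsingleton (PrimeSpectrum k))
  haveI : Subsingleton V := eU.hom.homeomorph.injective.subsingleton
  haveI : Nonempty V := ⟨eU.inv (IsLocalRing.closedPoint k)⟩
  haveI : IsIntegral V := isIntegral_of_isOpenImmersion eU.hom
  infer_instance

theorem isPullback_comp_mono {C : Type*} [Category C] {P X Y Z W : C} {fst : P ⟶ X} {snd : P ⟶ Y}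
    {f : X ⟶ Z} {g : Y ⟶ Z} (h : IsPullback fst snd f g) (i : Z ⟶ W) [Mono i] :
    IsPullback fst snd (f ≫ i) (g ≫ i) := by
  refine ⟨⟨by rw [← Category.assoc, h.w, Category.assoc]⟩, ⟨PullbackCone.IsLimit.mk _
    (fun s => h.lift s.fst s.snd (by
      have := s.condition
      simp only [← Category.assoc] at this
      exact (cancel_mono i).1 this)) (fun s => h.lift_fst _ _ _) (fun s => h.lift_snd _ _ _)
    (fun s m h1 h2 => h.hom_ext ?_ ?_)⟩⟩
  · rw [h1, h.lift_fst]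
  · rw [h2, h.lift_snd]

section Main

variable {S : Scheme.{u}} {G₁ G₂ : GroupoidScheme S} (a : GroupoidScheme.Hom G₁ G₂)

/-- `q × q` is scheme-theoretically dominant -/
theorem std_prod [Mono a.fU] (k : Type u) [Field k]
    (eU : G₂.U ≅ Spec (CommRingCat.of k)) {Z : Scheme.{u}} (m : Z ⟶ G₂.R) (q : G₁.R ⟶ Z)
    (hqm : q ≫ m = a.fR) [IsSchemeTheoreticallyDominant q] [QuasiCompact q]
    (qq : pullback G₁.s G₁.t ⟶ pullback (m ≫ G₂.s) (m ≫ G₂.t))
    (h1 : qq ≫ pullback.fst _ _ = pullback.fst _ _ ≫ q)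
    (h2 : qq ≫ pullback.snd _ _ = pullback.snd _ _ ≫ q) :
    IsSchemeTheoreticallyDominant qq := by
  haveI hflat : ∀ {Y : Scheme.{u}} (g : Y ⟶ G₂.U), Flat g := fun g => flat_of_field k eU g
  -- first factor
  have c1 : pullback.fst G₁.s G₁.t ≫ q ≫ m ≫ G₂.s = pullback.snd G₁.s G₁.t ≫ G₁.t ≫ a.fU := by
    rw [← Category.assoc q, hqm, a.comm_s, ← Category.assoc, ← Category.assoc, pullback.condition]
  let qq₁ : pullback G₁.s G₁.t ⟶ pullback (m ≫ G₂.s) (G₁.t ≫ a.fU) :=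
    pullback.lift (pullback.fst _ _ ≫ q) (pullback.snd _ _)
      (by rw [Category.assoc]; exact c1)
  have c2 : pullback.fst (m ≫ G₂.s) (G₁.t ≫ a.fU) ≫ m ≫ G₂.s =
      (pullback.snd (m ≫ G₂.s) (G₁.t ≫ a.fU) ≫ q) ≫ m ≫ G₂.t := by
    rw [Category.assoc, ← Category.assoc q, hqm, a.comm_t]
    exact pullback.condition
  let qq₂ : pullback (m ≫ G₂.s) (G₁.t ≫ a.fU) ⟶ pullback (m ≫ G₂.s) (m ≫ G₂.t) :=
    pullback.lift (pullback.fst _ _) (pullback.snd _ _ ≫ q) c2
  have hqq : qq = qq₁ ≫ qq₂ := by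
    apply pullback.hom_ext
    · rw [h1, Category.assoc, pullback.lift_fst, pullback.lift_fst]
    · rw [h2, Category.assoc, pullback.lift_snd, ← Category.assoc, pullback.lift_snd]
  -- `qq₁` is a base change of `q`
  have P1 : IsPullback qq₁ (pullback.fst G₁.s G₁.t) (pullback.fst (m ≫ G₂.s) (G₁.t ≫ a.fU)) q := by
    have ht : IsPullback (pullback.snd (m ≫ G₂.s) (G₁.t ≫ a.fU))
        (pullback.fst (m ≫ G₂.s) (G₁.t ≫ a.fU)) (G₁.t ≫ a.fU) (m ≫ G₂.s) :=
      (IsPullback.of_hasPullback _ _).flip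
    have ho : IsPullback (pullback.snd G₁.s G₁.t) (pullback.fst G₁.s G₁.t)
        (G₁.t ≫ a.fU) (G₁.s ≫ a.fU) :=
      (isPullback_comp_mono (IsPullback.of_hasPullback G₁.s G₁.t) a.fU).flip
    have hs : IsPullback (qq₁ ≫ pullback.snd (m ≫ G₂.s) (G₁.t ≫ a.fU)) (pullback.fst G₁.s G₁.t)
        (G₁.t ≫ a.fU) (q ≫ m ≫ G₂.s) := by
      have e1 : qq₁ ≫ pullback.snd (m ≫ G₂.s) (G₁.t ≫ a.fU) = pullback.snd G₁.s G₁.t :=
        pullback.lift_snd _ _ _
      have e2 : q ≫ m ≫ G₂.s = G₁.s ≫ a.fU := by rw [← Category.assoc, hqm, a.comm_s]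
      rw [e1, e2]
      exact ho
    exact IsPullback.of_right hs (pullback.lift_fst _ _ _) ht
  have P2 : IsPullback qq₂ (pullback.snd (m ≫ G₂.s) (G₁.t ≫ a.fU))
      (pullback.snd (m ≫ G₂.s) (m ≫ G₂.t)) q := by
    have ht : IsPullback (pullback.fst (m ≫ G₂.s) (m ≫ G₂.t))
        (pullback.snd (m ≫ G₂.s) (m ≫ G₂.t)) (m ≫ G₂.s) (m ≫ G₂.t) :=
      IsPullback.of_hasPullback _ _
    have hs : IsPullback (qq₂ ≫ pullback.fst (m ≫ G₂.s) (m ≫ G₂.t))
        (pullback.snd (m ≫ G₂.s) (G₁.t ≫ a.fU)) (m ≫ G₂.s) (q ≫ m ≫ G₂.t) := by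
      have e1 : qq₂ ≫ pullback.fst (m ≫ G₂.s) (m ≫ G₂.t) =
          pullback.fst (m ≫ G₂.s) (G₁.t ≫ a.fU) := pullback.lift_fst _ _ _
      have e2 : q ≫ m ≫ G₂.t = G₁.t ≫ a.fU := by rw [← Category.assoc, hqm, a.comm_t]
      rw [e1, e2]
      exact IsPullback.of_hasPullback _ _
    exact IsPullback.of_right hs (pullback.lift_snd _ _ _) ht
  haveI : Flat (pullback.fst (m ≫ G₂.s) (G₁.t ≫ a.fU)) := inferInstance
  haveI : Flat (pullback.snd (m ≫ G₂.s) (m ≫ G₂.t)) := inferInstance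
  haveI : IsSchemeTheoreticallyDominant qq₁ := IsSchemeTheoreticallyDominant.of_isPullback P1.flip
  haveI : IsSchemeTheoreticallyDominant qq₂ := IsSchemeTheoreticallyDominant.of_isPullback P2.flip
  rw [hqq]
  infer_instance

theorem main' [IsIso a.fU] [QuasiCompact a.fR] (k : Type u) [Field k]
    (eU : G₂.U ≅ Spec (CommRingCat.of k)) :
    ∃ (D : SubData G₂) (q : G₁.R ⟶ D.Z),
      q ≫ D.m = a.fR ∧ IsClosedImmersion D.m ∧ D.m.ker = a.fR.ker := by
  let m : a.fR.image ⟶ G₂.R := a.fR.imageι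
  let q : G₁.R ⟶ a.fR.image := a.fR.toImage
  have hqm : q ≫ m = a.fR := a.fR.toImage_imageι
  haveI : IsSchemeTheoreticallyDominant q := isSTD_toImage a.fR
  haveI : QuasiCompact q := inferInstanceAs (QuasiCompact a.fR.toImage)
  haveI : IsClosedImmersion m := inferInstanceAs (IsClosedImmersion a.fR.imageι)
  have hmker : m.ker = a.fR.ker := Scheme.IdealSheafData.ker_subschemeι _
  -- e'
  let e' : G₂.U ⟶ a.fR.image := inv a.fU ≫ G₁.e ≫ q
  have he : e' ≫ m = G₂.e := by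
    simp only [e', Category.assoc, hqm]
    rw [comm_e a, IsIso.inv_hom_id_assoc]
  -- i'
  have hiker : m.ker ≤ (m ≫ G₂.i).ker := by
    rw [hmker]
    exact ker_le_of_std q (m ≫ G₂.i) G₁.i a.fR (by rw [← Category.assoc, hqm, comm_i a])
  let i' : a.fR.image ⟶ a.fR.image := IsClosedImmersion.lift m (m ≫ G₂.i) hiker
  have hi : i' ≫ m = m ≫ G₂.i := IsClosedImmersion.lift_fac _ _ _
  -- c'
  have hw : (pullback.fst (m ≫ G₂.s) (m ≫ G₂.t) ≫ m) ≫ G₂.s =
      (pullback.snd (m ≫ G₂.s) (m ≫ G₂.t) ≫ m) ≫ G₂.t := by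
    rw [Category.assoc, Category.assoc]; exact pullback.condition
  let w : pullback (m ≫ G₂.s) (m ≫ G₂.t) ⟶ G₂.R :=
    cmp G₂ (pullback.fst _ _ ≫ m) (pullback.snd _ _ ≫ m) hw
  let qq : pullback G₁.s G₁.t ⟶ pullback (m ≫ G₂.s) (m ≫ G₂.t) :=
    pullback.map G₁.s G₁.t (m ≫ G₂.s) (m ≫ G₂.t) q q a.fU
      (by rw [← Category.assoc, hqm, a.comm_s]) (by rw [← Category.assoc, hqm, a.comm_t])
  have hqq1 : qq ≫ pullback.fst _ _ = pullback.fst _ _ ≫ q := pullback.lift_fst _ _ _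
  have hqq2 : qq ≫ pullback.snd _ _ = pullback.snd _ _ ≫ q := pullback.lift_snd _ _ _
  haveI : IsSchemeTheoreticallyDominant qq := std_prod a k eU m q hqm qq hqq1 hqq2
  have hqw : qq ≫ w = G₁.c ≫ a.fR := by
    refine (precomp_cmp G₂ qq _ _ hw).trans ?_
    have h3 : G₁.c ≫ a.fR = cmp G₁ (pullback.fst G₁.s G₁.t) (pullback.snd G₁.s G₁.t)
        pullback.condition ≫ a.fR := by rw [← c_eq]
    rw [h3, comm_cmp a]
    refine cmp_congr G₂ _ ?_ ?_
    · rw [← Category.assoc, hqq1, Category.assoc, hqm]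
    · rw [← Category.assoc, hqq2, Category.assoc, hqm]
  have hcker : m.ker ≤ w.ker := by
    rw [hmker]
    exact ker_le_of_std qq w G₁.c a.fR hqw
  let c' : pullback (m ≫ G₂.s) (m ≫ G₂.t) ⟶ a.fR.image := IsClosedImmersion.lift m w hcker
  have hc : c' ≫ m = w := IsClosedImmersion.lift_fac _ _ _
  let D : SubData G₂ := ⟨a.fR.image, m, inferInstance, e', he, i', hi, c', hc⟩
  refine ⟨D, q, hqm, ?_, hmker⟩
  show IsClosedImmersion m
  infer_instance

theorem main [IsIso a.fU] [QuasiCompact a.fR] (k : Type u) [Field k]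
    (eU : G₂.U ≅ Spec (CommRingCat.of k)) :
    ∃ (G' : GroupoidScheme S) (ψ : GroupoidScheme.Hom G' G₂),
      IsIso ψ.fU ∧ IsClosedImmersion ψ.fR ∧ ψ.fR.ker = a.fR.ker := by
  obtain ⟨D, q, hqm, hcl, hker⟩ := main' a k eU
  refine ⟨sub D, subHom D, ?_, hcl, hker⟩
  show IsIso (𝟙 _)
  infer_instance

/-- the corestriction of a morphism of groupoids to a sub-groupoid through which it factors -/
noncomputable def coresHom (D : SubData G₂) (q : G₁.R ⟶ D.Z) (hqm : q ≫ D.m = a.fR) :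
    GroupoidScheme.Hom G₁ (sub D) where
  fU := a.fU
  fR := q
  fU_over := a.fU_over
  comm_s := by
    show q ≫ D.m ≫ G₂.s = G₁.s ≫ a.fU
    rw [← Category.assoc, hqm, a.comm_s]
  comm_t := by
    show q ≫ D.m ≫ G₂.t = G₁.t ≫ a.fU
    rw [← Category.assoc, hqm, a.comm_t]
  comm_c := by
    intro T α β h
    haveI := D.mono
    apply (cancel_mono D.m).1
    refine Eq.trans ?_ (key D (α ≫ q) (β ≫ q) _).symm
    show ((pullback.lift α β h ≫ G₁.c) ≫ q) ≫ D.m = _
    have h0 : ((pullback.lift α β h ≫ G₁.c) ≫ q) ≫ D.m = (pullback.lift α β h ≫ G₁.c) ≫ a.fR := by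
      rw [Category.assoc, hqm]
    refine h0.trans ?_
    refine (comm_cmp a α β h).trans ?_
    refine cmp_congr G₂ _ ?_ ?_
    · rw [Category.assoc, hqm]
    · rw [Category.assoc, hqm]

end Main

end Groth.Agent.Helper18.GrpdImg
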