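import Mathlib

/-!
# The maximal open where a τ-local property holds, and base change

For `Q` a class of morphisms which are open maps, stable under base change and composition and
containing open immersions, and `P` local at the target for `Scheme.precoverage Q`:
* `restrict_of_isPullback`: `P` passes to the base change over `g ⁻¹ᵁ W`;
* `le_of_isPullback`: any open `V'` of `Y'` over which the base change has `P` is inside `g ⁻¹ᵁ W`,
  `W` the maximal open of `Y` over which `f` has `P`.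
-/

namespace Groth.Agent.Lib.Helper18.MaxOpen

open AlgebraicGeometry CategoryTheory Limits

universe u

/-- Hypotheses on the class `Q` of covering morphisms. -/
structure GoodQ (Q : MorphismProperty Scheme.{u}) : Prop where
  bc : Q.IsStableUnderBaseChange
  ofOpen : ∀ {X Y : Scheme.{u}} (f : X ⟶ Y), IsOpenImmersion f → Q f
  comp : ∀ {X Y Z : Scheme.{u}} (f : X ⟶ Y) (g : Y ⟶ Z), Q f → Q g → Q (f ≫ g)
  openMap : ∀ {X Y : Scheme.{u}} (f : X ⟶ Y), Q f → IsOpenMap f

theorem goodQ_openImmersion : GoodQ.{u} @IsOpenImmersion where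
  bc := inferInstance
  ofOpen _ h := h
  comp _ _ h₁ h₂ := by
    haveI := h₁; haveI := h₂; infer_instance
  openMap f h := by
    haveI : IsOpenImmersion f := h
    exact f.isOpenEmbedding.isOpenMap

theorem goodQ_etale : GoodQ.{u} @Etale where
  bc := inferInstance
  ofOpen _ h := by haveI := h; infer_instance
  comp _ _ h₁ h₂ := by
    haveI := h₁; haveI := h₂; infer_instance
  openMap f h := by
    haveI : Etale f := h
    exact f.isOpenMap

theorem goodQ_smooth : GoodQ.{u} @Smooth where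
  bc := inferInstance
  ofOpen _ h := by haveI := h; infer_instance
  comp _ _ h₁ h₂ := by
    haveI := h₁; haveI := h₂; infer_instance
  openMap f h := by
    haveI : Smooth f := h
    exact f.isOpenMap

theorem goodQ_fppf : GoodQ.{u} (@Flat ⊓ @LocallyOfFinitePresentation) where
  bc := MorphismProperty.IsStableUnderBaseChange.inf
  ofOpen _ h := by haveI := h; exact ⟨inferInstance, inferInstance⟩
  comp _ _ h₁ h₂ := by
    haveI := h₁.1; haveI := h₂.1; haveI := h₁.2; haveI := h₂.2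
    exact ⟨inferInstance, inferInstance⟩
  openMap f h := by
    haveI : Flat f := h.1
    haveI : LocallyOfFinitePresentation f := h.2
    exact f.isOpenMap

variable {X Y X' Y' : Scheme.{u}} {f : X ⟶ Y} {g : Y' ⟶ Y} {f' : X' ⟶ Y'} {g' : X' ⟶ X}

/-- Restricting a cartesian square to opens `V' ⊆ Y'`, `V ⊆ Y` with `g(V') ⊆ V`. -/
theorem exists_isPullback_restrict (sq : IsPullback g' f' f g) (V : Y.Opens) (V' : Y'.Opens)
    (h : V'.toScheme ⟶ V.toScheme) (hh : h ≫ V.ι = V'.ι ≫ g) :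
    ∃ k : (f' ⁻¹ᵁ V').toScheme ⟶ (f ⁻¹ᵁ V).toScheme, IsPullback k (f' ∣_ V') (f ∣_ V) h := by
  have hR := isPullback_morphismRestrict f V
  have hL := isPullback_morphismRestrict f' V'
  have comm : ((f' ⁻¹ᵁ V').ι ≫ g') ≫ f = ((f' ∣_ V') ≫ h) ≫ V.ι := by
    rw [Category.assoc, Category.assoc, hh, sq.w, ← Category.assoc, ← Category.assoc, hL.w]
  refine ⟨hR.flip.lift ((f' ⁻¹ᵁ V').ι ≫ g') ((f' ∣_ V') ≫ h) comm, ?_⟩
  have h1 : hR.flip.lift ((f' ⁻¹ᵁ V').ι ≫ g') ((f' ∣_ V') ≫ h) comm ≫ (f ⁻¹ᵁ V).ι =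
      (f' ⁻¹ᵁ V').ι ≫ g' := hR.flip.lift_fst _ _ _
  have h2 : hR.flip.lift ((f' ⁻¹ᵁ V').ι ≫ g') ((f' ∣_ V') ≫ h) comm ≫ (f ∣_ V) =
      (f' ∣_ V') ≫ h := hR.flip.lift_snd _ _ _
  have big : IsPullback ((f' ⁻¹ᵁ V').ι ≫ g') (f' ∣_ V') f (V'.ι ≫ g) := hL.flip.paste_horiz sq
  refine IsPullback.of_right ?_ h2 hR.flip
  rw [h1, hh]
  exact big

variable {Q : MorphismProperty Scheme.{u}} (hQ : GoodQ Q)
  (P : MorphismProperty Scheme.{u}) [P.IsLocalAtTarget (Scheme.precoverage Q)]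

include hQ in
theorem restrict_of_isPullback (sq : IsPullback g' f' f g) (hg : Q g)
    (hsurj : Function.Surjective g) (W : Y.Opens) (hW : P (f ∣_ W)) :
    P (f' ∣_ (g ⁻¹ᵁ W)) := by
  haveI := hQ.bc
  obtain ⟨k, hk⟩ := exists_isPullback_restrict sq W (g ⁻¹ᵁ W) (g ∣_ W) (morphismRestrict_ι g W)
  have hQg : Q (g ∣_ W) :=
    MorphismProperty.of_isPullback (isPullback_morphismRestrict g W).flip hg
  have hsur : Function.Surjective (g ∣_ W) := by
    intro w
    obtain ⟨y, hy⟩ := hsurj w.1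
    have hyW : y ∈ g ⁻¹ᵁ W := by
      show g y ∈ W
      rw [hy]; exact w.2
    refine ⟨⟨y, hyW⟩, ?_⟩
    apply Subtype.ext
    have := congrArg (fun φ : (g ⁻¹ᵁ W).toScheme ⟶ Y => φ.base ⟨y, hyW⟩) (morphismRestrict_ι g W)
    exact this.trans hy
  have hmem : Presieve.singleton (g ∣_ W) ∈ Scheme.precoverage Q W :=
    (Scheme.singleton_mem_precoverage_iff Q _).mpr ⟨hsur, hQg⟩
  haveI : HasPullback (f ∣_ W) (g ∣_ W) := hk.hasPullback
  have := MorphismProperty.IsLocalAtTarget.pullbackSnd (P := P) hmem (Presieve.singleton.mk) hW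
  rw [← P.cancel_left_of_respectsIso hk.isoPullback.inv, hk.isoPullback_inv_snd]
  exact this

include hQ in
theorem le_of_isPullback (sq : IsPullback g' f' f g) (hg : Q g) (W : Y.Opens)
    (hmax : ∀ W' : Y.Opens, P (f ∣_ W') → W' ≤ W) (V' : Y'.Opens) (hV' : P (f' ∣_ V')) :
    V' ≤ g ⁻¹ᵁ W := by
  haveI := hQ.bc
  let V : Y.Opens := ⟨g '' V', hQ.openMap g hg _ V'.2⟩
  have hrange : Set.range (V'.ι ≫ g) ⊆ Set.range V.ι := by
    rintro _ ⟨x, rfl⟩
    rw [Scheme.Opens.range_ι]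
    exact ⟨x.1, x.2, rfl⟩
  let h : V'.toScheme ⟶ V.toScheme := IsOpenImmersion.lift V.ι (V'.ι ≫ g) hrange
  have hh : h ≫ V.ι = V'.ι ≫ g := IsOpenImmersion.lift_fac _ _ _
  obtain ⟨k, hk⟩ := exists_isPullback_restrict sq V V' h hh
  have hQh : Q h := by
    have sq' : IsPullback (𝟙 V'.toScheme) h (V'.ι ≫ g) V.ι :=
      IsPullback.of_horiz_isIso_mono ⟨by rw [Category.id_comp, hh]⟩
    exact MorphismProperty.of_isPullback sq'
      (hQ.comp _ _ (hQ.ofOpen _ inferInstance) hg)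
  have hsur : Function.Surjective h := by
    rintro ⟨_, x, hx, rfl⟩
    refine ⟨⟨x, hx⟩, ?_⟩
    apply Subtype.ext
    have := congrArg (fun φ : V'.toScheme ⟶ Y => φ.base ⟨x, hx⟩) hh
    exact this
  have hmem : Presieve.singleton h ∈ Scheme.precoverage Q V :=
    (Scheme.singleton_mem_precoverage_iff Q _).mpr ⟨hsur, hQh⟩
  have hPV : P (f ∣_ V) := by
    refine MorphismProperty.IsLocalAtTarget.of_forall_pullbackSnd (P := P) hmem ?_
    intro U g₀ _ hg₀
    cases hg₀
    rw [← hk.isoPullback_inv_snd, P.cancel_left_of_respectsIso]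
    exact hV'
  intro y hy
  exact hmax V hPV ⟨y, hy, rfl⟩

end Groth.Agent.Lib.Helper18.MaxOpen
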