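import Mathlib
import Groth.Prelude.Def_Grpd
import Groth.Agent.Lib.Helper18.GrpdOm
import Groth.Agent.Lib.Helper18.MaxOpen

set_option autoImplicit false
set_option linter.style.haveILetI false
set_option linter.unusedSectionVars false
set_option maxRecDepth 8000
universe u
open CategoryTheory CategoryTheory.Limits AlgebraicGeometry TopologicalSpace Opposite

/-!
# Invariance of the maximal open where a τ-local property holds (groupoid schemes)
-/

namespace Groth.Agent.Helper18.GrpdMax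

open Grpd Groth.Agent.Helper18.GrpdOm Groth.Agent.Lib.Helper18.MaxOpen

variable {S : Scheme.{u}} (G : GroupoidScheme S)

section General

variable {Q : MorphismProperty Scheme.{u}} (hQ : GoodQ Q)
  (P : MorphismProperty Scheme.{u}) [P.IsLocalAtTarget (Scheme.precoverage Q)]

include hQ in
/-- If `Z → R` is at the same time the base change of `f : X → U` along `s` and along `t`, then the
maximal open of `U` over which `f` has `P` is `R`-invariant. -/
theorem inv_of_two_squares (hs : Presieve.singleton G.s ∈ Scheme.precoverage Q G.U)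
    (ht : Presieve.singleton G.t ∈ Scheme.precoverage Q G.U)
    {X Z : Scheme.{u}} (f : X ⟶ G.U) (f'' : Z ⟶ G.R) (a b : Z ⟶ X)
    (sqs : IsPullback a f'' f G.s) (sqt : IsPullback b f'' f G.t)
    (W : G.U.Opens) (hW : P (f ∣_ W)) (hmax : ∀ W' : G.U.Opens, P (f ∣_ W') → W' ≤ W) :
    G.s ⁻¹ᵁ W = G.t ⁻¹ᵁ W := by
  rw [Scheme.singleton_mem_precoverage_iff] at hs ht
  apply le_antisymm
  · exact le_of_isPullback hQ P sqt ht.2 W hmax _ (restrict_of_isPullback hQ P sqs hs.2 hs.1 W hW)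
  · exact le_of_isPullback hQ P sqs hs.2 W hmax _ (restrict_of_isPullback hQ P sqt ht.2 ht.1 W hW)

end General

theorem restrict_congr (P : MorphismProperty Scheme.{u}) {X Y : Scheme.{u}} {f g : X ⟶ Y}
    (h : f = g) (W : Y.Opens) : P (f ∣_ W) ↔ P (g ∣_ W) := by
  subst h; rfl

theorem i_i_point {T : Scheme.{u}} (α : T ⟶ G.R) : (α ≫ G.i) ≫ G.i = α := by
  have h1 : (α ≫ G.i) ≫ G.s = α ≫ G.t := by rw [Category.assoc, G.i_s]
  have h2 : ((α ≫ G.i) ≫ G.i) ≫ G.t = α ≫ G.t := by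
    rw [Category.assoc, G.i_t, Category.assoc, G.i_s]
  -- ((α⁻¹)⁻¹) = ((α⁻¹)⁻¹) ∘ (α⁻¹ ∘ α) = α
  have hA : ((α ≫ G.i) ≫ G.i) ≫ G.s = (α ≫ G.i) ≫ G.t := by rw [Category.assoc, G.i_s]
  have hB : (α ≫ G.i) ≫ G.s = α ≫ G.t := h1
  have e1 := cmp_assoc G ((α ≫ G.i) ≫ G.i) (α ≫ G.i) α hA hB
  have e2 := i_cmp G (α ≫ G.i)
  have e3 := i_cmp G α
  have lhs : cmp G (cmp G ((α ≫ G.i) ≫ G.i) (α ≫ G.i) hA) α ((cmp_s G _ _ hA).trans hB) = α := by
    have : (α ≫ G.i) ≫ G.s ≫ G.e = α ≫ G.t ≫ G.e := by rw [← Category.assoc, h1, Category.assoc]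
    refine (cmp_congr G _ (e2.trans this) rfl).trans ?_
    exact e_cmp G α
  have rhs : cmp G ((α ≫ G.i) ≫ G.i) (cmp G (α ≫ G.i) α hB) (hA.trans (cmp_t G _ _ hB).symm) =
      (α ≫ G.i) ≫ G.i := by
    have : α ≫ G.s ≫ G.e = ((α ≫ G.i) ≫ G.i) ≫ G.s ≫ G.e := by
      rw [← Category.assoc ((α ≫ G.i) ≫ G.i), Category.assoc (α ≫ G.i), G.i_s, Category.assoc α,
        G.i_t, ← Category.assoc]
    refine (cmp_congr G _ rfl (e3.trans this)).trans ?_
    exact cmp_e G _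
  exact rhs.symm.trans (e1.symm.trans lhs)

theorem i_i : G.i ≫ G.i = 𝟙 G.R := by
  have := i_i_point G (𝟙 G.R)
  rwa [Category.id_comp] at this

theorem isIso_i : IsIso G.i := ⟨G.i, i_i G, i_i G⟩

theorem s_iff_t (P : MorphismProperty Scheme.{u}) [P.RespectsIso] (W : G.U.Opens) :
    P (G.s ∣_ W) ↔ P (G.t ∣_ W) := by
  haveI := isIso_i G
  rw [restrict_congr P G.i_t.symm W, morphismRestrict_comp]
  exact P.cancel_left_of_respectsIso (G.i ∣_ G.t ⁻¹ᵁ W) (G.t ∣_ W)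

/-- S7504 for a general class `Q`. -/
theorem s_invariant {Q : MorphismProperty Scheme.{u}} (hQ : GoodQ Q)
    (P : MorphismProperty Scheme.{u}) [P.IsLocalAtTarget (Scheme.precoverage Q)]
    (hs : Presieve.singleton G.s ∈ Scheme.precoverage Q G.U)
    (ht : Presieve.singleton G.t ∈ Scheme.precoverage Q G.U)
    (W : G.U.Opens) (hW : P (G.s ∣_ W)) (hmax : ∀ W' : G.U.Opens, P (G.s ∣_ W') → W' ≤ W) :
    G.s ⁻¹ᵁ W = G.t ⁻¹ᵁ W := by
  refine inv_of_two_squares G hQ P hs ht G.t (pullback.fst G.s G.t) (pullback.snd G.s G.t) G.c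
    (IsPullback.of_hasPullback G.s G.t).flip (isPullback_c G) W ((s_iff_t G P W).mp hW) ?_
  intro W' hW'
  exact hmax W' ((s_iff_t G P W').mpr hW')

end Groth.Agent.Helper18.GrpdMax
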