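import Groth.Agent.Lib.Helper18.GeomRedGen
import Groth.Agent.Lib.Helper18.StalkBC2
import Groth.Agent.Lib.Helper16.Sch.BCRed
import Groth.Agent.Lib.Helper16.Sch.GeomRedEt

/-!
# A reduced scheme geometrically reduced at its generic points is geometrically reduced (helper18)
-/

set_option autoImplicit false
universe u
open CategoryTheory CategoryTheory.Limits AlgebraicGeometry
open scoped TensorProduct

namespace Groth.Agent.Helper18.GeomRedGen

open Groth.Agent.Helper18.StalkBC

variable {k : Type u} [Field k] {X : Scheme.{u}} (f : X ⟶ Spec (CommRingCat.of k))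

/-- `Coh.toGlobal` with values in the commutative ring `Γ(X, ⊤)` -/
noncomputable def tg : k →+* Γ(X, ⊤) :=
  f.appTop.hom.comp (Scheme.ΓSpecIso (CommRingCat.of k)).inv.hom

/-- the structure morphism of an affine `k`-scheme in terms of `Coh.toGlobal` -/
theorem isoSpec_inv_comp [IsAffine X] :
    X.isoSpec.inv ≫ f = Spec.map (CommRingCat.ofHom (tg f)) := by
  rw [Iso.inv_comp_eq]
  have h := Scheme.isoSpec_hom_naturality f
  rw [Scheme.isoSpec_Spec_hom] at h
  have h2 : f = X.isoSpec.hom ≫ Spec.map f.appTop ≫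
      Spec.map (Scheme.ΓSpecIso (CommRingCat.of k)).inv := by
    rw [← Category.assoc, h, Category.assoc, ← Spec.map_comp, Iso.inv_hom_id, Spec.map_id,
      Category.comp_id]
  conv_lhs => rw [h2]
  rw [← Spec.map_comp]
  rfl

/-- affine case -/
theorem isReduced_bc_of_isAffine [IsAffine X] [IsReduced X]
    (h : ∀ η : X, (∀ y : X, y ⤳ η → y = η) → FBase.IsGeomReducedAt f η)
    (K : Type u) [Field K] [Algebra k K] : IsReduced (FBase.bc f K) := by
  letI : Algebra k Γ(X, ⊤) := (tg f).toAlgebra
  haveI : _root_.IsReduced Γ(X, ⊤) := inferInstance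
  -- the ring-level statement
  have hring : _root_.IsReduced (Γ(X, ⊤) ⊗[k] K) := by
    -- points attached to minimal primes
    let pt : minimalPrimes Γ(X, ⊤) → X := fun p =>
      X.isoSpec.inv (⟨p.1, p.2.1.1⟩ : PrimeSpectrum Γ(X, ⊤))
    have hpt : ∀ p : minimalPrimes Γ(X, ⊤),
        X.toSpecΓ (pt p) = (⟨p.1, p.2.1.1⟩ : PrimeSpectrum Γ(X, ⊤)) := by
      intro p
      show (X.isoSpec.inv ≫ X.toSpecΓ) _ = _
      rw [Scheme.isoSpec_inv_toSpecΓ]; rfl
    letI : ∀ p : minimalPrimes Γ(X, ⊤), Algebra k (X.presheaf.stalk (pt p)) :=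
      fun p => stalkAlg f (pt p)
    let ψ : ∀ p : minimalPrimes Γ(X, ⊤), Γ(X, ⊤) →ₐ[k] X.presheaf.stalk (pt p) := fun p =>
      { (X.presheaf.germ ⊤ (pt p) trivial).hom with
        commutes' := fun c => rfl }
    refine isReduced_tensor_of_minimalPrimes Γ(X, ⊤) K (fun p => X.presheaf.stalk (pt p)) ψ ?_ ?_
    · intro p r hr
      have h1 : pt p ∉ X.basicOpen r := by
        rw [Scheme.mem_basicOpen_top]
        intro hu
        have : (X.presheaf.germ ⊤ (pt p) trivial).hom r = 0 := hr
        rw [this] at hu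
        exact not_isUnit_zero hu
      rw [← Scheme.toSpecΓ_preimage_basicOpen] at h1
      have h2 : X.toSpecΓ (pt p) ∉ PrimeSpectrum.basicOpen r := h1
      rw [hpt p] at h2
      by_contra hmem
      exact h2 hmem
    · intro p
      have hgen : ∀ y : X, y ⤳ pt p → y = pt p := by
        intro y hy
        have h1 : X.toSpecΓ y ⤳ X.toSpecΓ (pt p) := hy.map X.toSpecΓ.continuous
        rw [hpt p] at h1
        have h2 : (X.toSpecΓ y).asIdeal ≤ p.1 :=
          (PrimeSpectrum.le_iff_specializes (R := Γ(X, ⊤)) (X.toSpecΓ y) ⟨p.1, p.2.1.1⟩).mpr h1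
        have h3 : p.1 ≤ (X.toSpecΓ y).asIdeal :=
          p.2.2 ⟨(X.toSpecΓ y).isPrime, bot_le⟩ h2
        have h4 : X.toSpecΓ y = X.toSpecΓ (pt p) := by
          rw [hpt p]
          exact PrimeSpectrum.ext (le_antisymm h2 h3)
        have hinj : Function.Injective X.toSpecΓ :=
          (X.isoSpec.hom.homeomorph).injective
        exact hinj h4
      have hgr := (isGeomReducedAt_iff_stalk f (pt p)).mp (h (pt p) hgen)
      haveI := hgr
      exact isReduced_comm (Groth.Agent.Helper14.isReduced_tensor_of_isGeometricallyReduced K)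
  -- back to schemes
  have h1 : IsReduced (pullback (Spec.map (CommRingCat.ofHom (algebraMap k Γ(X, ⊤))))
      (Spec.map (CommRingCat.ofHom (algebraMap k K)))) :=
    (Groth.Agent.Helper16.BCRed.isReduced_pullback_Spec_iff Γ(X, ⊤) K).mpr (isReduced_comm hring)
  have h2 : Spec.map (CommRingCat.ofHom (algebraMap k Γ(X, ⊤))) = X.isoSpec.inv ≫ f :=
    (isoSpec_inv_comp f).symm
  rw [h2] at h1
  let e : pullback f (Spec.map (CommRingCat.ofHom (algebraMap k K))) ⟶
      pullback (X.isoSpec.inv ≫ f) (Spec.map (CommRingCat.ofHom (algebraMap k K))) :=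
    pullback.map _ _ _ _ X.isoSpec.hom (𝟙 _) (𝟙 _) (by simp) (by simp)
  haveI : IsIso e := by dsimp only [e]; infer_instance
  haveI : IsOpenImmersion e := inferInstance
  haveI := h1
  show IsReduced (pullback f (Spec.map (CommRingCat.ofHom (algebraMap k K))))
  exact isReduced_of_isOpenImmersion e

/-- general case -/
theorem isReduced_bc_of_generic [IsReduced X]
    (h : ∀ Z ∈ irreducibleComponents (X : Type u), ∀ η : X, IsGenericPoint η Z →
      FBase.IsGeomReducedAt f η)
    (K : Type u) [Field K] [Algebra k K] : IsReduced (FBase.bc f K) := by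
  let 𝒲 := Scheme.Pullback.openCoverOfLeft X.affineCover f (Spec.map (CommRingCat.ofHom (algebraMap k K)))
  have key : ∀ i : X.affineCover.I₀, IsReduced (FBase.bc (X.affineCover.f i ≫ f) K) := by
    intro i
    haveI : IsReduced (X.affineCover.X i) := isReduced_of_isOpenImmersion (X.affineCover.f i)
    refine isReduced_bc_of_isAffine (X.affineCover.f i ≫ f) ?_ K
    intro η hη
    have hgen : ∀ y : X, y ⤳ X.affineCover.f i η → y = X.affineCover.f i η := by
      intro y hy
      have hy_mem : y ∈ Set.range (X.affineCover.f i) :=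
        hy.mem_open (X.affineCover.f i).isOpenEmbedding.isOpen_range ⟨η, rfl⟩
      obtain ⟨y', rfl⟩ := hy_mem
      have := ((X.affineCover.f i).isOpenEmbedding.isInducing.specializes_iff).mp hy
      rw [hη y' this]
    have hZ := closure_mem_irreducibleComponents (X.affineCover.f i η) hgen
    have hgr := h _ hZ (X.affineCover.f i η) isGenericPoint_closure
    let g : Over.mk (X.affineCover.f i ≫ f) ⟶ Over.mk f := Over.homMk (X.affineCover.f i) rfl
    haveI : Etale g.left := by
      show Etale (X.affineCover.f i)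
      infer_instance
    exact (Groth.Agent.Helper16.GeomRedEt.isGeomReducedAt_iff_of_etale g η).mpr hgr
  haveI : ∀ i, IsReduced (𝒲.X i) := fun i => key i
  exact IsReduced.of_openCover _ 𝒲

/-- geometric reducedness of a reduced scheme from its generic points -/
theorem geometricallyReduced_of_generic [IsReduced X]
    (h : ∀ Z ∈ irreducibleComponents (X : Type u), ∀ η : X, IsGenericPoint η Z →
      FBase.IsGeomReducedAt f η) : GeometricallyReduced f := by
  refine ⟨?_⟩
  intro K _ y Z fst snd hpb
  letI : Algebra k K := (Spec.preimage y).hom.toAlgebra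
  have hy : y = Spec.map (CommRingCat.ofHom (algebraMap k K)) := (Spec.map_preimage y).symm
  have hred : IsReduced (FBase.bc f K) := isReduced_bc_of_generic f h K
  rw [hy] at hpb
  haveI : IsReduced (pullback f (Spec.map (CommRingCat.ofHom (algebraMap k K)))) := hred
  exact isReduced_of_isOpenImmersion hpb.isoPullback.hom

end Groth.Agent.Helper18.GeomRedGen
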