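import Mathlib
import Groth.Prelude.Def_RefHull
import Groth.Prelude.Def_Pic
import Groth.Agent.Lib.Lead.HomSh1
import Groth.Agent.Lib.Helper13.InvGen
import Groth.Agent.Lib.Helper13.GenLocus
import Groth.Agent.Lib.Helper13.LocFree

/-!
# Endomorphisms of invertible modules are scalars

For an invertible `O_X`-module `L`, every endomorphism acts on all stalks by the germs of one global
function.  On an integral scheme universally closed over a field, `Γ(X, O_X)` is a field, hence
`End(L)` is "local": if `a + b = 𝟙` then `a` or `b` is an isomorphism.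
-/

set_option autoImplicit false
set_option linter.style.haveILetI false
set_option maxHeartbeats 400000
universe u
open CategoryTheory CategoryTheory.Limits AlgebraicGeometry Opposite TopologicalSpace
open RefHull
open Groth.Agent.Helper13.Inv Groth.Agent.Helper13.GenLoc Groth.Agent.Lead.HomSh
open Groth.Agent.Helper13.QCoh

namespace Groth.Agent.Helper18.InvEnd

variable {X : Scheme.{u}}

theorem exists_scalar_of_isGen {L : X.Modules} {U : X.Opens} (e : Γ(L, U)) (y : X) (hy : y ∈ U)
    (he : IsGen L e y hy) (φ : StalkHom L L y) :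
    ∃ c : X.presheaf.stalk y, ∀ m, φ m = c • m := by
  obtain ⟨c, hc⟩ := he.2 (φ (L.presheaf.germ U y hy e))
  refine ⟨c, fun m => ?_⟩
  obtain ⟨r, hr⟩ := he.2 m
  have hc' : c • L.presheaf.germ U y hy e = φ (L.presheaf.germ U y hy e) := hc
  have hr' : r • L.presheaf.germ U y hy e = m := hr
  rw [← hr', map_smul, ← hc', smul_smul, smul_smul, mul_comm]

/-- gluing germs of functions. -/
theorem exists_glue_O (t : ∀ y : X, X.presheaf.stalk y)
    (h : ∀ y : X, ∃ (W : X.Opens) (_ : y ∈ W) (n : Γ(X, W)),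
      ∀ z : W, X.presheaf.germ W z.1 z.2 n = t z.1) :
    ∃ n : Γ(X, ⊤), ∀ y : X, X.presheaf.germ ⊤ y trivial n = t y := by
  choose W hy n hn using h
  have hcompat : TopCat.Presheaf.IsCompatible X.presheaf W n := by
    intro i k
    refine TopCat.Presheaf.section_ext X.sheaf _ _ _ (fun z hz => ?_)
    change X.presheaf.germ (W i ⊓ W k) z hz (X.presheaf.map (Opens.infLELeft (W i) (W k)).op (n i)) =
      X.presheaf.germ (W i ⊓ W k) z hz (X.presheaf.map (Opens.infLERight (W i) (W k)).op (n k))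
    rw [TopCat.Presheaf.germ_res_apply, TopCat.Presheaf.germ_res_apply]
    rw [hn i ⟨z, hz.1⟩, hn k ⟨z, hz.2⟩]
  obtain ⟨s, hs, -⟩ := TopCat.Sheaf.existsUnique_gluing' X.sheaf W ⊤ (fun y => homOfLE le_top)
    (fun y _ => Opens.mem_iSup.2 ⟨y, hy y⟩) n hcompat
  refine ⟨s, fun y => ?_⟩
  have h1 : X.presheaf.map (homOfLE le_top : W y ⟶ ⊤).op s = n y := hs y
  rw [← TopCat.Presheaf.germ_res_apply X.presheaf (homOfLE le_top : W y ⟶ ⊤) y (hy y) s, h1]
  exact hn y ⟨y, hy y⟩

/-- every endomorphism of an invertible module is multiplication by a global function. -/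
theorem exists_global_scalar {L : X.Modules} (hL : PicF.IsInvertible L) (a : L ⟶ L) :
    ∃ s : Γ(X, ⊤), ∀ (x : X) (m : L.presheaf.stalk x),
      stalkMapₗ a x m = X.presheaf.germ ⊤ x trivial s • m := by
  have hgen := (isInvertible_iff_exists_isGen L).1 hL
  have h1 : ∀ y : X, ∃ c : X.presheaf.stalk y, ∀ m, stalkMapₗ a y m = c • m := by
    intro y
    obtain ⟨U, hyU, e, he⟩ := hgen y
    exact exists_scalar_of_isGen e y hyU (he y hyU) (stalkMapₗ a y)
  choose c hc using h1
  have h2 : ∃ s : Γ(X, ⊤), ∀ y : X, X.presheaf.germ ⊤ y trivial s = c y := by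
    apply exists_glue_O
    intro y
    obtain ⟨U, hyU, e, he⟩ := hgen y
    obtain ⟨W, hyW, hWU, hWV, r, hr⟩ :=
      exists_eq_smul_of_isGen L e y hyU (he y hyU) (V := U) hyU (a.app U e)
    refine ⟨W, hyW, r, fun z => ?_⟩
    apply (he z.1 (hWU z.2)).1
    change X.presheaf.germ W z.1 z.2 r • L.presheaf.germ U z.1 (hWU z.2) e =
      c z.1 • L.presheaf.germ U z.1 (hWU z.2) e
    rw [← hc z.1, stalkMapₗ_germ,
      ← TopCat.Presheaf.germ_res_apply L.presheaf (homOfLE hWV) z.1 z.2 (a.app U e), hr,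
      Mero.germ_smul, TopCat.Presheaf.germ_res_apply]
  obtain ⟨s, hs⟩ := h2
  exact ⟨s, fun x m => by rw [hs x]; exact hc x m⟩

theorem stalkMapₗ_add {F G : X.Modules} (a b : F ⟶ G) (x : X) (m : F.presheaf.stalk x) :
    stalkMapₗ (a + b) x m = stalkMapₗ a x m + stalkMapₗ b x m := by
  obtain ⟨U, hU, n, rfl⟩ := TopCat.Presheaf.exists_germ_eq F.presheaf m
  rw [stalkMapₗ_germ, stalkMapₗ_germ, stalkMapₗ_germ, Scheme.Modules.Hom.add_app]
  exact map_add _ _ _

theorem stalkMapₗ_id {F : X.Modules} (x : X) (m : F.presheaf.stalk x) :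
    stalkMapₗ (𝟙 F) x m = m := by
  obtain ⟨U, hU, n, rfl⟩ := TopCat.Presheaf.exists_germ_eq F.presheaf m
  rw [stalkMapₗ_germ]
  rfl

theorem stalkMapₗ_comp {F G H : X.Modules} (a : F ⟶ G) (b : G ⟶ H) (x : X)
    (m : F.presheaf.stalk x) :
    stalkMapₗ (a ≫ b) x m = stalkMapₗ b x (stalkMapₗ a x m) := by
  obtain ⟨U, hU, n, rfl⟩ := TopCat.Presheaf.exists_germ_eq F.presheaf m
  rw [stalkMapₗ_germ, stalkMapₗ_germ, stalkMapₗ_germ]
  rfl

theorem bijective_stalkMapₗ_of_isIso {F G : X.Modules} (φ : F ⟶ G) [IsIso φ] (x : X) :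
    Function.Bijective (stalkMapₗ φ x) := by
  haveI : IsIso φ.mapPresheaf := by
    change IsIso ((Scheme.Modules.toPresheaf X).map φ)
    infer_instance
  exact ConcreteCategory.bijective_of_isIso
    ((TopCat.Presheaf.stalkFunctor Ab.{u} x).map φ.mapPresheaf)

theorem isIso_of_bijective_stalkMapₗ {F G : X.Modules} (φ : F ⟶ G)
    (h : ∀ x : X, Function.Bijective (stalkMapₗ φ x)) : IsIso φ :=
  Groth.Agent.Helper13.LocFree.isIso_of_stalk_bijective φ h

/-- an endomorphism whose scalar is a unit is an isomorphism. -/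
theorem isIso_of_scalar_unit {L : X.Modules} (a : L ⟶ L) (s u : Γ(X, ⊤)) (hsu : s * u = 1)
    (hs : ∀ (x : X) (m : L.presheaf.stalk x),
      stalkMapₗ a x m = X.presheaf.germ ⊤ x trivial s • m) : IsIso a := by
  apply isIso_of_bijective_stalkMapₗ
  intro x
  have hgu : X.presheaf.germ ⊤ x trivial u * X.presheaf.germ ⊤ x trivial s = 1 := by
    rw [← map_mul, mul_comm, hsu, map_one]
  constructor
  · intro m m' hmm
    rw [hs, hs] at hmm
    have := congrArg (fun z => X.presheaf.germ ⊤ x trivial u • z) hmm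
    simp only [smul_smul, hgu, one_smul] at this
    exact this
  · intro m
    refine ⟨X.presheaf.germ ⊤ x trivial u • m, ?_⟩
    rw [hs, smul_smul, mul_comm, hgu, one_smul]

/-- `End(L)` is local when `Γ(X, O_X)` is a field. -/
theorem isIso_or_of_add_eq_id (hF : IsField Γ(X, ⊤))
    {L : X.Modules} (hL : PicF.IsInvertible L) (a b : L ⟶ L) (hab : a + b = 𝟙 L) :
    IsIso a ∨ IsIso b := by
  obtain ⟨s, hs⟩ := exists_global_scalar hL a
  obtain ⟨t, ht⟩ := exists_global_scalar hL b
  have hgen := (isInvertible_iff_exists_isGen L).1 hL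
  have hst : s + t = 1 := by
    apply TopCat.Presheaf.section_ext X.sheaf
    intro x _
    obtain ⟨U, hxU, e, he⟩ := hgen x
    apply (he x hxU).1
    change X.presheaf.germ ⊤ x trivial (s + t) • L.presheaf.germ U x hxU e =
      X.presheaf.germ ⊤ x trivial 1 • L.presheaf.germ U x hxU e
    rw [map_add, add_smul, ← hs, ← ht, ← stalkMapₗ_add, hab, stalkMapₗ_id, map_one, one_smul]
  by_cases h0 : s = 0
  · right
    have ht1 : t = 1 := by rw [h0, zero_add] at hst; exact hst
    exact isIso_of_scalar_unit b t 1 (by rw [ht1, mul_one]) ht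
  · left
    obtain ⟨u, hu⟩ := hF.mul_inv_cancel h0
    exact isIso_of_scalar_unit a s u hu hs

/-- for invertible modules, a split monomorphism is an isomorphism. -/
theorem isIso_of_isIso_comp {L M : X.Modules} (hL : PicF.IsInvertible L)
    (hM : PicF.IsInvertible M) (a : L ⟶ M) (b : M ⟶ L) [IsIso (a ≫ b)] : IsIso a := by
  apply isIso_of_bijective_stalkMapₗ
  intro x
  obtain ⟨U, hxU, e, he⟩ := (isInvertible_iff_exists_isGen L).1 hL x
  obtain ⟨V, hxV, e', he'⟩ := (isInvertible_iff_exists_isGen M).1 hM x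
  set g := L.presheaf.germ U x hxU e with hg
  set h := M.presheaf.germ V x hxV e' with hh
  have hG : Function.Bijective (fun r : X.presheaf.stalk x => r • g) := he x hxU
  have hH : Function.Bijective (fun r : X.presheaf.stalk x => r • h) := he' x hxV
  obtain ⟨α, hα⟩ := hH.2 (stalkMapₗ a x g)
  obtain ⟨β, hβ⟩ := hG.2 (stalkMapₗ b x h)
  have hα' : α • h = stalkMapₗ a x g := hα
  have hβ' : β • g = stalkMapₗ b x h := hβ
  have hbij := bijective_stalkMapₗ_of_isIso (a ≫ b) x
  obtain ⟨m₀, hm₀⟩ := hbij.2 g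
  obtain ⟨r, hr⟩ := hG.2 m₀
  have hr' : r • g = m₀ := hr
  have hcomp : stalkMapₗ (a ≫ b) x m₀ = (r * α * β) • g := by
    rw [← hr', stalkMapₗ_comp, map_smul, ← hα', map_smul, map_smul, ← hβ', smul_smul, smul_smul]
  have hrab : r * α * β = 1 := by
    apply hG.1
    change (r * α * β) • g = (1 : X.presheaf.stalk x) • g
    rw [one_smul, ← hcomp, hm₀]
  constructor
  · intro m m' hmm
    obtain ⟨ρ, hρ⟩ := hG.2 m
    obtain ⟨ρ', hρ'⟩ := hG.2 m'
    have h1 : ρ • g = m := hρ
    have h2 : ρ' • g = m' := hρ'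
    rw [← h1, ← h2, map_smul, map_smul, ← hα', smul_smul, smul_smul] at hmm
    have h3 : ρ * α = ρ' * α := hH.1 hmm
    have h4 : ρ = ρ' := by
      have : ρ * α * (r * β) = ρ' * α * (r * β) := by rw [h3]
      have e1 : ∀ z : X.presheaf.stalk x, z * α * (r * β) = z * (r * α * β) := fun z => by ring
      rw [e1, e1, hrab, mul_one, mul_one] at this
      exact this
    rw [← h1, ← h2, h4]
  · intro n
    obtain ⟨σ, hσ⟩ := hH.2 n
    have h1 : σ • h = n := hσ
    refine ⟨(σ * r * β) • g, ?_⟩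
    rw [map_smul, ← hα', smul_smul, ← h1]
    congr 1
    have : σ * r * β * α = σ * (r * α * β) := by ring
    rw [this, hrab, mul_one]

end Groth.Agent.Helper18.InvEnd
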