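import Mathlib
import Groth.Agent.Lib.Helper18.InvEnd

/-!
# Homomorphisms between invertible modules on an integral scheme

Nonzero homomorphisms compose to nonzero homomorphisms; when `Γ(X, O_X)` is a field, nonzero
endomorphisms of an invertible module are isomorphisms and idempotents are trivial.
-/

set_option autoImplicit false
set_option linter.style.haveILetI false
set_option maxHeartbeats 400000
universe u
open CategoryTheory CategoryTheory.Limits AlgebraicGeometry Opposite TopologicalSpace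
open RefHull
open Groth.Agent.Helper13.Inv Groth.Agent.Helper13.GenLoc Groth.Agent.Lead.HomSh
open Groth.Agent.Helper13.QCoh

namespace Groth.Agent.Helper18.InvEnd

variable {X : Scheme.{u}}

theorem stalkMapₗ_zero {F G : X.Modules} (x : X) (m : F.presheaf.stalk x) :
    stalkMapₗ (0 : F ⟶ G) x m = 0 := by
  obtain ⟨U, hU, n, rfl⟩ := TopCat.Presheaf.exists_germ_eq F.presheaf m
  rw [stalkMapₗ_germ, Scheme.Modules.Hom.zero_app]
  exact map_zero _

theorem eq_zero_of_stalkMapₗ {F G : X.Modules} (a : F ⟶ G)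
    (h : ∀ x m, stalkMapₗ a x m = 0) : a = 0 := by
  apply Scheme.Modules.hom_ext
  intro U
  apply ConcreteCategory.hom_ext
  intro m
  apply sec_ext' G
  intro y
  rw [← stalkMapₗ_germ, h, Scheme.Modules.Hom.zero_app]
  exact (map_zero _).symm

/-- local form of a morphism of invertible modules. -/
theorem exists_local_form {L M : X.Modules} (hL : PicF.IsInvertible L) (hM : PicF.IsInvertible M)
    (h : L ⟶ M) (x : X) :
    ∃ (W : X.Opens) (_ : x ∈ W) (e : Γ(L, W)) (e' : Γ(M, W)) (r : Γ(X, W)),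
      (∀ (y : X) (hy : y ∈ W), IsGen L e y hy) ∧ (∀ (y : X) (hy : y ∈ W), IsGen M e' y hy) ∧
      ∀ (z : X) (hz : z ∈ W), stalkMapₗ h z (L.presheaf.germ W z hz e) =
        X.presheaf.germ W z hz r • M.presheaf.germ W z hz e' := by
  obtain ⟨U, hxU, e, he⟩ := (isInvertible_iff_exists_isGen L).1 hL x
  obtain ⟨V, hxV, e', he'⟩ := (isInvertible_iff_exists_isGen M).1 hM x
  obtain ⟨W, hxW, hWV, hWU, r, hr⟩ :=
    exists_eq_smul_of_isGen M e' x hxV (he' x hxV) (V := U) hxU (h.app U e)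
  refine ⟨W, hxW, L.presheaf.map (homOfLE hWU).op e, M.presheaf.map (homOfLE hWV).op e', r,
    fun y hy => (isGen_res L (homOfLE hWU) e y hy).2 (he y (hWU hy)),
    fun y hy => (isGen_res M (homOfLE hWV) e' y hy).2 (he' y (hWV hy)), fun z hz => ?_⟩
  have h1 : L.presheaf.germ W z hz (L.presheaf.map (homOfLE hWU).op e) =
      L.presheaf.germ U z (hWU hz) e := TopCat.Presheaf.germ_res_apply _ _ _ _ _
  rw [h1, stalkMapₗ_germ,
    ← TopCat.Presheaf.germ_res_apply M.presheaf (homOfLE hWU) z hz (h.app U e), hr, Mero.germ_smul]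

theorem stalk_zero_iff {L M : X.Modules} {W : X.Opens} (h : L ⟶ M) (e : Γ(L, W)) (e' : Γ(M, W))
    (z : X) (hz : z ∈ W) (he : IsGen L e z hz) (he' : IsGen M e' z hz) (ρ : X.presheaf.stalk z)
    (hρ : stalkMapₗ h z (L.presheaf.germ W z hz e) = ρ • M.presheaf.germ W z hz e') :
    (∀ m, stalkMapₗ h z m = 0) ↔ ρ = 0 := by
  constructor
  · intro h0
    apply he'.1
    change ρ • M.presheaf.germ W z hz e' = (0 : X.presheaf.stalk z) • M.presheaf.germ W z hz e'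
    rw [zero_smul, ← hρ, h0]
  · intro h0 m
    obtain ⟨c, hc⟩ := he.2 m
    have hc' : c • L.presheaf.germ W z hz e = m := hc
    rw [← hc', map_smul, hρ, h0, zero_smul, smul_zero]

theorem stalk_ne_zero_of_ne_zero [IsIntegral X] {L M : X.Modules} (hL : PicF.IsInvertible L)
    (hM : PicF.IsInvertible M) (h : L ⟶ M) (hh : h ≠ 0) (x : X) :
    ∃ m, stalkMapₗ h x m ≠ 0 := by
  have h1 : ∃ x₁ m, stalkMapₗ h x₁ m ≠ 0 := by
    by_contra hcon
    push Not at hcon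
    exact hh (eq_zero_of_stalkMapₗ h hcon)
  obtain ⟨x₁, m₁, hm₁⟩ := h1
  obtain ⟨W₁, hx₁, e₁, e₁', r₁, hg₁, hg₁', hf₁⟩ := exists_local_form hL hM h x₁
  obtain ⟨W, hx, e, e', r, hg, hg', hf⟩ := exists_local_form hL hM h x
  have hr₁ : r₁ ≠ 0 := by
    intro h0
    apply hm₁
    refine (stalk_zero_iff h e₁ e₁' x₁ hx₁ (hg₁ _ _) (hg₁' _ _) _ (hf₁ x₁ hx₁)).2 ?_ m₁
    rw [h0, map_zero]
  obtain ⟨z, hz₁, hz⟩ := nonempty_preirreducible_inter W₁.isOpen W.isOpen ⟨x₁, hx₁⟩ ⟨x, hx⟩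
  have hzr₁ : X.presheaf.germ W₁ z hz₁ r₁ ≠ 0 := fun h0 =>
    hr₁ (germ_injective_of_isIntegral X z hz₁ (by rw [h0, map_zero]))
  have hz_ne : ¬ ∀ m, stalkMapₗ h z m = 0 := fun h0 =>
    hzr₁ ((stalk_zero_iff h e₁ e₁' z hz₁ (hg₁ _ _) (hg₁' _ _) _ (hf₁ z hz₁)).1 h0)
  have hzr : X.presheaf.germ W z hz r ≠ 0 := fun h0 =>
    hz_ne ((stalk_zero_iff h e e' z hz (hg _ _) (hg' _ _) _ (hf z hz)).2 h0)
  have hr : r ≠ 0 := fun h0 => hzr (by rw [h0, map_zero])
  have hxr : X.presheaf.germ W x hx r ≠ 0 := fun h0 =>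
    hr (germ_injective_of_isIntegral X x hx (by rw [h0, map_zero]))
  by_contra hcon
  push Not at hcon
  exact hxr ((stalk_zero_iff h e e' x hx (hg _ _) (hg' _ _) _ (hf x hx)).1 hcon)

/-- nonzero homomorphisms between invertible modules on an integral scheme compose to a nonzero
homomorphism. -/
theorem comp_ne_zero [IsIntegral X] {L M N : X.Modules} (hL : PicF.IsInvertible L)
    (hM : PicF.IsInvertible M) (hN : PicF.IsInvertible N) (h : L ⟶ M) (g : M ⟶ N)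
    (hh : h ≠ 0) (hg : g ≠ 0) : h ≫ g ≠ 0 := by
  intro h0
  obtain ⟨x⟩ : Nonempty X := inferInstance
  obtain ⟨W₁, hx₁, e₁, e₁', r₁, hg₁, hg₁', hf₁⟩ := exists_local_form hL hM h x
  obtain ⟨W₂, hx₂, e₂, e₂', r₂, hg₂, hg₂', hf₂⟩ := exists_local_form hM hN g x
  have hρ₁ : X.presheaf.germ W₁ x hx₁ r₁ ≠ 0 := by
    intro h1
    obtain ⟨m, hm⟩ := stalk_ne_zero_of_ne_zero hL hM h hh x
    exact hm ((stalk_zero_iff h e₁ e₁' x hx₁ (hg₁ _ _) (hg₁' _ _) _ (hf₁ x hx₁)).2 h1 m)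
  have hρ₂ : X.presheaf.germ W₂ x hx₂ r₂ ≠ 0 := by
    intro h1
    obtain ⟨m, hm⟩ := stalk_ne_zero_of_ne_zero hM hN g hg x
    exact hm ((stalk_zero_iff g e₂ e₂' x hx₂ (hg₂ _ _) (hg₂' _ _) _ (hf₂ x hx₂)).2 h1 m)
  obtain ⟨u, hu⟩ := (hg₂ x hx₂).2 (M.presheaf.germ W₁ x hx₁ e₁')
  have hu' : u • M.presheaf.germ W₂ x hx₂ e₂ = M.presheaf.germ W₁ x hx₁ e₁' := hu
  have hu0 : u ≠ 0 := by
    intro h1
    rw [h1, zero_smul] at hu'
    have := (hg₁' x hx₁).1 (show (1 : X.presheaf.stalk x) • M.presheaf.germ W₁ x hx₁ e₁' =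
      (0 : X.presheaf.stalk x) • M.presheaf.germ W₁ x hx₁ e₁' by rw [one_smul, zero_smul, ← hu'])
    exact one_ne_zero this
  have hcomp : stalkMapₗ (h ≫ g) x (L.presheaf.germ W₁ x hx₁ e₁) =
      (X.presheaf.germ W₁ x hx₁ r₁ * u * X.presheaf.germ W₂ x hx₂ r₂) •
        N.presheaf.germ W₂ x hx₂ e₂' := by
    rw [stalkMapₗ_comp, hf₁ x hx₁, map_smul, ← hu', map_smul, hf₂ x hx₂, smul_smul, smul_smul]
  rw [h0, stalkMapₗ_zero] at hcomp
  have : X.presheaf.germ W₁ x hx₁ r₁ * u * X.presheaf.germ W₂ x hx₂ r₂ = 0 := by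
    apply (hg₂' x hx₂).1
    change (X.presheaf.germ W₁ x hx₁ r₁ * u * X.presheaf.germ W₂ x hx₂ r₂) •
      N.presheaf.germ W₂ x hx₂ e₂' = (0 : X.presheaf.stalk x) • N.presheaf.germ W₂ x hx₂ e₂'
    rw [zero_smul, ← hcomp]
  exact mul_ne_zero (mul_ne_zero hρ₁ hu0) hρ₂ this

/-- when `Γ(X, O_X)` is a field, nonzero endomorphisms of invertible modules are isomorphisms. -/
theorem isIso_of_ne_zero (hF : IsField Γ(X, ⊤)) {L : X.Modules} (hL : PicF.IsInvertible L)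
    (a : L ⟶ L) (ha : a ≠ 0) : IsIso a := by
  obtain ⟨s, hs⟩ := exists_global_scalar hL a
  have hs0 : s ≠ 0 := by
    intro h0
    apply ha
    apply eq_zero_of_stalkMapₗ
    intro x m
    rw [hs, h0, map_zero, zero_smul]
  obtain ⟨u, hu⟩ := hF.mul_inv_cancel hs0
  exact isIso_of_scalar_unit a s u hu hs

theorem idem_trivial (hF : IsField Γ(X, ⊤)) {L : X.Modules} (hL : PicF.IsInvertible L)
    (p : L ⟶ L) (hp : p ≫ p = p) : p = 0 ∨ p = 𝟙 L := by
  by_cases h0 : p = 0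
  · left; exact h0
  · right
    haveI := isIso_of_ne_zero hF hL p h0
    exact (cancel_epi p).1 (by rw [hp, Category.comp_id])

theorem not_isZero [Nonempty X] {L : X.Modules} (hL : PicF.IsInvertible L) : ¬ IsZero L := by
  intro hz
  obtain ⟨x⟩ := ‹Nonempty X›
  obtain ⟨U, hxU, e, he⟩ := (isInvertible_iff_exists_isGen L).1 hL x
  have h1 : (𝟙 L : L ⟶ L) = 0 := hz.eq_of_src _ _
  have h2 : L.presheaf.germ U x hxU e = 0 := by
    rw [← stalkMapₗ_id x (L.presheaf.germ U x hxU e), h1, stalkMapₗ_zero]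
  have := (he x hxU).1 (show (1 : X.presheaf.stalk x) • L.presheaf.germ U x hxU e =
    (0 : X.presheaf.stalk x) • L.presheaf.germ U x hxU e by rw [one_smul, zero_smul, h2])
  exact one_ne_zero this

end Groth.Agent.Helper18.InvEnd
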