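import Mathlib
import Groth.Agent.Lib.Helper18.InvEnd2
import Groth.Prelude.Def_Coh

/-!
# Endomorphism algebras of coherent modules on proper schemes over a field

Scalar endomorphisms, finite-dimensionality of `End(E)`, Fitting's dichotomy and locality of the
endomorphism ring of an indecomposable coherent module.
-/

set_option autoImplicit false
set_option linter.style.haveILetI false
set_option maxHeartbeats 400000
universe u
open CategoryTheory CategoryTheory.Limits AlgebraicGeometry Opposite TopologicalSpace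
open RefHull Polynomial
open Groth.Agent.Helper13.Inv Groth.Agent.Helper13.GenLoc Groth.Agent.Lead.HomSh
open Groth.Agent.Helper13.QCoh

namespace Groth.Agent.Helper18.InvEnd

/-! ### pure algebra -/

theorem isUnit_or_isNilpotent_of_idem {k A : Type*} [Field k] [Ring A] [Algebra k A]
    [Module.Finite k A]
    (hidem : ∀ e : A, e * e = e → e = 0 ∨ e = 1) (a : A) : IsUnit a ∨ IsNilpotent a := by
  obtain ⟨P₀, hP₀m, hP₀⟩ := IsIntegral.of_finite k a
  have hP₀' : aeval a P₀ = 0 := by rw [aeval_def]; exact hP₀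
  have hP0 : (X * P₀ : k[X]) ≠ 0 := mul_ne_zero X_ne_zero hP₀m.ne_zero
  have hPa : aeval a (X * P₀ : k[X]) = 0 := by rw [aeval_mul, hP₀', mul_zero]
  obtain ⟨q, hq, hnd⟩ := exists_eq_pow_rootMultiplicity_mul_and_not_dvd (X * P₀ : k[X]) hP0 0
  set m := rootMultiplicity 0 (X * P₀ : k[X]) with hm
  have hm1 : 1 ≤ m := by
    rw [hm, Nat.succ_le_iff, rootMultiplicity_pos hP0]
    simp
  rw [C_0, sub_zero] at hq hnd
  have hcop : IsCoprime (X ^ m : k[X]) q :=
    IsCoprime.pow_left ((irreducible_X.coprime_iff_not_dvd).2 hnd)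
  obtain ⟨u, v, huv⟩ := hcop
  have h1 : aeval a u * a ^ m + aeval a v * aeval a q = 1 := by
    have := congrArg (aeval a) huv
    rw [map_add, aeval_mul, aeval_mul, aeval_X_pow, map_one] at this
    exact this
  set e := aeval a v * aeval a q with he
  have e_eq : e = aeval a (v * q) := by rw [he, aeval_mul]
  have t_eq : aeval a u * a ^ m = aeval a (u * X ^ m) := by rw [aeval_mul, aeval_X_pow]
  have hee : e * e = e := by
    have h3 : e * (aeval a u * a ^ m) = 0 := by
      have h4 : (v * q) * (u * X ^ m) = (v * u) * (X * P₀) := by rw [hq]; ring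
      calc e * (aeval a u * a ^ m) = aeval a (v * q) * aeval a (u * X ^ m) := by rw [e_eq, t_eq]
        _ = aeval a ((v * q) * (u * X ^ m)) := (aeval_mul a).symm
        _ = aeval a ((v * u) * (X * P₀)) := by rw [h4]
        _ = aeval a (v * u) * aeval a (X * P₀) := aeval_mul a
        _ = 0 := by rw [hPa, mul_zero]
    calc e * e = e * (1 - aeval a u * a ^ m) := by rw [← eq_sub_of_add_eq' h1]
      _ = e := by rw [mul_sub, mul_one, h3, sub_zero]
  rcases hidem e hee with h0 | h1'
  · left
    rw [h0, add_zero] at h1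
    obtain ⟨m', hm'⟩ : ∃ m', m = m' + 1 := ⟨m - 1, by omega⟩
    rw [hm'] at h1
    have hab : a * aeval a (u * X ^ m') = 1 :=
      calc a * aeval a (u * X ^ m') = aeval a X * aeval a (u * X ^ m') := by rw [aeval_X]
        _ = aeval a (X * (u * X ^ m')) := (aeval_mul a).symm
        _ = aeval a (u * X ^ (m' + 1)) := by rw [show X * (u * X ^ m') = u * X ^ (m' + 1) by ring]
        _ = aeval a u * a ^ (m' + 1) := by rw [aeval_mul, aeval_X_pow]
        _ = 1 := h1
    have hba : aeval a (u * X ^ m') * a = 1 :=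
      calc aeval a (u * X ^ m') * a = aeval a (u * X ^ m') * aeval a X := by rw [aeval_X]
        _ = aeval a ((u * X ^ m') * X) := (aeval_mul a).symm
        _ = aeval a (u * X ^ (m' + 1)) := by rw [show (u * X ^ m') * X = u * X ^ (m' + 1) by ring]
        _ = aeval a u * a ^ (m' + 1) := by rw [aeval_mul, aeval_X_pow]
        _ = 1 := h1
    exact ⟨⟨a, aeval a (u * X ^ m'), hab, hba⟩, rfl⟩
  · right
    refine ⟨m, ?_⟩
    have h4 : X ^ m * (v * q) = (X * P₀) * v := by rw [hq]; ring
    calc a ^ m = a ^ m * e := by rw [h1', mul_one]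
      _ = aeval a (X ^ m) * aeval a (v * q) := by rw [e_eq, aeval_X_pow]
      _ = aeval a (X ^ m * (v * q)) := (aeval_mul a).symm
      _ = aeval a ((X * P₀) * v) := by rw [h4]
      _ = aeval a (X * P₀) * aeval a v := aeval_mul a
      _ = 0 := by rw [hPa, zero_mul]

theorem isUnit_or_isUnit_of_fitting {R : Type*} [Ring R]
    (h : ∀ a : R, IsUnit a ∨ IsNilpotent a) (a₁ a₂ : R) (hw : IsUnit (a₁ + a₂)) :
    IsUnit a₁ ∨ IsUnit a₂ := by
  obtain ⟨w, hw'⟩ := hw
  have h1 : (↑w⁻¹ : R) * a₁ + ↑w⁻¹ * a₂ = 1 := by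
    rw [← mul_add, ← hw', Units.inv_mul]
  have back : ∀ a : R, IsUnit ((↑w⁻¹ : R) * a) → IsUnit a := by
    intro a ha
    have : a = (w : R) * (↑w⁻¹ * a) := by rw [← mul_assoc, Units.mul_inv, one_mul]
    rw [this]
    exact w.isUnit.mul ha
  rcases h (↑w⁻¹ * a₁) with hu | hn
  · left; exact back _ hu
  · right
    apply back
    have : (↑w⁻¹ : R) * a₂ = 1 - ↑w⁻¹ * a₁ := eq_sub_of_add_eq' h1
    rw [this]
    exact hn.isUnit_one_sub

/-! ### scalar endomorphisms -/

variable {X : Scheme.{u}}

/-- multiplication by a global function as an endomorphism of an `O_X`-module. -/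
noncomputable def smulEnd (M : X.Modules) (r : Coh.Γtop X) : M ⟶ M :=
  ⟨PresheafOfModules.homMk (Coh.smulAb M r).hom (fun U s (m : M.val.obj U) => by
    have h1 : (Coh.smulAb M r).hom.app U (s • m : M.val.obj U) =
        (Coh.resTop X U r • (s • m : M.val.obj U) : M.val.obj U) := rfl
    have h2 : ((Coh.smulAb M r).hom.app U m : M.val.obj U) =
        (Coh.resTop X U r • m : M.val.obj U) := rfl
    refine h1.trans ?_
    refine Eq.trans ?_ (congrArg (fun z : M.val.obj U => (s • z : M.val.obj U)) h2).symm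
    change (Coh.resTop X U r • (s • m : M.val.obj U) : M.val.obj U) =
      (s • (Coh.resTop X U r • m : M.val.obj U) : M.val.obj U)
    rw [← mul_smul, ← mul_smul]
    congr 1
    exact mul_comm (G := Γ(X, U.unop)) _ _)⟩

theorem toSheaf_map_smulEnd (M : X.Modules) (r : Coh.Γtop X) :
    (SheafOfModules.toSheaf X.ringCatSheaf).map (smulEnd M r) = Coh.smulAb M r := rfl

theorem toSheaf_map_comp_smulAb {F G : X.Modules} (φ : F ⟶ G) (s : Coh.Γtop X) :
    (SheafOfModules.toSheaf X.ringCatSheaf).map φ ≫ Coh.smulAb G s =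
      Coh.smulAb F s ≫ (SheafOfModules.toSheaf X.ringCatSheaf).map φ := by
  ext U m
  change (Coh.smulAb G s).hom.app U ((φ.val.app U).hom m) =
    (φ.val.app U).hom ((Coh.smulAb F s).hom.app U m)
  rw [Coh.smulAb_app, Coh.smulAb_app]
  exact ((φ.val.app U).hom.map_smul (Coh.resTop X U s) m).symm

theorem smulEnd_comm {M N : X.Modules} (f : M ⟶ N) (r : Coh.Γtop X) :
    f ≫ smulEnd N r = smulEnd M r ≫ f := by
  apply (SheafOfModules.toSheaf X.ringCatSheaf).map_injective
  refine ((SheafOfModules.toSheaf X.ringCatSheaf).map_comp f (smulEnd N r)).trans ?_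
  refine Eq.trans ?_ ((SheafOfModules.toSheaf X.ringCatSheaf).map_comp (smulEnd M r) f).symm
  exact toSheaf_map_comp_smulAb f r

theorem smulEnd_mul (M : X.Modules) (r s : Coh.Γtop X) :
    smulEnd M (r * s) = smulEnd M s ≫ smulEnd M r := by
  apply (SheafOfModules.toSheaf X.ringCatSheaf).map_injective
  refine Eq.trans ?_
    ((SheafOfModules.toSheaf X.ringCatSheaf).map_comp (smulEnd M s) (smulEnd M r)).symm
  exact Coh.smulAb_mul M r s

theorem smulEnd_add (M : X.Modules) (r s : Coh.Γtop X) :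
    smulEnd M (r + s) = smulEnd M r + smulEnd M s := by
  apply (SheafOfModules.toSheaf X.ringCatSheaf).map_injective
  refine Eq.trans ?_
    ((SheafOfModules.toSheaf X.ringCatSheaf).map_add (f := smulEnd M r) (g := smulEnd M s)).symm
  exact Coh.smulAb_add M r s

theorem smulEnd_one (M : X.Modules) : smulEnd M 1 = 𝟙 M := by
  apply (SheafOfModules.toSheaf X.ringCatSheaf).map_injective
  refine Eq.trans ?_ ((SheafOfModules.toSheaf X.ringCatSheaf).map_id M).symm
  exact Coh.smulAb_one M

theorem smulEnd_zero (M : X.Modules) : smulEnd M 0 = 0 := by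
  apply (SheafOfModules.toSheaf X.ringCatSheaf).map_injective
  refine Eq.trans ?_ (Functor.map_zero (SheafOfModules.toSheaf X.ringCatSheaf) M M).symm
  exact Coh.smulAb_zero M

theorem stalkMapₗ_smulEnd (M : X.Modules) (r : Γ(X, ⊤)) (x : X) (m : M.presheaf.stalk x) :
    stalkMapₗ (smulEnd M r) x m = X.presheaf.germ ⊤ x trivial r • m := by
  obtain ⟨U, hU, n, rfl⟩ := TopCat.Presheaf.exists_germ_eq M.presheaf m
  rw [stalkMapₗ_germ]
  have h1 : (smulEnd M r).app U n = X.presheaf.map (homOfLE le_top : U ⟶ ⊤).op r • n := rfl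
  rw [h1, Mero.germ_smul, TopCat.Presheaf.germ_res_apply]

theorem eq_of_stalkMapₗ {F G : X.Modules} (a b : F ⟶ G)
    (h : ∀ x m, stalkMapₗ a x m = stalkMapₗ b x m) : a = b := by
  apply Scheme.Modules.hom_ext
  intro U
  apply ConcreteCategory.hom_ext
  intro m
  apply sec_ext' G
  intro y
  rw [← stalkMapₗ_germ, ← stalkMapₗ_germ, h]

end Groth.Agent.Helper18.InvEnd
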