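import Mathlib
import Groth.Agent.Lib.Helper13.QCohLocal

set_option autoImplicit false
set_option linter.style.haveILetI false
universe u
open CategoryTheory CategoryTheory.Limits AlgebraicGeometry Opposite TopologicalSpace

namespace Groth.Agent.Helper18.QCohBiprod

theorem isIso_fromTildeΓ_biprod {R : CommRingCat.{u}} (E F : (Spec R).Modules)
    [hE : IsIso E.fromTildeΓ] [hF : IsIso F.fromTildeΓ] : IsIso (E ⊞ F).fromTildeΓ := by
  rw [isIso_fromTildeΓ_iff] at hE hF ⊢
  obtain ⟨ME, ⟨iE⟩⟩ := hE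
  obtain ⟨MF, ⟨iF⟩⟩ := hF
  have := Limits.preservesBinaryBiproducts_of_preservesBinaryCoproducts (tilde.functor R)
  exact ⟨ME ⊞ MF, ⟨(tilde.functor R).mapBiprod ME MF ≪≫ biprod.mapIso iE iF⟩⟩

theorem isQuasicoherent_of_iso' {X : Scheme.{u}} {M N : X.Modules} (e : M ≅ N)
    (hM : M.IsQuasicoherent) : N.IsQuasicoherent :=
  (SheafOfModules.isQuasicoherent X.ringCatSheaf).prop_of_iso e hM

theorem isQuasicoherent_biprod {X : Scheme.{u}} (E F : X.Modules) [E.IsQuasicoherent]
    [F.IsQuasicoherent] : (E ⊞ F).IsQuasicoherent := by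
  apply Groth.Agent.Helper13.QCohLocal.isQuasicoherent_of_restrict_fromSpec
  intro U
  haveI : IsOpenImmersion U.2.fromSpec := IsAffineOpen.isOpenImmersion_fromSpec U.2
  let G := Scheme.Modules.restrictFunctor U.2.fromSpec
  haveI : G.PreservesZeroMorphisms := Functor.preservesZeroMorphisms_of_isLeftAdjoint G
  have := Limits.preservesBinaryBiproducts_of_preservesBinaryCoproducts G
  have e : G.obj (E ⊞ F) ≅ G.obj E ⊞ G.obj F := G.mapBiprod E F
  have hE : (G.obj E).IsQuasicoherent := inferInstanceAs ((E.restrict U.2.fromSpec).IsQuasicoherent)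
  have hF : (G.obj F).IsQuasicoherent := inferInstanceAs ((F.restrict U.2.fromSpec).IsQuasicoherent)
  have h3 : IsIso (G.obj E ⊞ G.obj F).fromTildeΓ := isIso_fromTildeΓ_biprod _ _
  have h4 : (G.obj E ⊞ G.obj F).IsQuasicoherent := (isQuasicoherent_iff_isIso_fromTildeΓ _).mpr h3
  exact isQuasicoherent_of_iso' e.symm h4

end Groth.Agent.Helper18.QCohBiprod
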