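import Mathlib
import Groth.Prelude.Def_RelSpec

set_option autoImplicit false
universe u
open CategoryTheory CategoryTheory.Limits AlgebraicGeometry TopologicalSpace Opposite

noncomputable section

namespace Groth.Agent.Helper18.QCAlgPO

variable {S : Scheme.{u}}

section Ext

variable {A C : RelSpec.QCAlg S}

/-- two maps of presheaves of rings into a sheaf agree if they agree on the affine opens. -/
theorem presheafHom_ext_affine {P : TopCat.Presheaf CommRingCat.{u} S.carrier}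
    (φ ψ : P ⟶ C.presheaf)
    (h : ∀ (U : S.Opens) (_ : IsAffineOpen U), φ.app (op U) = ψ.app (op U)) : φ = ψ := by
  apply (Functor.IsCoverDense.restrictHomEquivHom (G := Scheme.AffineZariskiSite.toOpensFunctor S)
    (K := Opens.grothendieckTopology S) (ℱ := P)
    (ℱ' := (⟨C.presheaf, C.isSheaf⟩ : TopCat.Sheaf CommRingCat.{u} S.carrier))).symm.injective
  ext U : 2
  exact h U.unop.1 U.unop.2

theorem hom_ext_affine (φ ψ : A ⟶ C)
    (h : ∀ (U : S.Opens) (_ : IsAffineOpen U), φ.hom.app (op U) = ψ.hom.app (op U)) : φ = ψ :=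
  RelSpec.QCAlg.hom_ext (presheafHom_ext_affine φ.hom ψ.hom h)

/-- A homomorphism of presheaves of rings into a sheaf, from its values on affine opens. -/
def mapOfAff (τ : (Scheme.AffineZariskiSite.toOpensFunctor S).op ⋙ A.presheaf ⟶
      (Scheme.AffineZariskiSite.toOpensFunctor S).op ⋙ C.presheaf) : A.presheaf ⟶ C.presheaf :=
  Functor.IsCoverDense.restrictHomEquivHom (G := Scheme.AffineZariskiSite.toOpensFunctor S)
    (K := Opens.grothendieckTopology S) (ℱ := A.presheaf)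
    (ℱ' := (⟨C.presheaf, C.isSheaf⟩ : TopCat.Sheaf CommRingCat.{u} S.carrier)) τ

theorem mapOfAff_app (τ : (Scheme.AffineZariskiSite.toOpensFunctor S).op ⋙ A.presheaf ⟶
      (Scheme.AffineZariskiSite.toOpensFunctor S).op ⋙ C.presheaf)
    (U : S.Opens) (hU : IsAffineOpen U) :
    (mapOfAff τ).app (op U) = τ.app (op ⟨U, hU⟩) :=
  NatTrans.congr_app ((Functor.IsCoverDense.restrictHomEquivHom
    (G := Scheme.AffineZariskiSite.toOpensFunctor S)
    (K := Opens.grothendieckTopology S) (ℱ := A.presheaf)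
    (ℱ' := (⟨C.presheaf, C.isSheaf⟩ : TopCat.Sheaf CommRingCat.{u} S.carrier))).symm_apply_apply τ)
    (op ⟨U, hU⟩)

end Ext


theorem nat_aux {𝒞 : Type*} [Category 𝒞] {X1 X3 Y1 Y3 Cx Cy : 𝒞} (bU : X1 ⟶ X3) (bV : Y1 ⟶ Y3)
    (m1 : X1 ⟶ Y1) (m3 : X3 ⟶ Y3) (mC : Cx ⟶ Cy) (dU : X3 ⟶ Cx) (dV : Y3 ⟶ Cy) (cU : X1 ⟶ Cx)
    (cV : Y1 ⟶ Cy) (n1 : m1 ≫ bV = bU ≫ m3) (n2 : m1 ≫ cV = cU ≫ mC) (eU : bU ≫ dU = cU)
    (eV : bV ≫ dV = cV) : bU ≫ m3 ≫ dV = bU ≫ dU ≫ mC := by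
  rw [← Category.assoc, ← n1, Category.assoc, eV, n2, ← eU, Category.assoc]

section PO

variable {A0 A1 A2 A3 : RelSpec.QCAlg S} (a₁ : A0 ⟶ A1) (a₂ : A0 ⟶ A2) (b₁ : A1 ⟶ A3) (b₂ : A2 ⟶ A3)
  (h : ∀ (U : S.Opens) (_ : IsAffineOpen U), IsPushout (a₁.hom.app (op U)) (a₂.hom.app (op U))
    (b₁.hom.app (op U)) (b₂.hom.app (op U)))

section Desc

variable {C : RelSpec.QCAlg S} (c₁ : A1 ⟶ C) (c₂ : A2 ⟶ C) (hc : a₁ ≫ c₁ = a₂ ≫ c₂)

include hc in
theorem desc_comm (U : S.Opens) :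
    a₁.hom.app (op U) ≫ c₁.hom.app (op U) = a₂.hom.app (op U) ≫ c₂.hom.app (op U) := by
  have := congrArg (fun k => k.hom.app (op U)) hc
  exact this

/-- the induced map over an affine open -/
def descU (U : S.Opens) (hU : IsAffineOpen U) : A3.presheaf.obj (op U) ⟶ C.presheaf.obj (op U) :=
  (h U hU).desc (c₁.hom.app (op U)) (c₂.hom.app (op U)) (desc_comm a₁ a₂ c₁ c₂ hc U)

theorem b₁_descU (U : S.Opens) (hU : IsAffineOpen U) :
    b₁.hom.app (op U) ≫ descU a₁ a₂ b₁ b₂ h c₁ c₂ hc U hU = c₁.hom.app (op U) :=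
  (h U hU).inl_desc _ _ _

theorem b₂_descU (U : S.Opens) (hU : IsAffineOpen U) :
    b₂.hom.app (op U) ≫ descU a₁ a₂ b₁ b₂ h c₁ c₂ hc U hU = c₂.hom.app (op U) :=
  (h U hU).inr_desc _ _ _

/-- the induced maps as a natural transformation on affine opens -/
def descNat : (Scheme.AffineZariskiSite.toOpensFunctor S).op ⋙ A3.presheaf ⟶
    (Scheme.AffineZariskiSite.toOpensFunctor S).op ⋙ C.presheaf where
  app U := descU a₁ a₂ b₁ b₂ h c₁ c₂ hc U.unop.1 U.unop.2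
  naturality U V i := by
    apply (h U.unop.1 U.unop.2).hom_ext
    · exact nat_aux _ _ _ _ _ _ _ _ _ (b₁.hom.naturality _) (c₁.hom.naturality _)
        (b₁_descU a₁ a₂ b₁ b₂ h c₁ c₂ hc U.unop.1 U.unop.2)
        (b₁_descU a₁ a₂ b₁ b₂ h c₁ c₂ hc V.unop.1 V.unop.2)
    · exact nat_aux _ _ _ _ _ _ _ _ _ (b₂.hom.naturality _) (c₂.hom.naturality _)
        (b₂_descU a₁ a₂ b₁ b₂ h c₁ c₂ hc U.unop.1 U.unop.2)
        (b₂_descU a₁ a₂ b₁ b₂ h c₁ c₂ hc V.unop.1 V.unop.2)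

/-- the induced homomorphism of quasi-coherent algebras -/
def desc : A3 ⟶ C where
  hom := mapOfAff (descNat a₁ a₂ b₁ b₂ h c₁ c₂ hc)
  comm := by
    apply presheafHom_ext_affine
    intro U hU
    rw [NatTrans.comp_app, mapOfAff_app _ U hU]
    change A3.str.app (op U) ≫ descU a₁ a₂ b₁ b₂ h c₁ c₂ hc U hU = _
    have e1 : A3.str.app (op U) = A1.str.app (op U) ≫ b₁.hom.app (op U) :=
      (NatTrans.congr_app b₁.comm (op U)).symm
    rw [e1, Category.assoc, b₁_descU]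
    exact NatTrans.congr_app c₁.comm (op U)

theorem desc_app (U : S.Opens) (hU : IsAffineOpen U) :
    (desc a₁ a₂ b₁ b₂ h c₁ c₂ hc).hom.app (op U) = descU a₁ a₂ b₁ b₂ h c₁ c₂ hc U hU :=
  mapOfAff_app _ U hU

theorem b₁_desc : b₁ ≫ desc a₁ a₂ b₁ b₂ h c₁ c₂ hc = c₁ := by
  apply hom_ext_affine
  intro U hU
  change b₁.hom.app (op U) ≫ (desc a₁ a₂ b₁ b₂ h c₁ c₂ hc).hom.app (op U) = _
  rw [desc_app _ _ _ _ _ _ _ _ U hU, b₁_descU]

theorem b₂_desc : b₂ ≫ desc a₁ a₂ b₁ b₂ h c₁ c₂ hc = c₂ := by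
  apply hom_ext_affine
  intro U hU
  change b₂.hom.app (op U) ≫ (desc a₁ a₂ b₁ b₂ h c₁ c₂ hc).hom.app (op U) = _
  rw [desc_app _ _ _ _ _ _ _ _ U hU, b₂_descU]

end Desc

include h in
theorem isPushout_of_affine (hw : a₁ ≫ b₁ = a₂ ≫ b₂) : IsPushout a₁ a₂ b₁ b₂ := by
  refine ⟨⟨hw⟩, ⟨PushoutCocone.IsColimit.mk _
    (fun c => desc a₁ a₂ b₁ b₂ h c.inl c.inr c.condition) ?_ ?_ ?_⟩⟩
  · intro c
    exact b₁_desc a₁ a₂ b₁ b₂ h c.inl c.inr c.condition
  · intro c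
    exact b₂_desc a₁ a₂ b₁ b₂ h c.inl c.inr c.condition
  · intro c m hm1 hm2
    apply hom_ext_affine
    intro U hU
    apply (h U hU).hom_ext
    · have e := congrArg (fun k => k.hom.app (op U)) hm1
      have e' := congrArg (fun k => k.hom.app (op U)) (b₁_desc a₁ a₂ b₁ b₂ h c.inl c.inr c.condition)
      exact e.trans e'.symm
    · have e := congrArg (fun k => k.hom.app (op U)) hm2
      have e' := congrArg (fun k => k.hom.app (op U)) (b₂_desc a₁ a₂ b₁ b₂ h c.inl c.inr c.condition)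
      exact e.trans e'.symm

end PO

end Groth.Agent.Helper18.QCAlgPO
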