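import Mathlib
import Groth.Agent.Lib.Helper18.QCAlgPO
import Groth.Prelude.Def_AffAlg

set_option autoImplicit false
universe u
open CategoryTheory CategoryTheory.Limits AlgebraicGeometry TopologicalSpace Opposite

noncomputable section

namespace Groth.Agent.Helper18.QCAlgPO

theorem algHom_app {X Y S : Scheme.{u}} (f : X ⟶ S) (g : Y ⟶ S) (h : Y ⟶ X) (w : h ≫ f = g)
    (U : S.Opens) :
    (AffAlg.algHom f g h w).app (op U) =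
      h.appLE (f ⁻¹ᵁ U) (g ⁻¹ᵁ U) (by subst w; exact le_rfl) := by
  subst w
  have e1 : (AffAlg.algHom f (h ≫ f) h rfl).app (op U) = h.app (f ⁻¹ᵁ U) ≫ 𝟙 _ := rfl
  have e2 : h.appLE (f ⁻¹ᵁ U) ((h ≫ f) ⁻¹ᵁ U) le_rfl =
      h.app (f ⁻¹ᵁ U) ≫ Y.presheaf.map (𝟙 (op (h ⁻¹ᵁ (f ⁻¹ᵁ U)))) := rfl
  rw [e1, e2, Y.presheaf.map_id]

end Groth.Agent.Helper18.QCAlgPO

namespace Groth.Agent.Helper18.QCAlgPO

theorem isPushout_directImage {X X' Y Z S : Scheme.{u}} (g : Y ⟶ S) [IsAffineHom g]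
    (f : X ⟶ Y) [IsAffineHom f] (f' : X' ⟶ Y) [IsAffineHom f'] (p : Z ⟶ X) (p' : Z ⟶ X') [IsAffineHom p]
    (hZ : IsPullback p p' f f') :
    IsPushout
      (C := RelSpec.QCAlg S)
      (⟨AffAlg.algHom g (f ≫ g) f rfl, AffAlg.algHom_comm g (f ≫ g) f rfl⟩ :
        RelSpec.QCAlg.directImage g ⟶ RelSpec.QCAlg.directImage (f ≫ g))
      (⟨AffAlg.algHom g (f' ≫ g) f' rfl, AffAlg.algHom_comm g (f' ≫ g) f' rfl⟩ :
        RelSpec.QCAlg.directImage g ⟶ RelSpec.QCAlg.directImage (f' ≫ g))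
      (⟨AffAlg.algHom (f ≫ g) (p ≫ f ≫ g) p rfl, AffAlg.algHom_comm (f ≫ g) (p ≫ f ≫ g) p rfl⟩ :
        RelSpec.QCAlg.directImage (f ≫ g) ⟶ RelSpec.QCAlg.directImage (p ≫ f ≫ g))
      (⟨AffAlg.algHom (f' ≫ g) (p ≫ f ≫ g) p'
          ((Category.assoc p' f' g).symm.trans ((congrArg (· ≫ g) hZ.w.symm).trans (Category.assoc p f g))),
        AffAlg.algHom_comm (f' ≫ g) (p ≫ f ≫ g) p'
          ((Category.assoc p' f' g).symm.trans ((congrArg (· ≫ g) hZ.w.symm).trans (Category.assoc p f g)))⟩ :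
        RelSpec.QCAlg.directImage (f' ≫ g) ⟶ RelSpec.QCAlg.directImage (p ≫ f ≫ g)) := by
  have w' : p' ≫ f' ≫ g = p ≫ f ≫ g :=
    (Category.assoc p' f' g).symm.trans ((congrArg (· ≫ g) hZ.w.symm).trans (Category.assoc p f g))
  apply isPushout_of_affine
  · intro U hU
    change IsPushout ((AffAlg.algHom g (f ≫ g) f rfl).app (op U))
      ((AffAlg.algHom g (f' ≫ g) f' rfl).app (op U))
      ((AffAlg.algHom (f ≫ g) (p ≫ f ≫ g) p rfl).app (op U))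
      ((AffAlg.algHom (f' ≫ g) (p ≫ f ≫ g) p' w').app (op U))
    rw [algHom_app, algHom_app, algHom_app, algHom_app]
    have hUS : IsAffineOpen (g ⁻¹ᵁ U) := hU.preimage g
    have hUX : IsAffineOpen ((f ≫ g) ⁻¹ᵁ U) := hU.preimage (f ≫ g)
    have hUT : IsAffineOpen ((f' ≫ g) ⁻¹ᵁ U) := hU.preimage (f' ≫ g)
    have hUST : (f' ≫ g) ⁻¹ᵁ U ≤ f' ⁻¹ᵁ (g ⁻¹ᵁ U) := le_rfl
    have hUSX : (f ≫ g) ⁻¹ᵁ U ≤ f ⁻¹ᵁ (g ⁻¹ᵁ U) := le_rfl
    have hUY : (p ≫ f ≫ g) ⁻¹ᵁ U = p ⁻¹ᵁ ((f ≫ g) ⁻¹ᵁ U) ⊓ p' ⁻¹ᵁ ((f' ≫ g) ⁻¹ᵁ U) := by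
      have e : p' ⁻¹ᵁ ((f' ≫ g) ⁻¹ᵁ U) = p ⁻¹ᵁ ((f ≫ g) ⁻¹ᵁ U) := by
        rw [← Scheme.Hom.comp_preimage, ← Scheme.Hom.comp_preimage, w']
      rw [e, inf_idem]
      rfl
    exact (isIso_pushoutSection_iff hZ hUST hUSX hUY).mp
      (isIso_pushoutSection_of_isAffineOpen hZ hUST hUSX hUY hUS hUT hUX)
  · apply RelSpec.QCAlg.hom_ext
    refine NatTrans.ext (funext fun U => ?_)
    induction U using Opposite.rec with | _ U => ?_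
    change (AffAlg.algHom g (f ≫ g) f rfl).app (op U) ≫
        (AffAlg.algHom (f ≫ g) (p ≫ f ≫ g) p rfl).app (op U) =
      (AffAlg.algHom g (f' ≫ g) f' rfl).app (op U) ≫
        (AffAlg.algHom (f' ≫ g) (p ≫ f ≫ g) p' w').app (op U)
    rw [algHom_app, algHom_app, algHom_app, algHom_app, Scheme.Hom.appLE_comp_appLE,
      Scheme.Hom.appLE_comp_appLE]
    congr 1
    exact hZ.w

end Groth.Agent.Helper18.QCAlgPO
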