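import Mathlib
import Groth.Prelude.Def_AffAlg
import Groth.Agent.Lib.Helper12.RelProjGlue
import Groth.Agent.Lib.Helper18.QCAlgPO2

set_option autoImplicit false
universe u
open CategoryTheory CategoryTheory.Limits AlgebraicGeometry TopologicalSpace Opposite

noncomputable section

namespace Groth.Agent.Helper18.AffUniv

variable {X Y S : Scheme.{u}}

/-- two maps of presheaves of rings into a sheaf agree if they agree on the affine opens. -/
theorem presheafHom_ext_affine' {P Q : TopCat.Presheaf CommRingCat.{u} S.carrier} (hQ : Q.IsSheaf)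
    (φ ψ : P ⟶ Q)
    (h : ∀ (U : S.Opens) (_ : IsAffineOpen U), φ.app (op U) = ψ.app (op U)) : φ = ψ := by
  apply (Functor.IsCoverDense.restrictHomEquivHom (G := Scheme.AffineZariskiSite.toOpensFunctor S)
    (K := Opens.grothendieckTopology S) (ℱ := P)
    (ℱ' := (⟨Q, hQ⟩ : TopCat.Sheaf CommRingCat.{u} S.carrier))).symm.injective
  ext U : 2
  exact h U.unop.1 U.unop.2

/-- A morphism restricted to the preimage of an affine open is determined by the ring map. -/
theorem ι_comp_eq (h : Y ⟶ X) {V : X.Opens} (hV : IsAffineOpen V) {W : Y.Opens} (e : W ≤ h ⁻¹ᵁ V) :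
    W.ι ≫ h = W.toSpecΓ ≫ Spec.map (h.appLE V W e) ≫ hV.fromSpec := by
  rw [← Category.assoc, Scheme.Opens.toSpecΓ_SpecMap_appLE, Category.assoc, hV.toSpecΓ_fromSpec,
    Scheme.Hom.resLE_comp_ι]

/-- the ring map is determined by the morphism `W → Spec R`. -/
theorem specMap_injective_of_toSpecΓ {R : CommRingCat.{u}} {W : Y.Opens} (φ ψ : R ⟶ Γ(Y, W))
    (h : W.toSpecΓ ≫ Spec.map φ = W.toSpecΓ ≫ Spec.map ψ) : φ = ψ := by
  have h1 := congrArg Scheme.Hom.appTop h
  rw [Scheme.Hom.comp_appTop, Scheme.Hom.comp_appTop, Scheme.Opens.toSpecΓ_appTop] at h1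
  rw [Scheme.ΓSpecIso_naturality_assoc, Scheme.ΓSpecIso_naturality_assoc] at h1
  have h2 := (cancel_epi (Scheme.ΓSpecIso R).hom).mp h1
  exact (cancel_mono W.topIso.inv).mp h2


open Groth.Agent.Helper12.RelProjGlue Groth.Agent.Helper12.RelProjBasic Groth.Agent.Helper18.QCAlgPO

variable (f : X ⟶ S) [IsAffineHom f] (g : Y ⟶ S)

/-- an `S`-morphism is determined on `g⁻¹U` by the algebra map over `U`. -/
theorem ι_comp_eq_of_over (h : Y ⟶ X) (w : h ≫ f = g) (U : S.Opens) (hU : IsAffineOpen U) :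
    (g ⁻¹ᵁ U).ι ≫ h = (g ⁻¹ᵁ U).toSpecΓ ≫ Spec.map ((AffAlg.algHom f g h w).app (op U)) ≫
      (hU.preimage f).fromSpec := by
  rw [algHom_app]
  exact ι_comp_eq h (hU.preimage f) _

theorem algOf_injective : Function.Injective (AffAlg.algOf f g) := by
  rintro ⟨h, w⟩ ⟨h', w'⟩ hh
  have hh' : AffAlg.algHom f g h w = AffAlg.algHom f g h' w' := congrArg Subtype.val hh
  apply Subtype.ext
  change h = h'
  apply (preimageCover g).hom_ext
  intro U
  change (g ⁻¹ᵁ U.1).ι ≫ h = (g ⁻¹ᵁ U.1).ι ≫ h'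
  rw [ι_comp_eq_of_over f g h w U.1 U.2, ι_comp_eq_of_over f g h' w' U.1 U.2, hh']

variable {f g}

/-- the local pieces of the morphism attached to an algebra homomorphism -/
def eU (ω : AffAlg.alg f ⟶ AffAlg.alg g) (U : S.Opens) (hU : IsAffineOpen U) :
    ((g ⁻¹ᵁ U : Y.Opens) : Scheme.{u}) ⟶ X :=
  (g ⁻¹ᵁ U).toSpecΓ ≫ Spec.map (ω.app (op U)) ≫ (hU.preimage f).fromSpec

theorem eU_res (ω : AffAlg.alg f ⟶ AffAlg.alg g) (U : S.Opens) (hU : IsAffineOpen U) (r : Γ(S, U)) :
    Y.homOfLE (g.preimage_mono (S.basicOpen_le r)) ≫ eU ω U hU =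
      eU ω (S.basicOpen r) (hU.basicOpen r) := by
  unfold eU
  have n := ω.naturality (homOfLE (S.basicOpen_le r)).op
  have n' : X.presheaf.map (homOfLE (f.preimage_mono (S.basicOpen_le r))).op ≫
      ω.app (op (S.basicOpen r)) = ω.app (op U) ≫
        Y.presheaf.map (homOfLE (g.preimage_mono (S.basicOpen_le r))).op := n
  rw [← Category.assoc, ← Scheme.Opens.toSpecΓ_SpecMap_presheaf_map, Category.assoc,
    ← Spec.map_comp_assoc, ← n', Spec.map_comp_assoc,
    (hU.preimage f).map_fromSpec ((hU.basicOpen r).preimage f)]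


variable (f g) in
theorem algOf_surjective : Function.Surjective (AffAlg.algOf f g) := by
  rintro ⟨ω, hω⟩
  obtain ⟨h, hh, -⟩ := glue_of_basic g (eU ω) (eU_res ω)
  have w : h ≫ f = g := by
    apply (preimageCover g).hom_ext
    intro U
    change (g ⁻¹ᵁ U.1).ι ≫ h ≫ f = (g ⁻¹ᵁ U.1).ι ≫ g
    rw [← Category.assoc, hh U.1 U.2]
    unfold eU
    have e1 : f.app U.1 ≫ ω.app (op U.1) = g.app U.1 := NatTrans.congr_app hω (op U.1)
    rw [Category.assoc, Category.assoc, ← U.2.SpecMap_appLE_fromSpec f (U.2.preimage f) le_rfl,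
      Scheme.Hom.appLE_eq_app, ← Spec.map_comp_assoc, e1, ← Category.assoc,
      Scheme.Opens.toSpecΓ_naturality, Category.assoc, U.2.toSpecΓ_fromSpec, morphismRestrict_ι]
  refine ⟨⟨h, w⟩, Subtype.ext ?_⟩
  change AffAlg.algHom f g h w = ω
  apply presheafHom_ext_affine' (TopCat.Sheaf.pushforward_sheaf_of_sheaf _ Y.sheaf.property)
  intro U hU
  apply specMap_injective_of_toSpecΓ (W := g ⁻¹ᵁ U)
  have e2 := ι_comp_eq_of_over f g h w U hU
  rw [hh U hU] at e2
  unfold eU at e2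
  rw [← Category.assoc, ← Category.assoc] at e2
  exact ((cancel_mono (hU.preimage f).fromSpec).mp e2).symm

end Groth.Agent.Helper18.AffUniv
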