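import Mathlib

set_option autoImplicit false
universe u
open CategoryTheory CategoryTheory.Limits

noncomputable section

namespace Groth.Agent.Helper18.SymSum

/-- The universal property of the symmetric algebra, in ring-homomorphism form. -/
def IsSymUniv {R A : CommRingCat.{u}} (s : R ⟶ A) {M : Type u} [AddCommGroup M] [Module R M]
    (j : M →+ A) : Prop :=
  ∀ (T : CommRingCat.{u}) (t : R ⟶ T) (g : M →+ T), (∀ (r : R) (m : M), g (r • m) = t.hom r * g m) →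
    ∃! a : A ⟶ T, s ≫ a = t ∧ ∀ m, a.hom (j m) = g m

theorem existsUnique_of_isSymUniv {R AE AF A : CommRingCat.{u}} (sE : R ⟶ AE) (sF : R ⟶ AF)
    (sA : R ⟶ A) (ψE : AE ⟶ A) (ψF : AF ⟶ A) (hsE : sE ≫ ψE = sA) (hsF : sF ≫ ψF = sA)
    {ME MF M : Type u} [AddCommGroup ME] [Module R ME] [AddCommGroup MF] [Module R MF]
    [AddCommGroup M] [Module R M]
    (jE : ME →+ AE) (jF : MF →+ AF) (j : M →+ A)
    (hjE : ∀ (r : R) (m : ME), jE (r • m) = sE.hom r * jE m)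
    (hjF : ∀ (r : R) (m : MF), jF (r • m) = sF.hom r * jF m)
    (uE : IsSymUniv sE jE) (uF : IsSymUniv sF jF) (uA : IsSymUniv sA j)
    (inl : ME →ₗ[R] M) (inr : MF →ₗ[R] M) (fst : M →ₗ[R] ME) (snd : M →ₗ[R] MF)
    (h1 : ∀ e, fst (inl e) = e) (h2 : ∀ f, snd (inr f) = f) (h3 : ∀ f, fst (inr f) = 0)
    (h4 : ∀ e, snd (inl e) = 0) (htot : ∀ m, inl (fst m) + inr (snd m) = m)
    (hψE : ∀ e, ψE.hom (jE e) = j (inl e)) (hψF : ∀ f, ψF.hom (jF f) = j (inr f))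
    (T : CommRingCat.{u}) (a : AE ⟶ T) (b : AF ⟶ T) (hab : sE ≫ a = sF ≫ b) :
    ∃! c : A ⟶ T, ψE ≫ c = a ∧ ψF ≫ c = b := by
  let t : R ⟶ T := sE ≫ a
  have hta : ∀ r : R, a.hom (sE.hom r) = t.hom r := fun r => rfl
  have htb : ∀ r : R, b.hom (sF.hom r) = t.hom r := fun r => by
    have := congrArg (fun k => k.hom r) hab
    exact this.symm
  let g : M →+ T :=
    (a.hom.toAddMonoidHom.comp (jE.comp fst.toAddMonoidHom)) +
      (b.hom.toAddMonoidHom.comp (jF.comp snd.toAddMonoidHom))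
  have hg_apply : ∀ m, g m = a.hom (jE (fst m)) + b.hom (jF (snd m)) := fun m => rfl
  have hg : ∀ (r : R) (m : M), g (r • m) = t.hom r * g m := by
    intro r m
    rw [hg_apply, hg_apply, fst.map_smul, snd.map_smul, hjE, hjF, map_mul, map_mul, hta, htb, mul_add]
  obtain ⟨c, ⟨hc1, hc2⟩, hcu⟩ := uA T t g hg
  have hcE : ψE ≫ c = a := by
    obtain ⟨a0, -, ha0⟩ := uE T t (a.hom.toAddMonoidHom.comp jE) (fun r m => by
      change a.hom (jE (r • m)) = t.hom r * a.hom (jE m)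
      rw [hjE, map_mul, hta])
    have e1 : ψE ≫ c = a0 := ha0 _ ⟨by rw [← Category.assoc, hsE, hc1], fun m => by
      change c.hom (ψE.hom (jE m)) = a.hom (jE m)
      rw [hψE, hc2, hg_apply, h1, h4, map_zero, map_zero, add_zero]⟩
    have e2 : a = a0 := ha0 _ ⟨rfl, fun m => rfl⟩
    rw [e1, e2]
  have hcF : ψF ≫ c = b := by
    obtain ⟨b0, -, hb0⟩ := uF T t (b.hom.toAddMonoidHom.comp jF) (fun r m => by
      change b.hom (jF (r • m)) = t.hom r * b.hom (jF m)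
      rw [hjF, map_mul, htb])
    have e1 : ψF ≫ c = b0 := hb0 _ ⟨by rw [← Category.assoc, hsF, hc1], fun m => by
      change c.hom (ψF.hom (jF m)) = b.hom (jF m)
      rw [hψF, hc2, hg_apply, h2, h3, map_zero, map_zero, zero_add]⟩
    have e2 : b = b0 := hb0 _ ⟨hab.symm, fun m => rfl⟩
    rw [e1, e2]
  refine ⟨c, ⟨hcE, hcF⟩, ?_⟩
  rintro c' ⟨hc'E, hc'F⟩
  apply hcu
  refine ⟨by rw [← hsE, Category.assoc, hc'E], fun m => ?_⟩
  rw [hg_apply, ← hc'E, ← hc'F]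
  change _ = c'.hom (ψE.hom (jE (fst m))) + c'.hom (ψF.hom (jF (snd m)))
  rw [hψE, hψF, ← map_add, ← map_add, htot]

theorem isPushout_of_isSymUniv {R AE AF A : CommRingCat.{u}} (sE : R ⟶ AE) (sF : R ⟶ AF)
    (sA : R ⟶ A) (ψE : AE ⟶ A) (ψF : AF ⟶ A) (hsE : sE ≫ ψE = sA) (hsF : sF ≫ ψF = sA)
    {ME MF M : Type u} [AddCommGroup ME] [Module R ME] [AddCommGroup MF] [Module R MF]
    [AddCommGroup M] [Module R M]
    (jE : ME →+ AE) (jF : MF →+ AF) (j : M →+ A)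
    (hjE : ∀ (r : R) (m : ME), jE (r • m) = sE.hom r * jE m)
    (hjF : ∀ (r : R) (m : MF), jF (r • m) = sF.hom r * jF m)
    (uE : IsSymUniv sE jE) (uF : IsSymUniv sF jF) (uA : IsSymUniv sA j)
    (inl : ME →ₗ[R] M) (inr : MF →ₗ[R] M) (fst : M →ₗ[R] ME) (snd : M →ₗ[R] MF)
    (h1 : ∀ e, fst (inl e) = e) (h2 : ∀ f, snd (inr f) = f) (h3 : ∀ f, fst (inr f) = 0)
    (h4 : ∀ e, snd (inl e) = 0) (htot : ∀ m, inl (fst m) + inr (snd m) = m)
    (hψE : ∀ e, ψE.hom (jE e) = j (inl e)) (hψF : ∀ f, ψF.hom (jF f) = j (inr f)) :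
    IsPushout sE sF ψE ψF := by
  have hw : sE ≫ ψE = sF ≫ ψF := hsE.trans hsF.symm
  have key := existsUnique_of_isSymUniv sE sF sA ψE ψF hsE hsF jE jF j hjE hjF uE uF uA inl inr
    fst snd h1 h2 h3 h4 htot hψE hψF
  refine ⟨⟨hw⟩, ⟨PushoutCocone.IsColimit.mk _
    (fun c => (key c.pt c.inl c.inr c.condition).exists.choose) ?_ ?_ ?_⟩⟩
  · intro c
    exact (key c.pt c.inl c.inr c.condition).exists.choose_spec.1
  · intro c
    exact (key c.pt c.inl c.inr c.condition).exists.choose_spec.2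
  · intro c m hm1 hm2
    exact (key c.pt c.inl c.inr c.condition).unique ⟨hm1, hm2⟩
      (key c.pt c.inl c.inr c.condition).exists.choose_spec

end Groth.Agent.Helper18.SymSum
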