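import Mathlib
import Groth.Prelude.Def_RelSpec

set_option autoImplicit false
universe u
open CategoryTheory CategoryTheory.Limits AlgebraicGeometry TopologicalSpace Opposite

/-!
# Fibre products of relative spectra

If a commutative square of quasi-coherent algebras `O_S → AE, AF → A` is a pushout of rings over every
affine open, then `Spec(A) = Spec(AE) ×_S Spec(AF)`.
-/

noncomputable section

namespace Groth.Agent.Helper18.RelSpecPB

variable {S : Scheme.{u}} {AE AF A : RelSpec.QCAlg S} (ψE : AE ⟶ A) (ψF : AF ⟶ A)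

theorem isPullback_specMap_of_isPushout
    (h : ∀ (U : S.Opens) (_ : IsAffineOpen U), IsPushout (AE.str.app (op U)) (AF.str.app (op U))
      (ψE.hom.app (op U)) (ψF.hom.app (op U))) :
    IsPullback (RelSpec.QCAlg.specMap ψE) (RelSpec.QCAlg.specMap ψF) AE.π AF.π := by
  refine Scheme.isPullback_of_openCover _ _ _ _ AE.glueData.cover ?_
  rintro ⟨U, hU⟩
  have hpb1 : IsPullback (Spec.map (ψE.hom.app (op U))) (A.ι U hU) (AE.ι U hU)
      (RelSpec.QCAlg.specMap ψE) := by
    refine IsOpenImmersion.isPullback _ _ _ _ (RelSpec.QCAlg.ι_specMap U hU ψE) ?_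
    rw [← AE.π_preimage U hU, ← Scheme.Hom.comp_preimage, RelSpec.QCAlg.specMap_π,
      A.π_preimage U hU]
  have hpbB : IsPullback (Spec.map (AF.str.app (op U))) (AF.ι U hU) hU.fromSpec AF.π := by
    refine IsOpenImmersion.isPullback _ _ _ _ (AF.ι_π U hU) ?_
    rw [hU.opensRange_fromSpec, AF.π_preimage U hU]
  have hpbT := isPullback_SpecMap_of_isPushout _ _ _ _ (h U hU)
  have hpb2 := hpbT.paste_vert hpbB
  let e := hpb1.flip.isoPullback
  refine hpb2.of_iso e (Iso.refl _) (Iso.refl _) (Iso.refl _) ?_ ?_ ?_ ?_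
  · exact (Category.comp_id _).trans (hpb1.flip.isoPullback_hom_snd).symm
  · refine (Category.comp_id _).trans ?_
    change _ = e.hom ≫ pullback.fst _ _ ≫ _
    rw [hpb1.flip.isoPullback_hom_fst_assoc, RelSpec.QCAlg.ι_specMap]
  · refine (Category.comp_id _).trans (Eq.trans ?_ (Category.id_comp _).symm)
    exact (AE.ι_π U hU).symm
  · exact (Category.comp_id _).trans (Category.id_comp _).symm

end Groth.Agent.Helper18.RelSpecPB
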