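import Mathlib

set_option autoImplicit false

/-!
# Symmetric algebras: semilinear functoriality and localization
-/

namespace Groth.Agent.Helper18.SymAlg

open SymmetricAlgebra

section Semilinear

variable {R R' M M' : Type*} [CommRing R] [CommRing R'] [AddCommGroup M] [Module R M]
  [AddCommGroup M'] [Module R' M']

/-- Ring homomorphisms out of a symmetric algebra are determined by scalars and generators. -/
theorem ringHom_ext {T : Type*} [Semiring T] {φ ψ : SymmetricAlgebra R M →+* T}
    (h₁ : ∀ r, φ (algebraMap R _ r) = ψ (algebraMap R _ r))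
    (h₂ : ∀ m, φ (ι R M m) = ψ (ι R M m)) : φ = ψ := by
  refine RingHom.ext fun a => ?_
  induction a using SymmetricAlgebra.induction with
  | algebraMap r => exact h₁ r
  | ι x => exact h₂ x
  | mul a b ha hb => rw [map_mul, map_mul, ha, hb]
  | add a b ha hb => rw [map_add, map_add, ha, hb]

/-- The map of symmetric algebras induced by a semilinear map. -/
noncomputable def symMap (σ : R →+* R') (g : M →+ M') (hg : ∀ r m, g (r • m) = σ r • g m) :
    SymmetricAlgebra R M →+* SymmetricAlgebra R' M' :=
  letI : Algebra R (SymmetricAlgebra R' M') :=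
    ((algebraMap R' (SymmetricAlgebra R' M')).comp σ).toAlgebra
  (SymmetricAlgebra.lift (R := R) (M := M) (A := SymmetricAlgebra R' M')
    { toFun := fun m => ι R' M' (g m)
      map_add' := fun a b => by rw [map_add, map_add]
      map_smul' := fun r m => by
        rw [hg, map_smul, Algebra.smul_def, Algebra.smul_def]
        rfl }).toRingHom

@[simp]
theorem symMap_algebraMap (σ : R →+* R') (g : M →+ M') (hg : ∀ r m, g (r • m) = σ r • g m) (r : R) :
    symMap σ g hg (algebraMap R _ r) = algebraMap R' _ (σ r) := by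
  let _ : Algebra R (SymmetricAlgebra R' M') :=
    ((algebraMap R' (SymmetricAlgebra R' M')).comp σ).toAlgebra
  exact AlgHom.commutes _ r

@[simp]
theorem symMap_ι (σ : R →+* R') (g : M →+ M') (hg : ∀ r m, g (r • m) = σ r • g m) (m : M) :
    symMap σ g hg (ι R M m) = ι R' M' (g m) := by
  let _ : Algebra R (SymmetricAlgebra R' M') :=
    ((algebraMap R' (SymmetricAlgebra R' M')).comp σ).toAlgebra
  exact SymmetricAlgebra.lift_ι_apply _ m

theorem symMap_id :
    symMap (RingHom.id R) (AddMonoidHom.id M) (fun _ _ => rfl) = RingHom.id (SymmetricAlgebra R M) :=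
  ringHom_ext (fun r => by simp) (fun m => by simp)

theorem symMap_comp {R'' M'' : Type*} [CommRing R''] [AddCommGroup M''] [Module R'' M'']
    (σ : R →+* R') (g : M →+ M') (hg : ∀ r m, g (r • m) = σ r • g m)
    (σ' : R' →+* R'') (g' : M' →+ M'') (hg' : ∀ r m, g' (r • m) = σ' r • g' m) :
    (symMap σ' g' hg').comp (symMap σ g hg) =
      symMap (σ'.comp σ) (g'.comp g) (fun r m => by simp [hg, hg']) :=
  ringHom_ext (fun r => by simp) (fun m => by simp)

end Semilinear

section Localization

variable {R R' M M' : Type*} [CommRing R] [CommRing R'] [AddCommGroup M] [Module R M]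
  [AddCommGroup M'] [Module R' M']

/-- Symmetric algebras commute with localization at an element. -/
theorem isLocalization_symMap (σ : R →+* R') (g : M →+ M') (hg : ∀ r m, g (r • m) = σ r • g m)
    (f : R)
    (hσ : letI := σ.toAlgebra; IsLocalization.Away f R')
    (hsurj : ∀ m' : M', ∃ (n : ℕ) (m : M), σ f ^ n • m' = g m)
    (hker : ∀ m : M, g m = 0 → ∃ n : ℕ, f ^ n • m = 0) :
    letI := (symMap σ g hg).toAlgebra
    IsLocalization.Away (algebraMap R (SymmetricAlgebra R M) f) (SymmetricAlgebra R' M') := by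
  letI instA : Algebra R R' := σ.toAlgebra
  letI instM : Module R M' := Module.compHom M' σ
  haveI instT : IsScalarTower R R' M' := IsScalarTower.of_algebraMap_smul (fun _ _ => rfl)
  letI := (symMap σ g hg).toAlgebra
  have hunit : IsUnit (σ f) := IsLocalization.Away.algebraMap_isUnit (S := R') f
  let gl : M →ₗ[R] M' :=
    { toFun := g
      map_add' := g.map_add
      map_smul' := fun r m => hg r m }
  -- `gl` is a localization of modules
  have hloc : IsLocalizedModule (Submonoid.powers f) gl := by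
    refine ⟨?_, ?_, ?_⟩
    · rintro ⟨_, n, rfl⟩
      rw [Module.End.isUnit_iff]
      obtain ⟨w, hw⟩ := hunit.pow n
      refine ⟨fun a b hab => ?_, fun b => ⟨(↑w⁻¹ : R') • b, ?_⟩⟩
      · have h1 : (w : R') • a = (w : R') • b := by
          rw [hw, ← map_pow]; exact hab
        have h2 := congrArg (fun z => (↑w⁻¹ : R') • z) h1
        simpa [smul_smul] using h2
      · change σ (f ^ n) • ((↑w⁻¹ : R') • b) = b
        rw [map_pow, ← hw, smul_smul, Units.mul_inv, one_smul]
    · intro y
      obtain ⟨n, m, hm⟩ := hsurj y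
      refine ⟨⟨m, ⟨f ^ n, n, rfl⟩⟩, ?_⟩
      change σ (f ^ n) • y = g m
      rw [map_pow]; exact hm
    · intro a b hab
      have h0 : g (a - b) = 0 := by
        rw [map_sub, sub_eq_zero]; exact hab
      obtain ⟨n, hn⟩ := hker (a - b) h0
      refine ⟨⟨f ^ n, n, rfl⟩, ?_⟩
      change f ^ n • a = f ^ n • b
      rw [← sub_eq_zero, ← smul_sub]; exact hn
  set S := SymmetricAlgebra R M
  set S' := SymmetricAlgebra R' M'
  set F : S := algebraMap R S f with hF
  have hΦF : ∀ n : ℕ, symMap σ g hg (F ^ n) = algebraMap R' S' (σ f ^ n) := by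
    intro n; rw [map_pow, hF, symMap_algebraMap, map_pow]
  constructor
  refine ⟨?_, ?_, ?_⟩
  · rintro ⟨_, n, rfl⟩
    change IsUnit (symMap σ g hg (F ^ n))
    rw [hΦF]
    exact (hunit.pow n).map _
  · intro z
    induction z using SymmetricAlgebra.induction with
    | algebraMap r' =>
      obtain ⟨⟨r, ⟨_, n, rfl⟩⟩, hr⟩ := IsLocalization.surj (Submonoid.powers f) r'
      refine ⟨⟨algebraMap R S r, ⟨F ^ n, n, rfl⟩⟩, ?_⟩
      change algebraMap R' S' r' * symMap σ g hg (F ^ n) = symMap σ g hg (algebraMap R S r)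
      rw [hΦF, symMap_algebraMap, ← map_mul]
      congr 1
      rw [← map_pow]
      exact hr
    | ι m' =>
      obtain ⟨n, m, hm⟩ := hsurj m'
      refine ⟨⟨ι R M m, ⟨F ^ n, n, rfl⟩⟩, ?_⟩
      change ι R' M' m' * symMap σ g hg (F ^ n) = symMap σ g hg (ι R M m)
      rw [hΦF, symMap_ι, ← hm, map_smul, Algebra.smul_def, mul_comm]
    | mul a b ha hb =>
      obtain ⟨⟨a₀, ⟨_, n, rfl⟩⟩, ha₀⟩ := ha
      obtain ⟨⟨b₀, ⟨_, k, rfl⟩⟩, hb₀⟩ := hb
      refine ⟨⟨a₀ * b₀, ⟨F ^ (n + k), n + k, rfl⟩⟩, ?_⟩
      change a * b * symMap σ g hg (F ^ (n + k)) = symMap σ g hg (a₀ * b₀)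
      have ha' : a * symMap σ g hg (F ^ n) = symMap σ g hg a₀ := ha₀
      have hb' : b * symMap σ g hg (F ^ k) = symMap σ g hg b₀ := hb₀
      rw [map_mul, ← ha', ← hb', pow_add, map_mul]
      ring
    | add a b ha hb =>
      obtain ⟨⟨a₀, ⟨_, n, rfl⟩⟩, ha₀⟩ := ha
      obtain ⟨⟨b₀, ⟨_, k, rfl⟩⟩, hb₀⟩ := hb
      refine ⟨⟨a₀ * F ^ k + b₀ * F ^ n, ⟨F ^ (n + k), n + k, rfl⟩⟩, ?_⟩
      change (a + b) * symMap σ g hg (F ^ (n + k)) = symMap σ g hg (a₀ * F ^ k + b₀ * F ^ n)
      have ha' : a * symMap σ g hg (F ^ n) = symMap σ g hg a₀ := ha₀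
      have hb' : b * symMap σ g hg (F ^ k) = symMap σ g hg b₀ := hb₀
      rw [map_add, map_mul, map_mul, ← ha', ← hb', pow_add, map_mul]
      ring
  · intro a b hab
    have hab' : symMap σ g hg a = symMap σ g hg b := hab
    let T := Localization.Away F
    have hFT : IsUnit (algebraMap S T F) := IsLocalization.Away.algebraMap_isUnit F
    let σT : R' →+* T := IsLocalization.Away.lift (S := R') f
      (g := (algebraMap S T).comp (algebraMap R S)) hFT
    have hσT : ∀ r, σT (σ r) = algebraMap S T (algebraMap R S r) := fun r =>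
      IsLocalization.Away.lift_eq (S := R') f hFT r
    letI instAT : Algebra R' T := σT.toAlgebra
    haveI instST : IsScalarTower R R' T := IsScalarTower.of_algebraMap_eq (fun r => by
      change algebraMap R T r = σT (σ r)
      rw [hσT, IsScalarTower.algebraMap_apply R S T])
    let h : M →ₗ[R] T := (IsScalarTower.toAlgHom R S T).toLinearMap ∘ₗ ι R M
    have hu : ∀ x : Submonoid.powers f, IsUnit ((algebraMap R (Module.End R T)) x) := by
      rintro ⟨_, n, rfl⟩
      rw [Module.End.isUnit_iff]
      have hun : IsUnit (algebraMap R T (f ^ n)) := by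
        rw [IsScalarTower.algebraMap_apply R S T, map_pow, map_pow]
        exact hFT.pow n
      obtain ⟨w, hw⟩ := hun
      refine ⟨fun x y hxy => ?_, fun y => ⟨(↑w⁻¹ : T) * y, ?_⟩⟩
      · have h1 : (w : T) * x = (w : T) * y := by
          rw [hw, ← Algebra.smul_def, ← Algebra.smul_def]; exact hxy
        exact w.isUnit.mul_left_cancel h1
      · change (f ^ n) • ((↑w⁻¹ : T) * y) = y
        rw [Algebra.smul_def, ← hw, ← mul_assoc, Units.mul_inv, one_mul]
    let μ : M' →ₗ[R] T := IsLocalizedModule.lift (Submonoid.powers f) gl h hu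
    have hμ : ∀ m, μ (g m) = algebraMap S T (ι R M m) := fun m =>
      IsLocalizedModule.lift_apply (Submonoid.powers f) gl h hu m
    let μ' : M' →ₗ[R'] T := LinearMap.extendScalarsOfIsLocalization (Submonoid.powers f) R' μ
    let θ : S' →ₐ[R'] T := SymmetricAlgebra.lift μ'
    have hθ : θ.toRingHom.comp (symMap σ g hg) = algebraMap S T := by
      apply ringHom_ext
      · intro r
        change θ (symMap σ g hg (algebraMap R S r)) = _
        rw [symMap_algebraMap, AlgHom.commutes]
        exact hσT r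
      · intro m
        change θ (symMap σ g hg (ι R M m)) = _
        rw [symMap_ι, SymmetricAlgebra.lift_ι_apply]
        exact hμ m
    have hT : algebraMap S T a = algebraMap S T b := by
      rw [← hθ]
      change θ (symMap σ g hg a) = θ (symMap σ g hg b)
      rw [hab']
    obtain ⟨c, hc⟩ := (IsLocalization.eq_iff_exists (Submonoid.powers F) T).mp hT
    exact ⟨c, hc⟩

end Localization

end Groth.Agent.Helper18.SymAlg
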