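import Mathlib
import Groth.Prelude.Def_RelSpec

set_option autoImplicit false
universe u
open CategoryTheory CategoryTheory.Limits AlgebraicGeometry TopologicalSpace Opposite

/-!
# Gluing a coequifibered presheaf of rings on the affine opens into a quasi-coherent algebra
-/

noncomputable section

namespace Groth.Agent.Helper18.AffGlue

variable {S : Scheme.{u}} {F : S.AffineZariskiSiteᵒᵖ ⥤ CommRingCat.{u}}
  {α : (Scheme.AffineZariskiSite.toOpensFunctor S).op ⋙ S.presheaf ⟶ F} (H : α.Coequifibered)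

/-- The relative gluing datum. -/
def glueData : (Scheme.AffineZariskiSite.directedCover S).RelativeGluingData :=
  Scheme.AffineZariskiSite.relativeGluingData H

instance : ((glueData H).functor ⋙ Scheme.forget).IsLocallyDirected :=
  Scheme.Cover.RelativeGluingData.instIsLocallyDirectedI₀CompFunctorForgetOfIsThin ..

/-- the glued scheme -/
def Z : Scheme.{u} := (glueData H).glued

/-- structure morphism -/
def π : Z H ⟶ S := (glueData H).toBase

/-- the chart over an affine open -/
def ι (U : S.Opens) (hU : IsAffineOpen U) : Spec (F.obj (op ⟨U, hU⟩)) ⟶ Z H :=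
  (glueData H).cover.f ⟨U, hU⟩

variable (U : S.Opens) (hU : IsAffineOpen U)

instance : IsOpenImmersion (ι H U hU) := (glueData H).cover.map_prop _

/-- the structure map over an affine open, with its type unfolded -/
def strAt (α : (Scheme.AffineZariskiSite.toOpensFunctor S).op ⋙ S.presheaf ⟶ F)
    (U : S.Opens) (hU : IsAffineOpen U) : Γ(S, U) ⟶ F.obj (op ⟨U, hU⟩) :=
  α.app (op ⟨U, hU⟩)

theorem ι_π : ι H U hU ≫ π H = Spec.map (strAt α U hU) ≫ hU.fromSpec :=
  colimit.ι_desc _ _

theorem π_preimage : π H ⁻¹ᵁ U = (ι H U hU).opensRange := by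
  simpa using! (glueData H).toBase_preimage_eq_opensRange_ι ⟨U, hU⟩

theorem ι_res {U V : S.AffineZariskiSite} (i : V ⟶ U) :
    Spec.map (F.map i.op) ≫ ι H U.1 U.2 = ι H V.1 V.2 :=
  colimit.w (glueData H).functor i

theorem ι_res' {U V : S.AffineZariskiSiteᵒᵖ} (i : U ⟶ V) :
    Spec.map (F.map i) ≫ ι H U.unop.1 U.unop.2 = ι H V.unop.1 V.unop.2 :=
  colimit.w (glueData H).functor i.unop

theorem top_le_preimage :
    (⊤ : (Spec (F.obj (op ⟨U, hU⟩))).Opens) ≤ ι H U hU ⁻¹ᵁ (π H ⁻¹ᵁ U) := by
  rw [← Scheme.Hom.comp_preimage, ι_π, Scheme.Hom.comp_preimage, hU.fromSpec_preimage_self]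
  exact le_top

instance isAffineHom_π : IsAffineHom (π H) where
  isAffine_preimage U hU := by
    rw [π_preimage H U hU]
    exact isAffineOpen_opensRange (ι H U hU)

/-- the glued quasi-coherent algebra -/
def alg : RelSpec.QCAlg S := RelSpec.QCAlg.directImage (π H)

/-- Over an affine open: sections of the glued algebra are `F(U)`. -/
def gammaAff : Γ(Z H, π H ⁻¹ᵁ U) ⟶ F.obj (op ⟨U, hU⟩) :=
  (ι H U hU).appLE (π H ⁻¹ᵁ U) ⊤ (top_le_preimage H U hU) ≫
    (Scheme.ΓSpecIso (F.obj (op ⟨U, hU⟩))).hom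

instance isIso_gammaAff : IsIso (gammaAff H U hU) := by
  have h1 : IsIso ((ι H U hU).app (π H ⁻¹ᵁ U)) :=
    Scheme.Hom.isIso_app _ _ (by rw [π_preimage H U hU])
  have h2 : IsIso ((ι H U hU).appLE (π H ⁻¹ᵁ U) ⊤ (top_le_preimage H U hU)) := by
    rw [Scheme.Hom.appLE]
    have : IsIso ((Spec (F.obj (op ⟨U, hU⟩))).presheaf.map
        (homOfLE (top_le_preimage H U hU)).op) := by
      have : IsIso (homOfLE (top_le_preimage H U hU)) :=
        ⟨⟨homOfLE le_top, Subsingleton.elim _ _, Subsingleton.elim _ _⟩⟩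
      infer_instance
    infer_instance
  unfold gammaAff
  infer_instance

theorem gammaAff_eq {U : S.Opens} (hU : IsAffineOpen U) {W : (Z H).Opens} (hW : W = π H ⁻¹ᵁ U)
    (e : ⊤ ≤ ι H U hU ⁻¹ᵁ W) :
    (Z H).presheaf.map (eqToHom hW).op ≫ (ι H U hU).appLE W ⊤ e ≫
      (Scheme.ΓSpecIso (F.obj (op ⟨U, hU⟩))).hom = gammaAff H U hU := by
  subst hW; simp [gammaAff]

set_option backward.isDefEq.respectTransparency false in
/-- The identifications `gammaAff` as a natural transformation on the affine opens. -/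
def gammaRestrict : (Scheme.AffineZariskiSite.toOpensFunctor S).op ⋙ ((π H).base _* (Z H).presheaf) ⟶ F where
  app U := gammaAff H U.unop.1 U.unop.2
  naturality U V i := by
    change (Z H).presheaf.map (homOfLE ((π H).preimage_mono
        (Scheme.AffineZariskiSite.toOpens_mono i.unop.le))).op ≫
        gammaAff H V.unop.1 V.unop.2 =
      gammaAff H U.unop.1 U.unop.2 ≫ F.map i
    simp only [gammaAff, Category.assoc, ← Scheme.ΓSpecIso_naturality]
    simp only [← Category.assoc]
    congr 1
    simp only [Scheme.Hom.appTop, Scheme.Hom.appLE, Category.assoc]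
    have h1 := (Scheme.Hom.comp_app
      (Spec.map (F.map i))
      (ι H U.unop.1 U.unop.2) (π H ⁻¹ᵁ U.unop.1)).symm
    rw [Scheme.Hom.naturality_assoc, Scheme.Hom.naturality, reassoc_of% h1,
      Scheme.Hom.congr_app (ι_res' H i), Category.assoc, ← Functor.map_comp, ← Functor.map_comp]
    rfl

set_option backward.isDefEq.respectTransparency false in
/-- Over an affine open, `gammaAff` is compatible with the structure maps. -/
theorem π_app_gammaAff : (π H).app U ≫ gammaAff H U hU = strAt α U hU := by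
  have h1 := Scheme.Hom.congr_app (ι_π H U hU) U
  have h2 := (Scheme.Hom.comp_app (ι H U hU) (π H) U).symm
  have hk : ∀ k : (op ⊤ : (Spec (F.obj (op ⟨U, hU⟩))).Opensᵒᵖ) ⟶ op ⊤,
      (Spec (F.obj (op ⟨U, hU⟩))).presheaf.map k = 𝟙 _ := fun k => by
    rw [Subsingleton.elim k (𝟙 _)]; exact CategoryTheory.Functor.map_id _ _
  simp only [gammaAff, Scheme.Hom.appLE, Category.assoc]
  rw [reassoc_of% h2, h1, Scheme.Hom.comp_app, hU.fromSpec_app_self]
  simp only [Category.assoc]
  rw [Scheme.Hom.naturality_assoc]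
  simp only [← Functor.map_comp_assoc]
  erw [hk, Category.id_comp]
  rw [← cancel_epi (Scheme.ΓSpecIso Γ(S, U)).hom, Iso.hom_inv_id_assoc]
  erw [Scheme.ΓSpecIso_naturality]

section HomOfAff

variable (A : RelSpec.QCAlg S)
  (τ : F ⟶ (Scheme.AffineZariskiSite.toOpensFunctor S).op ⋙ A.presheaf)

/-- A homomorphism of presheaves of rings out of the glued algebra, from its values on the affine opens. -/
def mapOfAff : (π H).base _* (Z H).presheaf ⟶ A.presheaf :=
  Functor.IsCoverDense.restrictHomEquivHom (G := Scheme.AffineZariskiSite.toOpensFunctor S)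
    (K := Opens.grothendieckTopology S) (ℱ := (π H).base _* (Z H).presheaf)
    (ℱ' := (⟨A.presheaf, A.isSheaf⟩ : TopCat.Sheaf CommRingCat.{u} S.carrier))
    (gammaRestrict H ≫ τ)

theorem mapOfAff_restrict :
    (Scheme.AffineZariskiSite.toOpensFunctor S).op.whiskerLeft (mapOfAff H A τ) =
      gammaRestrict H ≫ τ :=
  (Functor.IsCoverDense.restrictHomEquivHom (G := Scheme.AffineZariskiSite.toOpensFunctor S)
    (K := Opens.grothendieckTopology S) (ℱ := (π H).base _* (Z H).presheaf)
    (ℱ' := (⟨A.presheaf, A.isSheaf⟩ : TopCat.Sheaf CommRingCat.{u} S.carrier))).symm_apply_apply _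

theorem mapOfAff_app :
    (mapOfAff H A τ).app (op U) = gammaAff H U hU ≫ τ.app (op ⟨U, hU⟩) :=
  NatTrans.congr_app (mapOfAff_restrict H A τ) (op ⟨U, hU⟩)

variable (hτ : ∀ (U : S.Opens) (hU : IsAffineOpen U),
  strAt α U hU ≫ τ.app (op ⟨U, hU⟩) = A.str.app (op U))

set_option backward.isDefEq.respectTransparency false in
include hτ in
theorem π_c_mapOfAff : (π H).c ≫ mapOfAff H A τ = A.str := by
  apply (Functor.IsCoverDense.restrictHomEquivHom (G := Scheme.AffineZariskiSite.toOpensFunctor S)
    (K := Opens.grothendieckTopology S) (ℱ := S.presheaf)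
    (ℱ' := (⟨A.presheaf, A.isSheaf⟩ : TopCat.Sheaf CommRingCat.{u} S.carrier))).symm.injective
  ext U : 2
  change (π H).app U.unop.1 ≫ (mapOfAff H A τ).app (op U.unop.1) = A.str.app (op U.unop.1)
  rw [mapOfAff_app H U.unop.1 U.unop.2, ← Category.assoc, π_app_gammaAff, hτ]

/-- The homomorphism of quasi-coherent algebras out of the glued algebra. -/
def homOfAff : alg H ⟶ A := ⟨mapOfAff H A τ, π_c_mapOfAff H A τ hτ⟩

theorem homOfAff_app :
    (homOfAff H A τ hτ).hom.app (op U) = gammaAff H U hU ≫ τ.app (op ⟨U, hU⟩) :=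
  mapOfAff_app H U hU A τ

end HomOfAff

section ModHomOfAff

variable (E : S.Modules)
  (θ : ∀ (U : S.Opens) (hU : IsAffineOpen U), Γ(E, U) →+ F.obj (op ⟨U, hU⟩))
  (hθnat : ∀ (U V : S.AffineZariskiSiteᵒᵖ) (i : U ⟶ V) (m : Γ(E, U.unop.1)),
    (F.map i).hom (θ U.unop.1 U.unop.2 m) =
      θ V.unop.1 V.unop.2 (E.presheaf.map
        (homOfLE (Scheme.AffineZariskiSite.toOpens_mono i.unop.le)).op m))
  (hθlin : ∀ (U : S.Opens) (hU : IsAffineOpen U) (r : Γ(S, U)) (m : Γ(E, U)),
    θ U hU (r • m) = (strAt α U hU).hom r * θ U hU m)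

/-- The inverse of `gammaAff` as an additive map. -/
def gammaAffInv : F.obj (op ⟨U, hU⟩) →+ (alg H).presheaf.obj (op U) :=
  (inv (gammaAff H U hU)).hom.toAddMonoidHom

theorem gammaAff_gammaAffInv (x : F.obj (op ⟨U, hU⟩)) :
    (gammaAff H U hU).hom (gammaAffInv H U hU x) = x := by
  have := congrArg (fun k => k.hom x) (IsIso.inv_hom_id (gammaAff H U hU))
  exact this

theorem gammaAffInv_gammaAff (y : (alg H).presheaf.obj (op U)) :
    gammaAffInv H U hU ((gammaAff H U hU).hom y) = y := by
  have := congrArg (fun k => k.hom y) (IsIso.hom_inv_id (gammaAff H U hU))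
  exact this

include hθnat in
/-- the natural transformation on the affine opens -/
def abRestrict : (Scheme.AffineZariskiSite.toOpensFunctor S).op ⋙ E.presheaf ⟶
    (Scheme.AffineZariskiSite.toOpensFunctor S).op ⋙ (alg H).toAb where
  app U := AddCommGrpCat.ofHom ((gammaAffInv H U.unop.1 U.unop.2).comp (θ U.unop.1 U.unop.2))
  naturality U V i := by
    ext m
    have hnat := congrArg (fun k => k.hom (gammaAffInv H U.unop.1 U.unop.2 (θ U.unop.1 U.unop.2 m)))
      ((gammaRestrict H).naturality i)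
    have h1 : (gammaAff H V.unop.1 V.unop.2).hom
        (((alg H).presheaf.map (homOfLE (Scheme.AffineZariskiSite.toOpens_mono i.unop.le)).op).hom
          (gammaAffInv H U.unop.1 U.unop.2 (θ U.unop.1 U.unop.2 m))) =
        (F.map i).hom ((gammaAff H U.unop.1 U.unop.2).hom
          (gammaAffInv H U.unop.1 U.unop.2 (θ U.unop.1 U.unop.2 m))) := hnat
    have h1a := gammaAff_gammaAffInv H U.unop.1 U.unop.2 (θ U.unop.1 U.unop.2 m)
    have h1c := h1.trans ((congrArg (F.map i).hom h1a).trans (hθnat U V i m))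
    have h2 := congrArg (gammaAffInv H V.unop.1 V.unop.2) h1c
    have h3 := gammaAffInv_gammaAff H V.unop.1 V.unop.2
      (((alg H).presheaf.map (homOfLE (Scheme.AffineZariskiSite.toOpens_mono i.unop.le)).op).hom
          (gammaAffInv H U.unop.1 U.unop.2 (θ U.unop.1 U.unop.2 m)))
    exact (h3.symm.trans h2).symm

/-- the extension to all opens, as a map of abelian presheaves -/
def abMap : E.presheaf ⟶ (alg H).toAb :=
  Functor.IsCoverDense.restrictHomEquivHom (G := Scheme.AffineZariskiSite.toOpensFunctor S)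
    (K := Opens.grothendieckTopology S) (ℱ := E.presheaf)
    (ℱ' := (⟨(alg H).toAb, (alg H).isSheaf_toAb⟩ : TopCat.Sheaf AddCommGrpCat.{u} S.carrier))
    (abRestrict H E θ hθnat)

theorem abMap_restrict :
    (Scheme.AffineZariskiSite.toOpensFunctor S).op.whiskerLeft (abMap H E θ hθnat) =
      abRestrict H E θ hθnat :=
  (Functor.IsCoverDense.restrictHomEquivHom (G := Scheme.AffineZariskiSite.toOpensFunctor S)
    (K := Opens.grothendieckTopology S) (ℱ := E.presheaf)
    (ℱ' := (⟨(alg H).toAb, (alg H).isSheaf_toAb⟩ :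
      TopCat.Sheaf AddCommGrpCat.{u} S.carrier))).symm_apply_apply _

theorem abMap_app (m : Γ(E, U)) :
    ((abMap H E θ hθnat).app (op U)).hom m = gammaAffInv H U hU (θ U hU m) := by
  have := NatTrans.congr_app (abMap_restrict H E θ hθnat) (op ⟨U, hU⟩)
  exact congrArg (fun k => k.hom m) this

theorem gammaAff_str (r : Γ(S, U)) :
    (gammaAff H U hU).hom (((alg H).str.app (op U)).hom r) = (strAt α U hU).hom r := by
  have := congrArg (fun k => k.hom r) (π_app_gammaAff H U hU)
  exact this

theorem gammaAffInv_mul (r : Γ(S, U)) (x : F.obj (op ⟨U, hU⟩)) :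
    gammaAffInv H U hU ((strAt α U hU).hom r * x) =
      ((alg H).str.app (op U)).hom r * gammaAffInv H U hU x := by
  have hinj : Function.Injective (gammaAff H U hU).hom := by
    intro a b hab
    have := congrArg (gammaAffInv H U hU) hab
    exact (gammaAffInv_gammaAff H U hU a).symm.trans (this.trans (gammaAffInv_gammaAff H U hU b))
  apply hinj
  have e1 := gammaAff_gammaAffInv H U hU ((strAt α U hU).hom r * x)
  have e2 : (gammaAff H U hU).hom (((alg H).str.app (op U)).hom r * gammaAffInv H U hU x) =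
      (gammaAff H U hU).hom (((alg H).str.app (op U)).hom r) *
        (gammaAff H U hU).hom (gammaAffInv H U hU x) := map_mul _ _ _
  have e3 := gammaAff_str H U hU r
  have e4 := gammaAff_gammaAffInv H U hU x
  exact e1.trans (e2.trans (congrArg₂ (· * ·) e3 e4)).symm

include hθlin in
theorem abMap_smul (W : S.Opens) (r : Γ(S, W)) (m : Γ(E, W)) :
    (((abMap H E θ hθnat).app (op W)).hom (r • m) : (alg H).presheaf.obj (op W)) =
      ((alg H).str.app (op W)).hom r *
        (((abMap H E θ hθnat).app (op W)).hom m : (alg H).presheaf.obj (op W)) := by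
  let 𝒢 : TopCat.Sheaf CommRingCat.{u} S.carrier := ⟨(alg H).presheaf, (alg H).isSheaf⟩
  refine TopCat.Sheaf.eq_of_locally_eq' 𝒢
    (fun i : {V : S.affineOpens // V.1 ≤ W} => i.1.1) W (fun i => homOfLE i.2) ?_ _ _ ?_
  · intro x hx
    obtain ⟨V, hV0, hxV, hVW⟩ := Opens.isBasis_iff_nbhd.mp (S.isBasis_affineOpens) hx
    exact Opens.mem_iSup.mpr ⟨⟨⟨V, hV0⟩, hVW⟩, hxV⟩
  · rintro ⟨⟨V, hV⟩, hVW⟩
    have hVa : IsAffineOpen V := hV
    change ((alg H).presheaf.map (homOfLE hVW).op).hom _ = ((alg H).presheaf.map (homOfLE hVW).op).hom _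
    have hnat : ∀ m' : Γ(E, W), ((alg H).presheaf.map (homOfLE hVW).op).hom
        (((abMap H E θ hθnat).app (op W)).hom m' : (alg H).presheaf.obj (op W)) =
        ((abMap H E θ hθnat).app (op V)).hom (E.presheaf.map (homOfLE hVW).op m') := by
      intro m'
      have := congrArg (fun k => k.hom m') ((abMap H E θ hθnat).naturality (homOfLE hVW).op)
      exact this.symm
    rw [map_mul, hnat, hnat, abMap_app H V hVa, abMap_app H V hVa, Scheme.Modules.map_smul,
      hθlin, gammaAffInv_mul]
    congr 1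
    have := congrArg (fun k => k.hom r) ((alg H).str.naturality (homOfLE hVW).op)
    exact this

include hθlin in
/-- The module map into the glued algebra, from its values on the affine opens. -/
def modHomOfAff : E ⟶ (alg H).toModule :=
  ⟨letI := (alg H).moduleSect
   PresheafOfModules.homMk (M₁ := E.val) (M₂ := (alg H).toModule.val) (abMap H E θ hθnat)
    (fun W r m => abMap_smul H E θ hθnat hθlin W.unop r m)⟩

theorem modHomOfAff_app (m : Γ(E, U)) :
    (gammaAff H U hU).hom (((modHomOfAff H E θ hθnat hθlin).app U).hom m :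
      (alg H).presheaf.obj (op U)) = θ U hU m := by
  have h1 : (((modHomOfAff H E θ hθnat hθlin).app U).hom m : (alg H).presheaf.obj (op U)) =
      gammaAffInv H U hU (θ U hU m) := abMap_app H U hU E θ hθnat m
  rw [h1, gammaAff_gammaAffInv]

end ModHomOfAff

end Groth.Agent.Helper18.AffGlue
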