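import Mathlib
import Groth.Prelude.Def_RelSpec
import Groth.Agent.Lib.Helper13.QCoh
import Groth.Agent.Lib.Helper18.SymAlg1
import Groth.Agent.Lib.Helper18.SymAlg2

set_option autoImplicit false
universe u
open CategoryTheory CategoryTheory.Limits AlgebraicGeometry TopologicalSpace Opposite

/-!
# The symmetric algebra of a quasi-coherent module as a quasi-coherent algebra
-/

noncomputable section

namespace Groth.Agent.Helper18.SymAlg

variable {X : Scheme.{u}} (E : X.Modules)

/-- restriction of functions -/
def resRing {U V : X.Opens} (h : V ≤ U) : Γ(X, U) →+* Γ(X, V) := (X.presheaf.map (homOfLE h).op).hom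

/-- restriction of sections -/
def resMod {U V : X.Opens} (h : V ≤ U) : Γ(E, U) →+ Γ(E, V) := (E.presheaf.map (homOfLE h).op).hom

theorem resMod_smul {U V : X.Opens} (h : V ≤ U) (r : Γ(X, U)) (m : Γ(E, U)) :
    resMod E h (r • m) = resRing h r • resMod E h m :=
  Scheme.Modules.map_smul E (homOfLE h) r m

theorem resRing_id (U : X.Opens) : resRing (le_refl U) = RingHom.id Γ(X, U) := by
  ext r
  change (X.presheaf.map (𝟙 (op U))).hom r = r
  rw [X.presheaf.map_id]; rfl

theorem resMod_id (U : X.Opens) : resMod E (le_refl U) = AddMonoidHom.id Γ(E, U) := by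
  ext m
  change (E.presheaf.map (𝟙 (op U))).hom m = m
  rw [E.presheaf.map_id]; rfl

theorem resRing_comp {U V W : X.Opens} (h : V ≤ U) (h' : W ≤ V) :
    (resRing h').comp (resRing h) = resRing (h'.trans h) := by
  ext r
  change (X.presheaf.map (homOfLE h').op).hom ((X.presheaf.map (homOfLE h).op).hom r) = _
  rw [← CommRingCat.comp_apply, ← X.presheaf.map_comp]; rfl

theorem resMod_comp {U V W : X.Opens} (h : V ≤ U) (h' : W ≤ V) :
    (resMod E h').comp (resMod E h) = resMod E (h'.trans h) := by
  ext m
  change (E.presheaf.map (homOfLE h').op).hom ((E.presheaf.map (homOfLE h).op).hom m) = _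
  rw [← AddCommGrpCat.comp_apply, ← E.presheaf.map_comp]; rfl

/-- the restriction map of symmetric algebras -/
def symRes {U V : X.Opens} (h : V ≤ U) :
    SymmetricAlgebra Γ(X, U) Γ(E, U) →+* SymmetricAlgebra Γ(X, V) Γ(E, V) :=
  symMap (resRing h) (resMod E h) (resMod_smul E h)

/-- The presheaf of symmetric algebras on the affine opens. -/
def symFunctor : X.AffineZariskiSiteᵒᵖ ⥤ CommRingCat.{u} where
  obj U := CommRingCat.of (SymmetricAlgebra Γ(X, U.unop.1) Γ(E, U.unop.1))
  map {U V} i := CommRingCat.ofHom (symRes E (Scheme.AffineZariskiSite.toOpens_mono i.unop.le))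
  map_id U := by
    apply CommRingCat.hom_ext
    apply ringHom_ext
    · intro r
      change symRes E _ _ = _
      rw [symRes, symMap_algebraMap, resRing_id]; rfl
    · intro m
      change symRes E _ _ = _
      rw [symRes, symMap_ι, resMod_id]; rfl
  map_comp {U V W} i k := by
    apply CommRingCat.hom_ext
    apply ringHom_ext
    · intro r
      change symRes E _ _ = symRes E _ (symRes E _ _)
      simp only [symRes, symMap_algebraMap]
      congr 1
      exact (DFunLike.congr_fun (resRing_comp _ _) r).symm
    · intro m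
      change symRes E _ _ = symRes E _ (symRes E _ _)
      simp only [symRes, symMap_ι]
      congr 1
      exact (DFunLike.congr_fun (resMod_comp E _ _) m).symm

/-- the structure map -/
def symStr : (Scheme.AffineZariskiSite.toOpensFunctor X).op ⋙ X.presheaf ⟶ symFunctor E where
  app U := CommRingCat.ofHom
    (algebraMap Γ(X, U.unop.1) (SymmetricAlgebra Γ(X, U.unop.1) Γ(E, U.unop.1)))
  naturality {U V} i := by
    apply CommRingCat.hom_ext
    ext r
    change algebraMap Γ(X, V.unop.1) (SymmetricAlgebra Γ(X, V.unop.1) Γ(E, V.unop.1))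
        (resRing (Scheme.AffineZariskiSite.toOpens_mono i.unop.le) r) =
      symRes E (Scheme.AffineZariskiSite.toOpens_mono i.unop.le)
        (algebraMap Γ(X, U.unop.1) (SymmetricAlgebra Γ(X, U.unop.1) Γ(E, U.unop.1)) r)
    exact (symMap_algebraMap (R := Γ(X, U.unop.1)) (M := Γ(E, U.unop.1))
      (resRing (Scheme.AffineZariskiSite.toOpens_mono i.unop.le))
      (resMod E (Scheme.AffineZariskiSite.toOpens_mono i.unop.le))
      (resMod_smul E (Scheme.AffineZariskiSite.toOpens_mono i.unop.le)) r).symm

variable [E.IsQuasicoherent]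

theorem symStr_coequifibered : (symStr E).Coequifibered := by
  refine Scheme.AffineZariskiSite.coequifibered_iff_forall_isLocalizationAway.mpr fun U f => ?_
  have hσ : letI := (resRing (X.basicOpen_le f)).toAlgebra
      IsLocalization.Away f Γ(X, X.basicOpen f) := U.2.isLocalization_basicOpen f
  have hsurj : ∀ m' : Γ(E, X.basicOpen f), ∃ (n : ℕ) (m : Γ(E, U.1)),
      (resRing (X.basicOpen_le f)) f ^ n • m' = resMod E (X.basicOpen_le f) m := by
    intro m'
    obtain ⟨n, t, ht⟩ := Groth.Agent.Helper13.QCoh.exists_pow_smul_eq_res E U.2 f m'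
    exact ⟨n, t, ht.symm⟩
  have hker : ∀ m : Γ(E, U.1), resMod E (X.basicOpen_le f) m = 0 → ∃ n : ℕ, f ^ n • m = 0 :=
    fun m hm => Groth.Agent.Helper13.QCoh.exists_pow_smul_eq_zero E U.2 f m hm
  exact isLocalization_symMap (resRing (X.basicOpen_le f)) (resMod E (X.basicOpen_le f))
    (resMod_smul E (X.basicOpen_le f)) f hσ hsurj hker

/-- The symmetric algebra of a quasi-coherent module, as a quasi-coherent algebra. -/
def symAlg : RelSpec.QCAlg X := AffGlue.alg (symStr_coequifibered E)

end Groth.Agent.Helper18.SymAlg
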