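import Mathlib
import Groth.Prelude.Def_RelSpec
import Groth.Agent.Lib.Helper18.SymAlg3

set_option autoImplicit false
universe u
open CategoryTheory CategoryTheory.Limits AlgebraicGeometry TopologicalSpace Opposite

/-!
# Structure theorem: a symmetric algebra (`RelSpec.IsSymAlg`) of a quasi-coherent module is, over
every affine open, the symmetric algebra of the module of sections.
-/

noncomputable section

namespace Groth.Agent.Helper18.SymAlg

variable {X : Scheme.{u}} (E : X.Modules) (A : RelSpec.QCAlg X) (j : E ⟶ A.toModule)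

/-- `j` on sections over `U`, as an additive map into the ring `A(U)`. -/
def jU (U : X.Opens) : Γ(E, U) →+ A.presheaf.obj (op U) := (j.app U).hom

theorem jU_smul (U : X.Opens) (r : Γ(X, U)) (m : Γ(E, U)) :
    jU E A j U (r • m) = (A.str.app (op U)).hom r * jU E A j U m :=
  Scheme.Modules.Hom.app_smul j r m

theorem jU_res {U V : X.Opens} (h : V ≤ U) (m : Γ(E, U)) :
    (A.presheaf.map (homOfLE h).op).hom (jU E A j U m) = jU E A j V (resMod E h m) := by
  have := congrArg (fun k => k.hom m) (j.mapPresheaf.naturality (homOfLE h).op)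
  exact this.symm

/-- `j` over `U` as a linear map into the algebra `A(U)`. -/
def jlin (U : X.Opens) :
    letI := (A.str.app (op U)).hom.toAlgebra
    Γ(E, U) →ₗ[Γ(X, U)] A.presheaf.obj (op U) :=
  letI := (A.str.app (op U)).hom.toAlgebra
  { toFun := jU E A j U
    map_add' := (jU E A j U).map_add
    map_smul' := fun r m => by
      rw [jU_smul, Algebra.smul_def]
      rfl }

/-- The canonical ring map `Sym_{O(U)}(E(U)) → A(U)`. -/
def symToA (U : X.Opens) : SymmetricAlgebra Γ(X, U) Γ(E, U) →+* A.presheaf.obj (op U) :=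
  letI := (A.str.app (op U)).hom.toAlgebra
  (SymmetricAlgebra.lift (jlin E A j U)).toRingHom

@[simp]
theorem symToA_algebraMap (U : X.Opens) (r : Γ(X, U)) :
    symToA E A j U (algebraMap _ _ r) = (A.str.app (op U)).hom r := by
  let _ := (A.str.app (op U)).hom.toAlgebra
  exact AlgHom.commutes _ r

@[simp]
theorem symToA_ι (U : X.Opens) (m : Γ(E, U)) :
    symToA E A j U (SymmetricAlgebra.ι _ _ m) = jU E A j U m := by
  let _ := (A.str.app (op U)).hom.toAlgebra
  exact SymmetricAlgebra.lift_ι_apply _ m

theorem symToA_res {U V : X.Opens} (h : V ≤ U) (x : SymmetricAlgebra Γ(X, U) Γ(E, U)) :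
    (A.presheaf.map (homOfLE h).op).hom (symToA E A j U x) = symToA E A j V (symRes E h x) := by
  have : (A.presheaf.map (homOfLE h).op).hom.comp (symToA E A j U) =
      (symToA E A j V).comp (symRes E h) := by
    apply ringHom_ext
    · intro r
      simp only [RingHom.comp_apply, symRes, symMap_algebraMap, symToA_algebraMap]
      have := congrArg (fun k => k.hom r) (A.str.naturality (homOfLE h).op)
      exact this.symm
    · intro m
      simp only [RingHom.comp_apply, symRes, symMap_ι, symToA_ι]
      exact jU_res E A j h m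
  exact DFunLike.congr_fun this x

section Main

variable [E.IsQuasicoherent]

/-- the comparison on the affine opens -/
def tau : symFunctor E ⟶ (Scheme.AffineZariskiSite.toOpensFunctor X).op ⋙ A.presheaf where
  app U := CommRingCat.ofHom (symToA E A j U.unop.1)
  naturality {U V} i := by
    apply CommRingCat.hom_ext
    ext x
    exact (symToA_res E A j (Scheme.AffineZariskiSite.toOpens_mono i.unop.le) x).symm

theorem tau_str (U : X.Opens) (hU : IsAffineOpen U) :
    AffGlue.strAt (symStr E) U hU ≫ (tau E A j).app (op ⟨U, hU⟩) = A.str.app (op U) := by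
  apply CommRingCat.hom_ext
  ext r
  exact symToA_algebraMap E A j U r

/-- the comparison homomorphism `Sym(E) ⟶ A` -/
def sigma : symAlg E ⟶ A :=
  AffGlue.homOfAff (symStr_coequifibered E) A (tau E A j) (tau_str E A j)

theorem sigma_app (U : X.Opens) (hU : IsAffineOpen U) (y : (symAlg E).presheaf.obj (op U)) :
    ((sigma E A j).hom.app (op U)).hom y =
      symToA E A j U ((AffGlue.gammaAff (symStr_coequifibered E) U hU).hom y) := by
  have := AffGlue.homOfAff_app (symStr_coequifibered E) U hU A (tau E A j) (tau_str E A j)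
  exact congrArg (fun k => k.hom y) this

/-- the canonical map `E(U) → Sym(E(U))` on the affine opens -/
def theta (U : X.Opens) (hU : IsAffineOpen U) :
    Γ(E, U) →+ (symFunctor E).obj (op ⟨U, hU⟩) :=
  (SymmetricAlgebra.ι Γ(X, U) Γ(E, U)).toAddMonoidHom

theorem theta_nat (U V : X.AffineZariskiSiteᵒᵖ) (i : U ⟶ V) (m : Γ(E, U.unop.1)) :
    ((symFunctor E).map i).hom (theta E U.unop.1 U.unop.2 m) =
      theta E V.unop.1 V.unop.2 (E.presheaf.map
        (homOfLE (Scheme.AffineZariskiSite.toOpens_mono i.unop.le)).op m) :=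
  symMap_ι (resRing (Scheme.AffineZariskiSite.toOpens_mono i.unop.le))
    (resMod E (Scheme.AffineZariskiSite.toOpens_mono i.unop.le))
    (resMod_smul E (Scheme.AffineZariskiSite.toOpens_mono i.unop.le)) m

theorem theta_lin (U : X.Opens) (hU : IsAffineOpen U) (r : Γ(X, U)) (m : Γ(E, U)) :
    theta E U hU (r • m) = (AffGlue.strAt (symStr E) U hU).hom r * theta E U hU m := by
  change SymmetricAlgebra.ι Γ(X, U) Γ(E, U) (r • m) =
    algebraMap Γ(X, U) (SymmetricAlgebra Γ(X, U) Γ(E, U)) r * SymmetricAlgebra.ι Γ(X, U) Γ(E, U) m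
  rw [map_smul, Algebra.smul_def]

/-- the universal module map `E ⟶ Sym(E)` -/
def jZero : E ⟶ (symAlg E).toModule :=
  AffGlue.modHomOfAff (symStr_coequifibered E) E (theta E) (theta_nat E) (theta_lin E)

theorem gammaAff_jZero (U : X.Opens) (hU : IsAffineOpen U) (m : Γ(E, U)) :
    (AffGlue.gammaAff (symStr_coequifibered E) U hU).hom
      (jU E (symAlg E) (jZero E) U m) = SymmetricAlgebra.ι Γ(X, U) Γ(E, U) m :=
  AffGlue.modHomOfAff_app (symStr_coequifibered E) U hU E (theta E) (theta_nat E) (theta_lin E) m

omit [E.IsQuasicoherent] in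
theorem toModuleMap_comp {A B C : RelSpec.QCAlg X} (φ : A ⟶ B) (ψ : B ⟶ C) :
    RelSpec.QCAlg.Hom.toModuleMap (φ ≫ ψ) =
      RelSpec.QCAlg.Hom.toModuleMap φ ≫ RelSpec.QCAlg.Hom.toModuleMap ψ := by
  apply Scheme.Modules.hom_ext
  intro U
  rfl

omit [E.IsQuasicoherent] in
theorem toModuleMap_id (A : RelSpec.QCAlg X) :
    RelSpec.QCAlg.Hom.toModuleMap (𝟙 A) = 𝟙 A.toModule := by
  apply Scheme.Modules.hom_ext
  intro U
  rfl

omit [E.IsQuasicoherent] in
theorem jU_comp_toModuleMap {B : RelSpec.QCAlg X} (f : E ⟶ A.toModule) (φ : A ⟶ B)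
    (U : X.Opens) (m : Γ(E, U)) :
    jU E B (f ≫ RelSpec.QCAlg.Hom.toModuleMap φ) U m = (φ.hom.app (op U)).hom (jU E A f U m) :=
  rfl

omit [E.IsQuasicoherent] in
/-- Module maps into a quasi-coherent algebra agreeing on the affine opens are equal. -/
theorem modHom_ext_affine {N : RelSpec.QCAlg X} (f g : E ⟶ N.toModule)
    (h : ∀ (U : X.Opens) (_ : IsAffineOpen U) (m : Γ(E, U)), jU E N f U m = jU E N g U m) :
    f = g := by
  apply (Scheme.Modules.toPresheaf X).map_injective
  apply (Functor.IsCoverDense.restrictHomEquivHom (G := Scheme.AffineZariskiSite.toOpensFunctor X)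
    (K := Opens.grothendieckTopology X) (ℱ := E.presheaf)
    (ℱ' := (⟨N.toAb, N.isSheaf_toAb⟩ : TopCat.Sheaf AddCommGrpCat.{u} X.carrier))).symm.injective
  ext U m
  exact h U.unop.1 U.unop.2 m

theorem jZero_sigma : jZero E ≫ RelSpec.QCAlg.Hom.toModuleMap (sigma E A j) = j := by
  apply modHom_ext_affine
  intro U hU m
  rw [jU_comp_toModuleMap, sigma_app E A j U hU, gammaAff_jZero, symToA_ι]

/-- **Structure theorem.** If `(A, j)` is the symmetric algebra of the quasi-coherent module `E`
(universal property among quasi-coherent algebras), then over every affine open `U` the canonical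
map `Sym_{O(U)}(E(U)) → A(U)` is bijective. -/
theorem symToA_bijective (hj : RelSpec.IsSymAlg E A j) (U : X.Opens) (hU : IsAffineOpen U) :
    Function.Bijective (symToA E A j U) := by
  obtain ⟨ψ, hψ, -⟩ := hj (symAlg E) (jZero E)
  have hψ' : j ≫ RelSpec.QCAlg.Hom.toModuleMap ψ = jZero E := hψ
  have h1 : ψ ≫ sigma E A j = 𝟙 A := by
    obtain ⟨φ, -, huniq⟩ := hj A j
    have e1 : ψ ≫ sigma E A j = φ := huniq _ (by
      change j ≫ RelSpec.QCAlg.Hom.toModuleMap (ψ ≫ sigma E A j) = j
      rw [toModuleMap_comp, ← Category.assoc, hψ', jZero_sigma])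
    have e2 : 𝟙 A = φ := huniq _ (by
      change j ≫ RelSpec.QCAlg.Hom.toModuleMap (𝟙 A) = j
      rw [toModuleMap_id, Category.comp_id])
    rw [e1, e2]
  constructor
  · -- injectivity
    let G := (AffGlue.gammaAff (symStr_coequifibered E) U hU).hom
    have hρ : (G.comp (ψ.hom.app (op U)).hom).comp (symToA E A j U) = RingHom.id _ := by
      apply ringHom_ext
      · intro r
        have hc := congrArg (fun k => (k.app (op U)).hom r) ψ.comm
        have hc' : (ψ.hom.app (op U)).hom ((A.str.app (op U)).hom r) =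
            ((symAlg E).str.app (op U)).hom r := hc
        have e0 := symToA_algebraMap E A j U r
        exact (congrArg (fun z => G ((ψ.hom.app (op U)).hom z)) e0).trans
          ((congrArg G hc').trans (AffGlue.gammaAff_str (symStr_coequifibered E) U hU r))
      · intro m
        have hm : (ψ.hom.app (op U)).hom (jU E A j U m) = jU E (symAlg E) (jZero E) U m := by
          rw [← hψ']; rfl
        have e0 := symToA_ι E A j U m
        exact (congrArg (fun z => G ((ψ.hom.app (op U)).hom z)) e0).trans
          ((congrArg G hm).trans (gammaAff_jZero E U hU m))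
    intro a b hab
    have := congrArg (G.comp (ψ.hom.app (op U)).hom) hab
    have ha := DFunLike.congr_fun hρ a
    have hb := DFunLike.congr_fun hρ b
    exact ha.symm.trans (this.trans hb)
  · -- surjectivity
    intro a
    refine ⟨(AffGlue.gammaAff (symStr_coequifibered E) U hU).hom ((ψ.hom.app (op U)).hom a), ?_⟩
    rw [← sigma_app E A j U hU]
    have := congrArg (fun k => (k.hom.app (op U)).hom a) h1
    exact this

/-- Mathlib form of the structure theorem. -/
theorem isSymmetricAlgebra_jlin (hj : RelSpec.IsSymAlg E A j) (U : X.Opens) (hU : IsAffineOpen U) :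
    letI := (A.str.app (op U)).hom.toAlgebra
    IsSymmetricAlgebra (jlin E A j U) :=
  symToA_bijective E A j hj U hU

end Main

end Groth.Agent.Helper18.SymAlg
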