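import Mathlib
import Groth.Agent.Lib.Helper18.SymSum
import Groth.Agent.Lib.Helper18.RelSpecPB
import Groth.Agent.Lib.Helper18.QCohBiprod
import Groth.Agent.Lib.Helper18.SymAlg4

set_option autoImplicit false
set_option linter.style.haveILetI false
universe u
open CategoryTheory CategoryTheory.Limits AlgebraicGeometry TopologicalSpace Opposite

noncomputable section

namespace Groth.Agent.Helper18.SymSum

open Groth.Agent.Helper18.SymAlg

variable {X : Scheme.{u}}

/-- a morphism of modules on sections, as a linear map -/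
def appLin {M N : X.Modules} (φ : M ⟶ N) (U : X.Opens) : Γ(M, U) →ₗ[Γ(X, U)] Γ(N, U) where
  toFun := fun m => φ.app U m
  map_add' := fun a b => map_add (φ.app U).hom a b
  map_smul' := fun r m => Scheme.Modules.Hom.app_smul φ r m

theorem isSymUniv_of_isSymAlg (E : X.Modules) [E.IsQuasicoherent] (A : RelSpec.QCAlg X)
    (j : E ⟶ A.toModule) (hj : RelSpec.IsSymAlg E A j) (U : X.Opens) (hU : IsAffineOpen U) :
    IsSymUniv (A.str.app (op U)) (jU E A j U) := by
  intro T t g hg
  letI := (A.str.app (op U)).hom.toAlgebra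
  letI := t.hom.toAlgebra
  have h := isSymmetricAlgebra_jlin E A j hj U hU
  let glin : Γ(E, U) →ₗ[Γ(X, U)] T :=
    { toFun := g
      map_add' := g.map_add
      map_smul' := fun r m => by
        rw [hg, Algebra.smul_def]
        rfl }
  refine ⟨CommRingCat.ofHom (h.lift glin).toRingHom, ⟨?_, ?_⟩, ?_⟩
  · ext r
    exact (h.lift glin).commutes r
  · intro m
    exact h.lift_eq glin m
  · rintro a' ⟨ha1, ha2⟩
    let a'alg : A.presheaf.obj (op U) →ₐ[Γ(X, U)] T :=
      { a'.hom with commutes' := fun r => congrArg (fun k => k.hom r) ha1 }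
    have : a'alg = h.lift glin := h.lift_unique (LinearMap.ext fun m => ha2 m)
    ext x
    exact congrArg (fun k => k x) this

end Groth.Agent.Helper18.SymSum

namespace Groth.Agent.Helper18.SymSum

open Groth.Agent.Helper18.SymAlg

variable {S : Scheme.{u}}

theorem isPullback_vectorBundle_biprod (E F : S.Modules) [E.IsQuasicoherent] [F.IsQuasicoherent]
    (AE AF A : RelSpec.QCAlg S) (jE : E ⟶ AE.toModule) (jF : F ⟶ AF.toModule)
    (j : E ⊞ F ⟶ A.toModule)
    (hAE : RelSpec.IsSymAlg E AE jE) (hAF : RelSpec.IsSymAlg F AF jF)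
    (hA : RelSpec.IsSymAlg (E ⊞ F) A j)
    (ψE : AE ⟶ A) (ψF : AF ⟶ A)
    (hψE : jE ≫ RelSpec.QCAlg.Hom.toModuleMap ψE = biprod.inl ≫ j)
    (hψF : jF ≫ RelSpec.QCAlg.Hom.toModuleMap ψF = biprod.inr ≫ j) :
    IsPullback (RelSpec.QCAlg.specMap ψE) (RelSpec.QCAlg.specMap ψF) AE.π AF.π := by
  haveI : (E ⊞ F).IsQuasicoherent := Groth.Agent.Helper18.QCohBiprod.isQuasicoherent_biprod E F
  apply Groth.Agent.Helper18.RelSpecPB.isPullback_specMap_of_isPushout
  intro U hU
  refine isPushout_of_isSymUniv (AE.str.app (op U)) (AF.str.app (op U)) (A.str.app (op U))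
    (ψE.hom.app (op U)) (ψF.hom.app (op U))
    (NatTrans.congr_app ψE.comm (op U)) (NatTrans.congr_app ψF.comm (op U))
    (jU E AE jE U) (jU F AF jF U) (jU (E ⊞ F) A j U)
    (jU_smul E AE jE U) (jU_smul F AF jF U)
    (isSymUniv_of_isSymAlg E AE jE hAE U hU) (isSymUniv_of_isSymAlg F AF jF hAF U hU)
    (isSymUniv_of_isSymAlg (E ⊞ F) A j hA U hU)
    (appLin (biprod.inl : E ⟶ E ⊞ F) U) (appLin (biprod.inr : F ⟶ E ⊞ F) U)
    (appLin (biprod.fst : E ⊞ F ⟶ E) U) (appLin (biprod.snd : E ⊞ F ⟶ F) U)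
    ?_ ?_ ?_ ?_ ?_ ?_ ?_
  · intro e
    have := congrArg (fun k => (Scheme.Modules.Hom.app k U) e) (biprod.inl_fst (X := E) (Y := F))
    exact this
  · intro f
    have := congrArg (fun k => (Scheme.Modules.Hom.app k U) f) (biprod.inr_snd (X := E) (Y := F))
    exact this
  · intro f
    have := congrArg (fun k => (Scheme.Modules.Hom.app k U) f) (biprod.inr_fst (X := E) (Y := F))
    exact this
  · intro e
    have := congrArg (fun k => (Scheme.Modules.Hom.app k U) e) (biprod.inl_snd (X := E) (Y := F))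
    exact this
  · intro m
    have := congrArg (fun k => (Scheme.Modules.Hom.app k U) m) (biprod.total (X := E) (Y := F))
    exact this
  · intro e
    have := congrArg (fun k => (Scheme.Modules.Hom.app k U) e) hψE
    exact this
  · intro f
    have := congrArg (fun k => (Scheme.Modules.Hom.app k U) f) hψF
    exact this

end Groth.Agent.Helper18.SymSum
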