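import Mathlib

set_option autoImplicit false
universe u
open CategoryTheory CategoryTheory.Limits AlgebraicGeometry TopologicalSpace Opposite
open HomogeneousLocalization

/-!
# General lemmas on morphisms given on charts
-/

noncomputable section

namespace Groth.Agent.Helper18.SymAlg

section Charts

variable {X' Z K E : Scheme.{u}}

/-- If `f⁻¹(V)` and `V` are the ranges of open immersions `κ`, `ε` and `κ ≫ f = g ≫ ε`, then
`f ∣_ V` and `g` are isomorphic arrows. -/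
theorem restrict_iff_of_charts (P : MorphismProperty Scheme.{u}) [P.RespectsIso]
    (f : X' ⟶ Z) (V : Z.Opens) (κ : K ⟶ X') [IsOpenImmersion κ] (ε : E ⟶ Z) [IsOpenImmersion ε]
    (g : K ⟶ E) (hκ : κ.opensRange = f ⁻¹ᵁ V) (hε : ε.opensRange = V) (hc : κ ≫ f = g ≫ ε) :
    P (f ∣_ V) ↔ P g := by
  have h1 : Set.range κ.base = Set.range (f ⁻¹ᵁ V).ι.base := by
    rw [Scheme.Opens.range_ι]
    exact congrArg (fun W : X'.Opens => (W : Set X')) hκ
  have h2 : Set.range ε.base = Set.range V.ι.base := by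
    rw [Scheme.Opens.range_ι]
    exact congrArg (fun W : Z.Opens => (W : Set Z)) hε
  let κ' := IsOpenImmersion.isoOfRangeEq κ (f ⁻¹ᵁ V).ι h1
  let ε' := IsOpenImmersion.isoOfRangeEq ε V.ι h2
  have hκ' : κ'.hom ≫ (f ⁻¹ᵁ V).ι = κ := IsOpenImmersion.isoOfRangeEq_hom_fac _ _ _
  have hε' : ε'.hom ≫ V.ι = ε := IsOpenImmersion.isoOfRangeEq_hom_fac _ _ _
  have hsq : κ'.hom ≫ (f ∣_ V) = g ≫ ε'.hom := by
    rw [← cancel_mono V.ι, Category.assoc, morphismRestrict_ι, ← Category.assoc, hκ',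
      Category.assoc, hε', hc]
  rw [← P.cancel_left_of_respectsIso κ'.hom, hsq, P.cancel_right_of_respectsIso]

/-- A property local on the target holds for the corestriction of `f` to the union of opens
`D a` covering its range, as soon as it holds for each `f ∣_ D a`. -/
theorem lift_of_forall_restrict (P : MorphismProperty Scheme.{u}) [IsZariskiLocalAtTarget P]
    (f : X' ⟶ Z) {ι : Type*} (D : ι → Z.Opens)
    (hrange : Set.range f.base ⊆ ((⨆ a, D a : Z.Opens) : Set Z))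
    (H : ∀ a, P (f ∣_ D a)) :
    P (IsOpenImmersion.lift (⨆ a, D a : Z.Opens).ι f
      (by rw [Scheme.Opens.range_ι]; exact hrange)) := by
  set W : Z.Opens := ⨆ a, D a with hW
  set f' := IsOpenImmersion.lift W.ι f (by rw [Scheme.Opens.range_ι]; exact hrange) with hf'
  have hfac : f' ≫ W.ι = f := IsOpenImmersion.lift_fac _ _ _
  have hcov : (⨆ a, W.ι ⁻¹ᵁ D a) = ⊤ := by
    rw [eq_top_iff]
    intro x _
    have hx : W.ι.base x ∈ W := x.2
    obtain ⟨a, ha⟩ := Opens.mem_iSup.mp hx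
    exact Opens.mem_iSup.mpr ⟨a, ha⟩
  rw [IsZariskiLocalAtTarget.iff_of_iSup_eq_top (P := P) _ hcov]
  intro a
  have hH := H a
  have hiso : IsIso (W.ι ∣_ D a) := by
    have hsurj : Function.Surjective (W.ι ∣_ D a).base := by
      intro y
      have hy : y.1 ∈ W := Opens.mem_iSup.mpr ⟨a, y.2⟩
      have hy' : (⟨y.1, hy⟩ : W) ∈ W.ι ⁻¹ᵁ D a := y.2
      refine ⟨⟨⟨y.1, hy⟩, hy'⟩, ?_⟩
      apply (D a).ι.isOpenEmbedding.injective
      have := congrArg (fun k => k.base ⟨⟨y.1, hy⟩, hy'⟩) (morphismRestrict_ι W.ι (D a))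
      exact this
    have : Surjective (W.ι ∣_ D a) := ⟨hsurj⟩
    exact isIso_of_isOpenImmersion_of_opensRange_eq_top _
      (by rw [eq_top_iff]; intro y _; exact hsurj y)
  have key : ∀ (f₀ : X' ⟶ Z), f' ≫ W.ι = f₀ → P (f₀ ∣_ D a) → P (f' ∣_ W.ι ⁻¹ᵁ D a) := by
    intro f₀ h0 hP
    subst h0
    rw [morphismRestrict_comp] at hP
    exact (P.cancel_right_of_respectsIso _ (W.ι ∣_ D a)).mp hP
  exact key f hfac hH


theorem isIso_ι_restrict {Z : Scheme.{u}} (W V : Z.Opens) (h : V ≤ W) : IsIso (W.ι ∣_ V) := by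
  have hsurj : Function.Surjective (W.ι ∣_ V).base := by
    intro y
    have hy : y.1 ∈ W := h y.2
    have hy' : (⟨y.1, hy⟩ : W) ∈ W.ι ⁻¹ᵁ V := y.2
    refine ⟨⟨⟨y.1, hy⟩, hy'⟩, ?_⟩
    apply V.ι.isOpenEmbedding.injective
    have := congrArg (fun k => k.base ⟨⟨y.1, hy⟩, hy'⟩) (morphismRestrict_ι W.ι V)
    exact this
  exact isIso_of_isOpenImmersion_of_opensRange_eq_top _
    (by rw [eq_top_iff]; intro y _; exact hsurj y)

theorem isClosedImmersion_restrict_of_le_coborderRange {X' Z : Scheme.{u}} (f : X' ⟶ Z)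
    [IsImmersion f] (V : Z.Opens) (h : V ≤ f.coborderRange) : IsClosedImmersion (f ∣_ V) := by
  have key : ∀ (f₀ : X' ⟶ Z), f.liftCoborder ≫ f.coborderRange.ι = f₀ →
      IsClosedImmersion (f₀ ∣_ V) := by
    intro f₀ h0
    subst h0
    rw [morphismRestrict_comp]
    have h1 : IsIso (f.coborderRange.ι ∣_ V) := isIso_ι_restrict f.coborderRange V h
    have h0 : IsClosedImmersion f.liftCoborder := inferInstance
    have h2 : IsClosedImmersion (f.liftCoborder ∣_ f.coborderRange.ι ⁻¹ᵁ V) :=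
      IsZariskiLocalAtTarget.restrict h0 _
    have h3 : IsClosedImmersion (f.coborderRange.ι ∣_ V) := inferInstance
    exact @IsClosedImmersion.comp _ _ _ _ _ h2 h3
  exact key f f.liftCoborder_ι

theorem isIso_restrict_of_le_opensRange {X' Z : Scheme.{u}} (f : X' ⟶ Z)
    [IsOpenImmersion f] (V : Z.Opens) (h : V ≤ f.opensRange) : IsIso (f ∣_ V) := by
  have hsurj : Function.Surjective (f ∣_ V).base := by
    intro y
    obtain ⟨x, hx⟩ := h y.2
    have hx' : x ∈ f ⁻¹ᵁ V := by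
      change f.base x ∈ V
      rw [hx]; exact y.2
    refine ⟨⟨x, hx'⟩, ?_⟩
    apply V.ι.isOpenEmbedding.injective
    have := congrArg (fun k => k.base ⟨x, hx'⟩) (morphismRestrict_ι f V)
    exact this.trans hx
  exact isIso_of_isOpenImmersion_of_opensRange_eq_top _
    (by rw [eq_top_iff]; intro y _; exact hsurj y)


theorem surjective_of_isClosedImmersion_specMap {R S : CommRingCat.{u}} (f : R ⟶ S)
    (h : IsClosedImmersion (Spec.map f)) : Function.Surjective f.hom := by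
  obtain ⟨-, h2⟩ := IsClosedImmersion.isAffine_surjective_of_isAffine (Spec.map f)
  have h3 : f = (Scheme.ΓSpecIso R).inv ≫ (Spec.map f).appTop ≫ (Scheme.ΓSpecIso S).hom := by
    rw [Scheme.ΓSpecIso_naturality, Iso.inv_hom_id_assoc]
  rw [h3]
  simp only [CommRingCat.hom_comp, RingHom.coe_comp]
  exact ((ConcreteCategory.bijective_of_isIso (Scheme.ΓSpecIso S).hom).2.comp h2).comp
    (ConcreteCategory.bijective_of_isIso (Scheme.ΓSpecIso R).inv).2

end Charts

section AwayRing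

variable {A B σ τ : Type u} [CommRing A] [SetLike σ A] [AddSubgroupClass σ A]
    [CommRing B] [SetLike τ B] [AddSubgroupClass τ B]
    {𝒜 : ℕ → σ} {ℬ : ℕ → τ} [GradedRing 𝒜] [GradedRing ℬ]

theorem away_mk_eq_zero_iff {n : ℕ} {s : A} (hs : s ∈ 𝒜 n) (m : ℕ) (x : A) (hx : x ∈ 𝒜 (m • n)) :
    Away.mk 𝒜 hs m x hx = 0 ↔ ∃ l : ℕ, s ^ l * x = 0 := by
  rw [← (HomogeneousLocalization.val_injective (𝒜 := 𝒜) (Submonoid.powers s)).eq_iff, Away.val_mk,
    HomogeneousLocalization.val_zero, Localization.mk_eq_mk', IsLocalization.mk'_eq_zero_iff]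
  constructor
  · rintro ⟨⟨_, l, rfl⟩, h⟩
    exact ⟨l, h⟩
  · rintro ⟨l, h⟩
    exact ⟨⟨_, l, rfl⟩, h⟩

theorem injective_awayMap_iff (ψ : 𝒜 →+*ᵍ ℬ) {n : ℕ} {s : A} (hs : s ∈ 𝒜 n) :
    Function.Injective (Away.map ψ s) ↔
      ∀ (m : ℕ), 0 < m → ∀ s' ∈ 𝒜 (m * n), ψ s' = 0 → ∃ k : ℕ, 0 < k ∧ s ^ k * s' = 0 := by
  constructor
  · intro hinj m _ s' hs' h0
    have hs'' : s' ∈ 𝒜 (m • n) := by simpa [smul_eq_mul] using hs'
    have h1 : Away.map ψ s (Away.mk 𝒜 hs m s' hs'') = 0 := by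
      rw [Away.map_mk]
      exact (away_mk_eq_zero_iff (ψ.map_mem hs) m _ _).mpr ⟨0, by rw [h0, mul_zero]⟩
    have h2 := hinj (h1.trans (map_zero _).symm)
    obtain ⟨l, hl⟩ := (away_mk_eq_zero_iff hs m s' hs'').mp h2
    exact ⟨l + 1, Nat.succ_pos l, by rw [pow_succ', mul_assoc, hl, mul_zero]⟩
  · intro h
    rw [injective_iff_map_eq_zero]
    intro a ha
    obtain ⟨m, s', hs', rfl⟩ := Away.mk_surjective 𝒜 hs a
    rw [Away.map_mk] at ha
    obtain ⟨l, hl⟩ := (away_mk_eq_zero_iff (ψ.map_mem hs) m _ _).mp ha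
    have hmem : s ^ (l + 1) * s' ∈ 𝒜 ((l + 1 + m) * n) := by
      have h1 : s ^ (l + 1) ∈ 𝒜 ((l + 1) • n) := SetLike.pow_mem_graded _ hs
      have h2 := SetLike.mul_mem_graded h1 hs'
      have e : (l + 1) • n + m • n = (l + 1 + m) * n := by simp only [smul_eq_mul]; ring
      rw [e] at h2
      exact h2
    have h0 : ψ (s ^ (l + 1) * s') = 0 := by
      rw [map_mul, map_pow, pow_succ', mul_assoc, show ψ s ^ l * ψ s' = 0 from hl, mul_zero]
    obtain ⟨k, -, hk⟩ := h (l + 1 + m) (by omega) _ hmem h0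
    exact (away_mk_eq_zero_iff hs m s' hs').mpr ⟨k + (l + 1), by rw [pow_add, mul_assoc, hk]⟩

theorem surjective_awayMap_iff (ψ : 𝒜 →+*ᵍ ℬ) {n : ℕ} {s : A} (hs : s ∈ 𝒜 n)
    {R : Type u} [CommRing R] (σR : R →+* ℬ 0)
    (hθ : Function.Surjective ((fromZeroRingHom ℬ (Submonoid.powers (ψ s))).comp σR)) :
    Function.Surjective (Away.map ψ s) ↔
      ∀ t₀ : R, ∃ (m : ℕ) (_ : 0 < m) (s' : A) (_ : s' ∈ 𝒜 (m * n)),
        ((σR t₀ : ℬ 0) : B) * (ψ s) ^ m = ψ s' := by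
  constructor
  · intro hsurj t₀
    obtain ⟨a, ha⟩ := hsurj ((fromZeroRingHom ℬ (Submonoid.powers (ψ s))).comp σR t₀)
    obtain ⟨m, s', hs', rfl⟩ := Away.mk_surjective 𝒜 hs a
    rw [Away.map_mk] at ha
    have h1 := congrArg HomogeneousLocalization.val ha
    rw [Away.val_mk] at h1
    change _ = Localization.mk ((σR t₀ : ℬ 0) : B) (1 : Submonoid.powers (ψ s)) at h1
    rw [Localization.mk_eq_mk_iff, Localization.r_iff_exists] at h1
    obtain ⟨⟨_, l, rfl⟩, hl⟩ := h1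
    simp only [OneMemClass.coe_one, one_mul] at hl
    have hmem : s' * s ^ (l + 1) ∈ 𝒜 ((m + l + 1) * n) := by
      have h1 : s ^ (l + 1) ∈ 𝒜 ((l + 1) • n) := SetLike.pow_mem_graded _ hs
      have h2 := SetLike.mul_mem_graded hs' h1
      have e : m • n + (l + 1) • n = (m + l + 1) * n := by simp only [smul_eq_mul]; ring
      rw [e] at h2
      exact h2
    refine ⟨m + l + 1, by omega, s' * s ^ (l + 1), hmem, ?_⟩
    rw [map_mul, map_pow]
    calc ((σR t₀ : ℬ 0) : B) * ψ s ^ (m + l + 1)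
        = ψ s * (ψ s ^ l * (ψ s ^ m * ((σR t₀ : ℬ 0) : B))) := by ring
      _ = ψ s * (ψ s ^ l * ψ s') := by rw [hl]
      _ = ψ s' * ψ s ^ (l + 1) := by ring
  · intro h b
    obtain ⟨t₀, rfl⟩ := hθ b
    obtain ⟨m, -, s', hs', heq⟩ := h t₀
    have hs'' : s' ∈ 𝒜 (m • n) := by simpa [smul_eq_mul] using hs'
    refine ⟨Away.mk 𝒜 hs m s' hs'', ?_⟩
    rw [Away.map_mk]
    apply HomogeneousLocalization.val_injective
    rw [Away.val_mk]
    change _ = Localization.mk ((σR t₀ : ℬ 0) : B) (1 : Submonoid.powers (ψ s))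
    rw [Localization.mk_eq_mk_iff, Localization.r_iff_exists]
    refine ⟨1, ?_⟩
    simp only [OneMemClass.coe_one, one_mul]
    rw [← heq]
    ring

end AwayRing

end Groth.Agent.Helper18.SymAlg
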