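import Mathlib

/-!
# Vanishing of the first Koszul homology of a weakly regular sequence

For a family `r : Fin n → R` and an `R`-module `N`, `K r N` is the subgroup of `Fin n → N`
generated by the Koszul relations `e_j (r_i x) - e_i (r_j x)`.  If `List.ofFn r` is weakly
regular on `N`, every `m : Fin n → N` with `∑ r_i m_i = 0` lies in `K r N`.
-/

set_option autoImplicit false

namespace Groth.Agent.Helper18.Koszul

open RingTheory.Sequence
open scoped Pointwise

universe u v

variable {R : Type u} [CommRing R]

/-- The subgroup generated by the Koszul relations. -/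
def K {n : ℕ} (r : Fin n → R) (N : Type v) [AddCommGroup N] [Module R N] :
    AddSubgroup (Fin n → N) :=
  AddSubgroup.closure {y | ∃ (i j : Fin n) (x : N),
    y = Pi.single j (r i • x) - Pi.single i (r j • x)}

lemma gen_mem_K {n : ℕ} (r : Fin n → R) (N : Type v) [AddCommGroup N] [Module R N]
    (i j : Fin n) (x : N) :
    (Pi.single j (r i • x) - Pi.single i (r j • x) : Fin n → N) ∈ K r N :=
  AddSubgroup.subset_closure ⟨i, j, x, rfl⟩

lemma sum_eq_zero_of_mem_K {n : ℕ} (r : Fin n → R) (N : Type v) [AddCommGroup N] [Module R N]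
    (k : Fin n → N) (hk : k ∈ K r N) : ∑ i, r i • k i = 0 := by
  classical
  induction hk using AddSubgroup.closure_induction with
  | mem y hy =>
    obtain ⟨i, j, x, rfl⟩ := hy
    simp only [Pi.sub_apply, smul_sub, Finset.sum_sub_distrib, Pi.single_apply, smul_ite,
      smul_zero, Finset.sum_ite_eq', Finset.mem_univ, if_true]
    rw [smul_comm, sub_self]
  | zero => simp
  | add a b _ _ ha hb =>
    simp only [Pi.add_apply, smul_add, Finset.sum_add_distrib, ha, hb, add_zero]
  | neg a _ ha =>
    simp only [Pi.neg_apply, smul_neg, Finset.sum_neg_distrib, ha, neg_zero]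

lemma exists_lift {n : ℕ} (r : Fin (n + 1) → R) {N : Type v} {N' : Type v}
    [AddCommGroup N] [Module R N]
    [AddCommGroup N'] [Module R N'] (f : N →ₗ[R] N') (hf : Function.Surjective f)
    (m' : Fin n → N') (hm' : m' ∈ K (fun i => r i.succ) N') :
    ∃ k ∈ K r N, k 0 = 0 ∧ ∀ i : Fin n, f (k i.succ) = m' i := by
  classical
  induction hm' using AddSubgroup.closure_induction with
  | mem y hy =>
    obtain ⟨i, j, x', rfl⟩ := hy
    obtain ⟨x, rfl⟩ := hf x'
    refine ⟨Pi.single j.succ (r i.succ • x) - Pi.single i.succ (r j.succ • x),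
      gen_mem_K r N i.succ j.succ x, ?_, ?_⟩
    · simp [Pi.single_apply, (Fin.succ_ne_zero _).symm]
    · intro l
      simp only [Pi.sub_apply, Pi.single_apply, Fin.succ_inj, map_sub]
      split_ifs <;> simp
  | zero => exact ⟨0, zero_mem _, rfl, fun i => by simp⟩
  | add a b _ _ ha hb =>
    obtain ⟨ka, hka, hka0, hkaf⟩ := ha
    obtain ⟨kb, hkb, hkb0, hkbf⟩ := hb
    exact ⟨ka + kb, add_mem hka hkb, by simp [hka0, hkb0], fun i => by simp [hkaf, hkbf]⟩
  | neg a _ ha =>
    obtain ⟨ka, hka, hka0, hkaf⟩ := ha
    exact ⟨-ka, neg_mem hka, by simp [hka0], fun i => by simp [hkaf]⟩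

theorem mem_K_of_isWeaklyRegular : ∀ (n : ℕ) (r : Fin n → R) (N : Type v) [AddCommGroup N]
    [Module R N], IsWeaklyRegular N (List.ofFn r) → ∀ m : Fin n → N, ∑ i, r i • m i = 0 →
    m ∈ K r N := by
  classical
  intro n
  induction n with
  | zero =>
    intro r N _ _ _ m _
    have : m = 0 := Subsingleton.elim _ _
    rw [this]
    exact zero_mem _
  | succ n ih =>
    intro r N _ _ hreg m hm
    rw [List.ofFn_succ, isWeaklyRegular_cons_iff] at hreg
    obtain ⟨hreg0, hreg'⟩ := hreg
    set a := r 0 with ha
    set r' : Fin n → R := fun i => r i.succ with hr'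
    let q : N →ₗ[R] QuotSMulTop a N := Submodule.mkQ _
    have hq : Function.Surjective q := Submodule.mkQ_surjective _
    rw [Fin.sum_univ_succ] at hm
    have hm' : ∑ i, r' i • (fun i => q (m i.succ)) i = 0 := by
      have h1 : ∑ i, r' i • (fun i => q (m i.succ)) i = q (∑ i, r' i • m i.succ) := by
        simp [map_sum]
      rw [h1]
      have h2 : ∑ i, r' i • m i.succ = a • (-(m 0)) := by
        rw [smul_neg]
        exact eq_neg_of_add_eq_zero_right hm
      rw [h2]
      exact (Submodule.Quotient.mk_eq_zero _).mpr (Submodule.smul_mem_pointwise_smul _ _ _ trivial)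
    have hK' := ih r' (QuotSMulTop a N) hreg' _ hm'
    obtain ⟨k, hk, hk0, hkf⟩ := exists_lift r q hq _ hK'
    have hksum := sum_eq_zero_of_mem_K r N k hk
    rw [Fin.sum_univ_succ] at hksum
    -- the difference
    have hd : ∀ i : Fin n, ∃ y : N, m i.succ - k i.succ = a • y := by
      intro i
      have h0 : q (m i.succ - k i.succ) = 0 := by
        rw [map_sub, hkf, sub_self]
      have h1 : m i.succ - k i.succ ∈ (a • ⊤ : Submodule R N) :=
        (Submodule.Quotient.mk_eq_zero _).mp h0
      obtain ⟨y, -, hy⟩ := h1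
      exact ⟨y, hy.symm⟩
    choose y hy using hd
    have hd0 : m 0 - k 0 = - ∑ i, r' i • y i := by
      apply hreg0
      have h3 : a • (m 0 - k 0) + ∑ i, r' i • (m i.succ - k i.succ) = 0 := by
        simp only [smul_sub, Finset.sum_sub_distrib]
        have e1 : a • m 0 - a • k 0 + (∑ i, r' i • m i.succ - ∑ i, r' i • k i.succ)
          = (a • m 0 + ∑ i, r' i • m i.succ) - (a • k 0 + ∑ i, r' i • k i.succ) := by abel
        rw [e1, hm, hksum, sub_zero]
      have h4 : ∑ i, r' i • (m i.succ - k i.succ) = a • ∑ i, r' i • y i := by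
        rw [Finset.smul_sum]
        refine Finset.sum_congr rfl fun i _ => ?_
        rw [hy, smul_comm]
      rw [h4] at h3
      show a • (m 0 - k 0) = a • (- ∑ i, r' i • y i)
      rw [smul_neg]
      exact eq_neg_of_add_eq_zero_left h3
    have hmk : m = k + ∑ i : Fin n, (Pi.single i.succ (r 0 • y i) - Pi.single 0 (r i.succ • y i)) := by
      funext l
      refine Fin.cases ?_ (fun j => ?_) l
      · have : m 0 = k 0 + - ∑ i, r' i • y i := by rw [← hd0]; abel
        rw [this]
        simp [Pi.single_apply, (Fin.succ_ne_zero _).symm, hr']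
      · have : m j.succ = k j.succ + a • y j := by rw [← hy]; abel
        rw [this]
        simp [Pi.single_apply, Fin.succ_ne_zero, Finset.sum_sub_distrib, ha]
    rw [hmk]
    refine add_mem hk (sum_mem fun i _ => ?_)
    exact gen_mem_K r N 0 i.succ (y i)

end Groth.Agent.Helper18.Koszul
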