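import Mathlib

set_option autoImplicit false
set_option linter.style.haveILetI false
universe u

namespace Groth.Agent.Helper18.Rigid

/-- flatness and colon ideals: if `ε b ∈ I' B` with `B` flat over `A`, then `b ∈ (I' : ε) B`,
phrased with any ideal `J ⊇ (I' : ε)`. -/
theorem mem_map_of_mul_mem {A B : Type*} [CommRing A] [CommRing B] [Algebra A B] [Module.Flat A B]
    (I' J : Ideal A) (ε : A) (hJ : ∀ a, ε * a ∈ I' → a ∈ J) (b : B)
    (h : algebraMap A B ε * b ∈ I'.map (algebraMap A B)) : b ∈ J.map (algebraMap A B) := by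
  rw [Ideal.map, Submodule.mem_span_set'] at h
  obtain ⟨n, c, g, hg⟩ := h
  choose ι hι hιg using fun i => (g i).2
  let fo : Option (Fin n) → A := fun o => o.elim ε (fun i => -(ι i))
  let xo : Option (Fin n) → B := fun o => o.elim b (fun i => c i)
  have hrel : ∑ o, fo o • xo o = 0 := by
    rw [Fintype.sum_option]
    simp only [fo, xo, Option.elim_none, Option.elim_some]
    rw [Algebra.smul_def, ← hg]
    have : ∀ i, -(ι i) • c i = -(c i • (g i : B)) := by
      intro i
      rw [Algebra.smul_def, ← hιg i, map_neg, smul_eq_mul]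
      ring
    simp only [this, Finset.sum_neg_distrib]
    ring
  obtain ⟨k, a, y, hxy, hfa⟩ := Module.Flat.isTrivialRelation_of_sum_smul_eq_zero (R := A) (M := B) (f := fo) (x := xo) hrel
  have hb : b = ∑ j, a none j • y j := hxy none
  rw [hb]
  refine Ideal.sum_mem _ (fun j _ => ?_)
  rw [Algebra.smul_def]
  refine Ideal.mul_mem_right _ _ (Ideal.mem_map_of_mem _ (hJ _ ?_))
  have h1 := hfa j
  rw [Fintype.sum_option] at h1
  simp only [fo, Option.elim_none, Option.elim_some] at h1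
  have h2 : ε * a none j = ∑ i, ι i * a (some i) j := by
    have : ε * a none j + ∑ i, -(ι i) * a (some i) j = 0 := h1
    simp only [neg_mul, Finset.sum_neg_distrib] at this
    linear_combination this
  rw [h2]
  exact Ideal.sum_mem _ (fun i _ => Ideal.mul_mem_right _ _ (hι i))

/-- for an ideal `I ≠ ⊥` of a Noetherian local ring: a maximal proper subideal `I'`, and `ε`
with `I = I' ⊔ (ε)`, `m ε ⊆ I'`, `(I' : ε) ⊆ m`. -/
theorem exists_sub_ideal {A : Type*} [CommRing A] [IsLocalRing A] [IsNoetherianRing A]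
    (I : Ideal A) (hI : I ≠ ⊥) :
    ∃ (I' : Ideal A) (ε : A), I' < I ∧ ε ∈ I ∧ I = I' ⊔ Ideal.span {ε} ∧
      (∀ a ∈ IsLocalRing.maximalIdeal A, a * ε ∈ I') ∧
      (∀ a, ε * a ∈ I' → a ∈ IsLocalRing.maximalIdeal A) := by
  obtain ⟨I', hI'lt, hmax⟩ := set_has_maximal_iff_noetherian.mpr (inferInstance : IsNoetherian A A)
    {J : Ideal A | J < I} ⟨⊥, bot_lt_iff_ne_bot.mpr hI⟩
  have hI'lt' : I' < I := hI'lt
  obtain ⟨ε, hεI, hεI'⟩ := SetLike.exists_of_lt hI'lt'
  have hsup : I = I' ⊔ Ideal.span {ε} := by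
    have hle : I' ⊔ Ideal.span {ε} ≤ I :=
      sup_le hI'lt'.le ((Ideal.span_singleton_le_iff_mem I).mpr hεI)
    by_contra hne
    have hlt : I' ⊔ Ideal.span {ε} < I := lt_of_le_of_ne hle (fun h => hne h.symm)
    have hlt2 : I' < I' ⊔ Ideal.span {ε} := by
      refine lt_of_le_of_ne le_sup_left (fun h => hεI' ?_)
      rw [h]
      exact Ideal.mem_sup_right (Ideal.mem_span_singleton_self ε)
    exact hmax _ hlt hlt2
  have hunit : ∀ a, ε * a ∈ I' → a ∈ IsLocalRing.maximalIdeal A := by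
    intro a ha
    by_contra hna
    have hu : IsUnit a := by
      by_contra hnu
      exact hna ((IsLocalRing.mem_maximalIdeal a).mpr hnu)
    obtain ⟨v, rfl⟩ := hu
    apply hεI'
    have := Ideal.mul_mem_right (↑v⁻¹ : A) (I' : Ideal A) ha
    rwa [mul_assoc, Units.mul_inv, mul_one] at this
  refine ⟨I', ε, hI'lt', hεI, hsup, ?_, hunit⟩
  intro a ha
  by_contra hna
  -- I' ⊔ span {a ε} = I by maximality
  have hle : I' ⊔ Ideal.span {a * ε} ≤ I :=
    sup_le hI'lt'.le ((Ideal.span_singleton_le_iff_mem I).mpr (I.mul_mem_left a hεI))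
  have hlt2 : I' < I' ⊔ Ideal.span {a * ε} := by
    refine lt_of_le_of_ne le_sup_left (fun h => hna ?_)
    rw [h]
    exact Ideal.mem_sup_right (Ideal.mem_span_singleton_self _)
  have heq : I' ⊔ Ideal.span {a * ε} = I := by
    by_contra hne
    exact hmax _ (lt_of_le_of_ne hle hne) hlt2
  have hε2 : ε ∈ I' ⊔ Ideal.span {a * ε} := heq ▸ hεI
  obtain ⟨i', hi', z, hz, hsum⟩ := Submodule.mem_sup.mp hε2
  obtain ⟨r, rfl⟩ := Ideal.mem_span_singleton'.mp hz
  -- ε (1 - r a) = i' ∈ I'
  have h1 : ε * (1 - r * a) ∈ I' := by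
    have : ε * (1 - r * a) = i' := by linear_combination -hsum
    rw [this]; exact hi'
  have h2 := hunit _ h1
  have h3 : r * a ∈ IsLocalRing.maximalIdeal A := Ideal.mul_mem_left _ r ha
  have h4 : (1 : A) ∈ IsLocalRing.maximalIdeal A := by
    have h5 := Ideal.add_mem _ h2 h3
    have h6 : (1 - r * a) + r * a = 1 := by ring
    rwa [h6] at h5
  exact (Ideal.ne_top_iff_one _).mp (IsLocalRing.maximalIdeal.isMaximal A).ne_top h4

end Groth.Agent.Helper18.Rigid
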