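import Mathlib
import Groth.Agent.Lib.Helper18.Rigid1

set_option autoImplicit false
set_option linter.style.haveILetI false
set_option linter.unusedSectionVars false
universe u
open CategoryTheory AlgebraicGeometry Limits Opposite TopologicalSpace

namespace Groth.Agent.Helper18.Rigid

variable {A : Type u} [CommRing A] {X Z : Scheme.{u}} (ψ : A →+* Γ(X, ⊤)) (pr : Z ⟶ X)

/-- restriction of sections -/
noncomputable def res {U W : X.Opens} (h : W ≤ U) : Γ(X, U) →+* Γ(X, W) :=
  (X.presheaf.map (homOfLE h).op).hom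

theorem res_res {U W V : X.Opens} (h : W ≤ U) (h' : V ≤ W) (b : Γ(X, U)) :
    res h' (res h b) = res (h'.trans h) b := by
  unfold res
  rw [← CommRingCat.comp_apply, ← Functor.map_comp]
  rfl

theorem res_self {U : X.Opens} (b : Γ(X, U)) : res (le_refl U) b = b := by
  unfold res
  have : (homOfLE (le_refl U)).op = 𝟙 (op U) := rfl
  rw [this, X.presheaf.map_id]
  rfl

/-- the structure map to sections over `U` -/
noncomputable def phiU (U : X.Opens) : A →+* Γ(X, U) := (res (le_top : U ≤ ⊤)).comp ψ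

theorem res_phiU {U W : X.Opens} (h : W ≤ U) (a : A) : res h (phiU ψ U a) = phiU ψ W a := by
  unfold phiU
  simp only [RingHom.comp_apply]
  rw [res_res]

theorem res_mem_map {U W : X.Opens} (h : W ≤ U) (I : Ideal A) {b : Γ(X, U)}
    (hb : b ∈ I.map (phiU ψ U)) : res h b ∈ I.map (phiU ψ W) := by
  have hle : I.map (phiU ψ U) ≤ (I.map (phiU ψ W)).comap (res h) := by
    rw [Ideal.map_le_iff_le_comap]
    intro a ha
    rw [Ideal.mem_comap, Ideal.mem_comap, res_phiU]
    exact Ideal.mem_map_of_mem _ ha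
  exact hle hb

/-- sections lying locally in `I 𝒪_X` -/
def InI (I : Ideal A) (γ : Γ(X, ⊤)) : Prop :=
  ∀ U : X.Opens, IsAffineOpen U → res (le_top : U ≤ ⊤) γ ∈ I.map (phiU ψ U)

theorem pr_res {U W : X.Opens} (h : W ≤ U) (b : Γ(X, U)) :
    (Z.presheaf.map (homOfLE (pr.preimage_mono h)).op).hom ((pr.app U).hom b) =
      (pr.app W).hom (res h b) := by
  unfold res
  rw [← CommRingCat.comp_apply, ← CommRingCat.comp_apply]
  congr 2
  exact (pr.naturality (homOfLE h).op).symm

theorem eq_zero_of_forall_affine (γ : Γ(X, ⊤))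
    (h : ∀ U : X.Opens, IsAffineOpen U → res (le_top : U ≤ ⊤) γ = 0) : γ = 0 := by
  refine TopCat.Sheaf.eq_of_locally_eq' X.sheaf (fun U : X.affineOpens => (U.1 : X.Opens)) ⊤
    (fun U => homOfLE le_top) ?_ γ 0 (fun U => ?_)
  · intro x _
    obtain ⟨_, ⟨O, hO, rfl⟩, hxO, -⟩ :=
      X.isBasis_affineOpens.exists_subset_of_mem_open (Set.mem_univ x) isOpen_univ
    exact Opens.mem_iSup.mpr ⟨⟨O, hO⟩, hxO⟩
  · have := h U.1 U.2
    rw [map_zero]
    exact this

end Groth.Agent.Helper18.Rigid
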