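import Mathlib
import Groth.Agent.Lib.Helper18.Rigid2

set_option autoImplicit false
set_option linter.style.haveILetI false
set_option linter.unusedSectionVars false
universe u
open CategoryTheory AlgebraicGeometry Limits Opposite TopologicalSpace

namespace Groth.Agent.Helper18.Rigid

variable {A : Type u} [CommRing A] [IsLocalRing A] [IsArtinianRing A]
  {X Z : Scheme.{u}} (ψ : A →+* Γ(X, ⊤)) (pr : Z ⟶ X)
  (hflat : ∀ U : X.Opens, IsAffineOpen U → (phiU ψ U).Flat)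
  (hker : ∀ U : X.Opens, IsAffineOpen U → ∀ b : Γ(X, U),
    (pr.app U).hom b = 0 ↔ b ∈ (IsLocalRing.maximalIdeal A).map (phiU ψ U))
  (hH0 : ∀ σ : Γ(Z, ⊤), ∃ a : A, σ = (pr.appTop).hom (ψ a))

theorem zres_zres {V W W' : Z.Opens} (i : W ⟶ V) (j : W' ⟶ W) (k : W' ⟶ V) (s : Γ(Z, V)) :
    (Z.presheaf.map j.op).hom ((Z.presheaf.map i.op).hom s) = (Z.presheaf.map k.op).hom s := by
  rw [← CommRingCat.comp_apply, ← Functor.map_comp]
  rfl

theorem cover_inf (U U' : X.Opens) :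
    pr ⁻¹ᵁ U ⊓ pr ⁻¹ᵁ U' ≤
      ⨆ W : {W : X.affineOpens // W.1 ≤ U ⊓ U'}, pr ⁻¹ᵁ W.1.1 := by
  intro z hz
  have hz' : pr.base z ∈ ((U ⊓ U' : X.Opens) : Set X) := hz
  obtain ⟨_, ⟨O, hO, rfl⟩, hxO, hOU⟩ :=
    X.isBasis_affineOpens.exists_subset_of_mem_open hz' (U ⊓ U').2
  exact Opens.mem_iSup.mpr ⟨⟨⟨O, hO⟩, hOU⟩, hxO⟩

include hflat hker hH0 in
theorem exists_of_InI : ∀ (I : Ideal A) (γ : Γ(X, ⊤)), InI ψ I γ → ∃ a ∈ I, γ = ψ a := by
  intro I
  induction I using WellFoundedLT.induction with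
  | ind I ih =>
  intro γ hγ
  by_cases hI : I = ⊥
  · subst hI
    refine ⟨0, Ideal.zero_mem _, ?_⟩
    rw [map_zero]
    apply eq_zero_of_forall_affine
    intro U hU
    have := hγ U hU
    rwa [Ideal.map_bot, Ideal.mem_bot] at this
  obtain ⟨I', ε, hlt, hεI, hsup, hmε, hcolon⟩ := exists_sub_ideal I hI
  have hb : ∀ U : X.affineOpens, ∃ b : Γ(X, U.1),
      res (le_top : U.1 ≤ ⊤) γ - phiU ψ U.1 ε * b ∈ I'.map (phiU ψ U.1) := by
    intro U
    have h1 := hγ U.1 U.2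
    rw [hsup, Ideal.map_sup, Ideal.map_span, Set.image_singleton] at h1
    obtain ⟨y, hy, z, hz, hyz⟩ := Submodule.mem_sup.mp h1
    obtain ⟨b, rfl⟩ := Ideal.mem_span_singleton'.mp hz
    refine ⟨b, ?_⟩
    have : res (le_top : U.1 ≤ ⊤) γ - phiU ψ U.1 ε * b = y := by rw [← hyz]; ring
    rw [this]; exact hy
  choose b hb using hb
  have hcompat : ∀ (U W : X.affineOpens) (h : W.1 ≤ U.1),
      (pr.app W.1).hom (res h (b U)) = (pr.app W.1).hom (b W) := by
    intro U W h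
    have h1 := res_mem_map ψ h I' (hb U)
    rw [map_sub, map_mul, res_res, res_phiU] at h1
    have h2 := hb W
    have h3 : phiU ψ W.1 ε * (res h (b U) - b W) ∈ I'.map (phiU ψ W.1) := by
      have := Ideal.sub_mem _ h2 h1
      convert this using 1; ring
    letI := (phiU ψ W.1).toAlgebra
    haveI : Module.Flat A Γ(X, W.1) := hflat W.1 W.2
    have h4 := mem_map_of_mul_mem I' (IsLocalRing.maximalIdeal A) ε hcolon
      (res h (b U) - b W) h3
    have h5 := (hker W.1 W.2 _).mpr h4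
    rw [map_sub, sub_eq_zero] at h5
    exact h5
  -- glue the classes of the `b U`
  have hglue := TopCat.Sheaf.existsUnique_gluing' Z.sheaf
    (fun U : X.affineOpens => pr ⁻¹ᵁ U.1) ⊤ (fun U => homOfLE le_top)
    (by
      intro z _
      obtain ⟨_, ⟨O, hO, rfl⟩, hxO, -⟩ :=
        X.isBasis_affineOpens.exists_subset_of_mem_open (Set.mem_univ (pr.base z)) isOpen_univ
      exact Opens.mem_iSup.mpr ⟨⟨O, hO⟩, hxO⟩)
    (fun U => (pr.app U.1).hom (b U))
    (by
      intro U U'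
      refine TopCat.Sheaf.eq_of_locally_eq' Z.sheaf
        (fun W : {W : X.affineOpens // W.1 ≤ U.1 ⊓ U'.1} => pr ⁻¹ᵁ W.1.1) _
        (fun W => homOfLE (le_inf (pr.preimage_mono (W.2.trans inf_le_left))
          (pr.preimage_mono (W.2.trans inf_le_right))))
        (cover_inf pr U.1 U'.1) _ _ (fun W => ?_)
      have e1 := pr_res pr (W.2.trans inf_le_left) (b U)
      have e2 := pr_res pr (W.2.trans inf_le_right) (b U')
      rw [hcompat U W.1 (W.2.trans inf_le_left)] at e1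
      rw [hcompat U' W.1 (W.2.trans inf_le_right)] at e2
      refine (zres_zres _ _ (homOfLE (pr.preimage_mono (W.2.trans inf_le_left))) _).trans ?_
      refine Eq.trans ?_ (zres_zres _ _ (homOfLE (pr.preimage_mono (W.2.trans inf_le_right))) _).symm
      exact e1.trans e2.symm)
  obtain ⟨σ, hσ, -⟩ := hglue
  obtain ⟨c, hc⟩ := hH0 σ
  have hbc : ∀ U : X.affineOpens, b U - phiU ψ U.1 c ∈
      (IsLocalRing.maximalIdeal A).map (phiU ψ U.1) := by
    intro U
    rw [← hker U.1 U.2, map_sub, sub_eq_zero]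
    have h1 := hσ U
    have h2 := pr_res pr (le_top : U.1 ≤ ⊤) (ψ c)
    rw [← h1, hc]
    exact h2
  -- apply the induction hypothesis to γ - ψ (ε c)
  have hI' : InI ψ I' (γ - ψ (ε * c)) := by
    intro U hU
    have h1 := hb ⟨U, hU⟩
    have h2 := hbc ⟨U, hU⟩
    have h3 : phiU ψ U ε * (b ⟨U, hU⟩ - phiU ψ U c) ∈ I'.map (phiU ψ U) := by
      have hle : Ideal.span {ε} * IsLocalRing.maximalIdeal A ≤ I' := by
        rw [Ideal.span_singleton_mul_le_iff]
        intro a ha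
        rw [mul_comm]
        exact hmε a ha
      have h4 : phiU ψ U ε * (b ⟨U, hU⟩ - phiU ψ U c) ∈
          (Ideal.span {ε} * IsLocalRing.maximalIdeal A).map (phiU ψ U) := by
        rw [Ideal.map_mul]
        exact Ideal.mul_mem_mul (Ideal.mem_map_of_mem _ (Ideal.mem_span_singleton_self ε)) h2
      exact Ideal.map_mono hle h4
    have h5 := Ideal.add_mem _ h1 h3
    have e : res (le_top : U ≤ ⊤) (γ - ψ (ε * c)) =
        (res (le_top : U ≤ ⊤) γ - phiU ψ U ε * b ⟨U, hU⟩) +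
          phiU ψ U ε * (b ⟨U, hU⟩ - phiU ψ U c) := by
      rw [map_sub]
      have : res (le_top : U ≤ ⊤) (ψ (ε * c)) = phiU ψ U ε * phiU ψ U c := by
        rw [← map_mul]; rfl
      rw [this]; ring
    rw [e]; exact h5
  obtain ⟨a', ha', hγa'⟩ := ih I' hlt (γ - ψ (ε * c)) hI'
  refine ⟨ε * c + a', Ideal.add_mem _ (Ideal.mul_mem_right _ _ hεI) (hlt.le ha'), ?_⟩
  rw [map_add, ← hγa']; ring

end Groth.Agent.Helper18.Rigid

namespace Groth.Agent.Helper18.Rigid

variable {A : Type u} [CommRing A] [IsLocalRing A] [IsArtinianRing A]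
  {X Z : Scheme.{u}} (ψ : A →+* Γ(X, ⊤)) (pr : Z ⟶ X)
  (hflat : ∀ U : X.Opens, IsAffineOpen U → (phiU ψ U).Flat)
  (hker : ∀ U : X.Opens, IsAffineOpen U → ∀ b : Γ(X, U),
    (pr.app U).hom b = 0 ↔ b ∈ (IsLocalRing.maximalIdeal A).map (phiU ψ U))
  (hH0 : ∀ σ : Γ(Z, ⊤), ∃ a : A, σ = (pr.appTop).hom (ψ a))

include hflat hker hH0 in
theorem psi_surjective : Function.Surjective ψ := by
  intro γ
  obtain ⟨a, -, ha⟩ := exists_of_InI ψ pr hflat hker hH0 ⊤ γ
    (fun U hU => by rw [Ideal.map_top]; trivial)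
  exact ⟨a, ha.symm⟩

include hflat hker in
theorem psi_injective [Nonempty Z] : Function.Injective ψ := by
  rw [injective_iff_map_eq_zero]
  intro a ha
  by_contra hne
  obtain ⟨z⟩ := ‹Nonempty Z›
  obtain ⟨_, ⟨U, hU, rfl⟩, hzU, -⟩ :=
    X.isBasis_affineOpens.exists_subset_of_mem_open (Set.mem_univ (pr.base z)) isOpen_univ
  have h0 : phiU ψ U a = 0 := by
    unfold phiU
    rw [RingHom.comp_apply, ha, map_zero]
  letI := (phiU ψ U).toAlgebra
  haveI : Module.Flat A Γ(X, U) := hflat U hU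
  have h1 : (1 : Γ(X, U)) ∈ (IsLocalRing.maximalIdeal A).map (phiU ψ U) := by
    refine mem_map_of_mul_mem ⊥ (IsLocalRing.maximalIdeal A) a ?_ 1 ?_
    · intro c hc
      rw [Ideal.mem_bot] at hc
      by_contra hcm
      have hu : IsUnit c := by
        by_contra hnu
        exact hcm ((IsLocalRing.mem_maximalIdeal c).mpr hnu)
      exact hne ((hu.mul_left_eq_zero).mp hc)
    · rw [mul_one]
      change phiU ψ U a ∈ _
      rw [h0]
      exact Ideal.zero_mem _
  have h2 := (hker U hU 1).mpr h1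
  rw [map_one] at h2
  have hz : z ∈ pr ⁻¹ᵁ U := hzU
  have h3 := congrArg (Z.presheaf.germ (pr ⁻¹ᵁ U) z hz).hom h2
  rw [map_one, map_zero] at h3
  exact one_ne_zero h3

end Groth.Agent.Helper18.Rigid
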