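import Mathlib
import Groth.Agent.Lib.Helper18.Rigid3

set_option autoImplicit false
set_option linter.style.haveILetI false
set_option linter.unusedSectionVars false
universe u
open CategoryTheory AlgebraicGeometry Limits Opposite TopologicalSpace

namespace Groth.Agent.Helper18.Rigid

variable {A : Type u} [CommRing A] {X : Scheme.{u}} (p : X ⟶ Spec (CommRingCat.of A))

/-- the structure map on global sections -/
noncomputable def psiOf : A →+* Γ(X, ⊤) :=
  p.appTop.hom.comp (Scheme.ΓSpecIso (CommRingCat.of A)).inv.hom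

theorem phiU_psiOf_eq (U : X.Opens) :
    phiU (psiOf p) U =
      (p.appLE ⊤ U le_top).hom.comp (Scheme.ΓSpecIso (CommRingCat.of A)).inv.hom := by
  rfl

theorem flat_phiU [Flat p] (U : X.Opens) (hU : IsAffineOpen U) : (phiU (psiOf p) U).Flat := by
  rw [phiU_psiOf_eq]
  have h1 : (p.appLE ⊤ U le_top).hom.Flat :=
    HasRingHomProperty.appLE (P := @Flat) p inferInstance ⟨⊤, isAffineOpen_top _⟩ ⟨U, hU⟩ le_top
  have h2 : ((Scheme.ΓSpecIso (CommRingCat.of A)).inv.hom).Flat :=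
    RingHom.Flat.of_bijective
      (ConcreteCategory.bijective_of_isIso (Scheme.ΓSpecIso (CommRingCat.of A)).inv)
  exact h2.comp h1

/-- `hU.fromSpec ≫ p` in terms of `phiU` -/
theorem fromSpec_comp (U : X.Opens) (hU : IsAffineOpen U) :
    hU.fromSpec ≫ p = Spec.map (CommRingCat.ofHom (phiU (psiOf p) U)) := by
  have h1 := IsAffineOpen.SpecMap_appLE_fromSpec p (isAffineOpen_top (Spec (CommRingCat.of A))) hU
    (le_top : U ≤ p ⁻¹ᵁ ⊤)
  rw [← h1, IsAffineOpen.fromSpec_top, Scheme.isoSpec_Spec_inv, ← Spec.map_comp]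
  rfl

end Groth.Agent.Helper18.Rigid

namespace Groth.Agent.Helper18.Rigid

theorem fromSpec_appLE_top {X : Scheme.{u}} {U : X.Opens} (hU : IsAffineOpen U)
    (e : (⊤ : (Spec Γ(X, U)).Opens) ≤ hU.fromSpec ⁻¹ᵁ U) :
    hU.fromSpec.appLE U ⊤ e = (Scheme.ΓSpecIso Γ(X, U)).inv := by
  rw [Scheme.Hom.appLE, hU.fromSpec_app_self, Category.assoc, ← Functor.map_comp]
  have : ((eqToHom hU.fromSpec_preimage_self).op ≫ (homOfLE e).op) = 𝟙 _ := Subsingleton.elim _ _
  rw [this, CategoryTheory.Functor.map_id, Category.comp_id]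

theorem appLE_top_top {X Y : Scheme.{u}} (f : X ⟶ Y) (e : (⊤ : X.Opens) ≤ f ⁻¹ᵁ ⊤) :
    f.appLE ⊤ ⊤ e = f.appTop := by
  rw [Scheme.Hom.appTop, Scheme.Hom.app_eq_appLE]
  rfl

theorem appLE_congr_hom {X Y : Scheme.{u}} {f f' : X ⟶ Y} (h : f = f') (U : Y.Opens) (V : X.Opens)
    (e : V ≤ f ⁻¹ᵁ U) : f.appLE U V e = f'.appLE U V (h ▸ e) := by
  subst h; rfl

/-- sections over an affine open pulled back to `Spec` of a quotient -/
theorem specMap_fromSpec_appLE {X : Scheme.{u}} {U : X.Opens} (hU : IsAffineOpen U)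
    {C : CommRingCat.{u}} (q : Γ(X, U) ⟶ C)
    (e : (⊤ : (Spec C).Opens) ≤ (Spec.map q ≫ hU.fromSpec) ⁻¹ᵁ U) :
    (Spec.map q ≫ hU.fromSpec).appLE U ⊤ e = q ≫ (Scheme.ΓSpecIso C).inv := by
  have e₁ : (⊤ : (Spec Γ(X, U)).Opens) ≤ hU.fromSpec ⁻¹ᵁ U := by
    rw [hU.fromSpec_preimage_self]
  rw [← Scheme.Hom.appLE_comp_appLE _ _ U ⊤ ⊤ e₁ le_top, fromSpec_appLE_top, appLE_top_top,
    Scheme.ΓSpecIso_inv_naturality]

end Groth.Agent.Helper18.Rigid
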