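import Mathlib
import Groth.Agent.Lib.Helper16.Sch.SmoothLocusBC3
import Groth.Prelude.Def_FDesc

/-!
# Stalks of base changes of `Spec 𝒪_{X,x} ⟶ X` (helper18)
-/

set_option autoImplicit false
universe u
open CategoryTheory CategoryTheory.Limits AlgebraicGeometry
open scoped TensorProduct

namespace Groth.Agent.Helper18.StalkBC

/-- A flat preimmersion induces bijections on stalks. -/
theorem bijective_stalkMap {Z X : Scheme.{u}} (j : Z ⟶ X) [Flat j] [IsPreimmersion j] (z : Z) :
    Function.Bijective (j.stalkMap z).hom := by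
  refine ⟨?_, j.stalkMap_surjective z⟩
  have hflat : (j.stalkMap z).hom.Flat := Flat.stalkMap j z
  algebraize [(j.stalkMap z).hom]
  haveI : IsLocalHom (algebraMap (X.presheaf.stalk (j z)) (Z.presheaf.stalk z)) := by
    show IsLocalHom (j.stalkMap z).hom
    infer_instance
  haveI : Module.FaithfullyFlat (X.presheaf.stalk (j z)) (Z.presheaf.stalk z) :=
    Module.FaithfullyFlat.of_flat_of_isLocalHom
  exact FaithfulSMul.algebraMap_injective _ _

/-- Reducedness of stalks is equivalent along a flat preimmersion. -/
theorem isReduced_stalk_iff {Z X : Scheme.{u}} (j : Z ⟶ X) [Flat j] [IsPreimmersion j] (z : Z) :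
    IsReduced (Z.presheaf.stalk z) ↔ IsReduced (X.presheaf.stalk (j z)) := by
  let e : X.presheaf.stalk (j z) ≃+* Z.presheaf.stalk z :=
    RingEquiv.ofBijective (j.stalkMap z).hom (bijective_stalkMap j z)
  exact ⟨fun _ => isReduced_of_injective e e.injective,
    fun _ => isReduced_of_injective e.symm e.symm.injective⟩


section Field

variable {k : Type u} [Field k] {X : Scheme.{u}} (f : X ⟶ Spec (CommRingCat.of k))
  (K : Type u) [Field K] [Algebra k K]

instance (x : X) : Flat (X.fromSpecStalk x) :=
  Groth.Agent.Helper16.SmoothLocusBC.flat_fromSpecStalk X x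

section Generic

variable {A : Type u} [CommRing A] [Algebra k A] (j : Spec (CommRingCat.of A) ⟶ X)
  (hj : j ≫ f = Spec.map (CommRingCat.ofHom (algebraMap k A)))

include hj in
lemma isPullback_W :
    IsPullback (pullback.fst j (FBase.bcπ f K))
      (pullback.snd j (FBase.bcπ f K) ≫ FBase.bcStr f K)
      (Spec.map (CommRingCat.ofHom (algebraMap k A)))
      (Spec.map (CommRingCat.ofHom (algebraMap k K))) := by
  have h := (IsPullback.of_hasPullback j (FBase.bcπ f K)).paste_vert
    (IsPullback.of_hasPullback f (Spec.map (CommRingCat.ofHom (algebraMap k K))))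
  rw [hj] at h
  exact h

/-- `Spec A ×_X X_K ≅ Spec (A ⊗_k K)`. -/
noncomputable def isoW : pullback j (FBase.bcπ f K) ≅ Spec (CommRingCat.of (A ⊗[k] K)) :=
  (isPullback_W f K j hj).isoPullback ≪≫ pullbackSpecIso k A K

lemma isoW_hom_fst :
    (isoW f K j hj).hom ≫ Spec.map (CommRingCat.ofHom
      (Algebra.TensorProduct.includeLeftRingHom (R := k) (A := A) (B := K))) =
      pullback.fst j (FBase.bcπ f K) := by
  unfold isoW
  rw [Iso.trans_hom, Category.assoc, pullbackSpecIso_hom_fst]
  exact (isPullback_W f K j hj).isoPullback_hom_fst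

include hj in
/-- If `A ⊗_k K` is reduced and `j : Spec A ⟶ X` is a flat preimmersion, the local rings of
`X_K` at all points over points in the range of `j` are reduced. -/
theorem isReduced_stalk_of_isReduced_tensor_gen [Flat j] [IsPreimmersion j]
    (h : IsReduced (A ⊗[k] K))
    (x' : ↥(FBase.bc f K)) (hx' : (FBase.bcπ f K).base x' ∈ Set.range j) :
    IsReduced ((FBase.bc f K).presheaf.stalk x') := by
  obtain ⟨a, ha⟩ := hx'
  obtain ⟨z, -, hz⟩ := Scheme.Pullback.exists_preimage_pullback
    (f := j) (g := FBase.bcπ f K) a x' ha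
  haveI : IsReduced (Spec (CommRingCat.of (A ⊗[k] K))) := by
    rw [affine_isReduced_iff]; exact h
  haveI : IsReduced (pullback j (FBase.bcπ f K)) :=
    isReduced_of_isOpenImmersion (isoW f K j hj).hom
  have h1 : IsReduced ((pullback j (FBase.bcπ f K)).presheaf.stalk z) := inferInstance
  have h2 := (isReduced_stalk_iff (pullback.snd j (FBase.bcπ f K)) z).mp h1
  rw [show (pullback.snd j (FBase.bcπ f K)) z = x' from hz] at h2
  exact h2

/-- the stalk of `Spec B` at a prime is reduced iff the localization is -/
lemma isReduced_stalk_Spec_iff (B : Type u) [CommRing B] (y : PrimeSpectrum B) :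
    IsReduced ((Spec (CommRingCat.of B)).presheaf.stalk y) ↔
      IsReduced (Localization.AtPrime y.asIdeal) := by
  letI : Algebra B ((Spec (CommRingCat.of B)).presheaf.stalk y) :=
    StructureSheaf.stalkAlgebra B y
  haveI : IsLocalization.AtPrime ((Spec (CommRingCat.of B)).presheaf.stalk y) y.asIdeal :=
    StructureSheaf.IsLocalization.to_stalk B y
  let e : Localization.AtPrime y.asIdeal ≃ₐ[B] (Spec (CommRingCat.of B)).presheaf.stalk y :=
    IsLocalization.algEquiv y.asIdeal.primeCompl _ _
  exact ⟨fun _ => isReduced_of_injective e e.injective,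
    fun _ => isReduced_of_injective e.symm e.symm.injective⟩

include hj in
/-- If `K/k` is integral, `A` is local and `j : Spec A ⟶ X` is a flat preimmersion, then
`A ⊗_k K` is reduced as soon as the local rings of `X_K` at the points over the image of the
closed point are reduced. -/
theorem isReduced_tensor_of_isReduced_stalk_gen [Flat j] [IsPreimmersion j] [IsLocalRing A]
    [Algebra.IsIntegral k K]
    (h : ∀ x' : ↥(FBase.bc f K), (FBase.bcπ f K).base x' = j (IsLocalRing.closedPoint A) →
      IsReduced ((FBase.bc f K).presheaf.stalk x')) :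
    IsReduced (A ⊗[k] K) := by
  apply isReduced_ofLocalizationMaximal
  intro m hm
  let y₀ : PrimeSpectrum (A ⊗[k] K) := ⟨m, hm.isPrime⟩
  let y : Spec (CommRingCat.of (A ⊗[k] K)) := y₀
  refine (isReduced_stalk_Spec_iff (A ⊗[k] K) y₀).mp ?_
  show IsReduced ((Spec (CommRingCat.of (A ⊗[k] K))).presheaf.stalk y)
  let e := isoW f K j hj
  let z := e.inv y
  -- the first projection of z is the closed point
  have hz1 : (pullback.fst j (FBase.bcπ f K)) z = IsLocalRing.closedPoint A := by
    have h1 : (pullback.fst j (FBase.bcπ f K)) z =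
        (Spec.map (CommRingCat.ofHom
          (Algebra.TensorProduct.includeLeftRingHom (R := k) (A := A) (B := K)))) y := by
      rw [← isoW_hom_fst f K j hj]
      show (e.hom ≫ _) (e.inv y) = _
      rw [Scheme.Hom.comp_apply, ← Scheme.Hom.comp_apply e.inv e.hom, e.inv_hom_id]
      rfl
    rw [h1]
    haveI : (Ideal.comap (algebraMap A (A ⊗[k] K)) m).IsMaximal :=
      Ideal.isMaximal_comap_of_isIntegral_of_isMaximal m
    apply PrimeSpectrum.ext
    show Ideal.comap (algebraMap A (A ⊗[k] K)) m = IsLocalRing.maximalIdeal A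
    exact IsLocalRing.eq_maximalIdeal inferInstance
  have hz2 : (FBase.bcπ f K).base ((pullback.snd j (FBase.bcπ f K)) z) =
      j (IsLocalRing.closedPoint A) := by
    rw [← hz1]
    have hc := pullback.condition (f := j) (g := FBase.bcπ f K)
    have := congrArg (fun φ : pullback j (FBase.bcπ f K) ⟶ X => φ z) hc
    simp only [Scheme.Hom.comp_apply] at this
    exact this.symm
  have h3 := h _ hz2
  have h4 := (isReduced_stalk_iff (pullback.snd j (FBase.bcπ f K)) z).mpr h3
  exact (isReduced_stalk_iff e.inv y).mpr h4

end Generic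

end Field

end Groth.Agent.Helper18.StalkBC
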