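import Groth.Prelude.Def_GmPts
import Mathlib

/-!
# Points of the diagonalisable group `D_S(M)` are characters of `M` (helper18)

Generalises the prelude's `GmPts` (the case `M = ℤ`) to an arbitrary commutative group `M`:
`Hom_S(T, D_S(M)) ≃* (Multiplicative M →* Γ(T, O_T))`, naturally in `T` and in `M`.
-/

set_option autoImplicit false

universe u

open CategoryTheory CategoryTheory.Limits MonoidalCategory CartesianMonoidalCategory MonObj AlgebraicGeometry Opposite

noncomputable section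

namespace Groth.Agent.Helper18.DSPts

open GmPts (baseZ toBaseZ)

variable (M : Type) [AddCommGroup M]

/-- the coordinate ring `ℤ[M]` -/
abbrev Coord : Type u := MonoidAlgebra (ULift.{u} ℤ) (Multiplicative M)

/-- `D(M)` over `Spec ℤ` -/
abbrev DZ : Over baseZ.{u} := Red.diag (ULift.{u} ℤ) M

variable {M}

/-- the monomial of `m : M` -/
abbrev mono (m : M) : Coord.{u} M := MonoidAlgebra.single (Multiplicative.ofAdd m) 1

theorem mono_mul (m n : M) : mono m * mono n = mono.{u} (m + n) := by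
  rw [MonoidAlgebra.single_mul_single, _root_.mul_one]; rfl

theorem mono_zero : mono.{u} (0 : M) = 1 := rfl

variable (M) in
abbrev coordIso : Γ(Spec (CommRingCat.of (Coord.{u} M)), ⊤) ≅ CommRingCat.of (Coord.{u} M) :=
  Scheme.ΓSpecIso (CommRingCat.of (Coord.{u} M))

theorem ringHom_ext_mono {R : Type u} [CommRing R] {f g : Coord.{u} M →+* R}
    (h : ∀ m : M, f (mono m) = g (mono m)) : f = g := by
  refine MonoidAlgebra.ringHom_ext (fun r => ?_) (fun m => ?_)
  · have : MonoidAlgebra.single (1 : Multiplicative M) r = ((r.down : ℤ) : Coord.{u} M) := by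
      rcases r with ⟨r⟩
      change MonoidAlgebra.single 1 (ULift.up r) = _
      rw [MonoidAlgebra.intCast_def]
      rfl
    rw [this, map_intCast, map_intCast]
  · exact h m.toAdd

/-- the ring map `ℤ[M] → R` of a character -/
def ringHomOfChar {R : Type u} [CommRing R] (χ : Multiplicative M →* R) : Coord.{u} M →+* R :=
  MonoidAlgebra.liftNCRingHom ((Int.castRingHom R).comp (ULift.ringEquiv : ULift.{u} ℤ ≃+* ℤ).toRingHom)
    χ (fun _ _ => Commute.all _ _)

theorem ringHomOfChar_mono {R : Type u} [CommRing R] (χ : Multiplicative M →* R) (m : M) :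
    ringHomOfChar χ (mono m) = χ (Multiplicative.ofAdd m) := by
  simp [ringHomOfChar, MonoidAlgebra.liftNCRingHom_single]

/-- the character of a ring map -/
def charOfRingHom {R : Type u} [CommRing R] (f : Coord.{u} M →+* R) : Multiplicative M →* R :=
  (f : Coord.{u} M →* R).comp (MonoidAlgebra.of (ULift.{u} ℤ) (Multiplicative M))

theorem charOfRingHom_apply {R : Type u} [CommRing R] (f : Coord.{u} M →+* R) (m : M) :
    charOfRingHom f (Multiplicative.ofAdd m) = f (mono m) := rfl

theorem charOfRingHom_ringHomOfChar {R : Type u} [CommRing R] (χ : Multiplicative M →* R) :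
    charOfRingHom (ringHomOfChar χ) = χ := by
  ext m
  exact ringHomOfChar_mono χ m

theorem ringHomOfChar_charOfRingHom {R : Type u} [CommRing R] (f : Coord.{u} M →+* R) :
    ringHomOfChar (charOfRingHom f) = f :=
  ringHom_ext_mono fun m => by rw [ringHomOfChar_mono]; rfl

variable {S : Scheme.{u}} {T T' : Over S}

abbrev specPt (t : T ⟶ Red.DS S M) : T.left ⟶ Spec (CommRingCat.of (Coord.{u} M)) :=
  t.left ≫ pullback.fst (DZ M).hom (toBaseZ S)

def ringHomOfPt (t : T ⟶ Red.DS S M) : Coord.{u} M →+* Γ(T.left, ⊤) := ((coordIso M).inv ≫ (specPt t).appTop).hom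

/-- the character of a point -/
def charOfPt (t : T ⟶ Red.DS S M) : Multiplicative M →* Γ(T.left, ⊤) := charOfRingHom (ringHomOfPt t)

theorem charOfPt_apply (t : T ⟶ Red.DS S M) (m : M) :
    charOfPt t (Multiplicative.ofAdd m) = (specPt t).appTop ((coordIso M).inv (mono m)) := rfl

def homOfChar (χ : Multiplicative M →* Γ(T.left, ⊤)) : CommRingCat.of (Coord.{u} M) ⟶ Γ(T.left, ⊤) :=
  CommRingCat.ofHom (ringHomOfChar χ)

def specOfChar (χ : Multiplicative M →* Γ(T.left, ⊤)) : T.left ⟶ Spec (CommRingCat.of (Coord.{u} M)) :=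
  ΓSpec.adjunction.homEquiv T.left (op (CommRingCat.of (Coord.{u} M))) (homOfChar χ).op

theorem coordIso_inv_specOfChar (χ : Multiplicative M →* Γ(T.left, ⊤)) :
    (coordIso M).inv ≫ (specOfChar χ).appTop = homOfChar χ :=
  ΓSpecIso_inv_ΓSpec_adjunction_homEquiv _

theorem specOfChar_w (χ : Multiplicative M →* Γ(T.left, ⊤)) : specOfChar χ ≫ (DZ M).hom = T.hom ≫ toBaseZ S :=
  specULiftZIsTerminal.hom_ext _ _

/-- the point of a character -/
def ptOfChar (χ : Multiplicative M →* Γ(T.left, ⊤)) : T ⟶ Red.DS S M :=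
  Over.homMk (pullback.lift (specOfChar χ) T.hom (specOfChar_w χ)) (pullback.lift_snd _ _ _)

theorem specPt_ptOfChar (χ : Multiplicative M →* Γ(T.left, ⊤)) : specPt (ptOfChar χ) = specOfChar χ :=
  pullback.lift_fst _ _ _

theorem ringHomOfPt_ptOfChar (χ : Multiplicative M →* Γ(T.left, ⊤)) : ringHomOfPt (ptOfChar χ) = ringHomOfChar χ := by
  change ((coordIso M).inv ≫ (specPt (ptOfChar χ)).appTop).hom = _
  rw [specPt_ptOfChar, coordIso_inv_specOfChar]
  rfl

theorem charOfPt_ptOfChar (χ : Multiplicative M →* Γ(T.left, ⊤)) : charOfPt (ptOfChar χ) = χ := by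
  rw [charOfPt, ringHomOfPt_ptOfChar, charOfRingHom_ringHomOfChar]

theorem ringHomOfChar_charOfPt (t : T ⟶ Red.DS S M) : ringHomOfChar (charOfPt t) = ringHomOfPt t :=
  ringHomOfChar_charOfRingHom _

theorem specOfChar_charOfPt (t : T ⟶ Red.DS S M) : specOfChar (charOfPt t) = specPt t := by
  have h : (homOfChar (charOfPt t)).op =
      (ΓSpec.adjunction.homEquiv T.left (op (CommRingCat.of (Coord.{u} M)))).symm (specPt t) := by
    rw [Adjunction.homEquiv_counit, ΓSpec.adjunction_counit_app]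
    change (homOfChar (charOfPt t)).op = ((coordIso M).inv ≫ (specPt t).appTop).op
    congr 1
    ext1
    exact ringHomOfChar_charOfPt t
  rw [specOfChar, h, Equiv.apply_symm_apply]

theorem ptOfChar_charOfPt (t : T ⟶ Red.DS S M) : ptOfChar (charOfPt t) = t := by
  ext1
  apply pullback.hom_ext
  · exact (specPt_ptOfChar _).trans (specOfChar_charOfPt t)
  · exact (pullback.lift_snd _ _ _).trans (Over.w t).symm

theorem charOfPt_injective : Function.Injective (charOfPt : (T ⟶ Red.DS S M) → _) := fun t t' h => by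
  rw [← ptOfChar_charOfPt t, h, ptOfChar_charOfPt]

theorem ringHomOfPt_comp (g : T' ⟶ T) (t : T ⟶ Red.DS S M) :
    ringHomOfPt (g ≫ t) = g.left.appTop.hom.comp (ringHomOfPt t) := by
  change ((coordIso M).inv ≫ ((g ≫ t).left ≫ pullback.fst (DZ M).hom (toBaseZ S)).appTop).hom = _
  rw [Over.comp_left, Category.assoc, Scheme.Hom.comp_appTop]
  rfl

theorem charOfPt_comp (g : T' ⟶ T) (t : T ⟶ Red.DS S M) :
    charOfPt (g ≫ t) = (g.left.appTop.hom : Γ(T.left, ⊤) →* Γ(T'.left, ⊤)).comp (charOfPt t) := by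
  ext m
  change ringHomOfPt (g ≫ t) (mono m) = g.left.appTop.hom (ringHomOfPt t (mono m))
  rw [ringHomOfPt_comp]
  rfl

/-! ### Multiplicativity -/

theorem specMap_appTop_coordIso_inv {R : CommRingCat.{u}} (φ : CommRingCat.of (Coord.{u} M) ⟶ R) (c : Coord.{u} M) :
    (Spec.map φ).appTop ((coordIso M).inv c) = (Scheme.ΓSpecIso R).inv (φ c) := by
  have h := congrArg (fun ψ => (ConcreteCategory.hom ψ) c) (Scheme.ΓSpecIso_inv_naturality φ)
  exact h.symm

def pairPt (t t' : T ⟶ Red.DS S M) : T.left ⟶ (DZ M ⊗ DZ M).left :=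
  (lift t t').left ≫ (Functor.LaxMonoidal.μ (Over.pullback (toBaseZ S)) (DZ M) (DZ M)).left ≫
    pullback.fst (DZ M ⊗ DZ M).hom (toBaseZ S)

theorem specPt_mul (t t' : T ⟶ Red.DS S M) : specPt (t * t') = pairPt t t' ≫ μ[DZ M].left := by
  have h1 : t * t' = lift t t' ≫ μ[Red.DS S M] := Hom.mul_def t t'
  have h2 : μ[Red.DS S M] = Functor.LaxMonoidal.μ (Over.pullback (toBaseZ S)) (DZ M) (DZ M) ≫
      (Over.pullback (toBaseZ S)).map μ[DZ M] := rfl
  have h3 := GmPts.pullback_map_left_fst (S := S) μ[DZ M]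
  rw [specPt, pairPt, h1, h2, Over.comp_left, Over.comp_left]
  simp only [Category.assoc]
  exact _ ≫= (_ ≫= h3)

theorem pairPt_fst (t t' : T ⟶ Red.DS S M) : pairPt t t' ≫ pullback.fst (DZ M).hom (DZ M).hom = specPt t := by
  rw [pairPt, Category.assoc, Category.assoc, Over.μ_pullback_left_fst_fst, ← Category.assoc]
  congr 1
  rw [← Over.fst_left, ← Over.comp_left, lift_fst]

theorem pairPt_snd (t t' : T ⟶ Red.DS S M) : pairPt t t' ≫ pullback.snd (DZ M).hom (DZ M).hom = specPt t' := by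
  rw [pairPt, Category.assoc, Category.assoc, Over.μ_pullback_left_fst_snd, ← Category.assoc]
  congr 1
  rw [← Over.snd_left, ← Over.comp_left, lift_snd]

omit [AddCommGroup M] in
theorem comul_mono [AddCommGroup M] (m : M) :
    Coalgebra.comul (R := ULift.{u} ℤ) (mono.{u} m) = mono m ⊗ₜ[ULift.{u} ℤ] mono m := by
  rw [MonoidAlgebra.comul_single]
  simp

theorem mul_appTop_mono (m : M) : μ[DZ M].left.appTop ((coordIso M).inv (mono.{u} m)) =
    (pullback.fst (DZ M).hom (DZ M).hom).appTop ((coordIso M).inv (mono m)) *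
      (pullback.snd (DZ M).hom (DZ M).hom).appTop ((coordIso M).inv (mono m)) := by
  let CC : Type u := TensorProduct (ULift.{u} ℤ) (Coord.{u} M) (Coord.{u} M)
  let iL : Coord.{u} M →+* CC := Algebra.TensorProduct.includeLeftRingHom
  let iR : Coord.{u} M →+* CC :=
    ((Algebra.TensorProduct.includeRight (R := ULift.{u} ℤ) (A := Coord.{u} M) (B := Coord.{u} M) :
      Coord.{u} M →ₐ[ULift.{u} ℤ] CC) : Coord.{u} M →+* CC)
  let fC : Spec (CommRingCat.of (Coord.{u} M)) ⟶ baseZ.{u} :=
    Spec.map (CommRingCat.ofHom (algebraMap (ULift.{u} ℤ) (Coord.{u} M)))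
  let psi := pullbackSpecIso (ULift.{u} ℤ) (Coord.{u} M) (Coord.{u} M)
  have hfst : pullback.fst fC fC = psi.hom ≫ Spec.map (CommRingCat.ofHom (R := Coord.{u} M) (S := CC) iL) := by
    rw [← pullbackSpecIso_inv_fst, Iso.hom_inv_id_assoc]
  have hsnd : pullback.snd fC fC = psi.hom ≫ Spec.map (CommRingCat.ofHom (R := Coord.{u} M) (S := CC) iR) := by
    rw [← pullbackSpecIso_inv_snd, Iso.hom_inv_id_assoc]
  have hc : (CommRingCat.ofHom (Bialgebra.comulAlgHom (ULift.{u} ℤ) (Coord.{u} M)).toRingHom) (mono m) =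
      (CommRingCat.ofHom (R := Coord.{u} M) (S := CC) iL) (mono.{u} m) *
        (CommRingCat.ofHom (R := Coord.{u} M) (S := CC) iR) (mono.{u} m) := by
    change Coalgebra.comul (R := ULift.{u} ℤ) (mono.{u} m) =
      (mono m ⊗ₜ[ULift.{u} ℤ] (1 : Coord.{u} M)) * ((1 : Coord.{u} M) ⊗ₜ[ULift.{u} ℤ] mono m)
    rw [comul_mono, Algebra.TensorProduct.tmul_mul_tmul, _root_.mul_one, _root_.one_mul]
  change (psi.hom ≫ Spec.map (CommRingCat.ofHom (Bialgebra.comulAlgHom (ULift.{u} ℤ) (Coord.{u} M)).toRingHom)).appTop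
      ((coordIso M).inv (mono m)) =
    (pullback.fst fC fC).appTop ((coordIso M).inv (mono m)) * (pullback.snd fC fC).appTop ((coordIso M).inv (mono m))
  rw [hfst, hsnd, GmPts.appTop_comp_apply, GmPts.appTop_comp_apply, GmPts.appTop_comp_apply,
    specMap_appTop_coordIso_inv, specMap_appTop_coordIso_inv, specMap_appTop_coordIso_inv, hc, map_mul, map_mul]

theorem charOfPt_mul_apply (t t' : T ⟶ Red.DS S M) (m : M) :
    charOfPt (t * t') (Multiplicative.ofAdd m) =
      charOfPt t (Multiplicative.ofAdd m) * charOfPt t' (Multiplicative.ofAdd m) := by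
  have e1 : charOfPt (t * t') (Multiplicative.ofAdd m) =
      (pairPt t t').appTop (μ[DZ M].left.appTop ((coordIso M).inv (mono m))) := by
    change (specPt (t * t')).appTop ((coordIso M).inv (mono m)) = _
    rw [specPt_mul]
    exact GmPts.appTop_comp_apply _ _ _
  rw [e1, mul_appTop_mono, map_mul]
  have hf := GmPts.appTop_comp_apply (pairPt t t') (pullback.fst (DZ M).hom (DZ M).hom) ((coordIso M).inv (mono m))
  have hs := GmPts.appTop_comp_apply (pairPt t t') (pullback.snd (DZ M).hom (DZ M).hom) ((coordIso M).inv (mono m))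
  rw [pairPt_fst] at hf
  rw [pairPt_snd] at hs
  exact congrArg₂ (· * ·) hf.symm hs.symm

theorem charOfPt_mul (t t' : T ⟶ Red.DS S M) : charOfPt (t * t') = charOfPt t * charOfPt t' := by
  ext m
  exact charOfPt_mul_apply t t' m

/-- points of `D_S(M)` over `T` are the characters of `M` in `Γ(T, O_T)` -/
def equiv (T : Over S) : (T ⟶ Red.DS S M) ≃* (Multiplicative M →* Γ(T.left, ⊤)) where
  toFun := charOfPt
  invFun := ptOfChar
  left_inv := ptOfChar_charOfPt
  right_inv := charOfPt_ptOfChar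
  map_mul' := charOfPt_mul

theorem charOfPt_one : charOfPt (1 : T ⟶ Red.DS S M) = 1 := map_one (equiv T)

theorem ptOfChar_mul (χ χ' : Multiplicative M →* Γ(T.left, ⊤)) :
    (ptOfChar (χ * χ') : T ⟶ Red.DS S M) = ptOfChar χ * ptOfChar χ' := map_mul (equiv (M := M) T).symm χ χ'

theorem ptOfChar_one : (ptOfChar (1 : Multiplicative M →* Γ(T.left, ⊤)) : T ⟶ Red.DS S M) = 1 :=
  map_one (equiv (M := M) T).symm

theorem ptOfChar_comp (g : T' ⟶ T) (χ : Multiplicative M →* Γ(T.left, ⊤)) :
    g ≫ ptOfChar χ = ptOfChar ((g.left.appTop.hom : Γ(T.left, ⊤) →* Γ(T'.left, ⊤)).comp χ) := by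
  apply charOfPt_injective
  rw [charOfPt_comp, charOfPt_ptOfChar, charOfPt_ptOfChar]

/-! ### Functoriality in `M` -/

section Functoriality

variable {N : Type} [AddCommGroup N]

theorem specPt_DSmap (φ : M →+ N) (t : T ⟶ Red.DS S N) :
    specPt (t ≫ Red.DSmap S φ) = specPt t ≫ (Red.diagMap (ULift.{u} ℤ) φ).left := by
  have h3 := GmPts.pullback_map_left_fst (S := S) (Red.diagMap (ULift.{u} ℤ) φ)
  exact (Category.assoc _ _ _).trans ((congrArg (t.left ≫ ·) h3).trans (Category.assoc _ _ _).symm)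

theorem diagMap_appTop (φ : M →+ N) (m : M) :
    (Red.diagMap (ULift.{u} ℤ) φ).left.appTop ((coordIso M).inv (mono m)) = (coordIso N).inv (mono (φ m)) := by
  change (Spec.map (CommRingCat.ofHom
    (MonoidAlgebra.mapDomainAlgHom (ULift.{u} ℤ) (ULift.{u} ℤ) (AddMonoidHom.toMultiplicative φ)).toRingHom)).appTop
      ((coordIso M).inv (mono m)) = _
  rw [specMap_appTop_coordIso_inv]
  congr 1
  change MonoidAlgebra.mapDomain _ (MonoidAlgebra.single _ _) = _
  rw [MonoidAlgebra.mapDomain_single]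
  rfl

theorem charOfPt_DSmap_apply (φ : M →+ N) (t : T ⟶ Red.DS S N) (m : M) :
    charOfPt (t ≫ Red.DSmap S φ) (Multiplicative.ofAdd m) = charOfPt t (Multiplicative.ofAdd (φ m)) := by
  have e0 : (specPt (t ≫ Red.DSmap S φ)).appTop ((coordIso M).inv (mono m)) =
      (specPt t ≫ (Red.diagMap (ULift.{u} ℤ) φ).left).appTop ((coordIso M).inv (mono m)) := by
    rw [specPt_DSmap]; rfl
  have e1 := GmPts.appTop_comp_apply (specPt t) (Red.diagMap (ULift.{u} ℤ) φ).left ((coordIso M).inv (mono m))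
  have e2 := congrArg (fun z => (specPt t).appTop z) (diagMap_appTop φ m)
  exact e0.trans (e1.trans e2)

theorem charOfPt_DSmap (φ : M →+ N) (t : T ⟶ Red.DS S N) :
    charOfPt (t ≫ Red.DSmap S φ) = (charOfPt t).comp (AddMonoidHom.toMultiplicative φ) := by
  ext m
  exact charOfPt_DSmap_apply φ t m

theorem mul_comp_DSmap (φ : M →+ N) (t t' : T ⟶ Red.DS S N) :
    (t * t') ≫ Red.DSmap S φ = (t ≫ Red.DSmap S φ) * (t' ≫ Red.DSmap S φ) := by
  apply charOfPt_injective
  rw [charOfPt_DSmap, charOfPt_mul, charOfPt_mul, charOfPt_DSmap, charOfPt_DSmap]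
  rfl

theorem one_comp_DSmap (φ : M →+ N) : (1 : T ⟶ Red.DS S N) ≫ Red.DSmap S φ = 1 := by
  apply charOfPt_injective
  rw [charOfPt_DSmap, charOfPt_one, charOfPt_one]
  rfl

instance isMonHom_DSmap (φ : M →+ N) : IsMonHom (Red.DSmap S φ) where
  one_hom := by
    have h := one_comp_DSmap (S := S) (T := 𝟙_ (Over S)) φ
    rw [Hom.one_def, Hom.one_def] at h
    have e : toUnit (𝟙_ (Over S)) = 𝟙 _ := toUnit_unique _ _
    rw [e, Category.id_comp, Category.id_comp] at h
    exact h
  mul_hom := by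
    have h := mul_comp_DSmap (S := S) φ (fst (Red.DS S N) (Red.DS S N)) (snd (Red.DS S N) (Red.DS S N))
    rw [Hom.mul_def, Hom.mul_def] at h
    have e : lift (fst (Red.DS S N) (Red.DS S N)) (snd (Red.DS S N) (Red.DS S N)) = 𝟙 _ := by
      apply CartesianMonoidalCategory.hom_ext <;> simp
    rw [e, Category.id_comp] at h
    rw [h]
    congr 1

instance isMonHom_chi (m : M) : IsMonHom (Red.chi S m) := by
  unfold Red.chi
  infer_instance

/-- agreement with the prelude's coordinate on `G_m`. -/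
theorem charOfPt_one_eq_gmFn (t : T ⟶ Red.Gm S) : charOfPt t (Multiplicative.ofAdd (1 : ℤ)) = Red.gmFn t := rfl

theorem charOfPt_Gm (t : T ⟶ Red.Gm S) (k : ℤ) :
    charOfPt t (Multiplicative.ofAdd k) = ((GmPts.unitOfPt t ^ k : (Γ(T.left, ⊤))ˣ) : Γ(T.left, ⊤)) := by
  have h1 : (Multiplicative.ofAdd k : Multiplicative ℤ) = (Multiplicative.ofAdd (1 : ℤ)) ^ k := by
    rw [← ofAdd_zsmul]; simp
  have h2 : charOfPt t = (Units.coeHom _).comp ((charOfPt t).toHomUnits) := by
    ext; rfl
  rw [h2, MonoidHom.comp_apply, h1, map_zpow]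
  congr 2

theorem gmFn_chi (m : M) (t : T ⟶ Red.DS S M) :
    Red.gmFn (t ≫ Red.chi S m) = charOfPt t (Multiplicative.ofAdd m) := by
  rw [← charOfPt_one_eq_gmFn, Red.chi, charOfPt_DSmap_apply]
  simp

end Functoriality

end Groth.Agent.Helper18.DSPts
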