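import Groth.Agent.Lib.Helper18.UTGlue
set_option autoImplicit false
set_option linter.style.haveILetI false
namespace Groth.Agent.Helper18.Thick
open AlgebraicGeometry CategoryTheory Limits
universe u

theorem eq_bot_of_comap_openCover {Y : Scheme.{u}} (𝒰 : Y.OpenCover) (K : Y.IdealSheafData)
    (H : ∀ k, K.comap (𝒰.f k) = ⊥) : K = ⊥ := by
  rw [eq_bot_iff]
  refine Scheme.IdealSheafData.le_of_iSup_eq_top
    (ι := Σ k : 𝒰.I₀, (𝒰.X k).affineOpens)
    (fun p => ⟨(𝒰.f p.1) ''ᵁ p.2.1, p.2.2.image_of_isOpenImmersion _⟩) ?_ ?_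
  · rw [eq_top_iff]
    rintro y -
    obtain ⟨k, x, rfl⟩ := 𝒰.exists_eq y
    obtain ⟨W, hW, hxW, -⟩ := (TopologicalSpace.Opens.isBasis_iff_nbhd.mp
      (𝒰.X k).isBasis_affineOpens) (show x ∈ (⊤ : (𝒰.X k).Opens) from trivial)
    exact TopologicalSpace.Opens.mem_iSup.mpr ⟨⟨k, ⟨W, hW⟩⟩, ⟨x, hxW, rfl⟩⟩
  · rintro ⟨k, W⟩
    have h1 := Scheme.IdealSheafData.ideal_comap_of_isOpenImmersion K (𝒰.f k) W
    rw [H k] at h1
    intro x hx
    have h2 : ((𝒰.f k).appIso W.1).hom.hom x ∈ (⊥ : (𝒰.X k).IdealSheafData).ideal W := by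
      rw [h1, Ideal.mem_comap]
      have : ((𝒰.f k).appIso W.1).inv.hom (((𝒰.f k).appIso W.1).hom.hom x) = x := by
        rw [← CommRingCat.comp_apply, Iso.hom_inv_id]; rfl
      rw [this]
      exact hx
    have h3 : ((𝒰.f k).appIso W.1).hom.hom x = 0 := h2
    have h4 : x = 0 := by
      have : ((𝒰.f k).appIso W.1).inv.hom (((𝒰.f k).appIso W.1).hom.hom x) = x := by
        rw [← CommRingCat.comp_apply, Iso.hom_inv_id]; rfl
      rw [← this, h3, map_zero]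
    rw [h4]
    exact Ideal.zero_mem _

/-- being a first order thickening is local on the target. -/
theorem isFirstOrderThickening_of_cover {X Y : Scheme.{u}} (f : X ⟶ Y) (𝒰 : Y.OpenCover)
    (V : 𝒰.I₀ → Scheme.{u}) (g : ∀ k, V k ⟶ 𝒰.X k) (p : ∀ k, V k ⟶ X)
    (H : ∀ k, IsPullback (g k) (p k) (𝒰.f k) f)
    (hg : ∀ k, MoreMor.IsFirstOrderThickening (g k)) :
    MoreMor.IsFirstOrderThickening f := by
  have hcl : IsClosedImmersion f := by
    refine IsZariskiLocalAtTarget.of_openCover (P := @IsClosedImmersion) 𝒰 fun k => ?_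
    have e : (H k).flip.isoPullback.hom ≫ 𝒰.pullbackHom f k = g k :=
      (H k).flip.isoPullback_hom_snd
    have : IsClosedImmersion (g k) := (hg k).1.1
    have h2 := (MorphismProperty.cancel_left_of_respectsIso @IsClosedImmersion
      (H k).flip.isoPullback.hom (𝒰.pullbackHom f k)).1 (by rw [e]; exact this)
    exact h2
  have hsurj : Surjective f := by
    refine ⟨fun y => ?_⟩
    obtain ⟨k, x, rfl⟩ := 𝒰.exists_eq y
    obtain ⟨v, rfl⟩ := (hg k).1.2.surj x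
    refine ⟨p k v, ?_⟩
    rw [← Scheme.Hom.comp_apply, ← (H k).w, Scheme.Hom.comp_apply]
  refine ⟨⟨hcl, hsurj⟩, ?_⟩
  refine eq_bot_of_comap_openCover 𝒰 _ fun k => ?_
  rw [Groth.Agent.Helper6.IdealComap.comap_mul,
    ← Scheme.IdealSheafData.ker_fst_of_isClosedImmersion]
  have e : (H k).isoPullback.hom ≫ pullback.fst (𝒰.f k) f = g k := (H k).isoPullback_hom_fst
  have e2 : pullback.fst (𝒰.f k) f = (H k).isoPullback.inv ≫ g k := by
    rw [Iso.eq_inv_comp]; exact e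
  rw [e2, Scheme.Hom.ker_comp_of_isIso]
  exact (hg k).2

end Groth.Agent.Helper18.Thick

namespace Groth.Agent.Helper18.UTGlue
open AlgebraicGeometry CategoryTheory Limits Groth.Agent.Helper18.Thick
universe u

variable {Z X : Scheme.{u}} (h : Z ⟶ X)

/-- the glued thickening -/
noncomputable def Z' : Scheme.{u} := colimit (F h)

/-- the charts of the glued thickening -/
noncomputable def ιZ (k : J h) : (ut h k).T ⟶ Z' h := colimit.ι (F h) k

instance (k : J h) : IsOpenImmersion (ιZ h k) :=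
  inferInstanceAs (IsOpenImmersion (colimit.ι (F h) k))

theorem trans_ιZ {k l : J h} (hkl : k.1 ≤ l.1) : trans hkl ≫ ιZ h l = ιZ h k :=
  colimit.w (F h) (homOfLE hkl)

/-- the cocone of structure maps -/
noncomputable def h'Cocone : Cocone (F h) where
  pt := X
  ι :=
    { app := fun k => (ut h k).h'
      naturality := fun k l f => by
        change trans (leOfHom f) ≫ _ = _ ≫ 𝟙 _
        rw [trans_h', Category.comp_id] }

/-- the structure map of the glued thickening -/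
noncomputable def h'Z : Z' h ⟶ X := colimit.desc (F h) (h'Cocone h)

theorem ιZ_h'Z (k : J h) : ιZ h k ≫ h'Z h = (ut h k).h' :=
  colimit.ι_desc _ _

variable [FormallyUnramified h]

theorem cov_trans {k l : J h} (f : (k : (cov h).I₀) ⟶ l) :
    (cov h).trans f = Z.homOfLE (leOfHom f : k.1 ≤ l.1) := by
  apply (cancel_mono (l.1.ι)).1
  exact ((cov h).trans_map f).trans (Scheme.homOfLE_ι _ _).symm

theorem iZ_compat {k l : (cov h).I₀} (f : k ⟶ l) :
    (cov h).trans f ≫ (fun k : J h => (ut h k).i ≫ ιZ h k) l =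
      (fun k : J h => (ut h k).i ≫ ιZ h k) k := by
  revert k l
  intro (k : J h) (l : J h) f
  have hf := cov_trans h f
  have h2 : Z.homOfLE (leOfHom f : k.1 ≤ l.1) ≫ (ut h l).i ≫ ιZ h l = (ut h k).i ≫ ιZ h k := by
    rw [← Category.assoc, ← i_trans, Category.assoc, trans_ιZ]
  exact (congrArg (· ≫ (ut h l).i ≫ ιZ h l) hf).trans h2

/-- the glued closed immersion -/
noncomputable def iZ : Z ⟶ Z' h :=
  (cov h).glueMorphismsOfLocallyDirected (fun k : J h => (ut h k).i ≫ ιZ h k)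
    (fun f => iZ_compat h f)

theorem ι_iZ (k : J h) : k.1.ι ≫ iZ h = (ut h k).i ≫ ιZ h k := by
  unfold iZ
  exact (cov h).map_glueMorphismsOfLocallyDirected _ (fun f => iZ_compat h f) k

theorem iZ_h'Z : iZ h ≫ h'Z h = h := by
  refine Scheme.Cover.hom_ext (cov h) _ _ fun (k : J h) => ?_
  change k.1.ι ≫ iZ h ≫ h'Z h = k.1.ι ≫ h
  rw [← Category.assoc, ι_iZ, Category.assoc, ιZ_h'Z, (ut h k).isU.2.1]

theorem iZ_apply (k : J h) (z : k.1.toScheme) : iZ h z.1 = ιZ h k ((ut h k).i z) := by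
  have := congr($(ι_iZ h k) z)
  exact this

theorem exists_chart (z : Z) : ∃ k : J h, z ∈ k.1 := by
  obtain ⟨k, hk, -⟩ := exists_mem_le (h := h) z ⊤ trivial
  exact ⟨k, hk⟩

theorem iZ_preimage_opensRange (k : J h) : iZ h ⁻¹ᵁ (ιZ h k).opensRange = k.1 := by
  ext z
  constructor
  · rintro ⟨t, ht⟩
    obtain ⟨l, hl⟩ := exists_chart h z
    have h1 : ιZ h k t = ιZ h l ((ut h l).i ⟨z, hl⟩) := ht.trans (iZ_apply h l ⟨z, hl⟩)
    obtain ⟨m, fk, fl, x, hx1, hx2⟩ := (Scheme.IsLocallyDirected.ι_eq_ι_iff (F h)).1 h1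
    obtain ⟨y, rfl⟩ := i_surjective m x
    have h2 : trans (leOfHom fl) ((ut h m).i y) = (ut h l).i ⟨z, hl⟩ := hx2
    rw [trans_i_apply] at h2
    have h3 := i_injective l h2
    have h4 : y.1 = z := by
      have := congrArg Subtype.val h3
      exact (Scheme.homOfLE_apply _ y).symm.trans this
    rw [← h4]
    exact (leOfHom fk : m.1 ≤ k.1) y.2
  · intro hz
    exact ⟨(ut h k).i ⟨z, hz⟩, (iZ_apply h k ⟨z, hz⟩).symm⟩

theorem isPullback_chart (k : J h) : IsPullback (ut h k).i k.1.ι (ιZ h k) (iZ h) :=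
  IsOpenImmersion.isPullback _ _ _ _ (ι_iZ h k) (by
    rw [iZ_preimage_opensRange, Scheme.Opens.opensRange_ι])

omit [FormallyUnramified h] in
theorem hom_ext_of_forall_opens {A B : Scheme.{u}} (f g : A ⟶ B)
    (H : ∀ x : A, ∃ U : A.Opens, x ∈ U ∧ U.ι ≫ f = U.ι ≫ g) : f = g := by
  choose U hxU hU using H
  let 𝒰 : A.OpenCover :=
    { I₀ := A, X := fun i => (U i), f := fun i => (U i).ι,
      mem₀ := by
        rw [Scheme.presieve₀_mem_precoverage_iff]
        refine ⟨fun x ↦ ⟨x, by simpa using hxU x⟩, inferInstance⟩ }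
  exact Scheme.Cover.hom_ext 𝒰 _ _ fun i => hU i

theorem iZ_isFirstOrderThickening : MoreMor.IsFirstOrderThickening (iZ h) :=
  isFirstOrderThickening_of_cover (iZ h) (Scheme.IsLocallyDirected.openCover (F h))
    (fun k : J h => k.1.toScheme) (fun k : J h => (ut h k).i) (fun k : J h => k.1.ι)
    (fun k : J h => isPullback_chart h k) (fun k : J h => (ut h k).isU.1)

theorem iZ_huniq (T T' : Scheme.{u}) (t : T ⟶ T') (a : T ⟶ Z) (a₁ a₂ : T' ⟶ Z' h)
    (ht : MoreMor.IsFirstOrderThickening t) (h1 : t ≫ a₁ = a ≫ iZ h) (h2 : t ≫ a₂ = a ≫ iZ h)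
    (h3 : a₁ ≫ h'Z h = a₂ ≫ h'Z h) : a₁ = a₂ := by
  refine hom_ext_of_forall_opens _ _ fun x' => ?_
  obtain ⟨x, rfl⟩ := ht.1.2.surj x'
  obtain ⟨k, hk⟩ := exists_chart h (a x)
  have e1 : a₁ (t x) = ιZ h k ((ut h k).i ⟨a x, hk⟩) := by
    rw [← iZ_apply h k ⟨a x, hk⟩]
    exact congr($h1 x)
  have e2 : a₂ (t x) = ιZ h k ((ut h k).i ⟨a x, hk⟩) := by
    rw [← iZ_apply h k ⟨a x, hk⟩]
    exact congr($h2 x)
  let W : T'.Opens := a₁ ⁻¹ᵁ (ιZ h k).opensRange ⊓ a₂ ⁻¹ᵁ (ιZ h k).opensRange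
  have hxW : t x ∈ W := ⟨⟨_, e1.symm⟩, ⟨_, e2.symm⟩⟩
  refine ⟨W, hxW, ?_⟩
  have r1 : Set.range (W.ι ≫ a₁) ⊆ Set.range (ιZ h k) := by
    rintro _ ⟨w, rfl⟩
    exact w.2.1
  have r2 : Set.range (W.ι ≫ a₂) ⊆ Set.range (ιZ h k) := by
    rintro _ ⟨w, rfl⟩
    exact w.2.2
  have hc1 := IsOpenImmersion.lift_fac (ιZ h k) (W.ι ≫ a₁) r1
  have hc2 := IsOpenImmersion.lift_fac (ιZ h k) (W.ι ≫ a₂) r2
  have key : IsOpenImmersion.lift (ιZ h k) (W.ι ≫ a₁) r1 =
      IsOpenImmersion.lift (ιZ h k) (W.ι ≫ a₂) r2 := by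
    refine unique_of_isUnivThickening (k.1.ι ≫ h) (ut h k).i (ut h k).h' (ut h k).isU
      (pullback.snd t W.ι) (snd_isFirstOrderThickening t W.ι ht) _ _ ?_ ?_
    · rw [← cancel_mono (ιZ h k), Category.assoc, Category.assoc, hc1, hc2,
        ← Category.assoc, ← Category.assoc, ← pullback.condition, Category.assoc, Category.assoc,
        h1, h2]
    · rw [← ιZ_h'Z, ← Category.assoc, ← Category.assoc, hc1, hc2, Category.assoc, Category.assoc,
        h3]
  rw [← hc1, ← hc2, key]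

theorem iZ_hloc (T T' : Scheme.{u}) (t : T ⟶ T') (b : T' ⟶ X) (a : T ⟶ Z)
    (ht : MoreMor.IsFirstOrderThickening t) (w : t ≫ b = a ≫ h) (x' : T') :
    ∃ (U : T'.Opens), x' ∈ U ∧ ∃ l : U.toScheme ⟶ Z' h,
      pullback.snd t U.ι ≫ l = pullback.fst t U.ι ≫ a ≫ iZ h ∧ l ≫ h'Z h = U.ι ≫ b := by
  obtain ⟨x, rfl⟩ := ht.1.2.surj x'
  obtain ⟨k, hk⟩ := exists_chart h (a x)
  haveI := ht.1.1
  have hhomeo : IsHomeomorph t :=
    isHomeomorph_iff_isEmbedding_surjective.2 ⟨t.isClosedEmbedding.isEmbedding, ht.1.2.surj⟩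
  let U : T'.Opens := ⟨t '' (a ⁻¹ᵁ k.1 : T.Opens).1, hhomeo.isOpenMap _ (a ⁻¹ᵁ k.1).2⟩
  have hxU : t x ∈ U := ⟨x, hk, rfl⟩
  refine ⟨U, hxU, ?_⟩
  have r : Set.range (pullback.fst t U.ι ≫ a) ⊆ Set.range k.1.ι := by
    rintro _ ⟨p, rfl⟩
    rw [Scheme.Opens.range_ι]
    have hp : t (pullback.fst t U.ι p) = U.ι (pullback.snd t U.ι p) :=
      congr($(pullback.condition (f := t) (g := U.ι)) p)
    obtain ⟨y, hy, hty⟩ := (pullback.snd t U.ι p).2
    have : y = pullback.fst t U.ι p := hhomeo.bijective.1 (hty.trans hp.symm)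
    change a (pullback.fst t U.ι p) ∈ k.1
    rw [← this]
    exact hy
  have hc := IsOpenImmersion.lift_fac k.1.ι (pullback.fst t U.ι ≫ a) r
  obtain ⟨c, ⟨hc1, hc2⟩, -⟩ := (ut h k).isU.2.2 _ _ (pullback.snd t U.ι) (U.ι ≫ b)
    (IsOpenImmersion.lift k.1.ι (pullback.fst t U.ι ≫ a) r) (snd_isFirstOrderThickening t U.ι ht)
    (by rw [← Category.assoc, ← pullback.condition, Category.assoc, w,
      ← Category.assoc _ k.1.ι, hc, Category.assoc])
  refine ⟨c ≫ ιZ h k, ?_, ?_⟩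
  · rw [← Category.assoc, hc1, Category.assoc, ← ι_iZ, ← Category.assoc, hc, Category.assoc]
  · rw [Category.assoc, ιZ_h'Z, hc2]

theorem isUnivThickening_glue : OmegaSh.IsUnivThickening h (iZ h) (h'Z h) :=
  isUnivThickening_of_local h (iZ h) (h'Z h) (iZ_isFirstOrderThickening h) (iZ_h'Z h)
    (iZ_huniq h) (iZ_hloc h)

end Groth.Agent.Helper18.UTGlue
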