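import Mathlib
import Groth.Prelude.Def_MoreMor
import Groth.Agent.Lib.Helper3.FormEt

set_option autoImplicit false
universe u
open CategoryTheory CategoryTheory.Limits AlgebraicGeometry

namespace Groth.Agent.Helper18.FormSm

open Groth.Agent.Helper3.FormEt

/-- a formally smooth morphism (infinitesimal lifting) is formally smooth on affine charts. -/
theorem formallySmooth_appLE_of_hom {X Y : Scheme.{u}} (f : X ⟶ Y)
    (hf : MoreMor.IsFormallySmoothHom f)
    {U : X.Opens} {V : Y.Opens} (hU : IsAffineOpen U) (hV : IsAffineOpen V)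
    (hUV : U ≤ f ⁻¹ᵁ V) :
    letI := (f.appLE V U hUV).hom.toAlgebra
    Algebra.FormallySmooth Γ(Y, V) Γ(X, U) := by
  letI := (f.appLE V U hUV).hom.toAlgebra
  have key : ∀ (B' : Type u) [CommRing B'] [Algebra Γ(Y, V) B'] (g : Γ(X, U) →ₐ[Γ(Y, V)] B'),
      (Spec.map (CommRingCat.ofHom g.toRingHom) ≫ hU.fromSpec) ≫ f =
        Spec.map (CommRingCat.ofHom (algebraMap Γ(Y, V) B')) ≫ hV.fromSpec := by
    intro B' _ _ g
    rw [Category.assoc, ← hV.SpecMap_appLE_fromSpec f hU hUV, ← Category.assoc, ← Spec.map_comp]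
    congr 2
    ext y
    exact g.commutes y
  apply Algebra.FormallySmooth.of_comp_surjective
  intro B _ _ I hI
  have hw : ∀ (gb : Γ(X, U) →ₐ[Γ(Y, V)] B ⧸ I),
      Spec.map (CommRingCat.ofHom (Ideal.Quotient.mk I)) ≫
        (Spec.map (CommRingCat.ofHom (algebraMap Γ(Y, V) B)) ≫ hV.fromSpec) =
      (Spec.map (CommRingCat.ofHom gb.toRingHom) ≫ hU.fromSpec) ≫ f := by
    intro gb
    rw [key (B ⧸ I) gb, ← Category.assoc, ← Spec.map_comp]
    rfl
  intro gb
  obtain ⟨l, hl1, hl2⟩ := hf B I hI _ _ (hw gb)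
  have hrange : Set.range l ⊆ Set.range hU.fromSpec := by
    rintro _ ⟨y, rfl⟩
    obtain ⟨x, rfl⟩ := specMap_surjective_of_ker_sq
      (CommRingCat.ofHom (Ideal.Quotient.mk I)) Ideal.Quotient.mk_surjective
      (by simpa using hI) y
    rw [← Scheme.Hom.comp_apply, hl1, Scheme.Hom.comp_apply]
    exact ⟨_, rfl⟩
  let l' : Spec (CommRingCat.of B) ⟶ Spec Γ(X, U) := IsOpenImmersion.lift hU.fromSpec l hrange
  have hl' : l' ≫ hU.fromSpec = l := IsOpenImmersion.lift_fac _ _ _
  obtain ⟨g, hg⟩ := Spec.map_surjective l'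
  have hcomm : f.appLE V U hUV ≫ g = CommRingCat.ofHom (algebraMap Γ(Y, V) B) := by
    apply Spec.map_injective
    rw [← cancel_mono hV.fromSpec, Spec.map_comp, Category.assoc,
      hV.SpecMap_appLE_fromSpec f hU hUV, hg, ← Category.assoc, hl', hl2]
  let g' : Γ(X, U) →ₐ[Γ(Y, V)] B := { g.hom with commutes' := fun y => congr($hcomm y) }
  refine ⟨g', ?_⟩
  have h3 : g ≫ CommRingCat.ofHom (Ideal.Quotient.mk I) = CommRingCat.ofHom gb.toRingHom := by
    apply Spec.map_injective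
    rw [← cancel_mono hU.fromSpec, Spec.map_comp, Category.assoc, hg, hl', hl1]
  ext x
  exact congr($h3 x)

end Groth.Agent.Helper18.FormSm
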