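import Groth.Agent.Lib.Helper18.ArtFunBasic
import Groth.Prelude.Def_ArtFun5
import Mathlib.RingTheory.Artinian.Ring
import Mathlib.RingTheory.AdicCompletion.RingHom

set_option autoImplicit false
universe u v
open CategoryTheory

namespace Groth.Agent.Helper18

open ArtFun ArtFun.Art

variable {Λ : Type u} {k : Type u} [CommRing Λ] [Field k] [Algebra Λ k]

section Factor

variable (R : CRing Λ k)

theorem art_maximalIdeal_nilpotent (A : Art Λ k) : ∃ N : ℕ, IsLocalRing.maximalIdeal A ^ N = ⊥ := by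
  have h := IsArtinianRing.isNilpotent_jacobson_bot (R := A)
  rw [IsLocalRing.jacobson_eq_maximalIdeal ⊥ bot_ne_top] at h
  obtain ⟨N, hN⟩ := h
  exact ⟨N, hN⟩

theorem homSet_maps_maximalIdeal {A : Art Λ k} (φ : HomSet R.carrier R.res A) (a : R.carrier)
    (ha : a ∈ IsLocalRing.maximalIdeal R.carrier) : φ.1 a ∈ IsLocalRing.maximalIdeal A := by
  rw [Art.mem_maximalIdeal_iff]
  rw [CRing.mem_maximalIdeal_iff] at ha
  rw [← ha]
  exact AlgHom.congr_fun φ.2 a

theorem homSet_map_pow_le {A : Art Λ k} (φ : HomSet R.carrier R.res A) (n : ℕ) :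
    (IsLocalRing.maximalIdeal R.carrier ^ n).map (φ.1 : R.carrier →+* A) ≤ IsLocalRing.maximalIdeal A ^ n := by
  rw [Ideal.map_pow]
  apply Ideal.pow_right_mono
  rw [Ideal.map_le_iff_le_comap]
  intro a ha
  exact homSet_maps_maximalIdeal R φ a ha

theorem exists_mpow_le_ker {A : Art Λ k} (φ : HomSet R.carrier R.res A) :
    ∃ N : ℕ, ∀ n, N ≤ n → R.mpow n ≤ RingHom.ker (φ.1 : R.carrier →+* A) := by
  obtain ⟨N, hN⟩ := art_maximalIdeal_nilpotent A
  refine ⟨N, fun n hn a ha => ?_⟩
  have h1 : a ∈ IsLocalRing.maximalIdeal R.carrier ^ N :=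
    Ideal.pow_le_pow_right (by omega) ha
  have h2 := homSet_map_pow_le R φ N (Ideal.mem_map_of_mem _ h1)
  rw [hN] at h2
  exact h2

/-- The factorisation of `φ` through the truncation `R/m^(n+1)` when `m^(n+1)` is killed. -/
noncomputable def factorTrunc {A : Art Λ k} (φ : HomSet R.carrier R.res A) (n : ℕ)
    (h : R.mpow n ≤ RingHom.ker (φ.1 : R.carrier →+* A)) : R.trunc n ⟶ A :=
  ⟨Ideal.Quotient.liftₐ (R.mpow n) φ.1 (fun a ha => h ha), by
    apply AlgHom.ext
    intro x
    obtain ⟨a, rfl⟩ := Ideal.Quotient.mk_surjective x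
    exact AlgHom.congr_fun φ.2 a⟩

theorem factorTrunc_truncHom {A : Art Λ k} (φ : HomSet R.carrier R.res A) (n : ℕ)
    (h : R.mpow n ≤ RingHom.ker (φ.1 : R.carrier →+* A)) :
    HomSet.map (factorTrunc R φ n h) (R.truncHom n) = φ :=
  Subtype.ext (AlgHom.ext fun _ => rfl)

theorem truncHom_surjective (n : ℕ) : Function.Surjective (R.truncHom n).1 :=
  Ideal.Quotient.mk_surjective

theorem hom_ext_of_truncHom {A : Art Λ k} (n : ℕ) (f g : R.trunc n ⟶ A)
    (h : HomSet.map f (R.truncHom n) = HomSet.map g (R.truncHom n)) : f = g := by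
  apply Art.hom_ext
  apply AlgHom.ext
  intro x
  obtain ⟨a, rfl⟩ := truncHom_surjective R n x
  exact AlgHom.congr_fun (congrArg Subtype.val h) a

/-- iterated transition map `R/m^(n+1) → R/m^(m+1)` for `m ≤ n` -/
noncomputable def truncMapLE {m n : ℕ} (h : m ≤ n) : R.trunc n ⟶ R.trunc m :=
  factorTrunc R (R.truncHom m) n (by
    intro a ha
    rw [RingHom.mem_ker]
    exact Ideal.Quotient.eq_zero_iff_mem.2 (Ideal.pow_le_pow_right (by omega) ha))

theorem truncMapLE_truncHom {m n : ℕ} (h : m ≤ n) :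
    HomSet.map (truncMapLE R h) (R.truncHom n) = R.truncHom m :=
  factorTrunc_truncHom R _ _ _

theorem truncMapLE_succ (n : ℕ) : truncMapLE R (Nat.le_succ n) = R.truncMap n := by
  apply hom_ext_of_truncHom
  rw [truncMapLE_truncHom, CRing.truncMap_truncHom]

theorem truncMapLE_refl (n : ℕ) : truncMapLE R (le_refl n) = 𝟙 _ := by
  apply hom_ext_of_truncHom
  rw [truncMapLE_truncHom]
  exact Subtype.ext (AlgHom.ext fun _ => rfl)

theorem truncMapLE_trans {l m n : ℕ} (h₁ : l ≤ m) (h₂ : m ≤ n) :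
    truncMapLE R h₂ ≫ truncMapLE R h₁ = truncMapLE R (h₁.trans h₂) := by
  apply hom_ext_of_truncHom
  rw [truncMapLE_truncHom]
  have : HomSet.map (truncMapLE R h₂ ≫ truncMapLE R h₁) (R.truncHom n) =
      HomSet.map (truncMapLE R h₁) (HomSet.map (truncMapLE R h₂) (R.truncHom n)) :=
    Subtype.ext (AlgHom.ext fun _ => rfl)
  rw [this, truncMapLE_truncHom, truncMapLE_truncHom]

theorem factorTrunc_comp_truncMapLE {A : Art Λ k} (φ : HomSet R.carrier R.res A) {m n : ℕ} (hmn : m ≤ n)
    (hm : R.mpow m ≤ RingHom.ker (φ.1 : R.carrier →+* A))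
    (hn : R.mpow n ≤ RingHom.ker (φ.1 : R.carrier →+* A)) :
    truncMapLE R hmn ≫ factorTrunc R φ m hm = factorTrunc R φ n hn := by
  apply hom_ext_of_truncHom
  rw [factorTrunc_truncHom]
  have : HomSet.map (truncMapLE R hmn ≫ factorTrunc R φ m hm) (R.truncHom n) =
      HomSet.map (factorTrunc R φ m hm) (HomSet.map (truncMapLE R hmn) (R.truncHom n)) :=
    Subtype.ext (AlgHom.ext fun _ => rfl)
  rw [this, truncMapLE_truncHom, factorTrunc_truncHom]

end Factor

section FormalElt

variable {R : CRing Λ k} {F : Art Λ k ⥤ Type v}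

theorem formalElt_compat_le (u : FormalElt F R) {m n : ℕ} (h : m ≤ n) :
    F.map (truncMapLE R h) (u.elt n) = u.elt m := by
  induction n, h using Nat.le_induction with
  | base =>
    rw [truncMapLE_refl]
    exact Functor.map_id_apply F _ _
  | succ n hmn ih =>
    rw [← truncMapLE_trans R hmn (Nat.le_succ n), Functor.map_comp_apply, truncMapLE_succ,
      u.compat, ih]

theorem homSet_map_comp {R' : Type u} [CommRing R'] [Algebra Λ R'] {resR : R' →ₐ[Λ] k}
    {A B C : Art Λ k} (f : A ⟶ B) (g : B ⟶ C) (φ : HomSet R' resR A) :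
    HomSet.map (f ≫ g) φ = HomSet.map g (HomSet.map f φ) :=
  Subtype.ext (AlgHom.ext fun _ => rfl)

/-- A family is determined by its formal element: value at `φ` factored through a truncation. -/
theorem family_app_eq (ξ : Family R.carrier R.res F) {A : Art Λ k} (φ : HomSet R.carrier R.res A) (n : ℕ)
    (h : R.mpow n ≤ RingHom.ker (φ.1 : R.carrier →+* A)) :
    ξ.app A φ = F.map (factorTrunc R φ n h) (ξ.toFormalElt.elt n) := by
  change _ = F.map _ (ξ.app _ (R.truncHom n))
  rw [← ξ.natural, factorTrunc_truncHom]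

theorem elt_factor_le (u : FormalElt F R) {A : Art Λ k} (φ : HomSet R.carrier R.res A) {m n : ℕ} (hmn : m ≤ n)
    (hm : R.mpow m ≤ RingHom.ker (φ.1 : R.carrier →+* A))
    (hn : R.mpow n ≤ RingHom.ker (φ.1 : R.carrier →+* A)) :
    F.map (factorTrunc R φ n hn) (u.elt n) = F.map (factorTrunc R φ m hm) (u.elt m) := by
  rw [← factorTrunc_comp_truncMapLE R φ hmn hm hn, Functor.map_comp_apply, formalElt_compat_le]

theorem elt_factor_indep (u : FormalElt F R) {A : Art Λ k} (φ : HomSet R.carrier R.res A) {m n : ℕ}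
    (hm : R.mpow m ≤ RingHom.ker (φ.1 : R.carrier →+* A))
    (hn : R.mpow n ≤ RingHom.ker (φ.1 : R.carrier →+* A)) :
    F.map (factorTrunc R φ m hm) (u.elt m) = F.map (factorTrunc R φ n hn) (u.elt n) := by
  have hM : R.mpow (max m n) ≤ RingHom.ker (φ.1 : R.carrier →+* A) :=
    le_trans (Ideal.pow_le_pow_right (by omega)) hm
  rw [← elt_factor_le u φ (le_max_left m n) hm hM, ← elt_factor_le u φ (le_max_right m n) hn hM]

/-- The family attached to a formal element. -/
noncomputable def formalEltToFamily (u : FormalElt F R) : Family R.carrier R.res F where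
  app A φ := F.map (factorTrunc R φ _ ((exists_mpow_le_ker R φ).choose_spec _ le_rfl))
    (u.elt (exists_mpow_le_ker R φ).choose)
  natural := by
    intro A B f φ
    have h₁ := (exists_mpow_le_ker R φ).choose_spec
    have h₂ := (exists_mpow_le_ker R (HomSet.map f φ)).choose_spec
    have hM : R.mpow (exists_mpow_le_ker R φ).choose ≤
        RingHom.ker ((HomSet.map f φ).1 : R.carrier →+* B) := by
      intro a ha
      have := h₁ _ le_rfl ha
      rw [RingHom.mem_ker] at this ⊢
      change f.toAlgHom (φ.1 a) = 0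
      have h0 : φ.1 a = 0 := this
      rw [h0, map_zero]
    rw [elt_factor_indep u (HomSet.map f φ) (h₂ _ le_rfl) hM]
    have e₃ : factorTrunc R (HomSet.map f φ) _ hM =
        factorTrunc R φ _ (h₁ _ le_rfl) ≫ f := by
      apply hom_ext_of_truncHom
      rw [factorTrunc_truncHom, homSet_map_comp, factorTrunc_truncHom]
    rw [e₃, Functor.map_comp_apply]

theorem formalEltToFamily_app (u : FormalElt F R) {A : Art Λ k} (φ : HomSet R.carrier R.res A) (n : ℕ)
    (h : R.mpow n ≤ RingHom.ker (φ.1 : R.carrier →+* A)) :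
    (formalEltToFamily u).app A φ = F.map (factorTrunc R φ n h) (u.elt n) :=
  elt_factor_indep u φ _ h

theorem family_ext {ξ₁ ξ₂ : Family R.carrier R.res F} (h : ∀ A φ, ξ₁.app A φ = ξ₂.app A φ) : ξ₁ = ξ₂ := by
  cases ξ₁; cases ξ₂; congr; funext A φ; exact h A φ

theorem truncHom_mpow_le_ker (n : ℕ) :
    R.mpow n ≤ RingHom.ker ((R.truncHom n).1 : R.carrier →+* R.trunc n) := by
  intro a ha
  rw [RingHom.mem_ker]
  exact Ideal.Quotient.eq_zero_iff_mem.2 ha

theorem factorTrunc_truncHom_self (n : ℕ) :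
    factorTrunc R (R.truncHom n) n (truncHom_mpow_le_ker n) = 𝟙 _ := by
  apply hom_ext_of_truncHom
  rw [factorTrunc_truncHom]
  exact Subtype.ext (AlgHom.ext fun _ => rfl)

theorem toFormalElt_bijective :
    Function.Bijective (fun ξ : Family R.carrier R.res F => ξ.toFormalElt) := by
  constructor
  · intro ξ₁ ξ₂ h
    apply family_ext
    intro A φ
    obtain ⟨N, hN⟩ := exists_mpow_le_ker R φ
    rw [family_app_eq ξ₁ φ N (hN N le_rfl), family_app_eq ξ₂ φ N (hN N le_rfl)]
    exact congrArg (fun t : FormalElt F R => F.map _ (t.elt N)) h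
  · intro u
    refine ⟨formalEltToFamily u, ?_⟩
    apply FormalElt.ext'
    intro n
    change (formalEltToFamily u).app _ (R.truncHom n) = u.elt n
    rw [formalEltToFamily_app u (R.truncHom n) n (truncHom_mpow_le_ker n), factorTrunc_truncHom_self]
    exact Functor.map_id_apply F _ _

end FormalElt

end Groth.Agent.Helper18
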