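import Mathlib

/-!
A surjective ring endomorphism of a Noetherian ring is injective.
-/

set_option autoImplicit false

namespace Groth.Agent.Helper18

theorem injective_of_surjective_ringEnd {R : Type*} [CommRing R] [IsNoetherianRing R]
    (g : R →+* R) (hg : Function.Surjective g) : Function.Injective g := by
  let f : ℕ →o Ideal R :=
    { toFun := fun n => RingHom.ker (g ^ n)
      monotone' := by
        apply monotone_nat_of_le_succ
        intro n x hx
        rw [RingHom.mem_ker] at hx ⊢
        rw [pow_succ', RingHom.mul_def, RingHom.comp_apply, hx, map_zero] }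
  obtain ⟨n, hn⟩ := monotone_stabilizes_iff_noetherian.2 (inferInstance : IsNoetherian R R) f
  have hsurj : Function.Surjective (g ^ n) := by
    rw [RingHom.coe_pow]
    exact hg.iterate n
  rw [injective_iff_map_eq_zero]
  intro x hx
  obtain ⟨y, rfl⟩ := hsurj x
  have h1 : y ∈ f (n + 1) := by
    change y ∈ RingHom.ker (g ^ (n + 1))
    rw [RingHom.mem_ker, pow_succ', RingHom.mul_def, RingHom.comp_apply, hx]
  rw [← hn (n + 1) (Nat.le_succ n)] at h1
  exact h1

end Groth.Agent.Helper18
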