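import Groth.Agent.Lib.Helper18.ArtFunFormal

set_option autoImplicit false
universe u v
open CategoryTheory

namespace Groth.Agent.Helper18

open ArtFun ArtFun.Art

variable {Λ : Type u} {k : Type u} [CommRing Λ] [Field k] [Algebra Λ k]

section Complete

variable (R : CRing Λ k) {R' : Type u} [CommRing R'] [Algebra Λ R'] {resR' : R' →ₐ[Λ] k}

theorem homSet_compat_le (ψ : ∀ n, HomSet R' resR' (R.trunc n))
    (hψ : ∀ n, HomSet.map (R.truncMap n) (ψ (n + 1)) = ψ n) {m n : ℕ} (h : m ≤ n) :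
    HomSet.map (truncMapLE R h) (ψ n) = ψ m := by
  induction n, h using Nat.le_induction with
  | base =>
    rw [truncMapLE_refl]
    exact Subtype.ext (AlgHom.ext fun _ => rfl)
  | succ n hmn ih =>
    rw [← truncMapLE_trans R hmn (Nat.le_succ n), homSet_map_comp, truncMapLE_succ, hψ, ih]

theorem truncMapLE_mk {m n : ℕ} (h : m ≤ n) (a : R.carrier) :
    (truncMapLE R h).toAlgHom (Ideal.Quotient.mk (R.mpow n) a) = Ideal.Quotient.mk (R.mpow m) a := rfl

/-- `h_{R'}(R) = lim h_{R'}(R/m^(n+1))` for a complete `R`: existence. -/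
theorem exists_algHom_of_compatible (ψ : ∀ n, HomSet R' resR' (R.trunc n))
    (hψ : ∀ n, HomSet.map (R.truncMap n) (ψ (n + 1)) = ψ n) :
    ∃ φ : R' →ₐ[Λ] R.carrier, R.res.comp φ = resR' ∧ ∀ n, (R.truncHom n).1.comp φ = (ψ n).1 := by
  have := R.isAdicComplete
  let I := IsLocalRing.maximalIdeal R.carrier
  let f : ∀ n : ℕ, R' →ₐ[Λ] R.carrier ⧸ I ^ n := fun n =>
    (Ideal.Quotient.factorₐ Λ (Ideal.pow_le_pow_right (Nat.le_succ n))).comp (ψ n).1
  have hf : ∀ {m n : ℕ} (hle : m ≤ n),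
      (Ideal.Quotient.factorₐ Λ (Ideal.pow_le_pow_right hle)).comp (f n) = f m := by
    intro m n hle
    apply AlgHom.ext
    intro x
    have hc := congrArg (fun t : HomSet R' resR' (R.trunc m) => t.1 x) (homSet_compat_le R ψ hψ hle)
    obtain ⟨a, ha⟩ := Ideal.Quotient.mk_surjective ((ψ n).1 x)
    have hc' : (ψ m).1 x = Ideal.Quotient.mk (R.mpow m) a := by
      rw [← hc]
      change (truncMapLE R hle).toAlgHom ((ψ n).1 x) = _
      rw [← ha]
      rfl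
    change Ideal.Quotient.factorₐ Λ (Ideal.pow_le_pow_right hle)
      (Ideal.Quotient.factorₐ Λ (Ideal.pow_le_pow_right (Nat.le_succ n)) ((ψ n).1 x)) =
      Ideal.Quotient.factorₐ Λ (Ideal.pow_le_pow_right (Nat.le_succ m)) ((ψ m).1 x)
    rw [hc', ← ha]
    rfl
  let φ := IsAdicComplete.liftAlgHom I f hf
  have hφ : ∀ n, (R.truncHom n).1.comp φ = (ψ n).1 := by
    intro n
    have h1 : (Ideal.Quotient.mkₐ Λ (I ^ (n + 1))).comp φ = f (n + 1) :=
      IsAdicComplete.mkₐ_comp_liftAlgHom I f hf (n + 1)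
    change (Ideal.Quotient.mkₐ Λ (I ^ (n + 1))).comp φ = (ψ n).1
    rw [h1]
    apply AlgHom.ext
    intro x
    have hc := congrArg (fun t : HomSet R' resR' (R.trunc n) => t.1 x)
      (homSet_compat_le R ψ hψ (Nat.le_succ n))
    obtain ⟨a, ha⟩ := Ideal.Quotient.mk_surjective ((ψ (n + 1)).1 x)
    have hc' : (ψ n).1 x = Ideal.Quotient.mk (R.mpow n) a := by
      rw [← hc]
      change (truncMapLE R (Nat.le_succ n)).toAlgHom ((ψ (n + 1)).1 x) = _
      rw [← ha]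
      rfl
    change Ideal.Quotient.factorₐ Λ (Ideal.pow_le_pow_right (Nat.le_succ (n + 1))) ((ψ (n + 1)).1 x) = (ψ n).1 x
    rw [hc', ← ha]
    rfl
  refine ⟨φ, ?_, hφ⟩
  have h0 := (R.truncHom 0).2
  rw [← h0, AlgHom.comp_assoc, hφ 0]
  exact (ψ 0).2

/-- uniqueness -/
theorem algHom_ext_of_truncHom {g₁ g₂ : R' →ₐ[Λ] R.carrier}
    (h : ∀ n, (R.truncHom n).1.comp g₁ = (R.truncHom n).1.comp g₂) : g₁ = g₂ := by
  have := R.isAdicComplete
  apply IsAdicComplete.algHom_ext (IsLocalRing.maximalIdeal R.carrier)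
  intro n
  cases n with
  | zero =>
    apply AlgHom.ext
    intro x
    have : Subsingleton (R.carrier ⧸ IsLocalRing.maximalIdeal R.carrier ^ 0) := by
      rw [pow_zero, Ideal.one_eq_top]
      exact Ideal.Quotient.subsingleton_iff.2 rfl
    exact Subsingleton.elim _ _
  | succ m => exact h m

end Complete

end Groth.Agent.Helper18

namespace Groth.Agent.Helper18

open ArtFun ArtFun.Art

variable {Λ : Type u} {k : Type u} [CommRing Λ] [Field k] [Algebra Λ k]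

theorem truncMap_surjective (R : CRing Λ k) (n : ℕ) : Function.Surjective (R.truncMap n) := by
  intro x
  obtain ⟨a, rfl⟩ := Ideal.Quotient.mk_surjective x
  exact ⟨Ideal.Quotient.mk _ a, rfl⟩

/-- A versal family with surjective components dominates any formal element. -/
theorem exists_compatible_lifts {R₂ : Type u} [CommRing R₂] [Algebra Λ R₂] {res₂ : R₂ →ₐ[Λ] k}
    {F : Art Λ k ⥤ Type v} (ξ₂ : Family R₂ res₂ F) (hξ₂ : IsVersal ξ₂)
    (R₁ : CRing Λ k) (u : FormalElt F R₁)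
    (ψ₀ : HomSet R₂ res₂ (R₁.trunc 0)) (hψ₀ : ξ₂.app _ ψ₀ = u.elt 0) :
    ∃ ψ : ∀ n, HomSet R₂ res₂ (R₁.trunc n), ψ 0 = ψ₀ ∧ (∀ n, ξ₂.app _ (ψ n) = u.elt n) ∧
      ∀ n, HomSet.map (R₁.truncMap n) (ψ (n + 1)) = ψ n := by
  have step : ∀ (n : ℕ) (ψ : HomSet R₂ res₂ (R₁.trunc n)), ξ₂.app _ ψ = u.elt n →
      ∃ ψ' : HomSet R₂ res₂ (R₁.trunc (n + 1)), HomSet.map (R₁.truncMap n) ψ' = ψ ∧
        ξ₂.app _ ψ' = u.elt (n + 1) := by
    intro n ψ hψ
    exact hξ₂ (R₁.truncMap n) (truncMap_surjective R₁ n) ψ (u.elt (n + 1)) ((u.compat n).trans hψ.symm)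
  let Ψ : ∀ n, {ψ : HomSet R₂ res₂ (R₁.trunc n) // ξ₂.app _ ψ = u.elt n} := fun n =>
    Nat.rec ⟨ψ₀, hψ₀⟩ (fun n p => ⟨(step n p.1 p.2).choose, (step n p.1 p.2).choose_spec.2⟩) n
  refine ⟨fun n => (Ψ n).1, rfl, fun n => (Ψ n).2, fun n => ?_⟩
  exact (step n (Ψ n).1 (Ψ n).2).choose_spec.1

end Groth.Agent.Helper18

namespace Groth.Agent.Helper18

open ArtFun ArtFun.Art

variable {Λ : Type u} {k : Type u} [CommRing Λ] [Field k] [Algebra Λ k]

theorem isVersal_of_isUniversal {R : Type u} [CommRing R] [Algebra Λ R] {resR : R →ₐ[Λ] k}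
    {F : Art Λ k ⥤ Type v} (ξ : Family R resR F) (hξ : IsUniversal ξ) : IsVersal ξ := by
  intro B A μ _ φ y hy
  obtain ⟨ψ, hψ⟩ := (hξ B).2 y
  refine ⟨ψ, ?_, hψ⟩
  apply (hξ A).1
  rw [ξ.natural, hψ, hy]

/-- A versal family with surjective components dominates every family. -/
theorem exists_along_eq_of_isVersal {R₂ : Type u} [CommRing R₂] [Algebra Λ R₂] {res₂ : R₂ →ₐ[Λ] k}
    {F : Art Λ k ⥤ Type v} (ξ₂ : Family R₂ res₂ F) (hξ₂ : IsVersal ξ₂)
    (hsurj : ∀ A : Art Λ k, Function.Surjective (ξ₂.app A))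
    (R₁ : CRing Λ k) (ξ₁ : Family R₁.carrier R₁.res F) :
    ∃ (φ : R₂ →ₐ[Λ] R₁.carrier) (hφ : R₁.res.comp φ = res₂), ξ₂.along φ hφ = ξ₁ := by
  let u : FormalElt F R₁ := ξ₁.toFormalElt
  obtain ⟨ψ₀, hψ₀⟩ := hsurj (R₁.trunc 0) (u.elt 0)
  obtain ⟨ψ, -, hψu, hψc⟩ := exists_compatible_lifts ξ₂ hξ₂ R₁ u ψ₀ hψ₀
  obtain ⟨φ, hφ, hφn⟩ := exists_algHom_of_compatible R₁ ψ hψc
  refine ⟨φ, hφ, ?_⟩
  apply family_ext
  intro A w
  obtain ⟨N, hN⟩ := exists_mpow_le_ker R₁ w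
  have hw := factorTrunc_truncHom R₁ w N (hN N le_rfl)
  set wbar := factorTrunc R₁ w N (hN N le_rfl) with hwbar
  have e1 : (ξ₂.along φ hφ).app A w = ξ₂.app A (HomSet.map wbar (ψ N)) := by
    change ξ₂.app A _ = _
    congr 1
    apply Subtype.ext
    change w.1.comp φ = wbar.toAlgHom.comp (ψ N).1
    rw [← hφn N, ← AlgHom.comp_assoc]
    exact congrArg (fun t => t.comp φ) (congrArg Subtype.val hw).symm
  rw [e1, ξ₂.natural, hψu N]
  change F.map wbar (ξ₁.app _ (R₁.truncHom N)) = _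
  rw [← ξ₁.natural, hw]

/-- Two maps inducing the same formal element from a universal family are equal. -/
theorem algHom_eq_of_isUniversal {F : Art Λ k ⥤ Type v} {R : Type u} [CommRing R] [Algebra Λ R]
    {resR : R →ₐ[Λ] k} (ξ : Family R resR F) (hξ : IsUniversal ξ)
    (S : CRing Λ k) (g₁ g₂ : R →ₐ[Λ] S.carrier)
    (hg₁ : S.res.comp g₁ = resR) (hg₂ : S.res.comp g₂ = resR)
    (h : (ξ.along g₁ hg₁).toFormalElt = (ξ.along g₂ hg₂).toFormalElt) : g₁ = g₂ := by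
  apply algHom_ext_of_truncHom S
  intro m
  have hm := congrArg (fun t : FormalElt F S => t.elt m) h
  have hinj := (hξ (S.trunc m)).1 hm
  exact congrArg Subtype.val hinj

theorem along_along {F : Art Λ k ⥤ Type v} {R S T : Type u} [CommRing R] [Algebra Λ R]
    [CommRing S] [Algebra Λ S] [CommRing T] [Algebra Λ T]
    {resR : R →ₐ[Λ] k} {resS : S →ₐ[Λ] k} {resT : T →ₐ[Λ] k} (ξ : Family R resR F)
    (g : R →ₐ[Λ] S) (hg : resS.comp g = resR) (g' : S →ₐ[Λ] T) (hg' : resT.comp g' = resS) :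
    (ξ.along g hg).along g' hg' = ξ.along (g'.comp g) (by rw [← AlgHom.comp_assoc, hg', hg]) := rfl

theorem along_id {F : Art Λ k ⥤ Type v} {R : Type u} [CommRing R] [Algebra Λ R]
    {resR : R →ₐ[Λ] k} (ξ : Family R resR F) :
    ξ.along (AlgHom.id Λ R) (AlgHom.comp_id _) = ξ := rfl

end Groth.Agent.Helper18
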