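import Groth.Agent.Lib.Helper18.ArtFunTorsor

/-!
Functors satisfying the Rim–Schlessinger condition: smoothness criterion and
bijectivity of smooth morphisms which are bijective on tangent spaces.
-/

set_option autoImplicit false
universe u v
open CategoryTheory

namespace Groth.Agent.Helper18

open ArtFun ArtFun.Art

variable {Λ : Type u} {k : Type u} [CommRing Λ] [Field k] [Algebra Λ k]

/-- the Rim–Schlessinger condition: comparison maps are bijective whenever `A'' → A` is surjective -/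
def RS (F : Art Λ k ⥤ Type v) : Prop :=
  ∀ ⦃B A A' A'' : Art Λ k⦄ (p' : B ⟶ A') (p'' : B ⟶ A'') (f' : A' ⟶ A) (f'' : A'' ⟶ A)
    (h : IsFibreProd p' p'' f' f''), Function.Surjective f'' → Function.Bijective (cmp F h)

variable {F G : Art Λ k ⥤ Type v}

theorem RS.hbar (h : RS F) : Hbar F := fun _ _ _ _ p' p'' f' f'' hsq hf => (h p' p'' f' f'' hsq hf.1).2

theorem RS.s1 (h : RS F) : S1 F := fun _ _ _ _ p' p'' f' f'' hsq hf => (h p' p'' f' f'' hsq hf).2

theorem RS.heps (h : RS F) : Heps F :=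
  fun _ A' p' p'' hsq => h p' p'' (toBase A') (toBase (dual Λ k)) hsq (toBase_surjective _)

section ZeroSection

variable (A' : Art Λ k)

/-- the zero section `A' → A' ×_k k[ε]` -/
noncomputable def zeroSec : A' ⟶ Deps A' :=
  (fp_exists_lift (Deps.isFibreProd A') (𝟙 A') (toBase A' ≫ baseToDual)
    (by rw [eq_toBase (𝟙 A' ≫ toBase A'), eq_toBase ((toBase A' ≫ baseToDual) ≫ _)])).choose

theorem zeroSec_q₁ : zeroSec A' ≫ Deps.q₁ A' = 𝟙 A' :=
  (fp_exists_lift (Deps.isFibreProd A') (𝟙 A') (toBase A' ≫ baseToDual)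
    (by rw [eq_toBase (𝟙 A' ≫ toBase A'), eq_toBase ((toBase A' ≫ baseToDual) ≫ _)])).choose_spec.1

theorem zeroSec_q₂ : zeroSec A' ≫ Deps.q₂ A' = toBase A' ≫ baseToDual :=
  (fp_exists_lift (Deps.isFibreProd A') (𝟙 A') (toBase A' ≫ baseToDual)
    (by rw [eq_toBase (𝟙 A' ≫ toBase A'), eq_toBase ((toBase A' ≫ baseToDual) ≫ _)])).choose_spec.2

theorem dsnd_baseToDual (c : k) : dsnd ((baseToDual : base Λ k ⟶ dual Λ k) c) = 0 := by
  change (algebraMap k (TrivSqZeroExt k k) c).snd = 0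
  rw [TrivSqZeroExt.algebraMap_eq_inl, TrivSqZeroExt.snd_inl]

theorem zeroSec_shift {t : A'} (ht : ∀ x ∈ IsLocalRing.maximalIdeal A', x * t = 0)
    (htm : t ∈ IsLocalRing.maximalIdeal A') :
    zeroSec A' ≫ shift (Deps.q₁ A') (Deps.q₂ A') ht htm = 𝟙 A' := by
  apply Art.hom_ext
  apply AlgHom.ext
  intro a
  change shift (Deps.q₁ A') (Deps.q₂ A') ht htm (zeroSec A' a) = a
  rw [shift_apply]
  have h1 : Deps.q₁ A' (zeroSec A' a) = a := congrArg (fun s : A' ⟶ A' => s a) (zeroSec_q₁ A')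
  have h2 : Deps.q₂ A' (zeroSec A' a) = (baseToDual : base Λ k ⟶ dual Λ k) (toBase A' a) :=
    congrArg (fun s : A' ⟶ dual Λ k => s a) (zeroSec_q₂ A')
  rw [h1, h2, dsnd_baseToDual, socleSMul_zero ht, add_zero]

end ZeroSection

/-- the zero tangent vector -/
def zeroTan (F : Art Λ k ⥤ Type v) (x₀ : F.obj (base Λ k)) : F.obj (dual Λ k) := F.map baseToDual x₀

theorem map_zeroTan (φ : F ⟶ G) (x₀ : F.obj (base Λ k)) :
    φ.app _ (zeroTan F x₀) = zeroTan G (φ.app _ x₀) :=
  NatTrans.naturality_apply φ baseToDual x₀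

/-- Smoothness criterion for functors satisfying (RS). -/
theorem isSmooth_of_tangent_surjective (hF0 : H0 F) (hF : RS F) (hG : RS G) (f : F ⟶ G)
    (htan : Function.Surjective (f.app (dual Λ k)))
    (hlift : ∀ ⦃A' A : Art Λ k⦄ (μ : A' ⟶ A), IsSmallExt μ → ∀ x : F.obj A,
      (∃ y' : G.obj A', G.map μ y' = f.app A x) → ∃ x' : F.obj A', F.map μ x' = x) :
    ∀ ⦃B A : Art Λ k⦄ (μ : B ⟶ A), IsSmallExt μ → Function.Surjective (relCmp f μ) := by
  intro A' A μ hμ
  rintro ⟨⟨x, y'⟩, hxy⟩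
  dsimp only at hxy
  obtain ⟨x₀', hx₀'⟩ := hlift μ hμ x ⟨y', hxy.symm⟩
  obtain ⟨t, ht, htm, ht0, hker⟩ := IsSmallExt.exists_generator hμ
  have hy₀ : G.map μ (f.app A' x₀') = G.map μ y' := by
    rw [← NatTrans.naturality_apply f μ x₀', hx₀', hxy]
  obtain ⟨z, hz₁, hz₂⟩ := exists_shift_of_same_image hG.hbar μ hμ ht htm ht0 hker _ _ hy₀
  obtain ⟨v, hv⟩ := htan (G.map (Deps.q₂ A') z)
  have hs := hF0.2
  obtain ⟨zF, hzF⟩ := (hF.heps _ _ (Deps.isFibreProd A')).2 ⟨(x₀', v), Subsingleton.elim _ _⟩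
  rw [cmp_eq_iff] at hzF
  obtain ⟨hzF₁, hzF₂⟩ := hzF
  dsimp only at hzF₁ hzF₂
  have hfz : f.app _ zF = z := by
    apply (hG.heps _ _ (Deps.isFibreProd A')).1
    apply FibProd.ext
    · change G.map (Deps.q₁ A') (f.app _ zF) = G.map (Deps.q₁ A') z
      rw [← NatTrans.naturality_apply f, hzF₁, hz₁]
    · change G.map (Deps.q₂ A') (f.app _ zF) = G.map (Deps.q₂ A') z
      rw [← NatTrans.naturality_apply f, hzF₂, hv]
  refine ⟨F.map (shift (Deps.q₁ A') (Deps.q₂ A') ht htm) zF, ?_⟩
  apply Subtype.ext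
  apply Prod.ext
  · change F.map μ (F.map (shift (Deps.q₁ A') (Deps.q₂ A') ht htm) zF) = x
    have hsq := isFibreProd_shift μ (Deps.isFibreProd A') ht htm ht0 hker
    rw [← Functor.map_comp_apply, ← hsq.w, Functor.map_comp_apply, hzF₁, hx₀']
  · change f.app A' (F.map (shift (Deps.q₁ A') (Deps.q₂ A') ht htm) zF) = y'
    rw [NatTrans.naturality_apply f, hfz, hz₂]

/-- injectivity passes up small extensions -/
theorem injective_of_small (hF0 : H0 F) (hF : RS F) (hG : RS G) (φ : F ⟶ G)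
    (htan : Function.Injective (φ.app (dual Λ k)))
    {A' A : Art Λ k} (μ : A' ⟶ A) (hμ : IsSmallExt μ) (hA : Function.Injective (φ.app A)) :
    Function.Injective (φ.app A') := by
  intro x₁ x₂ hx
  obtain ⟨t, ht, htm, ht0, hker⟩ := IsSmallExt.exists_generator hμ
  have hsq := isFibreProd_shift μ (Deps.isFibreProd A') ht htm ht0 hker
  have h1 : F.map μ x₁ = F.map μ x₂ := by
    apply hA
    rw [NatTrans.naturality_apply φ, NatTrans.naturality_apply φ, hx]
  obtain ⟨z, hz₁, hz₂⟩ := exists_shift_of_same_image hF.hbar μ hμ ht htm ht0 hker _ _ h1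
  -- compare φ z with the zero section applied to φ x₁
  have hφz : φ.app _ z = G.map (zeroSec A') (φ.app _ x₁) := by
    apply (hG _ _ _ _ hsq hμ.1).1
    apply FibProd.ext
    · change G.map (Deps.q₁ A') (φ.app _ z) = G.map (Deps.q₁ A') (G.map (zeroSec A') (φ.app _ x₁))
      rw [← NatTrans.naturality_apply φ, hz₁, ← Functor.map_comp_apply, zeroSec_q₁,
        Functor.map_id_apply]
    · change G.map (shift _ _ ht htm) (φ.app _ z) = G.map (shift _ _ ht htm) (G.map (zeroSec A') (φ.app _ x₁))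
      rw [← NatTrans.naturality_apply φ, hz₂, ← Functor.map_comp_apply, zeroSec_shift,
        Functor.map_id_apply, hx]
  have hv : F.map (Deps.q₂ A') z = F.map (Deps.q₂ A') (F.map (zeroSec A') x₁) := by
    apply htan
    rw [NatTrans.naturality_apply φ, hφz, NatTrans.naturality_apply φ, NatTrans.naturality_apply φ]
  have hz : z = F.map (zeroSec A') x₁ := by
    apply (hF.heps _ _ (Deps.isFibreProd A')).1
    apply FibProd.ext
    · change F.map (Deps.q₁ A') z = F.map (Deps.q₁ A') (F.map (zeroSec A') x₁)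
      rw [hz₁, ← Functor.map_comp_apply, zeroSec_q₁, Functor.map_id_apply]
    · exact hv
  rw [← hz₂, hz, ← Functor.map_comp_apply, zeroSec_shift, Functor.map_id_apply]

/-- injectivity on all objects from injectivity on the tangent space -/
theorem injective_app_of_tangent_injective (hF0 : H0 F) (hF : RS F) (hG : RS G) (φ : F ⟶ G)
    (htan : Function.Injective (φ.app (dual Λ k))) (A : Art Λ k) :
    Function.Injective (φ.app A) := by
  have key := surjective_induction (Λ := Λ) (k := k)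
    (fun A B μ => Function.Injective (φ.app A) → Function.Injective (φ.app B))
    (fun A B e he hA x₁ x₂ hx => by
      have h1 : F.map e x₁ = F.map e x₂ := by
        apply hA
        rw [NatTrans.naturality_apply φ, NatTrans.naturality_apply φ, hx]
      have h2 := congrArg (F.map (inv e)) h1
      rwa [map_map_inv, map_map_inv] at h2)
    (fun A B p hp hA => injective_of_small hF0 hF hG φ htan p hp hA)
    (fun A B C p q hp hq hA => hp (hq hA))
    (toBase A) (toBase_surjective A)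
  apply key
  intro x y _
  have hs := hF0.2
  exact Subsingleton.elim _ _

end Groth.Agent.Helper18
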