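import Groth.Agent.Lib.Helper18.ArtFunFibre

/-!
Comparison maps of fibre-product squares: reduction from surjections to small extensions.
-/

set_option autoImplicit false
universe u v
open CategoryTheory

namespace Groth.Agent.Helper18

open ArtFun ArtFun.Art

variable {Λ : Type u} {k : Type u} [CommRing Λ] [Field k] [Algebra Λ k]

variable (F : Art Λ k ⥤ Type v)

/-- all comparison maps over `g` are surjective -/
def PSurj {A'' A : Art Λ k} (g : A'' ⟶ A) : Prop :=
  ∀ ⦃B A' : Art Λ k⦄ (p' : B ⟶ A') (p'' : B ⟶ A'') (f' : A' ⟶ A) (h : IsFibreProd p' p'' f' g),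
    Function.Surjective (cmp F h)

/-- all comparison maps over `g` are injective -/
def PInj {A'' A : Art Λ k} (g : A'' ⟶ A) : Prop :=
  ∀ ⦃B A' : Art Λ k⦄ (p' : B ⟶ A') (p'' : B ⟶ A'') (f' : A' ⟶ A) (h : IsFibreProd p' p'' f' g),
    Function.Injective (cmp F h)

variable {F}

theorem cmp_fst {B A A' A'' : Art Λ k} {p' : B ⟶ A'} {p'' : B ⟶ A''} {f' : A' ⟶ A} {f'' : A'' ⟶ A}
    (h : IsFibreProd p' p'' f' f'') (z : F.obj B) : (cmp F h z).1.1 = F.map p' z := rfl

theorem cmp_snd {B A A' A'' : Art Λ k} {p' : B ⟶ A'} {p'' : B ⟶ A''} {f' : A' ⟶ A} {f'' : A'' ⟶ A}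
    (h : IsFibreProd p' p'' f' f'') (z : F.obj B) : (cmp F h z).1.2 = F.map p'' z := rfl

theorem cmp_eq_iff {B A A' A'' : Art Λ k} {p' : B ⟶ A'} {p'' : B ⟶ A''} {f' : A' ⟶ A} {f'' : A'' ⟶ A}
    (h : IsFibreProd p' p'' f' f'') (z : F.obj B) (x : FibProd F f' f'') :
    cmp F h z = x ↔ F.map p' z = x.1.1 ∧ F.map p'' z = x.1.2 := by
  constructor
  · rintro rfl
    exact ⟨rfl, rfl⟩
  · rintro ⟨h1, h2⟩
    exact FibProd.ext h1 h2

theorem map_inv_map {A B : Art Λ k} (e : B ⟶ A) [IsIso e] (x : F.obj A) :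
    F.map e (F.map (inv e) x) = x := by
  rw [← Functor.map_comp_apply, IsIso.inv_hom_id, Functor.map_id_apply]

theorem map_map_inv {A B : Art Λ k} (e : B ⟶ A) [IsIso e] (x : F.obj B) :
    F.map (inv e) (F.map e x) = x := by
  rw [← Functor.map_comp_apply, IsIso.hom_inv_id, Functor.map_id_apply]

/-- the first projection of a fibre product over an isomorphism is bijective -/
theorem fst_bijective_of_isIso {B A A' A'' : Art Λ k} {p' : B ⟶ A'} {p'' : B ⟶ A''} {f' : A' ⟶ A}
    {g : A'' ⟶ A} (h : IsFibreProd p' p'' f' g) (hg : Function.Bijective g) : Function.Bijective p' := by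
  constructor
  · intro b₁ b₂ hb
    apply h.inj _ _ hb
    apply hg.1
    rw [← h.w_apply, ← h.w_apply, hb]
  · intro a'
    obtain ⟨a'', ha''⟩ := hg.2 (f' a')
    obtain ⟨b, hb, -⟩ := h.surj a' a'' ha''.symm
    exact ⟨b, hb⟩

theorem pSurj_of_isIso {A'' A : Art Λ k} (g : A'' ⟶ A) (hg : IsIso g) : PSurj F g := by
  intro B A' p' p'' f' h
  haveI : IsIso p' := isIso_of_bijective p' (fst_bijective_of_isIso h (bijective_of_isIso g))
  rintro ⟨⟨x', x''⟩, hx⟩
  dsimp only at hx
  refine ⟨F.map (inv p') x', ?_⟩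
  rw [cmp_eq_iff]
  refine ⟨map_inv_map p' x', ?_⟩
  dsimp only
  have e1 : inv p' ≫ p'' = f' ≫ inv g := by
    rw [IsIso.inv_comp_eq, ← Category.assoc, IsIso.eq_comp_inv]
    exact h.w.symm
  rw [← Functor.map_comp_apply, e1, Functor.map_comp_apply, hx, map_map_inv]

theorem pInj_of_isIso {A'' A : Art Λ k} (g : A'' ⟶ A) (hg : IsIso g) : PInj F g := by
  intro B A' p' p'' f' h
  haveI : IsIso p' := isIso_of_bijective p' (fst_bijective_of_isIso h (bijective_of_isIso g))
  intro z z' hzz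
  have h1 : F.map p' z = F.map p' z' := congrArg (fun t => t.1.1) hzz
  have h2 := congrArg (F.map (inv p')) h1
  rwa [map_map_inv, map_map_inv] at h2

/-- composition step for surjectivity -/
theorem pSurj_comp {C B₀ A : Art Λ k} (p : C ⟶ B₀) (q : B₀ ⟶ A) (hq : Function.Surjective q)
    (hP : PSurj F p) (hQ : PSurj F q) : PSurj F (p ≫ q) := by
  intro B A' p' pC f' h
  obtain ⟨t, ht', ht''⟩ := fp_exists_lift (isFibreProd_fibreProd f' q hq) p' (pC ≫ p)
    (by rw [h.w, Category.assoc])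
  have hpaste := fp_paste h (isFibreProd_fibreProd f' q hq) t ht' ht''
  rintro ⟨⟨x', x''⟩, hx⟩
  dsimp only at hx
  have hx1 : F.map f' x' = F.map q (F.map p x'') := by
    rw [hx, Functor.map_comp_apply]
  obtain ⟨z₁, hz₁⟩ := hQ _ _ _ (isFibreProd_fibreProd f' q hq) ⟨(x', F.map p x''), hx1⟩
  rw [cmp_eq_iff] at hz₁
  obtain ⟨hz₁a, hz₁b⟩ := hz₁
  dsimp only at hz₁a hz₁b
  obtain ⟨z, hz⟩ := hP _ _ _ hpaste ⟨(z₁, x''), hz₁b⟩
  rw [cmp_eq_iff] at hz
  obtain ⟨hza, hzb⟩ := hz
  dsimp only at hza hzb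
  refine ⟨z, ?_⟩
  rw [cmp_eq_iff]
  refine ⟨?_, hzb⟩
  dsimp only
  rw [← ht', Functor.map_comp_apply, hza, hz₁a]

/-- composition step for injectivity -/
theorem pInj_comp {C B₀ A : Art Λ k} (p : C ⟶ B₀) (q : B₀ ⟶ A) (hq : Function.Surjective q)
    (hP : PInj F p) (hQ : PInj F q) : PInj F (p ≫ q) := by
  intro B A' p' pC f' h
  obtain ⟨t, ht', ht''⟩ := fp_exists_lift (isFibreProd_fibreProd f' q hq) p' (pC ≫ p)
    (by rw [h.w, Category.assoc])
  have hpaste := fp_paste h (isFibreProd_fibreProd f' q hq) t ht' ht''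
  intro z z' hzz
  have h1 : F.map p' z = F.map p' z' := congrArg (fun t => t.1.1) hzz
  have h2 : F.map pC z = F.map pC z' := congrArg (fun t => t.1.2) hzz
  apply hP _ _ _ hpaste
  apply FibProd.ext
  · change F.map t z = F.map t z'
    apply hQ _ _ _ (isFibreProd_fibreProd f' q hq)
    apply FibProd.ext
    · change F.map (fibreProd.fst f' q hq) (F.map t z) = F.map (fibreProd.fst f' q hq) (F.map t z')
      rw [← Functor.map_comp_apply, ← Functor.map_comp_apply, ht', h1]
    · change F.map (fibreProd.snd f' q hq) (F.map t z) = F.map (fibreProd.snd f' q hq) (F.map t z')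
      rw [← Functor.map_comp_apply, ← Functor.map_comp_apply, ht'', Functor.map_comp_apply,
        Functor.map_comp_apply, h2]
  · exact h2

theorem isSmallExt_surjective {A B : Art Λ k} {p : B ⟶ A} (h : IsSmallExt p) : Function.Surjective p := h.1

/-- surjectivity of comparison maps over small extensions implies it over all surjections -/
theorem pSurj_of_surjective (hsmall : ∀ ⦃A'' A : Art Λ k⦄ (g : A'' ⟶ A), IsSmallExt g → PSurj F g)
    ⦃A'' A : Art Λ k⦄ (g : A'' ⟶ A) (hg : Function.Surjective g) : PSurj F g := by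
  have key := surjective_induction (Λ := Λ) (k := k)
    (fun A B g => Function.Surjective g ∧ PSurj F g)
    (fun A B e he => ⟨(bijective_of_isIso e).2, pSurj_of_isIso e he⟩)
    (fun A B p hp => ⟨hp.1, hsmall p hp⟩)
    (fun A B C p q hp hq => ⟨hq.1.comp hp.1, pSurj_comp p q hq.1 hp.2 hq.2⟩)
    g hg
  exact key.2

theorem pInj_of_surjective (hsmall : ∀ ⦃A'' A : Art Λ k⦄ (g : A'' ⟶ A), IsSmallExt g → PInj F g)
    ⦃A'' A : Art Λ k⦄ (g : A'' ⟶ A) (hg : Function.Surjective g) : PInj F g := by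
  have key := surjective_induction (Λ := Λ) (k := k)
    (fun A B g => Function.Surjective g ∧ PInj F g)
    (fun A B e he => ⟨(bijective_of_isIso e).2, pInj_of_isIso e he⟩)
    (fun A B p hp => ⟨hp.1, hsmall p hp⟩)
    (fun A B C p q hp hq => ⟨hq.1.comp hp.1, pInj_comp p q hq.1 hp.2 hq.2⟩)
    g hg
  exact key.2

theorem s1_of_hbar (hF : Hbar F) : S1 F := by
  intro B A A' A'' p' p'' f' f'' h hf
  exact pSurj_of_surjective (fun A'' A g hg B A' p' p'' f' h => hF p' p'' f' g h hg) f'' hf p' p'' f' h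

end Groth.Agent.Helper18
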