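import Groth.Agent.Lib.Helper18.ArtFunSmall
import Groth.Agent.Lib.Helper18.ArtFunCmp

/-!
The least ideal to which an element lifts (for functors satisfying (S1)).
-/

set_option autoImplicit false
universe u v
open CategoryTheory

namespace Groth.Agent.Helper18

open ArtFun ArtFun.Art

variable {Λ : Type u} {k : Type u} [CommRing Λ] [Field k] [Algebra Λ k]

section QuotMap

variable (B : Art Λ k)

/-- the canonical map `B/J → B/J'` for `J ≤ J'` -/
noncomputable def quotMap (J J' : Ideal B) (hJ : J ≤ IsLocalRing.maximalIdeal B)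
    (hJ' : J' ≤ IsLocalRing.maximalIdeal B) (h : J ≤ J') : quot B J hJ ⟶ quot B J' hJ' :=
  quotFactor hJ (quotMk B J' hJ') (by rw [ker_quotMk]; exact h)

theorem quotMap_quotMk (J J' : Ideal B) (hJ : J ≤ IsLocalRing.maximalIdeal B)
    (hJ' : J' ≤ IsLocalRing.maximalIdeal B) (h : J ≤ J') (b : B) :
    quotMap B J J' hJ hJ' h (quotMk B J hJ b) = quotMk B J' hJ' b := rfl

theorem quotMap_surjective (J J' : Ideal B) (hJ : J ≤ IsLocalRing.maximalIdeal B)
    (hJ' : J' ≤ IsLocalRing.maximalIdeal B) (h : J ≤ J') :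
    Function.Surjective (quotMap B J J' hJ hJ' h) := by
  intro y
  obtain ⟨b, rfl⟩ := quotMk_surjective B J' hJ' y
  exact ⟨quotMk B J hJ b, rfl⟩

theorem quotMap_comp_quotFactor {D : Art Λ k} (J J' : Ideal B)
    (hJ : J ≤ IsLocalRing.maximalIdeal B)
    (hJ' : J' ≤ IsLocalRing.maximalIdeal B) (h : J ≤ J') (p : B ⟶ D)
    (hp : J' ≤ RingHom.ker p.toAlgHom) :
    quotMap B J J' hJ hJ' h ≫ quotFactor hJ' p hp = quotFactor hJ p (h.trans hp) := by
  apply Art.hom_ext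
  apply AlgHom.ext
  intro x
  obtain ⟨b, rfl⟩ := quotMk_surjective B J hJ x
  rfl

theorem quotMk_eq_quotMk_iff (J : Ideal B) (hJ : J ≤ IsLocalRing.maximalIdeal B) (b b' : B) :
    quotMk B J hJ b = quotMk B J hJ b' ↔ b - b' ∈ J := by
  rw [← sub_eq_zero]
  have : quotMk B J hJ b - quotMk B J hJ b' = quotMk B J hJ (b - b') :=
    (map_sub (quotMk B J hJ).toAlgHom b b').symm
  rw [this, quotMk_eq_zero_iff]

theorem isFibreProd_quot_inf (J₁ J₂ : Ideal B) (h₁ : J₁ ≤ IsLocalRing.maximalIdeal B)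
    (h₂ : J₂ ≤ IsLocalRing.maximalIdeal B) (h12 : J₁ ⊔ J₂ ≤ IsLocalRing.maximalIdeal B) :
    IsFibreProd (quotMap B (J₁ ⊓ J₂) J₁ (inf_le_left.trans h₁) h₁ inf_le_left)
      (quotMap B (J₁ ⊓ J₂) J₂ (inf_le_left.trans h₁) h₂ inf_le_right)
      (quotMap B J₁ (J₁ ⊔ J₂) h₁ h12 le_sup_left)
      (quotMap B J₂ (J₁ ⊔ J₂) h₂ h12 le_sup_right) where
  w := by
    apply Art.hom_ext
    apply AlgHom.ext
    intro x
    obtain ⟨b, rfl⟩ := quotMk_surjective B _ (inf_le_left.trans h₁) x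
    rfl
  inj := by
    intro x y hx hy
    obtain ⟨b, rfl⟩ := quotMk_surjective B _ (inf_le_left.trans h₁) x
    obtain ⟨b', rfl⟩ := quotMk_surjective B _ (inf_le_left.trans h₁) y
    rw [quotMap_quotMk, quotMap_quotMk, quotMk_eq_quotMk_iff] at hx hy
    rw [quotMk_eq_quotMk_iff]
    exact ⟨hx, hy⟩
  surj := by
    intro x y hxy
    obtain ⟨b₁, rfl⟩ := quotMk_surjective B _ h₁ x
    obtain ⟨b₂, rfl⟩ := quotMk_surjective B _ h₂ y
    rw [quotMap_quotMk, quotMap_quotMk, quotMk_eq_quotMk_iff] at hxy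
    obtain ⟨j₁, hj₁, j₂, hj₂, hj⟩ := Submodule.mem_sup.1 hxy
    refine ⟨quotMk B _ (inf_le_left.trans h₁) (b₁ - j₁), ?_, ?_⟩
    · rw [quotMap_quotMk, quotMk_eq_quotMk_iff]
      have : b₁ - j₁ - b₁ = -j₁ := by ring
      rw [this]
      exact J₁.neg_mem hj₁
    · rw [quotMap_quotMk, quotMk_eq_quotMk_iff]
      have : b₁ - j₁ - b₂ = j₂ := by rw [sub_right_comm, ← hj, add_sub_cancel_left]
      rw [this]
      exact hj₂

end QuotMap

section Least

variable {F : Art Λ k ⥤ Type v} {B A : Art Λ k}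

/-- `x ∈ F(A)` lifts to `F(B/J)` -/
def Lifts (F : Art Λ k ⥤ Type v) (p : B ⟶ A) (x : F.obj A) (J : Ideal B) : Prop :=
  ∃ (hJ : J ≤ RingHom.ker p.toAlgHom) (hJ' : J ≤ IsLocalRing.maximalIdeal B)
    (y : F.obj (quot B J hJ')), F.map (quotFactor hJ' p hJ) y = x

theorem Lifts.mono {p : B ⟶ A} {x : F.obj A} {J J' : Ideal B} (h : Lifts F p x J) (hJJ' : J ≤ J')
    (hJ' : J' ≤ RingHom.ker p.toAlgHom) : Lifts F p x J' := by
  obtain ⟨hJ, hJm, y, hy⟩ := h
  have hJ'm : J' ≤ IsLocalRing.maximalIdeal B := hJ'.trans (ker_le_maximalIdeal p)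
  refine ⟨hJ', hJ'm, F.map (quotMap B J J' hJm hJ'm hJJ') y, ?_⟩
  rw [← Functor.map_comp_apply, quotMap_comp_quotFactor, hy]

theorem lifts_ker (p : B ⟶ A) (hp : Function.Surjective p) (x : F.obj A) :
    Lifts F p x (RingHom.ker p.toAlgHom) := by
  haveI : IsIso (quotFactor (ker_le_maximalIdeal p) p le_rfl) :=
    isIso_of_bijective _ (quotFactor_ker_bijective p hp)
  exact ⟨le_rfl, ker_le_maximalIdeal p, F.map (inv (quotFactor (ker_le_maximalIdeal p) p le_rfl)) x,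
    map_inv_map _ x⟩

theorem Lifts.inf (h1 : S1 F) {p : B ⟶ A} (hp : IsSemismallExt p) {x : F.obj A} {J₁ J₂ : Ideal B}
    (hL₁ : Lifts F p x J₁) (hL₂ : Lifts F p x J₂) : Lifts F p x (J₁ ⊓ J₂) := by
  classical
  set I := RingHom.ker p.toAlgHom with hI
  set m := IsLocalRing.maximalIdeal B with hm
  have hIm : I ≤ m := ker_le_maximalIdeal p
  have hann : ∀ b ∈ m, ∀ z ∈ I, b * z = 0 := by
    intro b hb z hz
    have : b * z ∈ m * I := Ideal.mul_mem_mul hb hz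
    rw [hp.2] at this
    exact this
  obtain ⟨hJ₁, hJ₁m, y₁, hy₁⟩ := hL₁
  have hJ₂ : J₂ ≤ I := hL₂.1
  -- enlarge `J₂`
  let S : Set (Ideal B) := {K | J₂ ≤ K ∧ K ≤ I ∧ J₁ ⊓ K = J₁ ⊓ J₂}
  have hS : S.Nonempty := ⟨J₂, le_rfl, hJ₂, rfl⟩
  obtain ⟨K, hKS, hKmax⟩ :=
    (wellFounded_gt : WellFounded ((· > ·) : Ideal B → Ideal B → Prop)).has_min S hS
  obtain ⟨hJ₂K, hKI, hinf⟩ := hKS
  have hsup : J₁ ⊔ K = I := by
    apply le_antisymm (sup_le hJ₁ hKI)
    intro z hz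
    by_contra hz'
    have hzK : z ∉ K := fun h => hz' (Ideal.mem_sup_right h)
    let K' := K ⊔ Ideal.span {z}
    have hK'gt : K < K' := by
      refine lt_of_le_of_ne le_sup_left (fun h => hzK ?_)
      rw [h]
      exact Ideal.mem_sup_right (Ideal.subset_span rfl)
    apply hKmax K' ?_ hK'gt
    refine ⟨hJ₂K.trans le_sup_left, sup_le hKI ((Ideal.span_singleton_le_iff_mem I).2 hz), ?_⟩
    apply le_antisymm
    · intro w hw
      obtain ⟨hw₁, hw₂⟩ := hw
      obtain ⟨j, hj, c, hc, hjc⟩ := Submodule.mem_sup.1 hw₂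
      obtain ⟨b, rfl⟩ := Ideal.mem_span_singleton'.1 hc
      by_cases hb : b ∈ m
      · rw [hann b hb z hz, add_zero] at hjc
        rw [← hinf]
        exact ⟨hw₁, hjc ▸ hj⟩
      · exfalso
        have hbu : IsUnit b := by
          by_contra hnu
          exact hb ((IsLocalRing.mem_maximalIdeal b).2 hnu)
        obtain ⟨u, rfl⟩ := hbu
        apply hz'
        have : z = ↑u⁻¹ * (w - j) := by
          rw [← hjc, add_sub_cancel_left, ← mul_assoc, Units.inv_mul, one_mul]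
        rw [this]
        apply Ideal.mul_mem_left
        exact Submodule.sub_mem _ (Ideal.mem_sup_left hw₁) (Ideal.mem_sup_right hj)
    · rw [← hinf]
      exact inf_le_inf_left _ le_sup_left
  -- push `y₂` to `B/K`
  obtain ⟨hKI', hKm, y₂, hy₂⟩ := hL₂.mono hJ₂K hKI
  have h12 : J₁ ⊔ K ≤ m := by rw [hsup]; exact hIm
  have hsq := isFibreProd_quot_inf B J₁ K hJ₁m hKm h12
  -- the two elements agree over `B/(J₁ ⊔ K) = B/I ≅ A`
  have hJK : J₁ ⊔ K ≤ I := le_of_eq hsup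
  haveI : IsIso (quotFactor h12 p hJK) := by
    apply isIso_of_bijective
    constructor
    · rw [injective_iff_map_eq_zero]
      intro y hy
      obtain ⟨b, rfl⟩ := quotMk_surjective B _ h12 y
      rw [quotMk_eq_zero_iff, hsup]
      rw [quotFactor_quotMk] at hy
      exact hy
    · intro a
      obtain ⟨b, rfl⟩ := hp.1 a
      exact ⟨quotMk B _ h12 b, rfl⟩
  have hcompat : F.map (quotMap B J₁ (J₁ ⊔ K) hJ₁m h12 le_sup_left) y₁ =
      F.map (quotMap B K (J₁ ⊔ K) hKm h12 le_sup_right) y₂ := by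
    have e1 : F.map (quotFactor h12 p hJK) (F.map (quotMap B J₁ (J₁ ⊔ K) hJ₁m h12 le_sup_left) y₁) =
        F.map (quotFactor h12 p hJK) (F.map (quotMap B K (J₁ ⊔ K) hKm h12 le_sup_right) y₂) := by
      rw [← Functor.map_comp_apply, ← Functor.map_comp_apply, quotMap_comp_quotFactor,
        quotMap_comp_quotFactor, hy₁, hy₂]
    have e2 := congrArg (F.map (inv (quotFactor h12 p hJK))) e1
    rwa [map_map_inv, map_map_inv] at e2
  obtain ⟨z, hz⟩ := h1 _ _ _ _ hsq (quotMap_surjective B _ _ _ _ _) ⟨(y₁, y₂), hcompat⟩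
  rw [cmp_eq_iff] at hz
  have hz1 : F.map (quotMap B (J₁ ⊓ K) J₁ (inf_le_left.trans hJ₁m) hJ₁m inf_le_left) z = y₁ := hz.1
  have hres : Lifts F p x (J₁ ⊓ K) := by
    refine ⟨inf_le_left.trans hJ₁, inf_le_left.trans hJ₁m, z, ?_⟩
    rw [← hy₁, ← hz1, ← Functor.map_comp_apply, quotMap_comp_quotFactor]
  rw [hinf] at hres
  exact hres

/-- the least ideal to which `x` lifts -/
theorem exists_least_lifts [IsNoetherianRing Λ] [Module.Finite Λ k] (h1 : S1 F) {p : B ⟶ A}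
    (hp : IsSemismallExt p) (x : F.obj A) :
    ∃ J₀ : Ideal B, Lifts F p x J₀ ∧ ∀ J : Ideal B, Lifts F p x J → J₀ ≤ J := by
  let S : Set (Ideal B) := {J | Lifts F p x J}
  have hS : S.Nonempty := ⟨_, lifts_ker p hp.1 x⟩
  obtain ⟨J₀, hJ₀, hmin⟩ :=
    (wellFounded_lt : WellFounded ((· < ·) : Ideal B → Ideal B → Prop)).has_min S hS
  refine ⟨J₀, hJ₀, ?_⟩
  intro J hJ
  have h2 : Lifts F p x (J₀ ⊓ J) := Lifts.inf h1 hp hJ₀ hJ
  by_contra hle
  have hlt : J₀ ⊓ J < J₀ := lt_of_le_of_ne inf_le_left (fun h => hle (inf_eq_left.1 h))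
  exact hmin _ h2 hlt

end Least

end Groth.Agent.Helper18
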