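import Groth.Agent.Lib.Helper18.ArtFunShift

/-!
Consequences of the shift map for functors: transitivity of the tangent action on fibres,
and the versality criterion (tangent surjective + existence of lifts).
-/

set_option autoImplicit false
universe u v
open CategoryTheory

namespace Groth.Agent.Helper18

open ArtFun ArtFun.Art

variable {Λ : Type u} {k : Type u} [CommRing Λ] [Field k] [Algebra Λ k]

section Deps

/-- `A' ×_k k[ε]` -/
noncomputable def Deps (A' : Art Λ k) : Art Λ k :=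
  fibreProd (toBase A') (toBase (dual Λ k)) (toBase_surjective _)

noncomputable def Deps.q₁ (A' : Art Λ k) : Deps A' ⟶ A' := fibreProd.fst _ _ _
noncomputable def Deps.q₂ (A' : Art Λ k) : Deps A' ⟶ dual Λ k := fibreProd.snd _ _ _

theorem Deps.isFibreProd (A' : Art Λ k) :
    IsFibreProd (Deps.q₁ A') (Deps.q₂ A') (toBase A') (toBase (dual Λ k)) :=
  isFibreProd_fibreProd _ _ _

end Deps

variable {F : Art Λ k ⥤ Type v}

/-- transitivity: two elements of `F(A')` with the same image in `F(A)` are related by the shift -/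
theorem exists_shift_of_same_image (hF : Hbar F) {A' A : Art Λ k} (μ : A' ⟶ A) (hμ : IsSmallExt μ)
    {t : A'} (ht : ∀ x ∈ IsLocalRing.maximalIdeal A', x * t = 0)
    (htm : t ∈ IsLocalRing.maximalIdeal A') (ht0 : t ≠ 0)
    (hker : RingHom.ker μ.toAlgHom = Ideal.span {t})
    (y₀ y : F.obj A') (hy : F.map μ y₀ = F.map μ y) :
    ∃ z : F.obj (Deps A'), F.map (Deps.q₁ A') z = y₀ ∧
      F.map (shift (Deps.q₁ A') (Deps.q₂ A') ht htm) z = y := by
  have hsq := isFibreProd_shift μ (Deps.isFibreProd A') ht htm ht0 hker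
  obtain ⟨z, hz⟩ := hF _ _ _ _ hsq hμ ⟨(y₀, y), hy⟩
  rw [cmp_eq_iff] at hz
  exact ⟨z, hz.1, hz.2⟩

section Versal

variable {R : Type u} [CommRing R] [Algebra Λ R] {resR : R →ₐ[Λ] k}

theorem homSet_map_id {A : Art Λ k} (φ : HomSet R resR A) : HomSet.map (𝟙 A) φ = φ :=
  Subtype.ext (AlgHom.ext fun _ => rfl)

theorem homSet_map_map {A B C : Art Λ k} (f : A ⟶ B) (g : B ⟶ C) (φ : HomSet R resR A) :
    HomSet.map g (HomSet.map f φ) = HomSet.map (f ≫ g) φ :=
  Subtype.ext (AlgHom.ext fun _ => rfl)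

/-- versality may be checked on small extensions -/
theorem isVersal_of_small_lifts (ξ : Family R resR F)
    (h : ∀ ⦃B A : Art Λ k⦄ (μ : B ⟶ A), IsSmallExt μ →
      ∀ (φ : HomSet R resR A) (y : F.obj B), F.map μ y = ξ.app A φ →
        ∃ ψ : HomSet R resR B, HomSet.map μ ψ = φ ∧ ξ.app B ψ = y) : IsVersal ξ := by
  intro B A μ hμ
  refine surjective_induction (Λ := Λ) (k := k)
    (fun A B μ => ∀ (φ : HomSet R resR A) (y : F.obj B), F.map μ y = ξ.app A φ →
        ∃ ψ : HomSet R resR B, HomSet.map μ ψ = φ ∧ ξ.app B ψ = y) ?_ ?_ ?_ μ hμ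
  · intro A B e he φ y hy
    refine ⟨HomSet.map (inv e) φ, ?_, ?_⟩
    · rw [homSet_map_map, IsIso.inv_hom_id, homSet_map_id]
    · rw [ξ.natural, ← hy, map_map_inv]
  · intro A B p hp
    exact h p hp
  · intro A B C p q hp hq φ y hy
    rw [Functor.map_comp_apply] at hy
    obtain ⟨ψ₁, hψ₁, hψ₁'⟩ := hq φ (F.map p y) hy
    obtain ⟨ψ₂, hψ₂, hψ₂'⟩ := hp ψ₁ y hψ₁'.symm
    refine ⟨ψ₂, ?_, hψ₂'⟩
    rw [← homSet_map_map, hψ₂, hψ₁]

/-- The versality criterion: tangent surjective and lifts exist (without control of the family). -/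
theorem isVersal_of_tangent_surjective (hbar : Hbar F) (heps : Heps F)
    (ξ : Family R resR F)
    (htan : Function.Surjective (ξ.app (dual Λ k)))
    (hlift : ∀ ⦃B A : Art Λ k⦄ (μ : B ⟶ A), IsSmallExt μ →
      ∀ (φ : HomSet R resR A) (y : F.obj B), F.map μ y = ξ.app A φ →
        ∃ ψ : HomSet R resR B, HomSet.map μ ψ = φ) : IsVersal ξ := by
  apply isVersal_of_small_lifts
  intro A' A μ hμ φ y hy
  obtain ⟨ψ₀, hψ₀⟩ := hlift μ hμ φ y hy
  obtain ⟨t, ht, htm, ht0, hker⟩ := IsSmallExt.exists_generator hμ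
  have hy₀ : F.map μ (ξ.app A' ψ₀) = F.map μ y := by
    rw [← ξ.natural, hψ₀, hy]
  obtain ⟨z, hz₁, hz₂⟩ := exists_shift_of_same_image hbar μ hμ ht htm ht0 hker _ _ hy₀
  obtain ⟨w, hw⟩ := htan (F.map (Deps.q₂ A') z)
  obtain ⟨ψ', hψ'₁, hψ'₂⟩ := exists_homSet_lift_of_isFibreProd (Deps.isFibreProd A') ψ₀ w
    (homSet_base_eq _ _)
  have hξψ' : ξ.app _ ψ' = z := by
    apply (heps _ _ (Deps.isFibreProd A')).1
    apply FibProd.ext
    · change F.map (Deps.q₁ A') (ξ.app _ ψ') = F.map (Deps.q₁ A') z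
      rw [← ξ.natural, hψ'₁, hz₁]
    · change F.map (Deps.q₂ A') (ξ.app _ ψ') = F.map (Deps.q₂ A') z
      rw [← ξ.natural, hψ'₂, hw]
  refine ⟨HomSet.map (shift (Deps.q₁ A') (Deps.q₂ A') ht htm) ψ', ?_, ?_⟩
  · have hsq := isFibreProd_shift μ (Deps.isFibreProd A') ht htm ht0 hker
    rw [homSet_map_map, ← hsq.w, ← homSet_map_map, hψ'₁, hψ₀]
  · rw [ξ.natural, hξψ', hz₂]

theorem surjective_app_of_isVersal (h0 : H0 F) (ξ : Family R resR F) (hξ : IsVersal ξ) (A : Art Λ k) :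
    Function.Surjective (ξ.app A) := by
  intro y
  have hs := h0.2
  have h1 : F.map (toBase A) y = ξ.app _ homSetBase := Subsingleton.elim _ _
  obtain ⟨ψ, -, hψ⟩ := hξ (toBase A) (toBase_surjective A) homSetBase y h1
  exact ⟨ψ, hψ⟩

theorem hbar_of_s1 (h : S1 F) : Hbar F := by
  intro B A A' A'' p' p'' f' f'' hsq hf
  exact h p' p'' f' f'' hsq hf.1

end Versal

end Groth.Agent.Helper18
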