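import Mathlib.RingTheory.FiniteLength
import Mathlib.RingTheory.Nakayama
import Mathlib.RingTheory.LocalRing.MaximalIdeal.Basic
import Mathlib.RingTheory.Jacobson.Ideal
import Mathlib.Order.JordanHolder

/-!
Finite length is preserved by restriction of scalars along a ring map into a local ring
which is surjective on the residue field.
-/

set_option autoImplicit false

namespace Groth.Agent.Helper18

variable {B A' M : Type*} [CommRing B] [CommRing A'] [IsLocalRing A'] [Algebra B A']
  [AddCommGroup M] [Module A' M] [Module B M] [IsScalarTower B A' M]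

theorem covBy_restrictScalars [IsNoetherian A' M]
    (hres : ∀ a : A', ∃ b : B, a - algebraMap B A' b ∈ IsLocalRing.maximalIdeal A')
    {N₁ N₂ : Submodule A' M} (h : N₁ ⋖ N₂) :
    N₁.restrictScalars B ⋖ N₂.restrictScalars B := by
  have hstar : IsLocalRing.maximalIdeal A' • N₂ ≤ N₁ := by
    have hQ1 : N₁ ≤ N₁ ⊔ IsLocalRing.maximalIdeal A' • N₂ := le_sup_left
    have hQ2 : N₁ ⊔ IsLocalRing.maximalIdeal A' • N₂ ≤ N₂ := sup_le h.le Submodule.smul_le_right
    rcases h.eq_or_eq hQ1 hQ2 with h1 | h1
    · rw [← h1]; exact le_sup_right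
    · exfalso
      have hfg : N₂.FG := IsNoetherian.noetherian N₂
      have hle : N₂ ≤ N₁ := Submodule.le_of_le_smul_of_le_jacobson_bot hfg
        (by rw [IsLocalRing.jacobson_eq_maximalIdeal ⊥ bot_ne_top]) h1.ge
      exact absurd h.lt (not_lt_of_ge hle)
  refine ⟨?_, ?_⟩
  · exact (Submodule.restrictScalars_lt B).2 h.lt
  · intro P hP1 hP2
    let P' : Submodule A' M :=
      { carrier := P
        add_mem' := fun ha hb => P.add_mem ha hb
        zero_mem' := P.zero_mem
        smul_mem' := by
          intro a p hp
          obtain ⟨b, hb⟩ := hres a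
          have e : a • p = b • p + (a - algebraMap B A' b) • p := by
            rw [sub_smul, algebraMap_smul]; abel
          change a • p ∈ P
          rw [e]
          refine P.add_mem (P.smul_mem b hp) (hP1.le ?_)
          exact hstar (Submodule.smul_mem_smul hb (hP2.le hp)) }
    have hP'1 : N₁ < P' := by
      refine lt_of_le_of_ne (fun x hx => hP1.le hx) (fun he => ?_)
      apply hP1.ne
      ext x
      change x ∈ N₁ ↔ x ∈ P'
      rw [he]
    have hP'2 : P' < N₂ := by
      refine lt_of_le_of_ne (fun x hx => hP2.le hx) (fun he => ?_)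
      apply hP2.ne
      ext x
      change x ∈ P' ↔ x ∈ N₂
      rw [he]
    exact h.2 hP'1 hP'2

theorem isFiniteLength_restrictScalars
    (hres : ∀ a : A', ∃ b : B, a - algebraMap B A' b ∈ IsLocalRing.maximalIdeal A')
    (h : IsFiniteLength A' M) : IsFiniteLength B M := by
  have hN : IsNoetherian A' M := (isFiniteLength_iff_isNoetherian_isArtinian.1 h).1
  rw [isFiniteLength_iff_exists_compositionSeries] at h ⊢
  obtain ⟨s, hs0, hs1⟩ := h
  refine ⟨s.map ⟨Submodule.restrictScalars B, fun {a b} hab => covBy_restrictScalars hres hab⟩, ?_, ?_⟩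
  · rw [RelSeries.head_map]
    change Submodule.restrictScalars B s.head = ⊥
    rw [hs0, Submodule.restrictScalars_bot]
  · rw [RelSeries.last_map]
    change Submodule.restrictScalars B s.last = ⊤
    rw [hs1, Submodule.restrictScalars_top]

theorem isArtinian_restrictScalars [IsArtinian A' M] [IsNoetherian A' M]
    (hres : ∀ a : A', ∃ b : B, a - algebraMap B A' b ∈ IsLocalRing.maximalIdeal A') :
    IsArtinian B M :=
  (isFiniteLength_iff_isNoetherian_isArtinian.1 (isFiniteLength_restrictScalars hres
    (isFiniteLength_iff_isNoetherian_isArtinian.2 ⟨inferInstance, inferInstance⟩))).2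

end Groth.Agent.Helper18
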