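import Groth.Agent.Lib.Helper18.ArtFunSmall
import Groth.Agent.Lib.Helper18.FiniteLengthRestrict
import Mathlib.RingTheory.LocalRing.Pullback

/-!
Fibre products in `Art Λ k` along a surjection, with the universal property and pasting.
-/

set_option autoImplicit false
universe u v
open CategoryTheory

namespace Groth.Agent.Helper18

open ArtFun ArtFun.Art

variable {Λ : Type u} {k : Type u} [CommRing Λ] [Field k] [Algebra Λ k]

section Construct

variable {A A₁ A₂ : Art Λ k} (f₁ : A₁ ⟶ A) (f₂ : A₂ ⟶ A)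

/-- the underlying algebra of the fibre product -/
abbrev fpCarrier : Type u := ↥(AlgHom.pullback f₁.toAlgHom f₂.toAlgHom)

theorem fpCarrier_isLocalRing : IsLocalRing (fpCarrier f₁ f₂) := by
  haveI : IsLocalHom f₂.toAlgHom := Art.isLocalHom f₂
  exact AlgHom.isLocalRing_pullback f₁.toAlgHom f₂.toAlgHom

theorem fpCarrier_res_eq (b : fpCarrier f₁ f₂) : A₂.res b.1.2 = A₁.res b.1.1 := by
  have h : f₁ b.1.1 = f₂ b.1.2 := b.2
  rw [← Art.res_app f₂, ← h, Art.res_app f₁]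

theorem fpCarrier_isArtinianRing (hf₂ : Function.Surjective f₂) : IsArtinianRing (fpCarrier f₁ f₂) := by
  letI alg1 : Algebra (fpCarrier f₁ f₂) A₁ := (AlgHom.pullbackFst f₁.toAlgHom f₂.toAlgHom).toRingHom.toAlgebra
  letI alg2 : Algebra (fpCarrier f₁ f₂) A₂ := (AlgHom.pullbackSnd f₁.toAlgHom f₂.toAlgHom).toRingHom.toAlgebra
  have hres1 : ∀ a : A₁, ∃ b : fpCarrier f₁ f₂,
      a - algebraMap (fpCarrier f₁ f₂) A₁ b ∈ IsLocalRing.maximalIdeal A₁ := by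
    intro a
    obtain ⟨a₂, ha₂⟩ := hf₂ (f₁ a)
    refine ⟨⟨(a, a₂), ha₂.symm⟩, ?_⟩
    have : algebraMap (fpCarrier f₁ f₂) A₁ ⟨(a, a₂), ha₂.symm⟩ = a := rfl
    rw [this, sub_self]
    exact Ideal.zero_mem _
  have hres2 : ∀ a : A₂, ∃ b : fpCarrier f₁ f₂,
      a - algebraMap (fpCarrier f₁ f₂) A₂ b ∈ IsLocalRing.maximalIdeal A₂ := by
    intro a
    obtain ⟨a₁, ha₁⟩ := A₁.res_surjective (A₂.res a)
    obtain ⟨a₂, ha₂⟩ := hf₂ (f₁ a₁)
    refine ⟨⟨(a₁, a₂), ha₂.symm⟩, ?_⟩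
    have e : algebraMap (fpCarrier f₁ f₂) A₂ ⟨(a₁, a₂), ha₂.symm⟩ = a₂ := rfl
    rw [e, Art.mem_maximalIdeal_iff, map_sub, sub_eq_zero, ← ha₁, ← Art.res_app f₂ a₂, ha₂,
      Art.res_app f₁]
  haveI : IsArtinian (fpCarrier f₁ f₂) A₁ := isArtinian_restrictScalars hres1
  haveI : IsArtinian (fpCarrier f₁ f₂) A₂ := isArtinian_restrictScalars hres2
  letI modP : Module (fpCarrier f₁ f₂) (A₁ × A₂) := Prod.instModule
  haveI : IsArtinian (fpCarrier f₁ f₂) (A₁ × A₂) := isArtinian_prod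
  let ι : fpCarrier f₁ f₂ →ₗ[fpCarrier f₁ f₂] (A₁ × A₂) :=
    { toFun := fun b => (b.1.1, b.1.2)
      map_add' := fun x y => rfl
      map_smul' := by
        intro c x
        refine Prod.ext ?_ ?_
        · change c.1.1 * x.1.1 = c • x.1.1
          rw [Algebra.smul_def]; rfl
        · change c.1.2 * x.1.2 = c • x.1.2
          rw [Algebra.smul_def]; rfl }
  have hι : Function.Injective ι := by
    intro x y hxy
    exact Subtype.ext hxy
  exact isArtinian_of_injective ι hι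

/-- The fibre product `A₁ ×_A A₂` in `Art Λ k` when `f₂` is surjective. -/
noncomputable def fibreProd (hf₂ : Function.Surjective f₂) : Art Λ k :=
  { carrier := fpCarrier f₁ f₂
    isLocalRing := fpCarrier_isLocalRing f₁ f₂
    isArtinianRing := fpCarrier_isArtinianRing f₁ f₂ hf₂
    res := A₁.res.comp (AlgHom.pullbackFst f₁.toAlgHom f₂.toAlgHom)
    res_surjective := A₁.res_surjective.comp
      (AlgHom.surjective_pullbackFst_of_surjective f₁.toAlgHom f₂.toAlgHom hf₂) }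

noncomputable def fibreProd.fst (hf₂ : Function.Surjective f₂) : fibreProd f₁ f₂ hf₂ ⟶ A₁ :=
  ⟨AlgHom.pullbackFst f₁.toAlgHom f₂.toAlgHom, rfl⟩

noncomputable def fibreProd.snd (hf₂ : Function.Surjective f₂) : fibreProd f₁ f₂ hf₂ ⟶ A₂ :=
  ⟨AlgHom.pullbackSnd f₁.toAlgHom f₂.toAlgHom, AlgHom.ext fun b => fpCarrier_res_eq f₁ f₂ b⟩

theorem isFibreProd_fibreProd (hf₂ : Function.Surjective f₂) :
    IsFibreProd (fibreProd.fst f₁ f₂ hf₂) (fibreProd.snd f₁ f₂ hf₂) f₁ f₂ where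
  w := by
    apply Art.hom_ext
    exact AlgHom.pullback_comm_sq f₁.toAlgHom f₂.toAlgHom
  inj := by
    intro b₁ b₂ h₁ h₂
    exact Subtype.ext (Prod.ext h₁ h₂)
  surj := by
    intro a' a'' h
    exact ⟨⟨(a', a''), h⟩, rfl, rfl⟩

end Construct

section Universal

variable {B A A' A'' : Art Λ k} {p' : B ⟶ A'} {p'' : B ⟶ A''} {f' : A' ⟶ A} {f'' : A'' ⟶ A}

/-- morphisms into a fibre product -/
theorem fp_exists_lift (h : IsFibreProd p' p'' f' f'') {T : Art Λ k} (t' : T ⟶ A') (t'' : T ⟶ A'')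
    (ht : t' ≫ f' = t'' ≫ f'') : ∃ t : T ⟶ B, t ≫ p' = t' ∧ t ≫ p'' = t'' := by
  have hφ : HomSet.map f' (⟨t'.toAlgHom, t'.res_comp⟩ : HomSet T.carrier T.res A')
      = HomSet.map f'' (⟨t''.toAlgHom, t''.res_comp⟩ : HomSet T.carrier T.res A'') := by
    apply Subtype.ext
    exact congrArg Art.Hom.toAlgHom ht
  obtain ⟨ψ, hψ₁, hψ₂⟩ := exists_homSet_lift_of_isFibreProd h _ _ hφ
  refine ⟨⟨ψ.1, ψ.2⟩, ?_, ?_⟩
  · apply Art.hom_ext
    exact congrArg Subtype.val hψ₁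
  · apply Art.hom_ext
    exact congrArg Subtype.val hψ₂

theorem fp_hom_ext (h : IsFibreProd p' p'' f' f'') {T : Art Λ k} (t₁ t₂ : T ⟶ B)
    (h₁ : t₁ ≫ p' = t₂ ≫ p') (h₂ : t₁ ≫ p'' = t₂ ≫ p'') : t₁ = t₂ := by
  apply Art.hom_ext
  apply AlgHom.ext
  intro x
  apply h.inj
  · exact congrArg (fun t : T ⟶ A' => t x) h₁
  · exact congrArg (fun t : T ⟶ A'' => t x) h₂

/-- pasting: if `B = A' ×_A C` and `B₁ = A' ×_A B₀` with `C → B₀ → A`, then `B = B₁ ×_{B₀} C`. -/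
theorem fp_paste {C B₀ B₁ : Art Λ k} {p : C ⟶ B₀} {q : B₀ ⟶ A}
    {pC : B ⟶ C} (h : IsFibreProd p' pC f' (p ≫ q))
    {r' : B₁ ⟶ A'} {r'' : B₁ ⟶ B₀} (h₁ : IsFibreProd r' r'' f' q)
    (t : B ⟶ B₁) (ht' : t ≫ r' = p') (ht'' : t ≫ r'' = pC ≫ p) :
    IsFibreProd t pC r'' p where
  w := ht''
  inj := by
    intro b₁ b₂ e₁ e₂
    apply h.inj _ _ _ e₂
    rw [← ht', Art.comp_apply, Art.comp_apply, e₁]
  surj := by
    intro b₁ c hbc
    have h1 : f' (r' b₁) = (p ≫ q) c := by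
      rw [h₁.w_apply, hbc]; rfl
    obtain ⟨b, hb', hbC⟩ := h.surj (r' b₁) c h1
    refine ⟨b, ?_, hbC⟩
    apply h₁.inj
    · have : r' (t b) = p' b := congrArg (fun s : B ⟶ A' => s b) ht'
      rw [this, hb']
    · have : r'' (t b) = p (pC b) := congrArg (fun s : B ⟶ B₀ => s b) ht''
      rw [this, hbC, hbc]

end Universal

end Groth.Agent.Helper18
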