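import Mathlib

/-!
A local homomorphism of local rings, complete source and Noetherian target, which is surjective
on residue fields and on cotangent spaces, is surjective.
-/

set_option autoImplicit false

namespace Groth.Agent.Helper18

open IsLocalRing

theorem map_maximalIdeal_eq_of_sup_sq {R S : Type*} [CommRing R] [CommRing S]
    [IsLocalRing R] [IsLocalRing S] [IsNoetherianRing S] (f : R →+* S)
    (h : Ideal.map f (maximalIdeal R) ⊔ maximalIdeal S ^ 2 = maximalIdeal S) :
    Ideal.map f (maximalIdeal R) = maximalIdeal S := by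
  apply le_antisymm (le_sup_left.trans h.le)
  apply Submodule.le_of_le_smul_of_le_jacobson_bot (I := maximalIdeal S)
    (IsNoetherian.noetherian _) (maximalIdeal_le_jacobson _)
  rw [Ideal.smul_eq_mul, ← pow_two]
  exact h.ge

theorem surjective_of_map_maximalIdeal_sup_sq {R S : Type*} [CommRing R] [CommRing S]
    [IsLocalRing R] [IsLocalRing S] [IsNoetherianRing S]
    [IsPrecomplete (maximalIdeal R) R] (f : R →+* S)
    (hres : ∀ s : S, ∃ r : R, s - f r ∈ maximalIdeal S)
    (h : Ideal.map f (maximalIdeal R) ⊔ maximalIdeal S ^ 2 = maximalIdeal S) :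
    Function.Surjective f := by
  have hmap := map_maximalIdeal_eq_of_sup_sq f h
  haveI : IsHausdorff (Ideal.map f (maximalIdeal R)) S := by
    rw [hmap]; infer_instance
  apply surjective_of_mk_map_comp_surjective (I := maximalIdeal R) f
  intro y
  obtain ⟨s, rfl⟩ := Ideal.Quotient.mk_surjective y
  obtain ⟨r, hr⟩ := hres s
  refine ⟨r, ?_⟩
  rw [RingHom.comp_apply, eq_comm, Ideal.Quotient.eq, hmap]
  exact hr

end Groth.Agent.Helper18
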