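import Groth.Prelude.Def_ArtFun2

set_option autoImplicit false
universe u v
open CategoryTheory

namespace Groth.Agent.Helper18

open ArtFun ArtFun.Art

variable {Λ : Type u} {k : Type u} [CommRing Λ] [Field k] [Algebra Λ k]

section FibreProdHom

variable {B A A' A'' : Art Λ k} {p' : B ⟶ A'} {p'' : B ⟶ A''} {f' : A' ⟶ A} {f'' : A'' ⟶ A}
variable {R : Type u} [CommRing R] [Algebra Λ R] {resR : R →ₐ[Λ] k}

theorem homSet_ext_of_isFibreProd (h : IsFibreProd p' p'' f' f'') (ψ₁ ψ₂ : HomSet R resR B)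
    (h₁ : HomSet.map p' ψ₁ = HomSet.map p' ψ₂) (h₂ : HomSet.map p'' ψ₁ = HomSet.map p'' ψ₂) :
    ψ₁ = ψ₂ := by
  apply Subtype.ext
  apply AlgHom.ext
  intro r
  apply h.inj
  · exact congrArg (fun t : HomSet R resR A' => t.1 r) h₁
  · exact congrArg (fun t : HomSet R resR A'' => t.1 r) h₂

theorem exists_homSet_lift_of_isFibreProd (h : IsFibreProd p' p'' f' f'')
    (φ' : HomSet R resR A') (φ'' : HomSet R resR A'')
    (hφ : HomSet.map f' φ' = HomSet.map f'' φ'') :
    ∃ ψ : HomSet R resR B, HomSet.map p' ψ = φ' ∧ HomSet.map p'' ψ = φ'' := by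
  have hcomp : ∀ r : R, f' (φ'.1 r) = f'' (φ''.1 r) := fun r =>
    congrArg (fun t : HomSet R resR A => t.1 r) hφ
  choose g hg₁ hg₂ using fun r : R => h.surj (φ'.1 r) (φ''.1 r) (hcomp r)
  have huniq : ∀ (r : R) (b : B), p' b = φ'.1 r → p'' b = φ''.1 r → b = g r := by
    intro r b hb₁ hb₂
    exact h.inj _ _ (hb₁.trans (hg₁ r).symm) (hb₂.trans (hg₂ r).symm)
  let ψ : R →ₐ[Λ] B :=
    { toFun := g
      map_one' := (huniq 1 1 (by rw [map_one, map_one]) (by rw [map_one, map_one])).symm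
      map_mul' := fun x y => (huniq (x * y) (g x * g y)
        (by rw [map_mul, map_mul, hg₁, hg₁]) (by rw [map_mul, map_mul, hg₂, hg₂])).symm
      map_zero' := (huniq 0 0 (by rw [map_zero, map_zero]) (by rw [map_zero, map_zero])).symm
      map_add' := fun x y => (huniq (x + y) (g x + g y)
        (by rw [map_add, map_add, hg₁, hg₁]) (by rw [map_add, map_add, hg₂, hg₂])).symm
      commutes' := fun c => (huniq (algebraMap Λ R c) (algebraMap Λ B c)
        (by rw [AlgHom.commutes, AlgHom.commutes]) (by rw [AlgHom.commutes, AlgHom.commutes])).symm }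
  have hψ : B.res.comp ψ = resR := by
    apply AlgHom.ext
    intro r
    change B.res (g r) = resR r
    rw [← Art.res_app p' (g r), hg₁ r]
    exact AlgHom.congr_fun φ'.2 r
  refine ⟨⟨ψ, hψ⟩, ?_, ?_⟩
  · exact Subtype.ext (AlgHom.ext fun r => hg₁ r)
  · exact Subtype.ext (AlgHom.ext fun r => hg₂ r)

theorem surjective_fst_of_isFibreProd (h : IsFibreProd p' p'' f' f'')
    (hf : Function.Surjective f'') : Function.Surjective p' := by
  intro a'
  obtain ⟨a'', ha''⟩ := hf (f' a')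
  obtain ⟨b, hb, -⟩ := h.surj a' a'' ha''.symm
  exact ⟨b, hb⟩

theorem surjective_snd_of_isFibreProd (h : IsFibreProd p' p'' f' f'')
    (hf : Function.Surjective f') : Function.Surjective p'' := by
  intro a''
  obtain ⟨a', ha'⟩ := hf (f'' a'')
  obtain ⟨b, -, hb⟩ := h.surj a' a'' ha'
  exact ⟨b, hb⟩

end FibreProdHom

section Family

variable {R : Type u} [CommRing R] [Algebra Λ R] {resR : R →ₐ[Λ] k} {F : Art Λ k ⥤ Type v}

theorem toBase_surjective (A : Art Λ k) : Function.Surjective (toBase A) := A.res_surjective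

/-- `h_R(k)` is a singleton. -/
theorem homSet_base_eq (φ ψ : HomSet R resR (base Λ k)) : φ = ψ := by
  apply Subtype.ext
  have e1 : φ.1 = resR := (AlgHom.id_comp _).symm.trans φ.2
  have e2 : ψ.1 = resR := (AlgHom.id_comp _).symm.trans ψ.2
  rw [e1, e2]

def homSetBase : HomSet R resR (base Λ k) := ⟨resR, AlgHom.id_comp _⟩

/-- The S1 type statement for a versal family with surjective components. -/
theorem cmp_surjective_of_isVersal (ξ : Family R resR F) (hξ : IsVersal ξ)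
    (hsurj : ∀ A : Art Λ k, Function.Surjective (ξ.app A))
    {B A A' A'' : Art Λ k} {p' : B ⟶ A'} {p'' : B ⟶ A''} {f' : A' ⟶ A} {f'' : A'' ⟶ A}
    (h : IsFibreProd p' p'' f' f'') (hf : Function.Surjective f'') :
    Function.Surjective (cmp F h) := by
  rintro ⟨⟨x', x''⟩, hx⟩
  dsimp only at hx
  obtain ⟨φ', hφ'⟩ := hsurj A' x'
  have h1 : F.map f'' x'' = ξ.app A (HomSet.map f' φ') := by
    rw [ξ.natural, hφ', hx]
  obtain ⟨ψ'', hψ''₁, hψ''₂⟩ := hξ f'' hf (HomSet.map f' φ') x'' h1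
  obtain ⟨ψ, hψ₁, hψ₂⟩ := exists_homSet_lift_of_isFibreProd h φ' ψ'' hψ''₁.symm
  refine ⟨ξ.app B ψ, ?_⟩
  apply FibProd.ext
  · change F.map p' (ξ.app B ψ) = x'
    rw [← ξ.natural, hψ₁, hφ']
  · change F.map p'' (ξ.app B ψ) = x''
    rw [← ξ.natural, hψ₂, hψ''₂]

theorem h0_of_surjective (ξ : Family R resR F)
    (hsurj : ∀ A : Art Λ k, Function.Surjective (ξ.app A)) : H0 F := by
  refine ⟨⟨ξ.app _ homSetBase⟩, ⟨fun x y => ?_⟩⟩
  obtain ⟨φ, rfl⟩ := hsurj _ x
  obtain ⟨ψ, rfl⟩ := hsurj _ y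
  rw [homSet_base_eq φ ψ]

end Family

end Groth.Agent.Helper18
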