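import Groth.Prelude.Def_W4sfdMinVersal
import Groth.Agent.Lib.Helper18.ArtFunComplete
import Groth.Agent.Lib.Helper18.ArtFunTorsor

/-!
Minimal versal families: pushforward of formal elements vs transport of families.
-/

set_option autoImplicit false
universe u v
open CategoryTheory

namespace Groth.Agent.Helper18

open ArtFun ArtFun.Art

variable {Λ : Type u} {k : Type u} [CommRing Λ] [Field k] [Algebra Λ k]
variable {F : Art Λ k ⥤ Type v}

theorem push_toFormalElt {R' R : CRing Λ k} (ξ : Family R'.carrier R'.res F)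
    (f : R'.carrier →ₐ[Λ] R.carrier) (hf : R.res.comp f = R'.res) :
    (ξ.toFormalElt).push f hf = (ξ.along f hf).toFormalElt := by
  apply FormalElt.ext'
  intro n
  change F.map (CRing.truncMapOfHom f hf n) (ξ.app _ (R'.truncHom n)) = ξ.app _ _
  rw [← ξ.natural]
  congr 1

/-- a versal family of a functor with `F(k)` a point dominates every family -/
theorem exists_along_eq_of_isVersal' (h0 : H0 F) {R₂ R₁ : CRing Λ k}
    (ξ₂ : Family R₂.carrier R₂.res F) (hξ₂ : IsVersal ξ₂) (ξ₁ : Family R₁.carrier R₁.res F) :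
    ∃ (φ : R₂.carrier →ₐ[Λ] R₁.carrier) (hφ : R₁.res.comp φ = R₂.res), ξ₂.along φ hφ = ξ₁ :=
  exists_along_eq_of_isVersal ξ₂ hξ₂ (surjective_app_of_isVersal h0 ξ₂ hξ₂) R₁ ξ₁

end Groth.Agent.Helper18
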