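import Mathlib
import Groth.Prelude.Def_Red

/-!
# Points of a base-changed group scheme (helper18)

For `g : U ⟶ S`, `G` a group scheme over `S` and `T` over `U`, sending a `T`-point `a` of
`G ×_S U` to the `S`-point `a ≫ pr₁` of `G` is multiplicative.
-/

set_option autoImplicit false
universe u
open CategoryTheory CategoryTheory.Limits MonoidalCategory CartesianMonoidalCategory MonObj
  AlgebraicGeometry

noncomputable section

namespace Groth.Agent.Helper18.BcPts

variable {S U : Scheme.{u}} (g : U ⟶ S) (G : Over S)

/-- the `S`-point of `G` underlying a `U`-point of the base change -/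
def dn {T : Over U} (a : T ⟶ Red.bc g G) : (Over.map g).obj T ⟶ G :=
  Over.homMk (a.left ≫ pullback.fst G.hom g) (by
    have h := Over.w a
    change a.left ≫ pullback.snd G.hom g = T.hom at h
    change (a.left ≫ pullback.fst G.hom g) ≫ G.hom = T.hom ≫ g
    rw [Category.assoc, pullback.condition, ← Category.assoc, h])

theorem dn_left {T : Over U} (a : T ⟶ Red.bc g G) :
    (dn g G a).left = a.left ≫ pullback.fst G.hom g := rfl

theorem dn_comp {T T' : Over U} (c : T' ⟶ T) (a : T ⟶ Red.bc g G) :
    dn g G (c ≫ a) = (Over.map g).map c ≫ dn g G a := by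
  apply Over.OverMorphism.ext
  simp [dn_left]

variable [GrpObj G]

theorem dn_mul {T : Over U} (a b : T ⟶ Red.bc g G) :
    dn g G (a * b) = dn g G a * dn g G b := by
  apply Over.OverMorphism.ext
  have hab : a * b = lift a b ≫ μ[Red.bc g G] := rfl
  have hab' : dn g G a * dn g G b = lift (dn g G a) (dn g G b) ≫ μ[G] := rfl
  rw [dn_left, hab, hab', Over.comp_left, Over.comp_left]
  have hμ : μ[Red.bc g G] = Functor.LaxMonoidal.μ (Over.pullback g) G G ≫
      (Over.pullback g).map μ[G] := rfl
  rw [hμ, Over.comp_left]
  have hmap : ((Over.pullback g).map μ[G]).left ≫ pullback.fst G.hom g =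
      pullback.fst (G ⊗ G).hom g ≫ μ[G].left := by
    simp only [Over.pullback, Over.homMk_left]
    exact pullback.lift_fst _ _ _
  rw [Category.assoc, Category.assoc, hmap, ← Category.assoc, ← Category.assoc]
  congr 1
  apply pullback.hom_ext
  · rw [Category.assoc, Category.assoc, Over.μ_pullback_left_fst_fst, ← Category.assoc]
    have h1 : (lift a b).left ≫ pullback.fst (Red.bc g G).hom (Red.bc g G).hom = a.left := by
      rw [← Over.fst_left, ← Over.comp_left, lift_fst]
    have h2 : (lift (dn g G a) (dn g G b)).left ≫ pullback.fst G.hom G.hom = (dn g G a).left := by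
      rw [← Over.fst_left, ← Over.comp_left, lift_fst]
    rw [h1, h2, dn_left]
  · rw [Category.assoc, Category.assoc, Over.μ_pullback_left_fst_snd, ← Category.assoc]
    have h1 : (lift a b).left ≫ pullback.snd (Red.bc g G).hom (Red.bc g G).hom = b.left := by
      rw [← Over.snd_left, ← Over.comp_left, lift_snd]
    have h2 : (lift (dn g G a) (dn g G b)).left ≫ pullback.snd G.hom G.hom = (dn g G b).left := by
      rw [← Over.snd_left, ← Over.comp_left, lift_snd]
    rw [h1, h2, dn_left]

end Groth.Agent.Helper18.BcPts
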