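import Groth.Agent.Lib.Helper18.DSPts
import Groth.Agent.Lib.Helper13.GaPts

/-!
# Homomorphisms from diagonalisable groups to the additive group are trivial (helper18)
-/

set_option autoImplicit false
universe u
open CategoryTheory CategoryTheory.Limits MonoidalCategory CartesianMonoidalCategory MonObj
  AlgebraicGeometry

noncomputable section

namespace Groth.Agent.Helper18.MultToGa

section Alg

variable {B : Type u} [CommRing B] {G : Type} [CommGroup G]

/-- the diagonal and the two inclusions `G → G × G` -/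
def dG : G →* G × G := MonoidHom.prod (MonoidHom.id G) (MonoidHom.id G)
def i1 : G →* G × G := MonoidHom.inl G G
def i2 : G →* G × G := MonoidHom.inr G G

theorem dG_eq (g : G) : dG g = i1 g * i2 g := by
  simp [dG, i1, i2]

/-- a "primitive" element of a group algebra vanishes -/
theorem eq_zero_of_primitive (x : MonoidAlgebra B G)
    (h : MonoidAlgebra.mapDomainRingHom B (dG (G := G)) x =
      MonoidAlgebra.mapDomainRingHom B (i1 (G := G)) x +
        MonoidAlgebra.mapDomainRingHom B (i2 (G := G)) x) : x = 0 := by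
  have hd : Function.Injective (dG (G := G)) := fun a b hab => (Prod.ext_iff.1 hab).1
  have h1 : Function.Injective (i1 (G := G)) := fun a b hab => (Prod.ext_iff.1 hab).1
  have h2 : Function.Injective (i2 (G := G)) := fun a b hab => (Prod.ext_iff.1 hab).2
  have h' : Finsupp.mapDomain (dG (G := G)) x.coeff =
      Finsupp.mapDomain (i1 (G := G)) x.coeff + Finsupp.mapDomain (i2 (G := G)) x.coeff :=
    congrArg MonoidAlgebra.coeff h
  classical
  have key : ∀ g : G, x.coeff g =
      (if g = 1 then x.coeff 1 else 0) + (if g = 1 then x.coeff 1 else 0) := by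
    intro g
    have := congrArg (fun f => f (dG g)) h'
    simp only [Finsupp.add_apply] at this
    rw [Finsupp.mapDomain_apply hd] at this
    rw [this]
    congr 1
    · by_cases hg : g = 1
      · subst hg
        rw [if_pos rfl]
        exact Finsupp.mapDomain_apply h1 x.coeff 1
      · rw [if_neg hg]
        apply Finsupp.mapDomain_notin_range
        rintro ⟨a, ha⟩
        exact hg (Prod.ext_iff.1 ha).2.symm
    · by_cases hg : g = 1
      · subst hg
        rw [if_pos rfl]
        exact Finsupp.mapDomain_apply h2 x.coeff 1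
      · rw [if_neg hg]
        apply Finsupp.mapDomain_notin_range
        rintro ⟨a, ha⟩
        exact hg (Prod.ext_iff.1 ha).1.symm
  have h10 : x.coeff 1 = 0 := by
    have := key 1
    simp only [if_true] at this
    have h'' : x.coeff 1 + 0 = x.coeff 1 + x.coeff 1 := by rw [add_zero]; exact this
    exact (add_left_cancel h'').symm
  apply MonoidAlgebra.coeff_injective
  ext g
  rw [key g]
  by_cases hg : g = 1
  · rw [if_pos hg, h10, add_zero]; rfl
  · rw [if_neg hg, add_zero]; rfl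

end Alg

section PartA

open Groth.Agent.Helper13 Groth.Agent.Helper18

variable {U : Scheme.{u}} {M : Type} [AddCommGroup M]

/-- the point of `D_U(M)` over `Spec C` attached to a character with values in `C` -/
def pt {C : CommRingCat.{u}} (τ : Spec C ⟶ U) (ψ : Multiplicative M →* C) :
    Over.mk τ ⟶ Red.DS U M :=
  DSPts.ptOfChar (((Scheme.ΓSpecIso C).inv.hom : C →* Γ(Spec C, ⊤)).comp ψ)

/-- the function attached to a character by a morphism `D_U(M) ⟶ 𝔾_a` -/
def F (φ : Red.DS U M ⟶ Red.Ga U) {C : CommRingCat.{u}} (τ : Spec C ⟶ U)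
    (ψ : Multiplicative M →* C) : C :=
  (Scheme.ΓSpecIso C).hom (Red.gaFn (pt τ ψ ≫ φ))

theorem pt_comp {C C' : CommRingCat.{u}} (h : C ⟶ C') (τ : Spec C ⟶ U)
    (ψ : Multiplicative M →* C) :
    (Over.homMk (Spec.map h) rfl : Over.mk (Spec.map h ≫ τ) ⟶ Over.mk τ) ≫ pt τ ψ =
      pt (Spec.map h ≫ τ) ((h.hom : C →* C').comp ψ) := by
  unfold pt
  rw [DSPts.ptOfChar_comp]
  congr 1
  ext m
  have := Scheme.ΓSpecIso_inv_naturality h
  exact (congrArg (fun k => k.hom (ψ m)) this).symm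

theorem F_comp (φ : Red.DS U M ⟶ Red.Ga U) {C C' : CommRingCat.{u}} (h : C ⟶ C')
    (τ : Spec C ⟶ U) (ψ : Multiplicative M →* C) :
    F φ (Spec.map h ≫ τ) ((h.hom : C →* C').comp ψ) = h.hom (F φ τ ψ) := by
  unfold F
  rw [← pt_comp, Category.assoc, GaPts.gaFn_comp]
  exact congrArg (fun k => k.hom (Red.gaFn (pt τ ψ ≫ φ))) (Scheme.ΓSpecIso_naturality h)

theorem F_comp' (φ : Red.DS U M ⟶ Red.Ga U) {C C' : CommRingCat.{u}} (h : C ⟶ C')
    (τ : Spec C ⟶ U) (τ' : Spec C' ⟶ U) (hτ : τ' = Spec.map h ≫ τ) (ψ : Multiplicative M →* C) :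
    F φ τ' ((h.hom : C →* C').comp ψ) = h.hom (F φ τ ψ) := by
  subst hτ
  exact F_comp φ h τ ψ

theorem F_mul (φ : Red.DS U M ⟶ Red.Ga U) [IsMonHom φ] {C : CommRingCat.{u}} (τ : Spec C ⟶ U)
    (ψ ψ' : Multiplicative M →* C) : F φ τ (ψ * ψ') = F φ τ ψ + F φ τ ψ' := by
  unfold F
  have : pt τ (ψ * ψ') = pt τ ψ * pt τ ψ' := by
    unfold pt
    rw [← DSPts.ptOfChar_mul, MonoidHom.comp_mul]
  rw [this, MonObj.mul_comp (pt τ ψ) (pt τ ψ') φ, GaPts.gaFn_mul, map_add]

theorem F_eq_zero (φ : Red.DS U M ⟶ Red.Ga U) [IsMonHom φ] {B : CommRingCat.{u}}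
    (τ : Spec B ⟶ U) (ψ : Multiplicative M →* B) : F φ τ ψ = 0 := by
  let G := Multiplicative M
  let A : CommRingCat.{u} := CommRingCat.of (MonoidAlgebra B G)
  let A₂ : CommRingCat.{u} := CommRingCat.of (MonoidAlgebra B (G × G))
  let ιA : B ⟶ A := CommRingCat.ofHom (MonoidAlgebra.singleOneRingHom)
  let ιA₂ : B ⟶ A₂ := CommRingCat.ofHom (MonoidAlgebra.singleOneRingHom)
  let ofA : G →* A := MonoidAlgebra.of B G
  let d : A ⟶ A₂ := CommRingCat.ofHom (MonoidAlgebra.mapDomainRingHom B (dG (G := G)))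
  let j1 : A ⟶ A₂ := CommRingCat.ofHom (MonoidAlgebra.mapDomainRingHom B (i1 (G := G)))
  let j2 : A ⟶ A₂ := CommRingCat.ofHom (MonoidAlgebra.mapDomainRingHom B (i2 (G := G)))
  have hι : ∀ f : G →* G × G,
      ιA ≫ CommRingCat.ofHom (MonoidAlgebra.mapDomainRingHom B f) = ιA₂ := by
    intro f
    apply CommRingCat.hom_ext
    apply RingHom.ext
    intro b
    show MonoidAlgebra.mapDomain f (MonoidAlgebra.single 1 b) = MonoidAlgebra.single 1 b
    rw [MonoidAlgebra.mapDomain_single, map_one]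
  obtain ⟨x, hx⟩ : ∃ x : A, x = F φ (Spec.map ιA ≫ τ) ofA := ⟨_, rfl⟩
  have hτ : ∀ f : G →* G × G, Spec.map ιA₂ ≫ τ =
      Spec.map (CommRingCat.ofHom (MonoidAlgebra.mapDomainRingHom B f)) ≫ Spec.map ιA ≫ τ := by
    intro f
    rw [← Spec.map_comp_assoc, hι f]
  have e0 := F_comp' φ d (Spec.map ιA ≫ τ) (Spec.map ιA₂ ≫ τ) (hτ _) ofA
  have e1 := F_comp' φ j1 (Spec.map ιA ≫ τ) (Spec.map ιA₂ ≫ τ) (hτ _) ofA
  have e2 := F_comp' φ j2 (Spec.map ιA ≫ τ) (Spec.map ιA₂ ≫ τ) (hτ _) ofA
  have hmul : (d.hom : A →* A₂).comp ofA = (j1.hom : A →* A₂).comp ofA * (j2.hom : A →* A₂).comp ofA := by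
    apply MonoidHom.ext
    intro m
    show MonoidAlgebra.mapDomain (dG (G := G)) (MonoidAlgebra.single m (1 : B) : MonoidAlgebra B G) =
      MonoidAlgebra.mapDomain (i1 (G := G)) (MonoidAlgebra.single m (1 : B) : MonoidAlgebra B G) *
        MonoidAlgebra.mapDomain (i2 (G := G)) (MonoidAlgebra.single m (1 : B) : MonoidAlgebra B G)
    rw [MonoidAlgebra.mapDomain_single, MonoidAlgebra.mapDomain_single,
      MonoidAlgebra.mapDomain_single, MonoidAlgebra.single_mul_single, dG_eq, _root_.mul_one]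
  rw [hmul, F_mul, e1, e2, ← hx] at e0
  have hx0 : x = 0 := eq_zero_of_primitive x e0.symm
  -- evaluate
  let ev : A ⟶ B := CommRingCat.ofHom (MonoidAlgebra.lift B B G ψ).toRingHom
  have hev : ιA ≫ ev = 𝟙 B := by
    apply CommRingCat.hom_ext
    apply RingHom.ext
    intro b
    show MonoidAlgebra.lift B B G ψ (MonoidAlgebra.single 1 b) = b
    rw [MonoidAlgebra.lift_single, map_one, smul_eq_mul, _root_.mul_one]
  have hτ' : τ = Spec.map ev ≫ Spec.map ιA ≫ τ := by
    rw [← Spec.map_comp_assoc, hev, Spec.map_id, Category.id_comp]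
  have e3 := F_comp' φ ev (Spec.map ιA ≫ τ) τ hτ' ofA
  have hψ : (ev.hom : A →* B).comp ofA = ψ := by
    apply MonoidHom.ext
    intro m
    show MonoidAlgebra.lift B B G ψ (MonoidAlgebra.of B G m) = ψ m
    rw [MonoidAlgebra.lift_of]
  rw [hψ, ← hx, hx0, map_zero] at e3
  exact e3

theorem gaFn_comp_eq_zero_of_affine (φ : Red.DS U M ⟶ Red.Ga U) [IsMonHom φ]
    {B : CommRingCat.{u}} (τ : Spec B ⟶ U) (t : Over.mk τ ⟶ Red.DS U M) :
    Red.gaFn (t ≫ φ) = 0 := by
  let ψ : Multiplicative M →* B :=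
    ((Scheme.ΓSpecIso B).hom.hom : Γ(Spec B, ⊤) →* B).comp (DSPts.charOfPt t)
  have hpt : pt τ ψ = t := by
    unfold pt
    have : ((Scheme.ΓSpecIso B).inv.hom : B →* Γ(Spec B, ⊤)).comp ψ = DSPts.charOfPt t := by
      apply MonoidHom.ext
      intro m
      show (Scheme.ΓSpecIso B).inv.hom ((Scheme.ΓSpecIso B).hom.hom (DSPts.charOfPt t m)) = _
      exact congrArg (fun k => k.hom (DSPts.charOfPt t m)) (Scheme.ΓSpecIso B).hom_inv_id
    rw [this, DSPts.ptOfChar_charOfPt]
  have h0 := F_eq_zero φ τ ψ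
  unfold F at h0
  rw [hpt] at h0
  have hinj : Function.Injective (Scheme.ΓSpecIso B).hom.hom := by
    intro a b hab
    have := congrArg (Scheme.ΓSpecIso B).inv.hom hab
    have ha := congrArg (fun k => k.hom a) (Scheme.ΓSpecIso B).hom_inv_id
    have hb := congrArg (fun k => k.hom b) (Scheme.ΓSpecIso B).hom_inv_id
    simp only [CommRingCat.hom_comp, RingHom.comp_apply, CommRingCat.hom_id, RingHom.id_apply]
      at ha hb
    rw [← ha, ← hb]
    exact this
  apply hinj
  rw [map_zero]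
  exact h0

/-- every homomorphism from a diagonalisable group to the additive group is trivial -/
theorem hom_DS_Ga_eq_one (φ : Red.DS U M ⟶ Red.Ga U) [IsMonHom φ] : φ = 1 := by
  apply GaPts.eq_of_gaFn_eq
  rw [GaPts.gaFn_one]
  apply Scheme.zero_of_zero_cover _ (Red.DS U M).left.affineOpenCover.openCover
  intro i
  have := gaFn_comp_eq_zero_of_affine φ
    ((Red.DS U M).left.affineOpenCover.openCover.f i ≫ (Red.DS U M).hom)
    (Over.homMk ((Red.DS U M).left.affineOpenCover.openCover.f i) rfl)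
  rw [GaPts.gaFn_comp] at this
  exact this

end PartA

end Groth.Agent.Helper18.MultToGa
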