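import Groth.Agent.Lib.Helper18.GrpFppf2
import Groth.Agent.Lib.Helper22.GrpYoneda

/-!
# Descending morphisms along quotient maps of group schemes (helper18)
-/

set_option autoImplicit false
universe u
open CategoryTheory CategoryTheory.Limits MonoidalCategory CartesianMonoidalCategory MonObj
  AlgebraicGeometry

namespace Groth.Agent.Helper18.GrpFppf

variable {S : Scheme.{u}}

theorem epi_of_flat_surjective {X Y : Over S} (c : X ⟶ Y) [Flat c.left] [Surjective c.left] :
    Epi c := by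
  haveI : Epi c.left := Flat.epi_of_flat_of_surjective c.left
  exact Over.epi_of_epi_left c

/-- descent of a morphism along an effective epimorphism, via points -/
theorem exists_desc_of_cover {G Q H : Over S} (q : G ⟶ Q) [EffectiveEpi q.left] (φ : G ⟶ H)
    (hφ : ∀ {T : Over S} (g₁ g₂ : T ⟶ G), g₁ ≫ q = g₂ ≫ q → g₁ ≫ φ = g₂ ≫ φ) :
    ∃ φ' : Q ⟶ H, q ≫ φ' = φ := by
  let f₀ : Q.left ⟶ H.left := EffectiveEpi.desc q.left φ.left (by
    intro Z g₁ g₂ hg
    let T : Over S := Over.mk (g₁ ≫ G.hom)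
    let g₁' : T ⟶ G := Over.homMk g₁ rfl
    have h2 : g₂ ≫ G.hom = g₁ ≫ G.hom := by
      rw [← Over.w q, ← Category.assoc, ← hg, Category.assoc]
    let g₂' : T ⟶ G := Over.homMk g₂ h2
    have hq : g₁' ≫ q = g₂' ≫ q := by
      apply Over.OverMorphism.ext
      show g₁ ≫ q.left = g₂ ≫ q.left
      exact hg
    have := congrArg (fun f => f.left) (hφ g₁' g₂' hq)
    exact this)
  have hfac : q.left ≫ f₀ = φ.left := EffectiveEpi.fac q.left φ.left _
  haveI : Epi q.left := inferInstance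
  refine ⟨Over.homMk f₀ ?_, ?_⟩
  · rw [← cancel_epi q.left, ← Category.assoc, hfac, Over.w φ, Over.w q]
  · ext; simpa using hfac

/-- a morphism out of a quotient group is a homomorphism if its composite with the quotient map
is -/
theorem isMonHom_of_comp {G Q H : Over S} [GrpObj G] [GrpObj Q] [GrpObj H] (q : G ⟶ Q)
    [IsMonHom q] [Flat q.left] [Surjective q.left] [QuasiCompact q.left] (φ' : Q ⟶ H)
    [IsMonHom (q ≫ φ')] : IsMonHom φ' := by
  apply Groth.Agent.Helper22.GrpYoneda.isMonHom_of_points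
  · have h1 : η[G] ≫ q = η[Q] := IsMonHom.one_hom (f := q)
    have h2 : η[G] ≫ (q ≫ φ') = η[H] := IsMonHom.one_hom (f := q ≫ φ')
    rw [← h1, Category.assoc, h2]
  · obtain ⟨T', c, g, -, hcf, hcs, -, hg⟩ := exists_cover_lift q (fst Q Q)
    haveI := hcf
    haveI := hcs
    obtain ⟨T'', c', g', -, hcf', hcs', -, hg'⟩ := exists_cover_lift q (c ≫ snd Q Q)
    haveI := hcf'
    haveI := hcs'
    haveI : Epi c := epi_of_flat_surjective c
    haveI : Epi c' := epi_of_flat_surjective c'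
    rw [← cancel_epi c, ← cancel_epi c']
    have e1 : c' ≫ c ≫ fst Q Q = (c' ≫ g) ≫ q := by rw [Category.assoc, hg]
    have e2 : c' ≫ c ≫ snd Q Q = g' ≫ q := hg'.symm
    calc c' ≫ c ≫ (fst Q Q * snd Q Q) ≫ φ'
        = ((c' ≫ c ≫ fst Q Q) * (c' ≫ c ≫ snd Q Q)) ≫ φ' := by
          rw [← Category.assoc, ← Category.assoc, Category.assoc c' c, MonObj.comp_mul,
            MonObj.comp_mul]
      _ = (((c' ≫ g) * g') ≫ q) ≫ φ' := by rw [e1, e2, ← MonObj.mul_comp (c' ≫ g) g' q]
      _ = ((c' ≫ g) ≫ (q ≫ φ')) * (g' ≫ (q ≫ φ')) := by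
          rw [Category.assoc]
          exact MonObj.mul_comp _ _ (q ≫ φ')
      _ = ((c' ≫ c ≫ fst Q Q) ≫ φ') * ((c' ≫ c ≫ snd Q Q) ≫ φ') := by
          rw [e1, e2]; simp only [Category.assoc]
      _ = c' ≫ c ≫ ((fst Q Q ≫ φ') * (snd Q Q ≫ φ')) := by
          rw [MonObj.comp_mul, MonObj.comp_mul]
          simp only [Category.assoc]

end Groth.Agent.Helper18.GrpFppf
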