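import Groth.Agent.Lib.Helper18.StalkBC3

/-!
# Geometric pointwise integrality over an algebraically closed field (helper18)
-/

set_option autoImplicit false
universe u
open CategoryTheory CategoryTheory.Limits AlgebraicGeometry
open scoped TensorProduct

namespace Groth.Agent.Helper18.StalkBC

variable {k : Type u} [Field k] {X : Scheme.{u}} (f : X ⟶ Spec (CommRingCat.of k))
  (K : Type u) [Field K] [Algebra k K]

theorem isDomain_stalk_of_isDomain_tensor_gen {A : Type u} [CommRing A] [Algebra k A]
    (j : Spec (CommRingCat.of A) ⟶ X)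
    (hj : j ≫ f = Spec.map (CommRingCat.ofHom (algebraMap k A))) [Flat j] [IsPreimmersion j]
    (h : IsDomain (A ⊗[k] K))
    (x' : ↥(FBase.bc f K)) (hx' : (FBase.bcπ f K).base x' ∈ Set.range j) :
    IsDomain ((FBase.bc f K).presheaf.stalk x') := by
  obtain ⟨a, ha⟩ := hx'
  obtain ⟨z, -, hz⟩ := Scheme.Pullback.exists_preimage_pullback
    (f := j) (g := FBase.bcπ f K) a x' ha
  haveI : IsIntegral (Spec (CommRingCat.of (A ⊗[k] K))) := by
    rw [affine_isIntegral_iff]; exact h
  haveI : Nonempty ↥(pullback j (FBase.bcπ f K)) := ⟨z⟩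
  haveI : IsIntegral (pullback j (FBase.bcπ f K)) :=
    isIntegral_of_isOpenImmersion (isoW f K j hj).hom
  have h1 : IsDomain ((pullback j (FBase.bcπ f K)).presheaf.stalk z) := inferInstance
  have h2 := (isDomain_stalk_iff (pullback.snd j (FBase.bcπ f K)) z).mp h1
  rw [show (pullback.snd j (FBase.bcπ f K)) z = x' from hz] at h2
  exact h2

theorem isDomain_stalk_of_isDomain_tensor (x : X)
    (h : letI := stalkAlg f x; IsDomain ((X.presheaf.stalk x) ⊗[k] K))
    (x' : ↥(FBase.bc f K)) (hx' : (FBase.bcπ f K).base x' ⤳ x) :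
    IsDomain ((FBase.bc f K).presheaf.stalk x') := by
  letI := stalkAlg f x
  let j : Spec (CommRingCat.of (X.presheaf.stalk x)) ⟶ X := X.fromSpecStalk x
  haveI : Flat j := inferInstanceAs (Flat (X.fromSpecStalk x))
  haveI : IsPreimmersion j := inferInstanceAs (IsPreimmersion (X.fromSpecStalk x))
  have hj : j ≫ f = Spec.map (CommRingCat.ofHom (algebraMap k (X.presheaf.stalk x))) :=
    fromSpecStalk_comp f x
  refine isDomain_stalk_of_isDomain_tensor_gen f K j hj h x' ?_
  show (FBase.bcπ f K).base x' ∈ Set.range (X.fromSpecStalk x)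
  rw [Scheme.range_fromSpecStalk]; exact hx'

/-- over an algebraically closed field, pointwise integrality is geometric -/
theorem isGeomPtIntegralAt_iff_isDomain [IsAlgClosed k] (x : X) :
    FBase.IsGeomPtIntegralAt f x ↔ IsDomain (X.presheaf.stalk x) := by
  constructor
  · intro h
    -- take K = k
    haveI : IsIso (Spec.map (CommRingCat.ofHom (algebraMap k k))) := by
      have : CommRingCat.ofHom (algebraMap k k) = 𝟙 _ := rfl
      rw [this, Spec.map_id]; infer_instance
    haveI : IsIso (FBase.bcπ f k) :=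
      pullback_fst_iso_of_right_iso f (Spec.map (CommRingCat.ofHom (algebraMap k k)))
    let x' : ↥(FBase.bc f k) := (inv (FBase.bcπ f k)) x
    have hx' : (FBase.bcπ f k).base x' = x := by
      show ((inv (FBase.bcπ f k)) ≫ FBase.bcπ f k) x = x
      rw [IsIso.inv_hom_id]; rfl
    have h1 := h k x' hx'
    have h2 := (isDomain_stalk_iff (FBase.bcπ f k) x').mp h1
    rw [hx'] at h2
    exact h2
  · intro h K _ _ x' hx'
    letI := stalkAlg f x
    refine isDomain_stalk_of_isDomain_tensor f K x ?_ x' (hx' ▸ specializes_rfl)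
    haveI : IsDomain (K ⊗[k] (X.presheaf.stalk x)) :=
      Groth.Agent.Helper28.GeomDomain.isDomain_tensorProduct k K (X.presheaf.stalk x)
    exact (Algebra.TensorProduct.comm k (X.presheaf.stalk x) K).injective.isDomain
      (Algebra.TensorProduct.comm k (X.presheaf.stalk x) K).toRingEquiv.toRingHom

end Groth.Agent.Helper18.StalkBC
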