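import Mathlib
import Groth.Prelude.Def_AlgGrp

/-!
# Points with values in an algebraically closed extension (helper18)
-/

set_option autoImplicit false
universe u
open CategoryTheory CategoryTheory.Limits MonoidalCategory CartesianMonoidalCategory MonObj
  AlgebraicGeometry

namespace Groth.Agent.Helper18.KPts

variable {k K : Type u} [Field k] [Field K] [Algebra k K]

/-- the structure morphism of `Spec K` over `Spec k` -/
noncomputable abbrev cK (k K : Type u) [Field k] [Field K] [Algebra k K] :
    Spec (CommRingCat.of K) ⟶ Spec (CommRingCat.of k) :=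
  Spec.map (CommRingCat.ofHom (algebraMap k K))

/-- `Spec K` as an object over `Spec k` -/
noncomputable abbrev objK (k K : Type u) [Field k] [Field K] [Algebra k K] :
    Over (Spec (CommRingCat.of k)) := Over.mk (cK k K)

instance surjective_cK : Surjective (cK k K) := by
  rw [surjective_iff]
  intro x
  exact ⟨IsLocalRing.closedPoint K, Subsingleton.elim (α := PrimeSpectrum k) _ _⟩

theorem jacobsonSpace_of_lft (Y : Over (Spec (CommRingCat.of k))) [LocallyOfFiniteType Y.hom] :
    JacobsonSpace Y.left := LocallyOfFiniteType.jacobsonSpace Y.hom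

variable [IsAlgClosed K]

/-- a closed point of a `k`-scheme locally of finite type is the image of a `K`-point -/
theorem exists_kpt_of_isClosed (Y : Over (Spec (CommRingCat.of k))) [LocallyOfFiniteType Y.hom]
    (y : Y.left) (hy : IsClosed ({y} : Set Y.left)) :
    ∃ p : objK k K ⟶ Y, ∀ t, p.left t = y := by
  let pr := pullback.fst Y.hom (cK k K)
  let s := pullback.snd Y.hom (cK k K)
  haveI : LocallyOfFiniteType s := inferInstance
  haveI : JacobsonSpace ↥(pullback Y.hom (cK k K)) := LocallyOfFiniteType.jacobsonSpace s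
  haveI : Surjective pr := inferInstance
  obtain ⟨z₀, hz₀⟩ := pr.surjective y
  have hZ : IsClosed (pr ⁻¹' {y}) := hy.preimage pr.continuous
  obtain ⟨z, hzZ, hz'⟩ := nonempty_inter_closedPoints (Z := pr ⁻¹' {y}) ⟨z₀, hz₀⟩
    hZ.isLocallyClosed
  have hz : IsClosed ({z} : Set ↥(pullback Y.hom (cK k K))) := hz'
  have h1 : pointOfClosedPoint s z hz ≫ s = 𝟙 _ := pointOfClosedPoint_comp s z hz
  refine ⟨Over.homMk (pointOfClosedPoint s z hz ≫ pr) ?_, ?_⟩
  · show (pointOfClosedPoint s z hz ≫ pr) ≫ Y.hom = cK k K
    rw [Category.assoc, pullback.condition, ← Category.assoc, h1, Category.id_comp]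
  · intro t
    show (pointOfClosedPoint s z hz ≫ pr) t = y
    have := pointOfClosedPoint_apply s z hz t
    rw [Scheme.Hom.comp_apply, this]
    exact hzZ

/-- a nonempty open subset of a `k`-scheme locally of finite type contains the image of a
`K`-point -/
theorem exists_kpt_mem_open (Y : Over (Spec (CommRingCat.of k))) [LocallyOfFiniteType Y.hom]
    (U : Set Y.left) (hU : IsOpen U) (hne : U.Nonempty) :
    ∃ p : objK k K ⟶ Y, ∀ t, p.left t ∈ U := by
  haveI := jacobsonSpace_of_lft Y
  obtain ⟨y, hyU, hy⟩ := nonempty_inter_closedPoints hne hU.isLocallyClosed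
  obtain ⟨p, hp⟩ := exists_kpt_of_isClosed (K := K) Y y hy
  exact ⟨p, fun t => by rw [hp t]; exact hyU⟩

/-- an open subset containing the images of all `K`-points is everything -/
theorem eq_univ_of_isOpen_of_kpts (Y : Over (Spec (CommRingCat.of k))) [LocallyOfFiniteType Y.hom]
    (W : Set Y.left) (hW : IsOpen W)
    (h : ∀ p : objK k K ⟶ Y, ∃ t, p.left t ∈ W) : W = Set.univ := by
  haveI := jacobsonSpace_of_lft Y
  by_contra hne
  have hne' : (Wᶜ).Nonempty := by
    rw [Set.nonempty_compl]; exact hne
  obtain ⟨y, hyW, hy⟩ := nonempty_inter_closedPoints hne' hW.isClosed_compl.isLocallyClosed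
  obtain ⟨p, hp⟩ := exists_kpt_of_isClosed (K := K) Y y hy
  obtain ⟨t, ht⟩ := h p
  rw [hp t] at ht
  exact hyW ht

/-- `K`-points lift along surjective morphisms of schemes locally of finite type -/
theorem exists_kpt_lift {X Y : Over (Spec (CommRingCat.of k))} [LocallyOfFiniteType X.hom]
    (f : X ⟶ Y) [Surjective f.left] (y : objK k K ⟶ Y) : ∃ x : objK k K ⟶ X, x ≫ f = y := by
  haveI : LocallyOfFiniteType f.left := by
    haveI : LocallyOfFiniteType (f.left ≫ Y.hom) := by rw [Over.w]; infer_instance
    exact locallyOfFiniteType_of_comp f.left Y.hom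
  let s := pullback.snd f.left y.left
  haveI : LocallyOfFiniteType s := inferInstance
  haveI : JacobsonSpace ↥(objK k K).left :=
    inferInstanceAs (JacobsonSpace ↥(Spec (CommRingCat.of K)))
  haveI : JacobsonSpace ↥(pullback f.left y.left) := LocallyOfFiniteType.jacobsonSpace s
  haveI : Surjective s := inferInstance
  obtain ⟨z₀, -⟩ := s.surjective (IsLocalRing.closedPoint K : PrimeSpectrum K)
  obtain ⟨z, -, hz'⟩ := nonempty_inter_closedPoints (X := ↥(pullback f.left y.left))
    (Z := Set.univ) ⟨z₀, trivial⟩ isOpen_univ.isLocallyClosed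
  have hz : IsClosed ({z} : Set ↥(pullback f.left y.left)) := hz'
  have h1 : pointOfClosedPoint s z hz ≫ s = 𝟙 _ := pointOfClosedPoint_comp s z hz
  have hw : (pointOfClosedPoint s z hz ≫ pullback.fst f.left y.left) ≫ f.left = y.left := by
    rw [Category.assoc, pullback.condition, ← Category.assoc, h1, Category.id_comp]
  refine ⟨Over.homMk (pointOfClosedPoint s z hz ≫ pullback.fst f.left y.left) ?_, ?_⟩
  · show (pointOfClosedPoint s z hz ≫ pullback.fst f.left y.left) ≫ X.hom = cK k K
    rw [← Over.w f, ← Category.assoc, hw]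
    exact Over.w y
  · ext
    exact hw

end Groth.Agent.Helper18.KPts
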