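import Mathlib
import Groth.Prelude
import Groth.Agent.Lib.Helper18.OrbitLC
import Groth.Agent.Lib.Helper18.KPts

set_option autoImplicit false
universe u
open CategoryTheory MonoidalCategory CartesianMonoidalCategory MonObj GrpObj AlgebraicGeometry Limits
open Groth.Agent.Helper28.AlgGrpShear
open Topology TopologicalSpace

namespace Groth.Agent.Helper18.OrbitClosed

open Groth.Agent.Helper18.OrbitLC

variable {k : Type u} [Field k]

/-- a subset stable under the action -/
def Stable {G X : Over (Spec (CommRingCat.of k))} [GrpObj G] (a : AlgGrp.Action G X)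
    (Z : Set X.left) : Prop :=
  ∀ z : (G ⊗ X).left, (snd G X).left z ∈ Z → a.act.left z ∈ Z

theorem Stable.iff {G X : Over (Spec (CommRingCat.of k))} [GrpObj G] {a : AlgGrp.Action G X}
    {Z : Set X.left} (hZ : Stable a Z) (z : (G ⊗ X).left) :
    a.act.left z ∈ Z ↔ (snd G X).left z ∈ Z := by
  refine ⟨fun h => ?_, hZ z⟩
  have h1 : (snd G X).left ((tw a).left z) = a.act.left z := by
    show (tw a ≫ snd G X).left z = _
    rw [tw_snd]
  have h2 : a.act.left ((tw a).left z) = (snd G X).left z := by
    show (tw a ≫ a.act).left z = _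
    rw [tw_act]
  rw [← h2]
  apply hZ
  rw [h1]
  exact h

theorem Stable.cl {G X : Over (Spec (CommRingCat.of k))} [GrpObj G] {a : AlgGrp.Action G X}
    {Z : Set X.left} (hZ : Stable a Z) : Stable a (closure Z) := by
  have hpre : a.act.left ⁻¹' Z = (snd G X).left ⁻¹' Z := by
    ext z
    exact hZ.iff z
  have hpre_cl : a.act.left ⁻¹' (closure Z) = (snd G X).left ⁻¹' (closure Z) := by
    rw [(isOpenMap_act a).preimage_closure_eq_closure_preimage a.act.left.continuous,
      (isOpenMap_snd G X).preimage_closure_eq_closure_preimage (snd G X).left.continuous, hpre]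
  intro z hz
  have : z ∈ (snd G X).left ⁻¹' (closure Z) := hz
  rw [← hpre_cl] at this
  exact this

theorem Stable.sdiff {G X : Over (Spec (CommRingCat.of k))} [GrpObj G] {a : AlgGrp.Action G X}
    {Z W : Set X.left} (hZ : Stable a Z) (hW : Stable a W) : Stable a (Z \ W) := by
  intro z hz
  exact ⟨hZ z hz.1, fun h => hz.2 ((hW.iff z).mp h)⟩

theorem stable_range_orbit {G X : Over (Spec (CommRingCat.of k))} [GrpObj G]
    (a : AlgGrp.Action G X) (x : 𝟙_ (Over (Spec (CommRingCat.of k))) ⟶ X) :
    Stable a (Set.range (a.orbitMap x).left) :=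
  fun z hz => act_mem_of_snd_mem a x z hz

theorem Stable.range_orbit_subset {G X : Over (Spec (CommRingCat.of k))} [GrpObj G]
    {a : AlgGrp.Action G X} {Z : Set X.left} (hZ : Stable a Z)
    (x : 𝟙_ (Over (Spec (CommRingCat.of k))) ⟶ X) (hx : ∀ t, x.left t ∈ Z) :
    Set.range (a.orbitMap x).left ⊆ Z := by
  rintro _ ⟨g, rfl⟩
  have e : a.orbitMap x = lift (𝟙 G) (toUnit G ≫ x) ≫ a.act := by
    have := Groth.Agent.Helper18.KerAct.comp_orbit a x (𝟙 G)
    rwa [Category.id_comp] at this
  have h1 : (a.orbitMap x).left g = a.act.left ((lift (𝟙 G) (toUnit G ≫ x)).left g) := by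
    rw [e]; rfl
  rw [h1]
  apply hZ
  have h2 : (snd G X).left ((lift (𝟙 G) (toUnit G ≫ x)).left g) = x.left ((toUnit G).left g) := by
    show (lift (𝟙 G) (toUnit G ≫ x) ≫ snd G X).left g = _
    rw [lift_snd]; rfl
  rw [h2]
  exact hx _

theorem main (k : Type u) [Field k] [IsAlgClosed k]
    (G X : Over (Spec (CommRingCat.of k))) [GrpObj G] [LocallyOfFiniteType G.hom]
    [QuasiCompact G.hom]
    [LocallyOfFiniteType X.hom] [QuasiCompact X.hom] [Nonempty ↥X.left]
    (a : AlgGrp.Action G X) :
    ∃ x : 𝟙_ (Over (Spec (CommRingCat.of k))) ⟶ X,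
      IsClosed (Set.range ⇑(a.orbitMap x).left.base) := by
  classical
  haveI : IsLocallyNoetherian X.left := LocallyOfFiniteType.isLocallyNoetherian X.hom
  haveI : CompactSpace X.left := QuasiCompact.compactSpace_of_compactSpace X.hom
  haveI : IsNoetherian X.left := {}
  haveI : NoetherianSpace X.left := inferInstance
  let F : Set (Closeds X.left) := {Z | (Z : Set X.left).Nonempty ∧ Stable a (Z : Set X.left)}
  have hF : F.Nonempty := ⟨⊤, Set.univ_nonempty, fun _ _ => trivial⟩
  obtain ⟨Z, ⟨hZne, hZst⟩, hZmin⟩ := wellFounded_lt.has_min F hF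
  -- rational point
  haveI := Groth.Agent.Helper18.KPts.jacobsonSpace_of_lft X
  obtain ⟨y, hyZ, hy⟩ := nonempty_inter_closedPoints hZne Z.isClosed.isLocallyClosed
  obtain ⟨p, hp⟩ := Groth.Agent.Helper18.KPts.exists_kpt_of_isClosed (K := k) X y hy
  have hc : Groth.Agent.Helper18.KPts.cK k k = 𝟙 _ := by
    show Spec.map (CommRingCat.ofHom (algebraMap k k)) = 𝟙 _
    rw [Algebra.algebraMap_self]
    exact Spec.map_id _
  let x : 𝟙_ (Over (Spec (CommRingCat.of k))) ⟶ X := Over.homMk p.left (by
    show p.left ≫ X.hom = 𝟙 _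
    rw [Over.w p]; exact hc)
  have hx : ∀ t, x.left t ∈ (Z : Set X.left) := fun t => by
    show p.left t ∈ _
    rw [hp t]; exact hyZ
  refine ⟨x, ?_⟩
  have hOdef : Set.range (a.orbitMap x).left.base = Set.range (a.orbitMap x).left := rfl
  have hOlc : IsLocallyClosed (Set.range (a.orbitMap x).left) :=
    Groth.Agent.Helper18.OrbitLC.main k G X a x
  rw [hOdef]
  set O := Set.range (a.orbitMap x).left with hO
  have hOZ : O ⊆ Z := hZst.range_orbit_subset x hx
  have hOst : Stable a O := stable_range_orbit a x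
  haveI : Nonempty (𝟙_ (Over (Spec (CommRingCat.of k)))).left :=
    inferInstanceAs (Nonempty (PrimeSpectrum k))
  have hOne : O.Nonempty :=
    ⟨(a.orbitMap x).left (η[G].left (Classical.arbitrary _)), ⟨_, rfl⟩⟩
  -- boundary
  have hbd : IsClosed (closure O \ O) := by
    have := hOlc.isOpen_coborder
    rw [coborder] at this
    exact isOpen_compl_iff.mp this
  by_contra hncl
  have hne : (closure O \ O).Nonempty := by
    rw [Set.nonempty_iff_ne_empty]
    intro h
    apply hncl
    rw [Set.sdiff_eq_empty] at h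
    have : closure O = O := Set.Subset.antisymm h subset_closure
    rw [← this]
    exact isClosed_closure
  have hmem : (⟨closure O \ O, hbd⟩ : Closeds X.left) ∈ F := ⟨hne, hOst.cl.sdiff hOst⟩
  apply hZmin _ hmem
  have hle : closure O ⊆ (Z : Set X.left) := closure_minimal hOZ Z.isClosed
  refine lt_of_le_of_ne (fun w hw => hle hw.1) ?_
  intro heq
  obtain ⟨o, ho⟩ := hOne
  have h1 : o ∈ (Z : Set X.left) := hOZ ho
  rw [← heq] at h1
  exact h1.2 ho

end Groth.Agent.Helper18.OrbitClosed
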