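import Mathlib

/-!
# Closed subfunctors from local ideals (helper18)
-/

set_option autoImplicit false
universe u

open CategoryTheory AlgebraicGeometry TopologicalSpace Opposite

noncomputable section

namespace Groth.Agent.Helper18.ClosedFun

variable {X : Scheme.{u}}

/-- A subfunctor `F` of `h_X` which is local on the source, stable under precomposition and cut
out on every affine open by an ideal (tested on affine schemes) is represented by a closed
subscheme. -/
theorem exists_idealSheaf (F : ∀ {T : Scheme.{u}}, (T ⟶ X) → Prop)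
    (h1 : ∀ {T T' : Scheme.{u}} (t : T' ⟶ T) (x : T ⟶ X), F x → F (t ≫ x))
    (h2 : ∀ {T : Scheme.{u}} (x : T ⟶ X) (𝒰 : Scheme.OpenCover.{u} T), (∀ i, F (𝒰.f i ≫ x)) → F x)
    (h3 : ∀ U : X.affineOpens, ∃ J : Ideal Γ(X, U),
      ∀ (A' : CommRingCat.{u}) (ψ : Γ(X, U) ⟶ A'),
        F (Spec.map ψ ≫ U.2.fromSpec) ↔ J ≤ RingHom.ker ψ.hom) :
    ∃ 𝒥 : X.IdealSheafData, F 𝒥.subschemeι ∧
      ∀ {T : Scheme.{u}} (x : T ⟶ X), F x → 𝒥 ≤ x.ker := by
  choose J hJ using h3
  have hmap : ∀ (U : X.affineOpens) (f : Γ(X, U)),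
      (J U).map (X.presheaf.map (homOfLE <| X.basicOpen_le f).op).hom =
        J (X.affineBasicOpen f) := by
    intro U f
    set V := X.affineBasicOpen f with hV
    set r : Γ(X, U) ⟶ Γ(X, V) := X.presheaf.map (homOfLE <| X.basicOpen_le f).op with hr
    have hrs : Spec.map r ≫ U.2.fromSpec = V.2.fromSpec := U.2.map_fromSpec V.2 _
    apply le_antisymm
    · rw [Ideal.map_le_iff_le_comap]
      have h := (hJ U _ (r ≫ CommRingCat.ofHom (Ideal.Quotient.mk (J V)))).mp (by
        rw [Spec.map_comp, Category.assoc, hrs]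
        exact (hJ V _ _).mpr (by
          rw [CommRingCat.hom_ofHom, Ideal.mk_ker]))
      intro s hs
      have := h hs
      rw [RingHom.mem_ker, CommRingCat.hom_comp, CommRingCat.hom_ofHom, RingHom.comp_apply,
        Ideal.Quotient.eq_zero_iff_mem] at this
      exact this
    · have h := (hJ V _ (CommRingCat.ofHom (Ideal.Quotient.mk ((J U).map r.hom)))).mp (by
        rw [← hrs, ← Category.assoc, ← Spec.map_comp]
        refine (hJ U _ _).mpr ?_
        intro s hs
        rw [RingHom.mem_ker, CommRingCat.hom_comp, CommRingCat.hom_ofHom, RingHom.comp_apply,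
          Ideal.Quotient.eq_zero_iff_mem]
        exact Ideal.mem_map_of_mem _ hs)
      rw [CommRingCat.hom_ofHom, Ideal.mk_ker] at h
      exact h
  let 𝒥 : X.IdealSheafData := { ideal := J, map_ideal_basicOpen := hmap }
  refine ⟨𝒥, ?_, ?_⟩
  · apply h2 _ 𝒥.subschemeCover.openCover
    intro U
    have e : 𝒥.subschemeCover.openCover.f U ≫ 𝒥.subschemeι =
        Spec.map (CommRingCat.ofHom (Ideal.Quotient.mk (J U))) ≫ U.2.fromSpec := by
      change 𝒥.subschemeCover.f U ≫ 𝒥.subschemeι = _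
      rw [Scheme.IdealSheafData.subschemeCover_map_subschemeι]
      simp only [Scheme.IdealSheafData.glueDataObjι, Category.assoc,
        IsAffineOpen.isoSpec_inv_ι]
      rfl
    rw [e]
    exact (hJ U _ _).mpr (by rw [CommRingCat.hom_ofHom, Ideal.mk_ker])
  · intro T x hx
    rw [Scheme.Hom.ker, Scheme.IdealSheafData.le_ofIdeals_iff]
    intro U s hs
    rw [RingHom.mem_ker]
    let 𝒢 : TopCat.Sheaf CommRingCat.{u} T.carrier := T.sheaf
    refine TopCat.Sheaf.eq_of_locally_eq' 𝒢
      (fun i : {W : T.affineOpens // W.1 ≤ x ⁻¹ᵁ U.1} => i.1.1) (x ⁻¹ᵁ U.1)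
      (fun i => homOfLE i.2) ?_ _ _ ?_
    · intro y hy
      obtain ⟨W, hW0, hyW, hWU⟩ := Opens.isBasis_iff_nbhd.mp (T.isBasis_affineOpens) hy
      exact Opens.mem_iSup.mpr ⟨⟨⟨W, hW0⟩, hWU⟩, hyW⟩
    · rintro ⟨⟨W, hW⟩, hWU⟩
      have hWa : IsAffineOpen W := hW
      have hF : F (hWa.fromSpec ≫ x) := h1 _ _ hx
      rw [← IsAffineOpen.SpecMap_appLE_fromSpec x U.2 hWa hWU] at hF
      have h := (hJ U _ _).mp hF hs
      rw [RingHom.mem_ker] at h
      change (x.app U ≫ T.presheaf.map (homOfLE hWU).op).hom s =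
        (T.presheaf.map (homOfLE hWU).op).hom 0
      rw [map_zero]
      exact h

end Groth.Agent.Helper18.ClosedFun
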