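import Mathlib
import Groth.Agent.Lib.Helper18.ClosedFun

/-!
# The fixed-point functor of a morphism `Y × X → X` over a field is closed (helper18)
-/

set_option autoImplicit false
set_option linter.unusedSectionVars false
universe u

open CategoryTheory AlgebraicGeometry TopologicalSpace Opposite TensorProduct
open MonoidalCategory CartesianMonoidalCategory CategoryTheory.Limits

noncomputable section

namespace Groth.Agent.Helper18.FixedLoc

/-! ### coefficient ideals -/

section CoeffIdeal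

variable (k : Type u) [Field k] (B A : Type u) [CommRing B] [Algebra k B] [CommRing A]
  [Algebra k A]

/-- the coefficient of `f ∈ B ⊗ A` along a functional of `B` -/
def coeff (φ : B →ₗ[k] k) (f : B ⊗[k] A) : A := TensorProduct.lid k A (φ.rTensor A f)

variable {k B A}

theorem coeff_map {A' : Type u} [CommRing A'] [Algebra k A'] (ψ : A →ₐ[k] A') (φ : B →ₗ[k] k)
    (f : B ⊗[k] A) :
    coeff k B A' φ (Algebra.TensorProduct.map (AlgHom.id k B) ψ f) = ψ (coeff k B A φ f) := by
  induction f using TensorProduct.induction_on with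
  | zero => simp [coeff]
  | tmul b a => simp [coeff]
  | add x y hx hy =>
    have e1 : coeff k B A φ (x + y) = coeff k B A φ x + coeff k B A φ y := by simp [coeff]
    have e2 : coeff k B A' φ (Algebra.TensorProduct.map (AlgHom.id k B) ψ (x + y)) =
        coeff k B A' φ (Algebra.TensorProduct.map (AlgHom.id k B) ψ x) +
        coeff k B A' φ (Algebra.TensorProduct.map (AlgHom.id k B) ψ y) := by simp [coeff]
    rw [e1, e2, hx, hy, map_add]

variable (k B A) in
/-- the ideal of coefficients of a subset of `B ⊗ A` -/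
def coeffIdeal (I : Set (B ⊗[k] A)) : Ideal A :=
  Ideal.span {a | ∃ (φ : B →ₗ[k] k) (f : B ⊗[k] A), f ∈ I ∧ a = coeff k B A φ f}

theorem coeffIdeal_le_ker_iff (I : Set (B ⊗[k] A)) {A' : Type u} [CommRing A'] [Algebra k A']
    (ψ : A →ₐ[k] A') :
    coeffIdeal k B A I ≤ RingHom.ker (ψ : A →+* A') ↔
      ∀ f ∈ I, Algebra.TensorProduct.map (AlgHom.id k B) ψ f = 0 := by
  constructor
  · intro h f hf
    let ℬ := Module.Free.chooseBasis k B
    apply (TensorProduct.equivFinsuppOfBasisLeft (N := A') ℬ).injective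
    ext i
    rw [TensorProduct.equivFinsuppOfBasisLeft_apply, map_zero, Finsupp.zero_apply]
    have h1 := coeff_map ψ (ℬ.coord i) f
    have h2 : coeff k B A (ℬ.coord i) f ∈ coeffIdeal k B A I :=
      Ideal.subset_span ⟨ℬ.coord i, f, hf, rfl⟩
    have h3 := h h2
    rw [RingHom.mem_ker] at h3
    exact h1.trans h3
  · intro h
    refine Ideal.span_le.mpr ?_
    rintro a ⟨φ, f, hf, rfl⟩
    change ψ (coeff k B A φ f) = 0
    rw [← coeff_map, h f hf]
    simp [coeff]

end CoeffIdeal

/-! ### `Spec` of algebras as objects over `Spec k` -/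

section TT

variable (k : Type u) [CommRing k]

/-- `Spec B` over `Spec k` -/
abbrev TT (B : Type u) [CommRing B] [Algebra k B] : Over (Spec (CommRingCat.of k)) :=
  (Spec (CommRingCat.of B)).asOver (Spec (CommRingCat.of k))

variable {k} {B B' B'' A A' : Type u} [CommRing B] [Algebra k B] [CommRing B'] [Algebra k B']
  [CommRing B''] [Algebra k B''] [CommRing A] [Algebra k A] [CommRing A'] [Algebra k A']

/-- `Spec` of an algebra map -/
def sp (θ : B →ₐ[k] B') : TT k B' ⟶ TT k B :=
  (Spec.map (CommRingCat.ofHom θ.toRingHom)).asOver _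

theorem sp_left (θ : B →ₐ[k] B') : (sp θ).left = Spec.map (CommRingCat.ofHom θ.toRingHom) := rfl

theorem sp_comp (θ : B →ₐ[k] B') (θ' : B' →ₐ[k] B'') : sp θ' ≫ sp θ = sp (θ'.comp θ) := by
  ext1
  change Spec.map (CommRingCat.ofHom θ'.toRingHom) ≫ Spec.map (CommRingCat.ofHom θ.toRingHom) =
    Spec.map (CommRingCat.ofHom (θ'.comp θ).toRingHom)
  rw [← Spec.map_comp, ← CommRingCat.ofHom_comp]
  rfl

theorem sp_injective : Function.Injective (sp : (B →ₐ[k] B') → (TT k B' ⟶ TT k B)) := by
  intro θ θ' h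
  have h1 : Spec.map (CommRingCat.ofHom θ.toRingHom) = Spec.map (CommRingCat.ofHom θ'.toRingHom) :=
    congrArg (fun f => f.left) h
  have h2 := Spec.map_injective h1
  apply AlgHom.coe_ringHom_injective
  exact congrArg (fun f => f.hom) h2

theorem sp_surjective (x : TT k B' ⟶ TT k B) : ∃ θ : B →ₐ[k] B', sp θ = x := by
  refine ⟨⟨(Spec.preimage x.left).hom, ?_⟩, ?_⟩
  · suffices CommRingCat.ofHom (algebraMap k B) ≫ Spec.preimage x.left =
        CommRingCat.ofHom (algebraMap k B') from fun r ↦ congr($this r)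
    apply Spec.map_injective
    simpa [-comp_over] using! x.w
  · ext1
    change Spec.map (CommRingCat.ofHom (Spec.preimage x.left).hom) = x.left
    simp

variable (k B A) in
theorem isIso_prodLift :
    IsIso (lift (sp (Algebra.TensorProduct.includeLeft : B →ₐ[k] B ⊗[k] A))
      (sp (Algebra.TensorProduct.includeRight : A →ₐ[k] B ⊗[k] A))) := by
  have hleft : (lift (sp (Algebra.TensorProduct.includeLeft : B →ₐ[k] B ⊗[k] A))
      (sp (Algebra.TensorProduct.includeRight : A →ₐ[k] B ⊗[k] A))).left =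
      (pullbackSpecIso k B A).inv := by
    rw [Over.lift_left]
    apply pullback.hom_ext
    · rw [pullback.lift_fst]
      exact (pullbackSpecIso_inv_fst k B A).symm
    · rw [pullback.lift_snd]
      exact (pullbackSpecIso_inv_snd k B A).symm
  have : IsIso ((Over.forget _).map
      (lift (sp (Algebra.TensorProduct.includeLeft : B →ₐ[k] B ⊗[k] A))
      (sp (Algebra.TensorProduct.includeRight : A →ₐ[k] B ⊗[k] A)))) := by
    rw [Over.forget_map, hleft]
    infer_instance
  exact isIso_of_reflects_iso _ (Over.forget _)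

variable (k B A) in
/-- `Spec (B ⊗ A) ≅ Spec B × Spec A` over `Spec k` -/
def prodIso : TT k (B ⊗[k] A) ≅ TT k B ⊗ TT k A :=
  haveI := isIso_prodLift k B A
  asIso (lift (sp (Algebra.TensorProduct.includeLeft : B →ₐ[k] B ⊗[k] A))
      (sp (Algebra.TensorProduct.includeRight : A →ₐ[k] B ⊗[k] A)))

theorem prodIso_hom_fst : (prodIso k B A).hom ≫ fst _ _ =
    sp (Algebra.TensorProduct.includeLeft : B →ₐ[k] B ⊗[k] A) := by
  simp [prodIso]

theorem prodIso_hom_snd : (prodIso k B A).hom ≫ snd _ _ =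
    sp (Algebra.TensorProduct.includeRight : A →ₐ[k] B ⊗[k] A) := by
  simp [prodIso]

theorem prodIso_whiskerLeft (ψ : A →ₐ[k] A') :
    sp (Algebra.TensorProduct.map (AlgHom.id k B) ψ) ≫ (prodIso k B A).hom =
      (prodIso k B A').hom ≫ (TT k B ◁ sp ψ) := by
  apply CartesianMonoidalCategory.hom_ext
  · rw [Category.assoc, prodIso_hom_fst, Category.assoc, whiskerLeft_fst, prodIso_hom_fst, sp_comp]
    congr 1
    ext b
    simp
  · rw [Category.assoc, prodIso_hom_snd, Category.assoc, whiskerLeft_snd, ← Category.assoc,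
      prodIso_hom_snd, sp_comp, sp_comp]
    congr 1

end TT

/-! ### the fixed-point predicate -/

section Fix

variable {S : Scheme.{u}} {X Y : Over S} (a : Y ⊗ X ⟶ X)

/-- `x` is fixed by `a` -/
def Fix {T : Over S} (x : T ⟶ X) : Prop := (Y ◁ x) ≫ a = snd Y T ≫ x

theorem Fix.comp {T T' : Over S} (t : T' ⟶ T) {x : T ⟶ X} (h : Fix a x) : Fix a (t ≫ x) := by
  unfold Fix at *
  rw [MonoidalCategory.whiskerLeft_comp, Category.assoc, h, ← Category.assoc, whiskerLeft_snd,
    Category.assoc]

/-- scheme-level version -/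
def FixS {T : Scheme.{u}} (x : T ⟶ X.left) : Prop :=
  Fix a (Over.homMk x rfl : Over.mk (x ≫ X.hom) ⟶ X)

theorem fixS_iff {T : Over S} (x : T ⟶ X) : FixS a x.left ↔ Fix a x := by
  let e : Over.mk (x.left ≫ X.hom) ≅ T := Over.isoMk (Iso.refl _) (by simp)
  have he : e.hom ≫ x = (Over.homMk x.left rfl : Over.mk (x.left ≫ X.hom) ⟶ X) := by
    ext1
    simp [e]
  unfold FixS
  rw [← he]
  constructor
  · intro h
    have := h.comp a e.inv
    rwa [Iso.inv_hom_id_assoc] at this
  · intro h
    exact h.comp a e.hom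

theorem fixS_comp {T T' : Scheme.{u}} (t : T' ⟶ T) (x : T ⟶ X.left) (h : FixS a x) :
    FixS a (t ≫ x) := by
  unfold FixS at *
  let t' : Over.mk ((t ≫ x) ≫ X.hom) ⟶ Over.mk (x ≫ X.hom) := Over.homMk t (by simp)
  have : (Over.homMk (t ≫ x) rfl : Over.mk ((t ≫ x) ≫ X.hom) ⟶ X) = t' ≫ Over.homMk x rfl := by
    ext1
    simp [t']
  rw [this]
  exact h.comp a t'

theorem fixS_local {T : Scheme.{u}} (x : T ⟶ X.left) (𝒰 : Scheme.OpenCover.{u} T)
    (h : ∀ i, FixS a (𝒰.f i ≫ x)) : FixS a x := by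
  unfold FixS Fix
  ext1
  refine (Scheme.Pullback.openCoverOfRight 𝒰 Y.hom (x ≫ X.hom)).hom_ext _ _ ?_
  intro (i : 𝒰.I₀)
  have hi := h i
  unfold FixS Fix at hi
  let t' : Over.mk ((𝒰.f i ≫ x) ≫ X.hom) ⟶ Over.mk (x ≫ X.hom) := Over.homMk (𝒰.f i) (by simp)
  have e1 : (Over.homMk (𝒰.f i ≫ x) rfl : Over.mk ((𝒰.f i ≫ x) ≫ X.hom) ⟶ X) =
      t' ≫ Over.homMk x rfl := by
    ext1
    simp [t']
  have hi' : (Y ◁ t') ≫ ((Y ◁ (Over.homMk x rfl : Over.mk (x ≫ X.hom) ⟶ X)) ≫ a) =
      (Y ◁ t') ≫ (snd Y _ ≫ (Over.homMk x rfl : Over.mk (x ≫ X.hom) ⟶ X)) := by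
    rw [← Category.assoc, ← MonoidalCategory.whiskerLeft_comp, ← e1, hi, whiskerLeft_snd_assoc, e1]
  have h2 := congrArg (fun f => f.left) hi'
  simp only [Over.comp_left] at h2
  have e2 : (Scheme.Pullback.openCoverOfRight 𝒰 Y.hom (x ≫ X.hom)).f i = (Y ◁ t').left := by
    rw [Over.whiskerLeft_left]
    rfl
  rw [e2]
  simp only [Over.comp_left]
  exact h2

end Fix

/-! ### reduction to an affine cover of `Y` -/

section Cover

variable {S : Scheme.{u}} {X Y : Over S} (a : Y ⊗ X ⟶ X)

theorem fix_iff_cover {I : Type u} (Yi : I → Over S) (ι : ∀ i, Yi i ⟶ Y)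
    [∀ i, IsOpenImmersion (ι i).left] (hcov : ∀ y : Y.left, ∃ i z, (ι i).left z = y)
    {T : Over S} (x : T ⟶ X) :
    Fix a x ↔ ∀ i, Fix ((ι i ▷ X) ≫ a) x := by
  have key : ∀ i, (Yi i ◁ x) ≫ (ι i ▷ X) ≫ a = snd (Yi i) T ≫ x ↔
      (ι i ▷ T) ≫ ((Y ◁ x) ≫ a) = (ι i ▷ T) ≫ (snd Y T ≫ x) := by
    intro i
    rw [← Category.assoc, whisker_exchange, Category.assoc, whiskerRight_snd_assoc]
  constructor
  · intro h i
    unfold Fix at *
    rw [key, h]
  · intro h
    unfold Fix at *
    ext1
    let 𝒱 : Scheme.OpenCover.{u} Y.left :=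
      Scheme.Cover.mkOfCovers I (fun i => (Yi i).left) (fun i => (ι i).left) hcov
    refine (Scheme.Pullback.openCoverOfLeft 𝒱 Y.hom T.hom).hom_ext _ _ ?_
    intro (i : I)
    have hi := (key i).mp (h i)
    have h2 := congrArg (fun f => f.left) hi
    simp only [Over.comp_left] at h2
    have hw : (Yi i).hom = (ι i).left ≫ Y.hom := (Over.w (ι i)).symm
    have e2 : (pullback.congrHom hw (rfl : T.hom = T.hom)).hom ≫
        (Scheme.Pullback.openCoverOfLeft 𝒱 Y.hom T.hom).f i = (ι i ▷ T).left := by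
      rw [Over.whiskerRight_left]
      apply pullback.hom_ext
      · simp only [pullback.congrHom_hom, Category.assoc]
        erw [pullback.lift_fst]
        erw [pullback.lift_fst_assoc]
        simp only [pullback.map]
        erw [pullback.lift_fst]
        rfl
      · simp only [pullback.congrHom_hom, Category.assoc]
        erw [pullback.lift_snd]
        erw [pullback.lift_snd]
        simp only [pullback.map]
        erw [pullback.lift_snd]
    have e3 : (Scheme.Pullback.openCoverOfLeft 𝒱 Y.hom T.hom).f i =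
        (pullback.congrHom hw (rfl : T.hom = T.hom)).inv ≫ (ι i ▷ T).left := by
      rw [← e2, Iso.inv_hom_id_assoc]
    rw [e3]
    simp only [Over.comp_left, Category.assoc]
    exact congrArg (fun f => (pullback.congrHom hw (rfl : T.hom = T.hom)).inv ≫ f) h2

end Cover

end Groth.Agent.Helper18.FixedLoc
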