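import Mathlib
import Groth.Agent.Lib.Helper18.FixedLoc

/-!
# Weil restriction of closed conditions along `Y × X → X` over a field (helper18)

For `k` a field, `c : Y ⊗ X ⟶ W` and a closed immersion `y : D ⟶ W`, the functor of points `x` of `X`
such that `(Y ◁ x) ≫ c` factors through `y` is represented by a closed subscheme of `X`.
-/

set_option autoImplicit false
set_option linter.unusedSectionVars false
set_option linter.style.haveILetI false
universe u

open CategoryTheory AlgebraicGeometry TopologicalSpace Opposite TensorProduct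
open MonoidalCategory CartesianMonoidalCategory CategoryTheory.Limits

noncomputable section

namespace Groth.Agent.Helper18.WeilRes

open Groth.Agent.Helper18.FixedLoc

section General

variable {S : Scheme.{u}}

/-- a predicate on morphisms into `Y ⊗ X`, stable under precomposition and local on the source -/
structure LPred (X Y : Over S) where
  /-- the predicate -/
  P : ∀ {W : Over S}, (W ⟶ Y ⊗ X) → Prop
  comp : ∀ {W W' : Over S} (t : W' ⟶ W) (f : W ⟶ Y ⊗ X), P f → P (t ≫ f)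
  loc : ∀ {W : Over S} (f : W ⟶ Y ⊗ X) {I : Type u} (Wi : I → Over S) (ι : ∀ i, Wi i ⟶ W)
    [∀ i, IsOpenImmersion (ι i).left] (_ : ∀ w : W.left, ∃ i z, (ι i).left z = w),
    (∀ i, P (ι i ≫ f)) → P f

variable {X Y : Over S} (Pr : LPred X Y)

theorem LPred.iso {W W' : Over S} (e : W' ≅ W) (f : W ⟶ Y ⊗ X) : Pr.P (e.hom ≫ f) ↔ Pr.P f := by
  constructor
  · intro h
    have := Pr.comp e.inv _ h
    rwa [Iso.inv_hom_id_assoc] at this
  · exact Pr.comp e.hom f

/-- pull a predicate back along `Y' ⟶ Y` -/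
def LPred.pull {Y' : Over S} (ι : Y' ⟶ Y) : LPred X Y' where
  P f := Pr.P (f ≫ (ι ▷ X))
  comp t f h := by
    rw [Category.assoc]
    exact Pr.comp t _ h
  loc f I Wi ι' _ hcov h := by
    refine Pr.loc _ Wi ι' hcov ?_
    intro i
    rw [← Category.assoc]
    exact h i

/-- the induced predicate on points of `X` -/
def Q {T : Over S} (x : T ⟶ X) : Prop := Pr.P (Y ◁ x)

theorem Q.comp {T T' : Over S} (t : T' ⟶ T) {x : T ⟶ X} (h : Q Pr x) : Q Pr (t ≫ x) := by
  unfold Q at *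
  rw [MonoidalCategory.whiskerLeft_comp]
  exact Pr.comp _ _ h

/-- scheme-level version -/
def QS {T : Scheme.{u}} (x : T ⟶ X.left) : Prop :=
  Q Pr (Over.homMk x rfl : Over.mk (x ≫ X.hom) ⟶ X)

theorem qS_iff {T : Over S} (x : T ⟶ X) : QS Pr x.left ↔ Q Pr x := by
  let e : Over.mk (x.left ≫ X.hom) ≅ T := Over.isoMk (Iso.refl _) (by simp)
  have he : e.hom ≫ x = (Over.homMk x.left rfl : Over.mk (x.left ≫ X.hom) ⟶ X) := by
    ext1
    simp [e]
  unfold QS
  rw [← he]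
  constructor
  · intro h
    have := h.comp Pr e.inv
    rwa [Iso.inv_hom_id_assoc] at this
  · intro h
    exact h.comp Pr e.hom

theorem qS_comp {T T' : Scheme.{u}} (t : T' ⟶ T) (x : T ⟶ X.left) (h : QS Pr x) :
    QS Pr (t ≫ x) := by
  unfold QS at *
  let t' : Over.mk ((t ≫ x) ≫ X.hom) ⟶ Over.mk (x ≫ X.hom) := Over.homMk t (by simp)
  have : (Over.homMk (t ≫ x) rfl : Over.mk ((t ≫ x) ≫ X.hom) ⟶ X) = t' ≫ Over.homMk x rfl := by
    ext1
    simp [t']
  rw [this]
  exact h.comp Pr t'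

theorem qS_local {T : Scheme.{u}} (x : T ⟶ X.left) (𝒰 : Scheme.OpenCover.{u} T)
    (h : ∀ i, QS Pr (𝒰.f i ≫ x)) : QS Pr x := by
  unfold QS Q
  let t' : ∀ i : 𝒰.I₀, Over.mk ((𝒰.f i ≫ x) ≫ X.hom) ⟶ Over.mk (x ≫ X.hom) := fun i =>
    Over.homMk (𝒰.f i) (by simp)
  have e1 : ∀ i, (Over.homMk (𝒰.f i ≫ x) rfl : Over.mk ((𝒰.f i ≫ x) ≫ X.hom) ⟶ X) =
      t' i ≫ Over.homMk x rfl := by
    intro i
    ext1
    simp [t']
  have e2 : ∀ i, (Scheme.Pullback.openCoverOfRight 𝒰 Y.hom (x ≫ X.hom)).f i = (Y ◁ t' i).left := by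
    intro i
    rw [Over.whiskerLeft_left]
    rfl
  haveI : ∀ i, IsOpenImmersion (Y ◁ t' i).left := by
    intro i
    rw [← e2]
    exact (Scheme.Pullback.openCoverOfRight 𝒰 Y.hom (x ≫ X.hom)).map_prop i
  refine Pr.loc _ (fun i : 𝒰.I₀ => Y ⊗ Over.mk ((𝒰.f i ≫ x) ≫ X.hom)) (fun i => Y ◁ t' i) ?_ ?_
  · intro w
    obtain ⟨i, z, hz⟩ := (Scheme.Pullback.openCoverOfRight 𝒰 Y.hom (x ≫ X.hom)).exists_eq w
    refine ⟨i, z, ?_⟩
    rw [← e2]
    exact hz
  · intro i
    have hi := h i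
    unfold QS Q at hi
    rw [← MonoidalCategory.whiskerLeft_comp, ← e1]
    exact hi

theorem q_iff_cover {I : Type u} (Yi : I → Over S) (ι : ∀ i, Yi i ⟶ Y)
    [∀ i, IsOpenImmersion (ι i).left] (hcov : ∀ y : Y.left, ∃ i z, (ι i).left z = y)
    {T : Over S} (x : T ⟶ X) :
    Q Pr x ↔ ∀ i, Q (Pr.pull (ι i)) x := by
  have key : ∀ i, Q (Pr.pull (ι i)) x ↔ Pr.P ((ι i ▷ T) ≫ (Y ◁ x)) := by
    intro i
    unfold Q LPred.pull
    dsimp only
    rw [whisker_exchange]
  constructor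
  · intro h i
    rw [key]
    exact Pr.comp _ _ h
  · intro h
    unfold Q
    let 𝒱 : Scheme.OpenCover.{u} Y.left :=
      Scheme.Cover.mkOfCovers I (fun i => (Yi i).left) (fun i => (ι i).left) hcov
    have hw : ∀ i, (Yi i).hom = (ι i).left ≫ Y.hom := fun i => (Over.w (ι i)).symm
    have e2 : ∀ i, (pullback.congrHom (hw i) (rfl : T.hom = T.hom)).hom ≫
        (Scheme.Pullback.openCoverOfLeft 𝒱 Y.hom T.hom).f i = (ι i ▷ T).left := by
      intro i
      rw [Over.whiskerRight_left]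
      apply pullback.hom_ext
      · simp only [pullback.congrHom_hom, Category.assoc]
        erw [pullback.lift_fst]
        erw [pullback.lift_fst_assoc]
        simp only [pullback.map]
        erw [pullback.lift_fst]
        rfl
      · simp only [pullback.congrHom_hom, Category.assoc]
        erw [pullback.lift_snd]
        erw [pullback.lift_snd]
        simp only [pullback.map]
        erw [pullback.lift_snd]
    haveI : ∀ i, IsOpenImmersion (ι i ▷ T).left := by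
      intro i
      rw [← e2]
      haveI h1 : IsOpenImmersion ((Scheme.Pullback.openCoverOfLeft 𝒱 Y.hom T.hom).f i) :=
        (Scheme.Pullback.openCoverOfLeft 𝒱 Y.hom T.hom).map_prop i
      exact @IsOpenImmersion.comp _ _ _ _ _ inferInstance h1
    refine Pr.loc _ (fun i => Yi i ⊗ T) (fun i => ι i ▷ T) ?_ ?_
    · intro w
      obtain ⟨i, z, hz⟩ := (Scheme.Pullback.openCoverOfLeft 𝒱 Y.hom T.hom).exists_eq w
      refine ⟨i, (pullback.congrHom (hw i) (rfl : T.hom = T.hom)).inv.base z, ?_⟩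
      rw [← e2, ← Scheme.Hom.comp_apply, Iso.inv_hom_id_assoc]
      exact hz
    · intro i
      exact (key i).mp (h i)

end General

section Field

variable {k : Type u} [Field k] {X Y : Over (Spec (CommRingCat.of k))}

theorem affine_case {B A : Type u} [CommRing B] [Algebra k B] [CommRing A] [Algebra k A]
    (Pr : LPred X (TT k B)) (u : TT k A ⟶ X) (I : Set (B ⊗[k] A))
    (hI : ∀ (R' : Type u) [CommRing R'] [Algebra k R'] (θ : B ⊗[k] A →ₐ[k] R'),
      Pr.P (sp θ ≫ (prodIso k B A).hom ≫ (TT k B ◁ u)) ↔ ∀ f ∈ I, θ f = 0)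
    (A' : Type u) [CommRing A'] [Algebra k A'] (ψ : A →ₐ[k] A') :
    Q Pr (sp ψ ≫ u) ↔ coeffIdeal k B A I ≤ RingHom.ker (ψ : A →+* A') := by
  rw [coeffIdeal_le_ker_iff, ← hI]
  have e : sp (Algebra.TensorProduct.map (AlgHom.id k B) ψ) ≫ (prodIso k B A).hom ≫
      (TT k B ◁ u) = (prodIso k B A').hom ≫ (TT k B ◁ (sp ψ ≫ u)) := by
    rw [← Category.assoc, prodIso_whiskerLeft, Category.assoc,
      MonoidalCategory.whiskerLeft_comp]
  rw [e, Pr.iso]
  rfl

variable (Pr : LPred X Y)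

/-- the local hypothesis: on affine pieces the condition is cut out by equations -/
def HypI : Prop :=
  ∀ (B : Type u) [CommRing B] [Algebra k B] (ι : TT k B ⟶ Y)
    (A : Type u) [CommRing A] [Algebra k A] (u : TT k A ⟶ X) [IsOpenImmersion u.left],
    ∃ I : Set (B ⊗[k] A), ∀ (R' : Type u) [CommRing R'] [Algebra k R'] (θ : B ⊗[k] A →ₐ[k] R'),
      Pr.P (sp θ ≫ (prodIso k B A).hom ≫ (TT k B ◁ u) ≫ (ι ▷ X)) ↔ ∀ f ∈ I, θ f = 0

theorem h3_of_HypI (h : HypI Pr) (U : X.left.affineOpens) :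
    ∃ J : Ideal Γ(X.left, U), ∀ (A' : CommRingCat.{u}) (ψ : Γ(X.left, U) ⟶ A'),
      QS Pr (Spec.map ψ ≫ U.2.fromSpec) ↔ J ≤ RingHom.ker ψ.hom := by
  letI algA : Algebra k Γ(X.left, U) := (Spec.preimage (U.2.fromSpec ≫ X.hom)).hom.toAlgebra
  have hA : Spec.map (CommRingCat.ofHom (algebraMap k Γ(X.left, U))) = U.2.fromSpec ≫ X.hom :=
    Spec.map_preimage _
  let u : TT k Γ(X.left, U) ⟶ X := Over.homMk U.2.fromSpec hA.symm
  haveI : IsOpenImmersion u.left := inferInstanceAs (IsOpenImmersion U.2.fromSpec)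
  let 𝒲 := Y.left.affineOpenCover
  letI algB : ∀ i, Algebra k (𝒲.X i) := fun i =>
    (Spec.preimage (𝒲.f i ≫ Y.hom)).hom.toAlgebra
  have hB : ∀ i, Spec.map (CommRingCat.ofHom (algebraMap k (𝒲.X i))) = 𝒲.f i ≫ Y.hom :=
    fun i => Spec.map_preimage _
  let ι : ∀ i, TT k (𝒲.X i) ⟶ Y := fun i => Over.homMk (𝒲.f i) (hB i).symm
  haveI : ∀ i, IsOpenImmersion (ι i).left := fun i => inferInstanceAs (IsOpenImmersion (𝒲.f i))
  choose I hI using fun i => h (𝒲.X i) (ι i) Γ(X.left, U) u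
  refine ⟨⨆ i, coeffIdeal k (𝒲.X i) Γ(X.left, U) (I i), ?_⟩
  intro A' ψ
  letI algA' : Algebra k A' := (ψ.hom.comp (algebraMap k Γ(X.left, U))).toAlgebra
  let ψ' : Γ(X.left, U) →ₐ[k] A' := ⟨ψ.hom, fun r => rfl⟩
  have step1 : QS Pr (Spec.map ψ ≫ U.2.fromSpec) ↔ Q Pr (sp ψ' ≫ u) := qS_iff Pr (sp ψ' ≫ u)
  rw [step1, q_iff_cover Pr (fun i => TT k (𝒲.X i)) ι
    (fun y => ⟨𝒲.idx y, 𝒲.covers y⟩), iSup_le_iff]
  refine forall_congr' fun i => ?_
  refine affine_case (Pr.pull (ι i)) u (I i) ?_ A' ψ'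
  intro R' _ _ θ
  rw [← hI i R' θ]
  unfold LPred.pull
  dsimp only
  rw [Category.assoc, Category.assoc]

theorem closed_of_HypI (h : HypI Pr) :
    ∃ (Z : Over (Spec (CommRingCat.of k))) (j : Z ⟶ X), IsClosedImmersion j.left ∧
      ∀ (T : Over (Spec (CommRingCat.of k))) (x : T ⟶ X), (∃ z : T ⟶ Z, z ≫ j = x) ↔ Q Pr x := by
  obtain ⟨𝒥, hF, hle⟩ := ClosedFun.exists_idealSheaf (X := X.left) (fun {T} x => QS Pr x)
    (fun t x hx => qS_comp Pr t x hx) (fun x 𝒰 hx => qS_local Pr x 𝒰 hx) (h3_of_HypI Pr h)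
  refine ⟨Over.mk (𝒥.subschemeι ≫ X.hom), Over.homMk 𝒥.subschemeι rfl, ?_, ?_⟩
  · exact inferInstanceAs (IsClosedImmersion 𝒥.subschemeι)
  · intro T x
    constructor
    · rintro ⟨z, rfl⟩
      exact Q.comp Pr z hF
    · intro hx
      have hx' : QS Pr x.left := (qS_iff Pr x).mpr hx
      have hk := hle x.left hx'
      let z' := IsClosedImmersion.lift 𝒥.subschemeι x.left (by
        rw [Scheme.IdealSheafData.ker_subschemeι]
        exact hk)
      have hz' : z' ≫ 𝒥.subschemeι = x.left := IsClosedImmersion.lift_fac _ _ _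
      refine ⟨Over.homMk z' ?_, ?_⟩
      · change z' ≫ 𝒥.subschemeι ≫ X.hom = T.hom
        rw [← Category.assoc, hz', Over.w]
      · ext1
        exact hz'

end Field

end Groth.Agent.Helper18.WeilRes
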