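import Mathlib
import Groth.Agent.Lib.Helper18.WeilRes

/-!
# Weil restriction of closed conditions, part 2: factoring through a closed immersion (helper18)
-/

set_option autoImplicit false
set_option linter.unusedSectionVars false
set_option linter.style.haveILetI false
universe u

open CategoryTheory AlgebraicGeometry TopologicalSpace Opposite TensorProduct
open MonoidalCategory CartesianMonoidalCategory CategoryTheory.Limits

noncomputable section

namespace Groth.Agent.Helper18.WeilRes

open Groth.Agent.Helper18.FixedLoc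

section Fact

variable {S : Scheme.{u}} {X Y W D : Over S}

/-- the predicate "`f ≫ c` factors through the (closed) immersion `y`" -/
def factPred (c : Y ⊗ X ⟶ W) (y : D ⟶ W) [Mono y.left] : LPred X Y where
  P f := ∃ w, w ≫ y = f ≫ c
  comp t f := by
    rintro ⟨w, hw⟩
    exact ⟨t ≫ w, by rw [Category.assoc, hw, Category.assoc]⟩
  loc {W'} f I Wi ι _ hcov h := by
    choose w hw using h
    let 𝒱 : Scheme.OpenCover.{u} W'.left :=
      Scheme.Cover.mkOfCovers I (fun i => (Wi i).left) (fun i => (ι i).left) hcov
    have hw' : ∀ i, (w i).left ≫ y.left = (ι i).left ≫ f.left ≫ c.left := by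
      intro i
      have := congrArg (fun g => g.left) (hw i)
      simpa using this
    let g : W'.left ⟶ D.left := 𝒱.glueMorphisms (fun i => (w i).left) (by
      intro i j
      rw [← cancel_mono y.left, Category.assoc, Category.assoc]
      erw [hw' i, hw' j]
      exact pullback.condition_assoc _)
    have hg : ∀ i, (ι i).left ≫ g = (w i).left := fun i => 𝒱.ι_glueMorphisms _ _ i
    have hgy : g ≫ y.left = f.left ≫ c.left := by
      refine 𝒱.hom_ext _ _ ?_
      intro i
      change (ι i).left ≫ g ≫ y.left = (ι i).left ≫ f.left ≫ c.left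
      rw [← Category.assoc, hg, hw']
    refine ⟨Over.homMk g ?_, ?_⟩
    · rw [← Over.w y, ← Category.assoc, hgy, Category.assoc, Over.w, Over.w]
    · ext1
      exact hgy

end Fact

section Closed

variable {k : Type u} [Field k]

theorem hI_closed {E : Over (Spec (CommRingCat.of k))} {R : Type u} [CommRing R] [Algebra k R]
    (e : E ⟶ TT k R) [IsClosedImmersion e.left] :
    ∃ I : Set R, ∀ (R' : Type u) [CommRing R'] [Algebra k R'] (θ : R →ₐ[k] R'),
      (∃ l : TT k R' ⟶ E, l ≫ e = sp θ) ↔ ∀ f ∈ I, θ f = 0 := by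
  haveI : IsAffine (TT k R).left := inferInstanceAs (IsAffine (Spec (CommRingCat.of R)))
  let φ : R →+* Γ(E.left, ⊤) :=
    ((Scheme.ΓSpecIso (CommRingCat.of R)).inv ≫ e.left.appTop).hom
  refine ⟨{f | φ f = 0}, ?_⟩
  intro R' _ _ θ
  haveI : IsAffine (TT k R').left := inferInstanceAs (IsAffine (Spec (CommRingCat.of R')))
  have hnat : ∀ f : R, (sp θ).left.appTop.hom
      ((Scheme.ΓSpecIso (CommRingCat.of R)).inv.hom f) =
      (Scheme.ΓSpecIso (CommRingCat.of R')).inv.hom (θ f) := by
    intro f
    have := Scheme.ΓSpecIso_inv_naturality (CommRingCat.ofHom θ.toRingHom)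
    exact (congrArg (fun g => g.hom f) this).symm
  constructor
  · rintro ⟨l, hl⟩ f hf
    have hl' := congrArg (fun g => g.left.appTop) hl
    simp only [Over.comp_left, Scheme.Hom.comp_appTop] at hl'
    have h1 : (Scheme.ΓSpecIso (CommRingCat.of R')).inv.hom (θ f) = 0 := by
      refine (hnat f).symm.trans ?_
      have h2 := congrArg (fun g => g.hom ((Scheme.ΓSpecIso (CommRingCat.of R)).inv.hom f)) hl'
      refine h2.symm.trans ?_
      change (l.left.appTop).hom (φ f) = 0
      rw [hf, map_zero]
    have h3 := congrArg (Scheme.ΓSpecIso (CommRingCat.of R')).hom.hom h1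
    rw [map_zero] at h3
    rw [← h3]
    exact (congrArg (fun g => g.hom (θ f)) (Scheme.ΓSpecIso (CommRingCat.of R')).inv_hom_id).symm
  · intro h
    haveI : QuasiCompact (sp θ).left := by
      change QuasiCompact (Spec.map (CommRingCat.ofHom θ.toRingHom))
      infer_instance
    have hle : e.left.ker ≤ (sp θ).left.ker := by
      apply Scheme.IdealSheafData.le_of_isAffine
      rw [Scheme.Hom.ker_apply, Scheme.Hom.ker_apply]
      intro g hg
      rw [RingHom.mem_ker] at hg ⊢
      have hg' : g = (Scheme.ΓSpecIso (CommRingCat.of R)).inv.hom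
          ((Scheme.ΓSpecIso (CommRingCat.of R)).hom.hom g) :=
        (congrArg (fun e => e.hom g) (Scheme.ΓSpecIso (CommRingCat.of R)).hom_inv_id).symm
      have hf : (Scheme.ΓSpecIso (CommRingCat.of R)).hom.hom g ∈ {f | φ f = 0} := by
        change e.left.appTop.hom
          ((Scheme.ΓSpecIso (CommRingCat.of R)).inv.hom
            ((Scheme.ΓSpecIso (CommRingCat.of R)).hom.hom g)) = 0
        refine Eq.trans ?_ hg
        exact congrArg _ hg'.symm
      have h0 := h _ hf
      change (sp θ).left.appTop.hom g = 0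
      refine (congrArg _ hg').trans ?_
      refine (hnat _).trans ?_
      rw [h0]
      exact map_zero _
    let l' : (TT k R').left ⟶ E.left :=
      IsClosedImmersion.lift e.left (sp θ).left hle
    have hl' : l' ≫ e.left = (sp θ).left :=
      IsClosedImmersion.lift_fac _ _ _
    refine ⟨Over.homMk l' ?_, ?_⟩
    · rw [← Over.w e, ← Category.assoc, hl']
      exact Over.w (sp θ)
    · ext1
      exact hl'

variable {X Y W D : Over (Spec (CommRingCat.of k))}

theorem hypI_factPred (c : Y ⊗ X ⟶ W) (y : D ⟶ W) [IsClosedImmersion y.left] :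
    HypI (factPred c y) := by
  intro B _ _ ι A _ _ u _
  let q : TT k (B ⊗[k] A) ⟶ W := ((prodIso k B A).hom ≫ (TT k B ◁ u) ≫ (ι ▷ X)) ≫ c
  let E : Over (Spec (CommRingCat.of k)) :=
    Over.mk (pullback.snd y.left q.left ≫ (TT k (B ⊗[k] A)).hom)
  let e : E ⟶ TT k (B ⊗[k] A) := Over.homMk (pullback.snd y.left q.left) rfl
  haveI : IsClosedImmersion e.left :=
    inferInstanceAs (IsClosedImmersion (pullback.snd y.left q.left))
  obtain ⟨I, hI⟩ := hI_closed e
  refine ⟨I, ?_⟩
  intro R' _ _ θ
  rw [← hI R' θ]
  change (∃ w, w ≫ y = (sp θ ≫ (prodIso k B A).hom ≫ (TT k B ◁ u) ≫ (ι ▷ X)) ≫ c) ↔ _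
  constructor
  · rintro ⟨w, hw⟩
    have hw' : w.left ≫ y.left = (sp θ).left ≫ q.left := by
      have := congrArg (fun g => g.left) hw
      simpa [q] using this
    refine ⟨Over.homMk (pullback.lift w.left (sp θ).left hw') ?_, ?_⟩
    · change pullback.lift w.left (sp θ).left hw' ≫ pullback.snd y.left q.left ≫ _ = _
      rw [pullback.lift_snd_assoc]
      exact Over.w (sp θ)
    · ext1
      exact pullback.lift_snd _ _ _
  · rintro ⟨l, hl⟩
    have hl' : l.left ≫ pullback.snd y.left q.left = (sp θ).left := congrArg (fun g => g.left) hl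
    refine ⟨Over.homMk (l.left ≫ pullback.fst y.left q.left) ?_, ?_⟩
    · rw [Category.assoc, ← Over.w y, pullback.condition_assoc, Over.w, ← Category.assoc, hl']
      exact Over.w (sp θ)
    · ext1
      change (l.left ≫ pullback.fst y.left q.left) ≫ y.left = _
      rw [Category.assoc, pullback.condition, ← Category.assoc, hl']
      simp [q]

/-- **Weil restriction of a closed condition over a field**: the points `x` of `X` such that
`(Y ◁ x) ≫ c` factors through the closed immersion `y` form a closed subscheme of `X`. -/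
theorem wr_closed (c : Y ⊗ X ⟶ W) (y : D ⟶ W) [IsClosedImmersion y.left] :
    ∃ (Z : Over (Spec (CommRingCat.of k))) (j : Z ⟶ X), IsClosedImmersion j.left ∧
      ∀ (T : Over (Spec (CommRingCat.of k))) (x : T ⟶ X), (∃ z : T ⟶ Z, z ≫ j = x) ↔
        ∃ w : Y ⊗ T ⟶ D, w ≫ y = (Y ◁ x) ≫ c :=
  closed_of_HypI (factPred c y) (hypI_factPred c y)

end Closed

end Groth.Agent.Helper18.WeilRes
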