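import Mathlib
import Groth.Agent.Lib.Helper18.WeilRes2
import Groth.Agent.Lib.Helper18.SubGrpObj

/-!
# Transporters and normalizers over a field are closed (helper18)
-/

set_option autoImplicit false
set_option linter.unusedSectionVars false
set_option linter.style.haveILetI false
universe u

open CategoryTheory AlgebraicGeometry TopologicalSpace Opposite TensorProduct
open MonoidalCategory CartesianMonoidalCategory CategoryTheory.Limits MonObj GrpObj

noncomputable section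

namespace Groth.Agent.Helper18.Transp

variable {k : Type u} [Field k]

/-- Yoneda form of `wr_closed` -/
theorem pts_closed {X Y W D : Over (Spec (CommRingCat.of k))} (c : Y ⊗ X ⟶ W) (y : D ⟶ W)
    [IsClosedImmersion y.left] :
    ∃ (Z : Over (Spec (CommRingCat.of k))) (j : Z ⟶ X), IsClosedImmersion j.left ∧
      ∀ (T : Over (Spec (CommRingCat.of k))) (g : T ⟶ X), (∃ z : T ⟶ Z, z ≫ j = g) ↔
        ∀ (T' : Over (Spec (CommRingCat.of k))) (s : T' ⟶ T) (x : T' ⟶ Y),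
          ∃ x' : T' ⟶ D, lift x (s ≫ g) ≫ c = x' ≫ y := by
  obtain ⟨Z, j, hj, h⟩ := WeilRes.wr_closed c y
  refine ⟨Z, j, hj, ?_⟩
  intro T g
  rw [h]
  constructor
  · rintro ⟨w, hw⟩ T' s x
    refine ⟨lift x s ≫ w, ?_⟩
    rw [Category.assoc, hw, ← Category.assoc]
    congr 1
    apply CartesianMonoidalCategory.hom_ext <;> simp
  · intro h'
    obtain ⟨x', hx'⟩ := h' (Y ⊗ T) (snd Y T) (fst Y T)
    refine ⟨x', ?_⟩
    rw [← hx']
    congr 1

/-- intersection of two closed subfunctors -/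
theorem inter_closed {X : Over (Spec (CommRingCat.of k))}
    {Z₁ Z₂ : Over (Spec (CommRingCat.of k))} (j₁ : Z₁ ⟶ X) (j₂ : Z₂ ⟶ X)
    [IsClosedImmersion j₁.left] [IsClosedImmersion j₂.left] :
    ∃ (Z : Over (Spec (CommRingCat.of k))) (j : Z ⟶ X), IsClosedImmersion j.left ∧
      ∀ (T : Over (Spec (CommRingCat.of k))) (g : T ⟶ X), (∃ z : T ⟶ Z, z ≫ j = g) ↔
        ((∃ z : T ⟶ Z₁, z ≫ j₁ = g) ∧ (∃ z : T ⟶ Z₂, z ≫ j₂ = g)) := by
  let Z : Over (Spec (CommRingCat.of k)) :=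
    Over.mk ((pullback.fst j₁.left j₂.left ≫ j₁.left) ≫ X.hom)
  let j : Z ⟶ X := Over.homMk (pullback.fst j₁.left j₂.left ≫ j₁.left) rfl
  refine ⟨Z, j, ?_, ?_⟩
  · exact inferInstanceAs (IsClosedImmersion (pullback.fst j₁.left j₂.left ≫ j₁.left))
  · intro T g
    constructor
    · rintro ⟨z, rfl⟩
      refine ⟨⟨Over.homMk (z.left ≫ pullback.fst j₁.left j₂.left) ?_, ?_⟩,
        ⟨Over.homMk (z.left ≫ pullback.snd j₁.left j₂.left) ?_, ?_⟩⟩
      · rw [Category.assoc, ← Over.w j₁, ← Category.assoc (pullback.fst _ _)]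
        exact Over.w z
      · ext1
        simp [j]
      · rw [Category.assoc, ← Over.w j₂, ← Category.assoc (pullback.snd _ _),
          ← pullback.condition]
        exact Over.w z
      · ext1
        simp [j, pullback.condition]
    · rintro ⟨⟨z₁, h₁⟩, ⟨z₂, h₂⟩⟩
      have e : z₁.left ≫ j₁.left = z₂.left ≫ j₂.left := by
        rw [← Over.comp_left, ← Over.comp_left, h₁, h₂]
      refine ⟨Over.homMk (pullback.lift z₁.left z₂.left e) ?_, ?_⟩
      · change pullback.lift z₁.left z₂.left e ≫ (pullback.fst j₁.left j₂.left ≫ j₁.left) ≫ X.hom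
          = T.hom
        rw [Category.assoc, pullback.lift_fst_assoc, Over.w, Over.w]
      · ext1
        change pullback.lift z₁.left z₂.left e ≫ (pullback.fst j₁.left j₂.left ≫ j₁.left) = g.left
        rw [pullback.lift_fst_assoc, ← Over.comp_left, h₁]

variable {G : Over (Spec (CommRingCat.of k))} [GrpObj G]

/-- the transporter of `y'` into the closed `y` is closed -/
theorem transp_closed {Y Y' : Over (Spec (CommRingCat.of k))} (y : Y ⟶ G)
    [IsClosedImmersion y.left] (y' : Y' ⟶ G) :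
    ∃ (T : Over (Spec (CommRingCat.of k))) (t : T ⟶ G), IsClosedImmersion t.left ∧
      ∀ (S' : Over (Spec (CommRingCat.of k))) (g : S' ⟶ G), (∃ z : S' ⟶ T, z ≫ t = g) ↔
        ∀ (S'' : Over (Spec (CommRingCat.of k))) (s : S'' ⟶ S') (x : S'' ⟶ Y'),
          ∃ x' : S'' ⟶ Y, (s ≫ g) * (x ≫ y') * (s ≫ g)⁻¹ = x' ≫ y := by
  obtain ⟨T, t, ht, h⟩ := pts_closed (snd Y' G * (fst Y' G ≫ y') * (snd Y' G)⁻¹) y
  refine ⟨T, t, ht, ?_⟩
  intro S' g
  rw [h]
  refine forall_congr' fun S'' => forall_congr' fun s => forall_congr' fun x => ?_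
  simp only [MonObj.comp_mul, GrpObj.comp_inv, lift_snd, lift_fst_assoc]

/-- the "inverse" transporter is closed -/
theorem transp_closed' {Y Y' : Over (Spec (CommRingCat.of k))} (y : Y ⟶ G)
    (y' : Y' ⟶ G) [IsClosedImmersion y'.left] :
    ∃ (T : Over (Spec (CommRingCat.of k))) (t : T ⟶ G), IsClosedImmersion t.left ∧
      ∀ (S' : Over (Spec (CommRingCat.of k))) (g : S' ⟶ G), (∃ z : S' ⟶ T, z ≫ t = g) ↔
        ∀ (S'' : Over (Spec (CommRingCat.of k))) (s : S'' ⟶ S') (x' : S'' ⟶ Y),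
          ∃ x : S'' ⟶ Y', (s ≫ g)⁻¹ * (x' ≫ y) * (s ≫ g) = x ≫ y' := by
  obtain ⟨T, t, ht, h⟩ := pts_closed ((snd Y G)⁻¹ * (fst Y G ≫ y) * (snd Y G)) y'
  refine ⟨T, t, ht, ?_⟩
  intro S' g
  rw [h]
  refine forall_congr' fun S'' => forall_congr' fun s => forall_congr' fun x => ?_
  simp only [MonObj.comp_mul, GrpObj.comp_inv, lift_snd, lift_fst_assoc]

/-- the strict transporter of two closed subschemes is closed -/
theorem strict_transp_closed {Y Y' : Over (Spec (CommRingCat.of k))} (y : Y ⟶ G)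
    [IsClosedImmersion y.left] (y' : Y' ⟶ G) [IsClosedImmersion y'.left] :
    ∃ (T : Over (Spec (CommRingCat.of k))) (t : T ⟶ G), IsClosedImmersion t.left ∧
      ∀ (S' : Over (Spec (CommRingCat.of k))) (g : S' ⟶ G), (∃ z : S' ⟶ T, z ≫ t = g) ↔
        ((∀ (S'' : Over (Spec (CommRingCat.of k))) (s : S'' ⟶ S') (x : S'' ⟶ Y'),
          ∃ x' : S'' ⟶ Y, (s ≫ g) * (x ≫ y') * (s ≫ g)⁻¹ = x' ≫ y) ∧
        (∀ (S'' : Over (Spec (CommRingCat.of k))) (s : S'' ⟶ S') (x' : S'' ⟶ Y),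
          ∃ x : S'' ⟶ Y', (s ≫ g)⁻¹ * (x' ≫ y) * (s ≫ g) = x ≫ y')) := by
  obtain ⟨T₁, t₁, ht₁, h₁⟩ := transp_closed y y'
  obtain ⟨T₂, t₂, ht₂, h₂⟩ := transp_closed' y y'
  obtain ⟨T, t, ht, h⟩ := inter_closed t₁ t₂
  refine ⟨T, t, ht, ?_⟩
  intro S' g
  rw [h, h₁, h₂]

/-- a mono representing a subgroup-valued predicate is a subgroup object -/
theorem exists_grpObj_of_pred {C : Type*} [Category C] [CartesianMonoidalCategory C]
    {G N : C} [GrpObj G] (n : N ⟶ G) [Mono n] (Φ : ∀ {T : C}, (T ⟶ G) → Prop)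
    (hrep : ∀ {T : C} (g : T ⟶ G), (∃ z, z ≫ n = g) ↔ Φ g)
    (hone : ∀ T : C, Φ (1 : T ⟶ G))
    (hmul : ∀ {T : C} (g g' : T ⟶ G), Φ g → Φ g' → Φ (g * g'))
    (hinv : ∀ {T : C} (g : T ⟶ G), Φ g → Φ g⁻¹) :
    ∃ (_ : GrpObj N), IsMonHom n := by
  have hn : ∀ {T : C} (z : T ⟶ N), Φ (z ≫ n) := fun z => (hrep _).mp ⟨z, rfl⟩
  apply SubGrpObj.exists_grpObj_of_mono n
  · have : η[G] = (1 : 𝟙_ C ⟶ G) := by
      rw [Hom.one_def, toUnit_unique (toUnit _) (𝟙 _), Category.id_comp]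
    rw [this]
    exact (hrep _).mpr (hone _)
  · have : (n ⊗ₘ n) ≫ μ[G] = (fst N N ≫ n) * (snd N N ≫ n) := by
      change _ = lift (fst N N ≫ n) (snd N N ≫ n) ≫ μ[G]
      congr 1
      apply CartesianMonoidalCategory.hom_ext <;> simp
    rw [this]
    exact (hrep _).mpr (hmul _ _ (hn _) (hn _))
  · have : n ≫ ι[G] = n⁻¹ := rfl
    rw [this]
    have h := hinv _ (hn (𝟙 N))
    rw [Category.id_comp] at h
    exact (hrep _).mpr h

end Groth.Agent.Helper18.Transp
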