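import Groth.Agent.Lib.Helper18.QSh2
import Groth.Agent.Lib.Helper21.SubmDesc
import Groth.Agent.Lib.Helper13.GaPts
import Groth.Prelude.Def_W4bk4git07Quot
import Mathlib

/-!
# Geometric quotients from quotient sheaves (helper18)
-/

set_option autoImplicit false
set_option linter.unusedSectionVars false

universe u

open CategoryTheory CategoryTheory.Limits AlgebraicGeometry Opposite MorphismProperty TopologicalSpace

noncomputable section

namespace Groth.Agent.Helper18.GeomQuot

/-- universally submersive morphisms -/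
abbrev US : MorphismProperty Scheme.{u} := MorphismProperty.universally (topologically @Topology.IsQuotientMap)

theorem isQuotientMap_of_restrictPreimage {α β ι : Type*} [TopologicalSpace α] [TopologicalSpace β]
    {f : α → β} (hf : Continuous f) {U : ι → Opens β} (hU : IsOpenCover U)
    (H : ∀ i, Topology.IsQuotientMap ((U i).1.restrictPreimage f)) : Topology.IsQuotientMap f := by
  rw [Topology.isQuotientMap_iff]
  refine ⟨.of_isOpen_preimage_iff_isOpen fun s => ⟨fun hs => ?_, fun hs => hs.preimage hf⟩, ?_⟩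
  · rw [hU.isOpen_iff_coe_preimage]
    intro i
    rw [← (H i).isOpen_preimage]
    exact hs.preimage continuous_subtype_val
  · intro y
    have hy : y ∈ ⋃ i, (U i : Set β) := by rw [hU.iSup_set_eq_univ]; trivial
    obtain ⟨i, hi⟩ := Set.mem_iUnion.1 hy
    obtain ⟨x, hx⟩ := (H i).surjective ⟨y, hi⟩
    exact ⟨x.1, congrArg Subtype.val hx⟩

instance : IsZariskiLocalAtTarget US.{u} := by
  apply universally_isZariskiLocalAtTarget
  intro X Y f ι U hU H
  simp_rw [topologically, morphismRestrict_base] at H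
  exact isQuotientMap_of_restrictPreimage f.continuous hU H

theorem quotientMap_descends :
    (topologically @Topology.IsQuotientMap : MorphismProperty Scheme.{u}).DescendsAlong
      (@Surjective ⊓ @Flat ⊓ @QuasiCompact) := by
  constructor
  intro A X Y Z fst snd c g hpb hc hfst
  obtain ⟨⟨h1, h2⟩, h3⟩ := hc
  haveI := h1
  haveI := h2
  haveI := h3
  have hq : Topology.IsQuotientMap c.base := Flat.isQuotientMap_of_surjective c
  have hfst' : Topology.IsQuotientMap fst.base := hfst
  show Topology.IsQuotientMap g.base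
  have hcomp : Topology.IsQuotientMap (fst ≫ c).base := by
    rw [Scheme.Hom.comp_base, TopCat.coe_comp]
    exact hq.comp hfst'
  rw [hpb.w, Scheme.Hom.comp_base, TopCat.coe_comp] at hcomp
  exact Topology.IsQuotientMap.of_comp snd.continuous g.continuous hcomp

instance : US.{u}.DescendsAlong (@Surjective ⊓ @Flat ⊓ @QuasiCompact) :=
  Groth.Agent.Helper21.SubmDesc.universally_descends quotientMap_descends

/-- a morphism with a section is universally submersive -/
theorem us_of_section {A B : Scheme.{u}} (g : A ⟶ B) (c : B ⟶ A) (hc : c ≫ g = 𝟙 B) : US g := by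
  intro A' B' i₁ i₂ g' sq
  -- section of g'
  have hw : 𝟙 B' ≫ i₂ = (i₂ ≫ c) ≫ g := by rw [Category.assoc, hc, Category.comp_id, Category.id_comp]
  let c' : B' ⟶ A' := sq.lift (𝟙 B') (i₂ ≫ c) hw
  have hc' : c' ≫ g' = 𝟙 B' := sq.lift_fst _ _ _
  show Topology.IsQuotientMap g'.base
  have hcomp : Topology.IsQuotientMap (c' ≫ g').base := by
    rw [hc']
    exact (Homeomorph.refl _).isQuotientMap
  rw [Scheme.Hom.comp_base, TopCat.coe_comp] at hcomp
  exact Topology.IsQuotientMap.of_comp c'.continuous g'.continuous hcomp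

theorem appTop_topIso_inv {A B : Scheme.{u}} (h : A ⟶ B) (U : B.Opens) (V : A.Opens) (h' : V.toScheme ⟶ U.toScheme)
    (hh : h' ≫ U.ι = V.ι ≫ h) (e : V ≤ h ⁻¹ᵁ U) :
    U.topIso.inv ≫ h'.appTop = h.appLE U V e ≫ V.topIso.inv := by
  have e1 : U.topIso.inv = U.ι.appLE U ⊤ (by simp) := by
    rw [Scheme.Opens.ι_appLE, Scheme.Opens.topIso_inv]; rfl
  have e2 : V.topIso.inv = V.ι.appLE V ⊤ (by simp) := by
    rw [Scheme.Opens.ι_appLE, Scheme.Opens.topIso_inv]; rfl
  have e3 : h'.appTop = h'.appLE ⊤ ⊤ (le_of_eq rfl) := by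
    rw [Scheme.Hom.appTop, Scheme.Hom.app_eq_appLE]
    rfl
  rw [e1, e2, e3, Scheme.Hom.appLE_comp_appLE, Scheme.Hom.appLE_comp_appLE]
  simp only [hh]

section Loc

variable (K : Precoverage Scheme.{u})

/-- properties local for the fpqc topology hold for morphisms with local sections as soon as they hold for
morphisms with a section -/
theorem prop_of_loc (P : MorphismProperty Scheme.{u}) [P.IsStableUnderBaseChange]
    [IsZariskiLocalAtTarget P] [P.DescendsAlong (@Surjective ⊓ @Flat ⊓ @QuasiCompact)]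
    (hK : K ≤ Scheme.fpqcPrecoverage) {X Y : Scheme.{u}} (f : X ⟶ Y)
    (hloc : NonAbH1.IsLocallyTrivialFor K (Over.mk f : Over Y))
    (hsec : ∀ {A B : Scheme.{u}} (g : A ⟶ B) (c : B ⟶ A), c ≫ g = 𝟙 B → P g) : P f := by
  obtain ⟨Rc, hR, hs⟩ := hloc
  haveI := Groth.Agent.Helper18.FpqcDesc.isLocalAtTarget_fpqc P
  refine MorphismProperty.IsLocalAtTarget.of_forall_pullbackSnd (P := P) (K := Scheme.fpqcPrecoverage)
    (hK _ hR) ?_
  intro V g _ hg
  obtain ⟨c, hc⟩ := hs g hg
  have hc' : c ≫ f = g := hc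
  exact hsec (pullback.snd f g) (pullback.lift c (𝟙 V) (by rw [hc', Category.id_comp]))
    (pullback.lift_snd _ _ _)

theorem us_of_loc (hK : K ≤ Scheme.fpqcPrecoverage) {X Y : Scheme.{u}} (f : X ⟶ Y)
    (hloc : NonAbH1.IsLocallyTrivialFor K (Over.mk f : Over Y)) : US f :=
  prop_of_loc K US hK f hloc us_of_section

theorem surjective_of_loc (hK : K ≤ Scheme.fpqcPrecoverage) {X Y : Scheme.{u}} (f : X ⟶ Y)
    (hloc : NonAbH1.IsLocallyTrivialFor K (Over.mk f : Over Y)) : Surjective f := by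
  refine prop_of_loc K @Surjective hK f hloc ?_
  intro A B g c hc
  refine ⟨fun b => ⟨c b, ?_⟩⟩
  rw [← Scheme.Hom.comp_apply, hc]
  rfl

end Loc

section Act

open MonoidalCategory CartesianMonoidalCategory MonObj

variable {S : Scheme.{u}} {G X : Over S} [GrpObj G] (a : AlgGrp.Action G X)

theorem act_one {T : Over S} (x : T ⟶ X) : lift (toUnit T ≫ η[G]) x ≫ a.act = x := by
  have h1 : lift (toUnit T ≫ η[G]) x = lift (toUnit T) x ≫ (η[G] ▷ X) := by
    rw [lift_whiskerRight]
  rw [h1, Category.assoc, a.one_act]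
  simp

theorem act_mul {T : Over S} (g h : T ⟶ G) (x : T ⟶ X) :
    lift (g * h) x ≫ a.act = lift g (lift h x ≫ a.act) ≫ a.act := by
  have h1 : lift (g * h) x = lift (lift g h) x ≫ (μ[G] ▷ X) := by
    rw [lift_whiskerRight, Hom.mul_def]
  have h2 : lift (lift g h) x ≫ (α_ G G X).hom = lift g (lift h x) := by
    apply CartesianMonoidalCategory.hom_ext
    · simp
    · apply CartesianMonoidalCategory.hom_ext <;> simp
  rw [h1, Category.assoc, a.mul_act, reassoc_of% h2, ← Category.assoc, lift_whiskerLeft]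

theorem relM_act_equivalence (T : Over S) :
    _root_.Equivalence (Groth.Agent.Helper18.QSh.relM a.act (snd G X) T) := by
  refine ⟨fun x => ⟨lift (toUnit T ≫ η[G]) x, act_one a x, lift_snd _ _⟩, ?_, ?_⟩
  · rintro x y ⟨r, rfl, rfl⟩
    refine ⟨lift (r ≫ fst G X)⁻¹ (r ≫ a.act), ?_, lift_snd _ _⟩
    have hr : r = lift (r ≫ fst G X) (r ≫ snd G X) := by
      apply CartesianMonoidalCategory.hom_ext <;> simp
    have h1 : lift (r ≫ fst G X) (r ≫ snd G X) ≫ a.act = r ≫ a.act := by rw [← hr]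
    rw [← h1, ← act_mul, inv_mul_cancel]
    exact act_one a _
  · rintro x y z ⟨r₁, rfl, rfl⟩ ⟨r₂, hr₂, rfl⟩
    refine ⟨lift ((r₁ ≫ fst G X) * (r₂ ≫ fst G X)) (r₂ ≫ snd G X), ?_, lift_snd _ _⟩
    have hr1 : r₁ = lift (r₁ ≫ fst G X) (r₁ ≫ snd G X) := by
      apply CartesianMonoidalCategory.hom_ext <;> simp
    have hr2 : r₂ = lift (r₂ ≫ fst G X) (r₂ ≫ snd G X) := by
      apply CartesianMonoidalCategory.hom_ext <;> simp
    rw [act_mul, ← hr2, hr₂, ← hr1]

end Act

section BC

open Groth.Agent.Helper18.QSh Groth.Agent.Helper18.FppfDescHom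

variable (K : Precoverage Scheme.{u}) {S : Scheme.{u}} [(QuotSh.J K S).Subcanonical]
  {R X Y : Over S} (s t : R ⟶ X) (q : X ⟶ Y)

/-- base change of a quotient along a monomorphism -/
theorem isQuotient_baseChange (hE : ∀ T, _root_.Equivalence (relM s t T)) (hq : QuotSh.IsQuotient K s t q)
    {R' X' Y' : Over S} (jY : Y' ⟶ Y) [Mono jY] (jX : X' ⟶ X) (q' : X' ⟶ Y') (sq : IsPullback jX q' q jY)
    (jR : R' ⟶ R) (s' t' : R' ⟶ X') (hs : s' ≫ jX = jR ≫ s) (ht : t' ≫ jX = jR ≫ t)
    (hR : ∀ (T : Over S) (r : T ⟶ R) (x y : T ⟶ X'), r ≫ s = x ≫ jX → r ≫ t = y ≫ jX →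
      ∃ r' : T ⟶ R', r' ≫ jR = r) :
    QuotSh.IsQuotient K s' t' q' := by
  have hw : s ≫ q = t ≫ q := hq.1
  have hmono : ∀ {T : Over S} (x y : T ⟶ X'), x ≫ jX = y ≫ jX → x = y := by
    intro T x y hxy
    apply sq.hom_ext hxy
    rw [← cancel_mono jY, Category.assoc, Category.assoc, ← sq.w, ← Category.assoc, ← Category.assoc, hxy]
  have w' : s' ≫ q' = t' ≫ q' := by
    rw [← cancel_mono jY, Category.assoc, Category.assoc, ← sq.w, ← Category.assoc, ← Category.assoc, hs, ht,
      Category.assoc, Category.assoc, hw]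
  refine isQuotient_of_local K s' t' q' w'
    (Groth.Agent.Helper18.DescHomK.secSieve_of_isPullback K sq (secSieve_of_isQuotient K s t q hq)) ?_
  intro T a' b' hab
  have hab' : (a' ≫ jX) ≫ q = (b' ≫ jX) ≫ q := by
    rw [Category.assoc, Category.assoc, sq.w, ← Category.assoc, ← Category.assoc, hab]
  obtain ⟨Rv, hRv, hl⟩ := local_of_isQuotient K s t hE q hq T (a' ≫ jX) (b' ≫ jX) hab'
  refine ⟨Rv, hRv, fun T' k hk => ?_⟩
  obtain ⟨r, hr1, hr2⟩ := hl k hk
  obtain ⟨r', hr'⟩ := hR T' r (k ≫ a') (k ≫ b') (by rw [hr1, Category.assoc]) (by rw [hr2, Category.assoc])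
  refine ⟨r', hmono _ _ ?_, hmono _ _ ?_⟩
  · rw [Category.assoc, hs, ← Category.assoc, hr', hr1, Category.assoc]
  · rw [Category.assoc, ht, ← Category.assoc, hr', hr2, Category.assoc]

end BC

section Orbit

open MonoidalCategory CartesianMonoidalCategory MonObj
open Groth.Agent.Helper18.QSh Groth.Agent.Helper18.FppfDescHom

variable (K : Precoverage Scheme.{u}) {S : Scheme.{u}} [(QuotSh.J K S).Subcanonical]
  [K.IsStableUnderComposition] [K.IsStableUnderBaseChange] [K.HasIsos]
  {G X Y : Over S} [GrpObj G] (a : AlgGrp.Action G X) (φ : X ⟶ Y)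

theorem loc_of_isQuotient {R : Over S} (s t : R ⟶ X) (hq : QuotSh.IsQuotient K s t φ) :
    NonAbH1.IsLocallyTrivialFor K (Over.mk φ.left : Over Y.left) :=
  Groth.Agent.Helper18.DescHomK.loc_of_secSieve_mem K φ (secSieve_of_isQuotient K s t φ hq)

theorem orbit_surjective (hK : K ≤ Scheme.fpqcPrecoverage)
    (hq : QuotSh.IsQuotient K a.act (snd G X) φ) (inv : GIT.IsInvariant a φ) :
    Function.Surjective (GIT.PsiY a φ inv).base := by
  have hsnd : pullback.snd φ.left φ.left ≫ X.hom = pullback.fst φ.left φ.left ≫ X.hom := by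
    rw [← Over.w φ, ← Category.assoc, ← Category.assoc, pullback.condition]
  let P : Over S := Over.mk (pullback.fst φ.left φ.left ≫ X.hom)
  let p1 : P ⟶ X := Over.homMk (pullback.fst φ.left φ.left) rfl
  let p2 : P ⟶ X := Over.homMk (pullback.snd φ.left φ.left) hsnd
  have hP : IsPullback p1 p2 φ φ :=
    IsPullback.of_map_of_faithful (Over.forget S) (IsPullback.of_hasPullback φ.left φ.left)
  have he : GIT.PsiY a φ inv ≫ pullback.fst φ.left φ.left ≫ X.hom = (G ⊗ X).hom := by
    unfold GIT.PsiY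
    rw [pullback.lift_fst_assoc]
    exact Over.w a.act
  let e : G ⊗ X ⟶ P := Over.homMk (GIT.PsiY a φ inv) he
  have he1 : e ≫ p1 = a.act := by
    ext
    simp only [Over.comp_left, e, p1, Over.homMk_left]
    exact pullback.lift_fst _ _ _
  have he2 : e ≫ p2 = snd G X := by
    ext
    simp only [Over.comp_left, e, p2, Over.homMk_left]
    exact pullback.lift_snd _ _ _
  obtain ⟨Rv, hRv, hl⟩ := local_of_isQuotient K a.act (snd G X) (relM_act_equivalence a) φ hq P p1 p2 hP.w
  have hsec : secSieve e ∈ QuotSh.J K S P := by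
    refine (QuotSh.J K S).superset_covering ?_ hRv
    intro T' k hk
    obtain ⟨r, hr1, hr2⟩ := hl k hk
    refine ⟨r, hP.hom_ext ?_ ?_⟩
    · rw [Category.assoc, he1, hr1]
    · rw [Category.assoc, he2, hr2]
  have hloc := Groth.Agent.Helper18.DescHomK.loc_of_secSieve_mem K e hsec
  exact (surjective_of_loc K hK e.left hloc).surj

end Orbit

section Sections

open MonoidalCategory CartesianMonoidalCategory MonObj
open Groth.Agent.Helper18.QSh Groth.Agent.Helper18.FppfDescHom Groth.Agent.Helper13.GaPts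

variable {S : Scheme.{u}}

/-- lifting through an open subscheme -/
theorem exists_lift_open {Z T : Over S} (O : Z.left.Opens) (r : T ⟶ Z) (h : ∀ x : T.left, r.left x ∈ O) :
    ∃ r' : T ⟶ Over.mk (O.ι ≫ Z.hom), r' ≫ (Over.homMk O.ι rfl : Over.mk (O.ι ≫ Z.hom) ⟶ Z) = r := by
  have hr : Set.range r.left ⊆ Set.range O.ι := by
    rintro _ ⟨x, rfl⟩
    rw [Scheme.Opens.range_ι]
    exact h x
  refine ⟨Over.homMk (IsOpenImmersion.lift O.ι r.left hr) ?_, ?_⟩
  · show IsOpenImmersion.lift O.ι r.left hr ≫ O.ι ≫ Z.hom = T.hom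
    rw [← Category.assoc, IsOpenImmersion.lift_fac]
    exact Over.w r
  · ext
    simp only [Over.comp_left, Over.homMk_left]
    exact IsOpenImmersion.lift_fac _ _ _

theorem appTop_topIso_inv_apply {A B : Scheme.{u}} (h : A ⟶ B) (U : B.Opens) (V : A.Opens)
    (h' : V.toScheme ⟶ U.toScheme) (hh : h' ≫ U.ι = V.ι ≫ h) (e : V ≤ h ⁻¹ᵁ U) (g : Γ(B, U)) :
    h'.appTop (U.topIso.inv g) = V.topIso.inv (h.appLE U V e g) := by
  have := congrArg (fun m => m.hom g) (appTop_topIso_inv h U V h' hh e)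
  simpa using this

theorem appLE_congr_hom {A B : Scheme.{u}} {m m' : A ⟶ B} (hm : m = m') (U : B.Opens) (W : A.Opens)
    (e : W ≤ m ⁻¹ᵁ U) (e' : W ≤ m' ⁻¹ᵁ U) : m.appLE U W e = m'.appLE U W e' := by
  subst hm
  rfl

variable (K : Precoverage Scheme.{u}) [(QuotSh.J K S).Subcanonical]
  {G X Y : Over S} [GrpObj G] (a : AlgGrp.Action G X) (φ : X ⟶ Y)

theorem sections_of_isQuotient (hq : QuotSh.IsQuotient K a.act (snd G X) φ) (U : Y.left.Opens) :
    Function.Injective (φ.left.app U) ∧ Set.range (φ.left.app U) = {f | GIT.IsInvSection a φ U f} := by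
  have inv : a.act ≫ φ = snd G X ≫ φ := hq.1
  have invl : a.act.left ≫ φ.left = (snd G X).left ≫ φ.left := by
    rw [← Over.comp_left, ← Over.comp_left, inv]
  set V : X.left.Opens := φ.left ⁻¹ᵁ U with hV
  set W : (G ⊗ X).left.Opens := a.act.left ⁻¹ᵁ V ⊓ (snd G X).left ⁻¹ᵁ V with hW
  let YU : Over S := Over.mk (U.ι ≫ Y.hom)
  let jY : YU ⟶ Y := Over.homMk U.ι rfl
  let XV : Over S := Over.mk (V.ι ≫ X.hom)
  let jX : XV ⟶ X := Over.homMk V.ι rfl
  have hφU : (φ.left ∣_ U) ≫ U.ι ≫ Y.hom = V.ι ≫ X.hom := by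
    rw [← Category.assoc, morphismRestrict_ι, Category.assoc, Over.w φ]
  let φU : XV ⟶ YU := Over.homMk (φ.left ∣_ U) hφU
  have sq : IsPullback jX φU φ jY :=
    IsPullback.of_map_of_faithful (Over.forget S) (isPullback_morphismRestrict φ.left U).flip
  let RW : Over S := Over.mk (W.ι ≫ (G ⊗ X).hom)
  let jR : RW ⟶ G ⊗ X := Over.homMk W.ι rfl
  obtain ⟨sW, hsW⟩ := exists_lift_open V (jR ≫ a.act) (fun x => x.2.1)
  obtain ⟨tW, htW⟩ := exists_lift_open V (jR ≫ snd G X) (fun x => x.2.2)
  haveI : Mono jY := by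
    haveI : Mono jY.left := inferInstanceAs (Mono U.ι)
    exact Over.mono_of_mono_left jY
  have hquot : QuotSh.IsQuotient K sW tW φU := by
    refine isQuotient_baseChange K a.act (snd G X) φ (relM_act_equivalence a) hq jY jX φU sq jR sW tW
      hsW htW ?_
    intro T r x y h1 h2
    refine exists_lift_open W r (fun pt => ⟨?_, ?_⟩)
    · have e1 : a.act.left (r.left pt) = V.ι (x.left pt) := congrArg (fun m => m.left.base pt) h1
      show a.act.left (r.left pt) ∈ V
      rw [e1]
      exact (x.left pt).2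
    · have e2 : (snd G X).left (r.left pt) = V.ι (y.left pt) := congrArg (fun m => m.left.base pt) h2
      show (snd G X).left (r.left pt) ∈ V
      rw [e2]
      exact (y.left pt).2
  -- compatibility of the restricted maps
  have hsWl : sW.left ≫ V.ι = W.ι ≫ a.act.left := congrArg (fun m => m.left) hsW
  have htWl : tW.left ≫ V.ι = W.ι ≫ (snd G X).left := congrArg (fun m => m.left) htW
  have hφUl : φU.left ≫ U.ι = V.ι ≫ φ.left := morphismRestrict_ι φ.left U
  -- functions on `U` pulled back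
  have key1 : ∀ g : Γ(Y.left, U), φU.left.appTop (U.topIso.inv g) = V.topIso.inv (φ.left.app U g) := by
    intro g
    rw [appTop_topIso_inv_apply φ.left U V φU.left hφUl le_rfl g, Scheme.Hom.app_eq_appLE]
  have key2 : ∀ f : Γ(X.left, V), sW.left.appTop (V.topIso.inv f) =
      W.topIso.inv (a.act.left.appLE V W inf_le_left f) :=
    fun f => appTop_topIso_inv_apply a.act.left V W sW.left hsWl inf_le_left f
  have key3 : ∀ f : Γ(X.left, V), tW.left.appTop (V.topIso.inv f) =
      W.topIso.inv ((snd G X).left.appLE V W inf_le_right f) :=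
    fun f => appTop_topIso_inv_apply (snd G X).left V W tW.left htWl inf_le_right f
  have hinj : ∀ {Z : Scheme.{u}} (O : Z.Opens) (x y : Γ(Z, O)), O.topIso.inv x = O.topIso.inv y → x = y := by
    intro Z O x y h
    have := congrArg O.topIso.hom h
    rwa [Iso.inv_hom_id_apply, Iso.inv_hom_id_apply] at this
  constructor
  · intro g₁ g₂ h12
    let χ₁ : YU ⟶ Red.Ga S := ptOfElt (U.topIso.inv g₁)
    let χ₂ : YU ⟶ Red.Ga S := ptOfElt (U.topIso.inv g₂)
    have hχ : φU ≫ χ₁ = φU ≫ χ₂ := by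
      apply eq_of_gaFn_eq
      rw [gaFn_comp, gaFn_comp, gaFn_ptOfElt, gaFn_ptOfElt, key1, key1, h12]
    have h2 := desc_unique_of_isQuotient K sW tW φU hquot χ₁ χ₂ hχ
    have h3 : U.topIso.inv g₁ = U.topIso.inv g₂ := by
      have := congrArg Red.gaFn h2
      rwa [gaFn_ptOfElt, gaFn_ptOfElt] at this
    exact hinj U _ _ h3
  · ext f
    simp only [Set.mem_range, Set.mem_ofPred_eq]
    constructor
    · rintro ⟨g, rfl⟩
      unfold GIT.IsInvSection
      have e1 : a.act.left.appLE V W inf_le_left (φ.left.app U g) =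
          (a.act.left ≫ φ.left).appLE U W inf_le_left g := by
        rw [Scheme.Hom.comp_appLE]
        rfl
      have e2 : (snd G X).left.appLE V W inf_le_right (φ.left.app U g) =
          ((snd G X).left ≫ φ.left).appLE U W inf_le_right g := by
        rw [Scheme.Hom.comp_appLE]
        rfl
      refine e1.trans (Eq.trans ?_ e2.symm)
      exact congrArg (fun m => m.hom g) (appLE_congr_hom invl U W inf_le_left inf_le_right)
    · intro hf
      have hf' : a.act.left.appLE V W inf_le_left f = (snd G X).left.appLE V W inf_le_right f := hf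
      let ψ : XV ⟶ Red.Ga S := ptOfElt (V.topIso.inv f)
      have hψ : sW ≫ ψ = tW ≫ ψ := by
        apply eq_of_gaFn_eq
        rw [gaFn_comp, gaFn_comp, gaFn_ptOfElt, key2, key3, hf']
      obtain ⟨χ, hχ⟩ := exists_desc_of_isQuotient K sW tW φU hquot ψ hψ
      refine ⟨U.topIso.hom (Red.gaFn χ), hinj V _ _ ?_⟩
      rw [← key1]
      have h4 : U.topIso.inv (U.topIso.hom (Red.gaFn χ)) = Red.gaFn χ := Iso.hom_inv_id_apply U.topIso _
      rw [h4, ← gaFn_comp, hχ, gaFn_ptOfElt]

end Sections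

section Main

open MonoidalCategory CartesianMonoidalCategory MonObj

variable (K : Precoverage Scheme.{u}) {S : Scheme.{u}} [(QuotSh.J K S).Subcanonical]
  [K.IsStableUnderComposition] [K.IsStableUnderBaseChange] [K.HasIsos]
  {G X Y : Over S} [GrpObj G] (a : AlgGrp.Action G X) (φ : X ⟶ Y)

/-- a quotient of sheaves (for a topology coarser than fpqc) by a group action is a geometric quotient -/
theorem isGeomQuot_of_isQuotient (hK : K ≤ Scheme.fpqcPrecoverage)
    (hq : QuotSh.IsQuotient K a.act (snd G X) φ) : GIT.IsGeomQuot a φ where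
  inv := hq.1
  surj := (surjective_of_loc K hK φ.left (loc_of_isQuotient K φ _ _ hq)).surj
  orbit := orbit_surjective K a φ hK hq hq.1
  subm := us_of_loc K hK φ.left (loc_of_isQuotient K φ _ _ hq)
  sections := sections_of_isQuotient K a φ hq

end Main

end Groth.Agent.Helper18.GeomQuot
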