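import Mathlib
import Groth.Prelude.Def_AlgSp
import Groth.Prelude.Def_NonAbH2

/-!
# Descent of morphisms along fppf-locally split morphisms (helper18)

For `π : E ⟶ B` over `S` which acquires sections fppf-locally on `B`, morphisms `E ⟶ W` constant on the fibres of `π`
descend uniquely to `B ⟶ W`.
-/

set_option autoImplicit false
set_option linter.unusedSectionVars false
set_option backward.isDefEq.respectTransparency false

universe u

open CategoryTheory CategoryTheory.Limits MonoidalCategory CartesianMonoidalCategory AlgebraicGeometry Opposite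

namespace Groth.Agent.Helper18.FppfDescHom

variable {S : Scheme.{u}}

/-- The sieve of morphisms to the base over which `π` has a section. -/
def secSieve {E B : Over S} (π : E ⟶ B) : Sieve B where
  arrows V g := ∃ s : V ⟶ E, s ≫ π = g
  downward_closed := by
    rintro V W g ⟨s, hs⟩ k
    exact ⟨k ≫ s, by rw [Category.assoc, hs]⟩

theorem secSieve_mem_of_loc {E B : Over S} (π : E ⟶ B)
    (hloc : NonAbH1.IsLocallyTrivialFor Scheme.fppfPrecoverage (Over.mk π.left : Over B.left)) :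
    secSieve π ∈ AlgSp.J S B := by
  obtain ⟨R, hR, hsec⟩ := hloc
  rw [AlgSp.J_eq, GrothendieckTopology.mem_over_iff]
  refine (Scheme.fppfTopology).superset_covering ?_ (Precoverage.generate_mem_toGrothendieck hR)
  rintro Z c ⟨Y, a, b, hb, rfl⟩
  rw [Sieve.overEquiv_iff]
  obtain ⟨s, hs⟩ := hsec b hb
  have hs' : s ≫ π.left = b := hs
  have hw : s ≫ E.hom = b ≫ B.hom := by
    rw [← Over.w π, ← Category.assoc, hs']
  refine ⟨Over.homMk (a ≫ s) (by simp [hw]), ?_⟩
  ext
  simp [hs']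

/-- a section of `π` gives membership. -/
theorem secSieve_top_of_section {E B : Over S} (π : E ⟶ B) (s : B ⟶ E) (hs : s ≫ π = 𝟙 B) :
    secSieve π ∈ AlgSp.J S B := by
  have : secSieve π = ⊤ := by
    apply Sieve.ext
    intro V g
    simp only [Sieve.top_apply, iff_true]
    exact ⟨g ≫ s, by rw [Category.assoc, hs, Category.comp_id]⟩
  rw [this]
  exact (AlgSp.J S).top_mem B

theorem secSieve_whiskerRight {E B : Over S} (π : E ⟶ B) (h : secSieve π ∈ AlgSp.J S B) (G : Over S) :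
    secSieve (π ▷ G) ∈ AlgSp.J S (B ⊗ G) := by
  refine (AlgSp.J S).superset_covering ?_ ((AlgSp.J S).pullback_stable (fst B G) h)
  rintro V g ⟨s, hs⟩
  refine ⟨lift s (g ≫ snd B G), ?_⟩
  rw [lift_whiskerRight, hs]
  apply CartesianMonoidalCategory.hom_ext <;> simp

theorem secSieve_tensorHom {E B E' B' : Over S} (π : E ⟶ B) (π' : E' ⟶ B')
    (h : secSieve π ∈ AlgSp.J S B) (h' : secSieve π' ∈ AlgSp.J S B') :
    secSieve (π ⊗ₘ π') ∈ AlgSp.J S (B ⊗ B') := by
  refine (AlgSp.J S).superset_covering ?_ ((AlgSp.J S).intersection_covering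
    ((AlgSp.J S).pullback_stable (fst B B') h) ((AlgSp.J S).pullback_stable (snd B B') h'))
  rintro V g ⟨⟨s, hs⟩, ⟨s', hs'⟩⟩
  refine ⟨lift s s', ?_⟩
  rw [lift_map, hs, hs']
  apply CartesianMonoidalCategory.hom_ext <;> simp

section Desc

variable {E B W : Over S} (π : E ⟶ B)

theorem isSheafFor_secSieve (h : secSieve π ∈ AlgSp.J S B) (N : AlgSp.Sp S) :
    Presieve.IsSheafFor N.obj (secSieve π).arrows :=
  ((isSheaf_iff_isSheaf_of_type _ _).1 N.property) _ h

/-- `π` is an epimorphism for maps to schemes. -/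
theorem epi_of_secSieve (h : secSieve π ∈ AlgSp.J S B) (f f' : B ⟶ W) (hff : π ≫ f = π ≫ f') : f = f' := by
  have hs := (isSheafFor_secSieve π h ((AlgSp.yon S).obj W)).isSeparatedFor
  have : (⟨f⟩ : ((AlgSp.yon S).obj W).obj.obj (op B)) = ⟨f'⟩ := by
    apply hs.ext
    rintro V g ⟨s, rfl⟩
    apply ULift.ext
    change (s ≫ π) ≫ f = (s ≫ π) ≫ f'
    rw [Category.assoc, Category.assoc, hff]
  exact congrArg ULift.down this

/-- the family of local values -/
noncomputable def fam (c : E ⟶ W) : Presieve.FamilyOfElements ((AlgSp.yon S).obj W).obj (secSieve π).arrows :=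
  fun _ _ hg => ⟨hg.choose ≫ c⟩

theorem fam_eq (c : E ⟶ W)
    (hc : ∀ (V : Over S) (s s' : V ⟶ E), s ≫ π = s' ≫ π → s ≫ c = s' ≫ c)
    {V : Over S} (g : V ⟶ B) (hg : (secSieve π).arrows g) (s : V ⟶ E) (hs : s ≫ π = g) :
    fam π c g hg = ⟨s ≫ c⟩ := by
  apply ULift.ext
  exact hc _ _ _ (hg.choose_spec.trans hs.symm)

theorem fam_compatible (c : E ⟶ W)
    (hc : ∀ (V : Over S) (s s' : V ⟶ E), s ≫ π = s' ≫ π → s ≫ c = s' ≫ c) : (fam π c).Compatible := by
  intro Y1 Y2 Z g1 g2 f1 f2 h1 h2 hcomm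
  obtain ⟨s1, hs1⟩ := h1
  obtain ⟨s2, hs2⟩ := h2
  rw [fam_eq π c hc f1 _ s1 hs1, fam_eq π c hc f2 _ s2 hs2]
  apply ULift.ext
  change g1 ≫ s1 ≫ c = g2 ≫ s2 ≫ c
  rw [← Category.assoc, ← Category.assoc]
  apply hc
  rw [Category.assoc, Category.assoc, hs1, hs2, hcomm]

/-- descent of a morphism constant on the fibres of `π`. -/
theorem desc_of_secSieve (h : secSieve π ∈ AlgSp.J S B) (c : E ⟶ W)
    (hc : ∀ (V : Over S) (s s' : V ⟶ E), s ≫ π = s' ≫ π → s ≫ c = s' ≫ c) : ∃ f : B ⟶ W, π ≫ f = c := by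
  have hsh := isSheafFor_secSieve π h ((AlgSp.yon S).obj W)
  refine ⟨(hsh.amalgamate _ (fam_compatible π c hc)).down, ?_⟩
  have := hsh.valid_glue (fam_compatible π c hc) π ⟨𝟙 E, Category.id_comp _⟩
  rw [fam_eq π c hc π _ (𝟙 E) (Category.id_comp _)] at this
  exact congrArg ULift.down this

end Desc

end Groth.Agent.Helper18.FppfDescHom
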