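import Mathlib
import Groth.Agent.Lib.Helper18.GrpSchT
import Groth.Agent.Lib.Helper13.CartierMax

/-!
# Finitely many homomorphisms suffice to separate points (Noetherian induction on kernels)
-/

set_option linter.style.haveILetI false

namespace Groth.Agent.Helper18.AVJointMono

open CategoryTheory CategoryTheory.Limits AlgebraicGeometry MonoidalCategory CartesianMonoidalCategory
open MonObj

universe u

variable {S : Scheme.{u}} {X A : Over S} [GrpObj A]

/-- The ideal sheaf of the kernel of `f : X ⟶ A` (pullback of the unit section). -/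
noncomputable def kerIdeal (f : X ⟶ A) : X.left.IdealSheafData :=
  (pullback.fst f.left η[A].left).ker

theorem kerIdeal_le_of_comp_eq_one (f : X ⟶ A) {T : Over S} (x : T ⟶ X) (hx : x ≫ f = 1) :
    kerIdeal f ≤ x.left.ker := by
  have h1 : x.left ≫ f.left = (toUnit T).left ≫ η[A].left := by
    have := congrArg (fun g => g.left) hx
    simpa [Hom.one_def] using this
  have h2 : x.left = pullback.lift x.left (toUnit T).left h1 ≫ pullback.fst f.left η[A].left :=
    (pullback.lift_fst _ _ _).symm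
  rw [h2]
  exact Scheme.Hom.le_ker_comp _ _

theorem comp_eq_one_of_kerIdeal_le [IsClosedImmersion η[A].left] (f : X ⟶ A) {T : Over S}
    (x : T ⟶ X) (hx : kerIdeal f ≤ x.left.ker) : x ≫ f = 1 := by
  have hfac := IsClosedImmersion.lift_fac (pullback.fst f.left η[A].left) x.left hx
  set l := IsClosedImmersion.lift (pullback.fst f.left η[A].left) x.left hx with hl
  have hη : η[A].left ≫ A.hom = 𝟙 _ := Over.w η[A]
  have h3 : l ≫ pullback.snd f.left η[A].left = T.hom := by
    have h4 : x.left ≫ f.left ≫ A.hom = T.hom := by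
      rw [Over.w f, Over.w x]
    rw [← hfac, Category.assoc, ← Category.assoc (pullback.fst _ _), pullback.condition,
      Category.assoc, hη] at h4
    simpa using h4
  rw [Hom.one_def]
  ext1
  rw [Over.comp_left, Over.comp_left, ← hfac, Category.assoc, pullback.condition,
    ← Category.assoc, h3]
  rfl


variable [GrpObj X]

/-- Noetherian induction: if the common kernel of a class `ℋ` of homomorphisms `X ⟶ A` is trivial, finitely many
members of `ℋ` are jointly monomorphic on points. -/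
theorem exists_finite_jointly_mono [IsNoetherian X.left] [IsClosedImmersion η[A].left]
    (ℋ : Set (X ⟶ A)) (hmon : ∀ f ∈ ℋ, IsMonHom f)
    (hsep : ∀ (T : Over S) (x : T ⟶ X), (∀ f ∈ ℋ, x ≫ f = 1) → x = 1) :
    ∃ (n : ℕ) (ψ : Fin n → (X ⟶ A)), (∀ i, ψ i ∈ ℋ) ∧ ∀ (T : Over S) (x y : T ⟶ X),
      (∀ i, x ≫ ψ i = y ≫ ψ i) → x = y := by
  classical
  let 𝒮 : Set X.left.IdealSheafData :=
    {I | ∃ (n : ℕ) (ψ : Fin n → (X ⟶ A)), (∀ i, ψ i ∈ ℋ) ∧ I = ⨆ i, kerIdeal (ψ i)}
  have h𝒮 : 𝒮.Nonempty := ⟨⊥, 0, Fin.elim0, fun i => i.elim0, (iSup_of_empty _).symm⟩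
  haveI := Groth.Agent.Helper13.CartierMax.wellFoundedGT_idealSheafData X.left
  obtain ⟨I₀, ⟨n, ψ, hψ, rfl⟩, hmax⟩ :=
    (wellFounded_gt (α := X.left.IdealSheafData)).has_min 𝒮 h𝒮
  -- every kernel ideal is below `I₀`
  have hle : ∀ f ∈ ℋ, kerIdeal f ≤ ⨆ i, kerIdeal (ψ i) := by
    intro f hf
    let ψ' : Fin (n + 1) → (X ⟶ A) := Fin.cons f ψ
    have hmem : (⨆ i, kerIdeal (ψ' i)) ∈ 𝒮 :=
      ⟨n + 1, ψ', fun i => by
        refine Fin.cases ?_ (fun j => ?_) i
        · exact hf
        · simpa [ψ'] using hψ j, rfl⟩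
    have h1 : (⨆ i, kerIdeal (ψ i)) ≤ ⨆ i, kerIdeal (ψ' i) := by
      refine iSup_le fun i => ?_
      have : kerIdeal (ψ i) = kerIdeal (ψ' i.succ) := by simp [ψ']
      rw [this]
      exact le_iSup (fun j => kerIdeal (ψ' j)) i.succ
    have h2 : kerIdeal f ≤ ⨆ i, kerIdeal (ψ' i) := by
      have : kerIdeal f = kerIdeal (ψ' 0) := by simp [ψ']
      rw [this]
      exact le_iSup (fun j => kerIdeal (ψ' j)) 0
    have h3 := hmax _ hmem
    have h4 : (⨆ i, kerIdeal (ψ' i)) ≤ ⨆ i, kerIdeal (ψ i) := by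
      by_contra hcon
      exact h3 (lt_of_le_not_ge h1 hcon)
    exact h2.trans h4
  -- the closed subscheme cut out by `I₀` is the trivial point
  set I₀ : X.left.IdealSheafData := ⨆ i, kerIdeal (ψ i) with hI₀
  let Z : Over S := Over.mk (I₀.subschemeι ≫ X.hom)
  let z : Z ⟶ X := Over.homMk I₀.subschemeι rfl
  have hzker : z.left.ker = I₀ := I₀.ker_subschemeι
  have hz : z = 1 := by
    apply hsep
    intro f hf
    apply comp_eq_one_of_kerIdeal_le
    rw [hzker]
    exact hle f hf
  refine ⟨n, ψ, hψ, fun T x y hxy => ?_⟩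
  have hd : ∀ i, (x * y⁻¹) ≫ ψ i = 1 := by
    intro i
    haveI := hmon _ (hψ i)
    rw [MonObj.mul_comp, GrpObj.inv_comp, hxy i, mul_inv_cancel]
  have hker : I₀ ≤ (x * y⁻¹).left.ker := by
    refine iSup_le fun i => ?_
    exact kerIdeal_le_of_comp_eq_one _ _ (hd i)
  have hfac := IsClosedImmersion.lift_fac I₀.subschemeι (x * y⁻¹).left
    (by rw [I₀.ker_subschemeι]; exact hker)
  let d' : T ⟶ Z := Over.homMk (IsClosedImmersion.lift I₀.subschemeι (x * y⁻¹).left
    (by rw [I₀.ker_subschemeι]; exact hker)) (by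
      change _ ≫ I₀.subschemeι ≫ X.hom = T.hom
      rw [← Category.assoc, hfac]
      exact Over.w (x * y⁻¹))
  have hd' : x * y⁻¹ = d' ≫ z := by
    ext1
    exact hfac.symm
  rw [hz, MonObj.comp_one] at hd'
  exact mul_inv_eq_one.mp hd'

end Groth.Agent.Helper18.AVJointMono
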