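import Groth.Prelude.Def_ChGrp
import Mathlib

/-!
# Restricting an action along a monomorphism (helper18)
-/

set_option autoImplicit false

universe u

open CategoryTheory CategoryTheory.Limits MonoidalCategory CartesianMonoidalCategory MonObj GrpObj AlgebraicGeometry

noncomputable section

namespace Groth.Agent.Helper18.ActRestrict

variable {S : Scheme.{u}} {H Z Z' : Over S} [GrpObj H]

/-- an action restricts to a stable subobject -/
def restrictMono (a : AlgGrp.Action H Z) (m : Z' ⟶ Z) [Mono m] (act' : H ⊗ Z' ⟶ Z')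
    (h : act' ≫ m = (H ◁ m) ≫ a.act) : AlgGrp.Action H Z' where
  act := act'
  one_act := by
    rw [← cancel_mono m, Category.assoc, h]
    apply AlgGrp.Action.hom_ext_lift₂
    intro T u z
    have hu : u ≫ η[H] = 1 := by rw [Hom.one_def, toUnit_unique (toUnit T) u]
    rw [lift_whiskerRight_assoc, hu, lift_whiskerLeft_assoc, AlgGrp.Action.lift_one_act, leftUnitor_hom,
      lift_snd_assoc]
  mul_act := by
    rw [← cancel_mono m]
    apply AlgGrp.Action.hom_ext_lift₃
    intro T g g' z
    have hpt : ∀ (x : T ⟶ H) (w : T ⟶ Z'), (lift x w ≫ act') ≫ m = lift x (w ≫ m) ≫ a.act := by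
      intro x w
      rw [Category.assoc, h, lift_whiskerLeft_assoc]
    simp only [Category.assoc]
    rw [lift_whiskerRight_assoc, ← Hom.mul_def, ← Category.assoc, hpt, AlgGrp.Action.lift_mul_act,
      lift_lift_associator_hom_assoc, lift_whiskerLeft_assoc, ← Category.assoc, hpt, hpt]

@[simp] theorem restrictMono_act (a : AlgGrp.Action H Z) (m : Z' ⟶ Z) [Mono m] (act' : H ⊗ Z' ⟶ Z')
    (h : act' ≫ m = (H ◁ m) ≫ a.act) : (restrictMono a m act' h).act = act' := rfl

end Groth.Agent.Helper18.ActRestrict
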