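import Mathlib
import Groth.Agent.Lib.Helper18.AffHom
import Groth.Agent.Lib.Helper18.Rec3

set_option autoImplicit false
set_option linter.style.haveILetI false
set_option linter.unusedSectionVars false
set_option maxRecDepth 8000
universe u
open CategoryTheory CategoryTheory.Limits AlgebraicGeometry TopologicalSpace Opposite

namespace Groth.Agent.Helper18.AffDer

open OmegaSh Groth.Agent.Helper18.DerLib Groth.Agent.Helper18.OmegaSec
  Groth.Agent.Helper18.OmegaUniv Groth.Agent.Helper18.Rec Groth.Agent.Helper18.AffHom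

variable {X S : Scheme.{u}} [IsAffine X] [IsAffine S] (f : X ⟶ S) (F : X.Modules)

theorem e_tt : (⊤ : X.Opens) ≤ f ⁻¹ᵁ ⊤ := le_top

theorem der_injective : Function.Injective (fun D : Der f F => D.app ⊤) := by
  intro D D' h
  obtain ⟨α, hα, -⟩ := isUniversal_dOmega f F D
  obtain ⟨α', hα', -⟩ := isUniversal_dOmega f F D'
  haveI : (Omega.sheaf f).IsQuasicoherent :=
    isQuasicoherent_of_isUniversal _ (isUniversal_dOmega f)
  have hαα : α = α' := by
    apply hom_ext_top
    intro m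
    have hm : m ∈ Submodule.span Γ(X, ⊤) (Set.range (Der.app (dOmega f) ⊤)) := by
      rw [span_d (dOmega f) (e_tt f) (isUniversal_dOmega f) (isAffineOpen_top X)
        (isAffineOpen_top S)]
      trivial
    induction hm using Submodule.closure_induction with
    | zero => rw [map_zero, map_zero]
    | add x y _ _ hx hy => rw [map_add, map_add, hx, hy]
    | smul_mem r x hx =>
      obtain ⟨b, rfl⟩ := hx
      rw [Scheme.Modules.Hom.app_smul, Scheme.Modules.Hom.app_smul, ← postcomp_app, ← postcomp_app,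
        hα, hα']
      exact congrArg (fun z => r • z) congr($h b)
  rw [← hα, ← hα', hαα]

theorem appLE_tt (c : Γ(S, ⊤)) : f.appLE ⊤ ⊤ (e_tt f) c = f.appTop c := by
  rw [Scheme.Hom.appLE]
  change X.presheaf.map (𝟙 _) (f.app ⊤ c) = _
  rw [X.presheaf.map_id]
  rfl

theorem der_exists (δ : Γ(X, ⊤) →+ Γ(F, ⊤))
    (h1 : ∀ a b : Γ(X, ⊤), δ (a * b) = a • δ b + b • δ a)
    (h2 : ∀ c : Γ(S, ⊤), δ (f.appTop c) = 0) : ∃ D : Der f F, D.app ⊤ = δ := by
  haveI : (Omega.sheaf f).IsQuasicoherent :=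
    isQuasicoherent_of_isUniversal _ (isUniversal_dOmega f)
  letI := algUV f (e_tt f)
  letI : Module Γ(S, ⊤) Γ(F, ⊤) := Module.compHom _ (algebraMap Γ(S, ⊤) Γ(X, ⊤))
  haveI : IsScalarTower Γ(S, ⊤) Γ(X, ⊤) Γ(F, ⊤) :=
    ⟨fun a b m => mul_smul (algebraMap Γ(S, ⊤) Γ(X, ⊤) a) b m⟩
  have h3 : δ 1 = 0 := by
    have := h1 1 1
    rw [mul_one, one_smul] at this
    exact (add_eq_left.mp this.symm)
  let δ' : Derivation Γ(S, ⊤) Γ(X, ⊤) Γ(F, ⊤) :=
    { toFun := δ
      map_add' := δ.map_add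
      map_smul' := fun c b => by
        change δ (f.appLE ⊤ ⊤ (e_tt f) c * b) = (f.appLE ⊤ ⊤ (e_tt f) c) • δ b
        rw [h1, appLE_tt, h2, smul_zero, add_zero]
      map_one_eq_zero' := h3
      leibniz' := fun a b => h1 a b }
  let lam : Γ(Omega.sheaf f, ⊤) →ₗ[Γ(X, ⊤)] Γ(F, ⊤) :=
    δ'.liftKaehlerDifferential ∘ₗ
      (recSec (dOmega f) (e_tt f) (isUniversal_dOmega f) (isAffineOpen_top X)
        (isAffineOpen_top S)).toLinearMap
  refine ⟨(dOmega f).postcomp (affHom (Omega.sheaf f) F lam).val, ?_⟩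
  ext b
  rw [postcomp_app, affHom_app_top]
  change δ'.liftKaehlerDifferential (recSec (dOmega f) (e_tt f) (isUniversal_dOmega f)
    (isAffineOpen_top X) (isAffineOpen_top S) (Der.app (dOmega f) ⊤ b)) = δ b
  rw [recSec_d, Derivation.liftKaehlerDifferential_comp_D]
  rfl

end Groth.Agent.Helper18.AffDer
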