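import Mathlib
import Groth.Agent.Lib.Helper18.AffDer

set_option autoImplicit false
set_option linter.style.haveILetI false
set_option linter.unusedSectionVars false
set_option maxRecDepth 8000
universe u
open CategoryTheory CategoryTheory.Limits AlgebraicGeometry TopologicalSpace Opposite

namespace Groth.Agent.Helper18.AffDerSpec

open OmegaSh Groth.Agent.Helper18.DerLib

variable (A B : Type u) [CommRing A] [CommRing B] [Algebra A B]
    (L : Type u) [AddCommGroup L] [Module B L] [Module A L] [IsScalarTower A B L]

noncomputable def psi (t : B) : Γ(Spec (CommRingCat.of B), ⊤) :=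
  (Scheme.ΓSpecIso (CommRingCat.of B)).inv t

noncomputable def tau (l : L) : Γ(tilde (ModuleCat.of (CommRingCat.of B) L), ⊤) :=
  (tilde.isoTop (ModuleCat.of (CommRingCat.of B) L)).hom l

theorem psi_bijective : Function.Bijective (psi B) :=
  ConcreteCategory.bijective_of_isIso (Scheme.ΓSpecIso (CommRingCat.of B)).inv

theorem tau_bijective : Function.Bijective (tau B L) :=
  ConcreteCategory.bijective_of_isIso (tilde.isoTop (ModuleCat.of (CommRingCat.of B) L)).hom

theorem psi_mul (a b : B) : psi B (a * b) = psi B a * psi B b := map_mul _ _ _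
theorem psi_add (a b : B) : psi B (a + b) = psi B a + psi B b := map_add _ _ _

theorem tau_add (l l' : L) : tau B L (l + l') = tau B L l + tau B L l' := map_add _ _ _

theorem tau_smul (b : B) (l : L) : tau B L (b • l) = psi B b • tau B L l := by
  have h := (tilde.isoTop (ModuleCat.of (CommRingCat.of B) L)).hom.hom.map_smul b l
  refine h.trans ?_
  have h2 := Scheme.Modules.smul_Spec_def (R := CommRingCat.of B)
    (M := tilde (ModuleCat.of (CommRingCat.of B) L)) (U := ⊤) b (tau B L l)
  refine h2.trans ?_
  congr 1

theorem psi_algebraMap (a : A) :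
    psi B (algebraMap A B a) =
      (Spec.map (CommRingCat.ofHom (algebraMap A B))).appTop (psi A a) := by
  have h := Scheme.ΓSpecIso_inv_naturality (CommRingCat.ofHom (algebraMap A B))
  exact congr($h a)


/-- part 1 : a sheaf derivation gives a ring derivation on global sections. -/
theorem exists_derivation
    (D : Der (Spec.map (CommRingCat.ofHom (algebraMap A B)))
      (tilde (ModuleCat.of (CommRingCat.of B) L))) :
    ∃ δ : Derivation A B L, ∀ t : B, D.app ⊤ (psi B t) = tau B L (δ t) := by
  let τ := Equiv.ofBijective _ (tau_bijective B L)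
  have hτ : ∀ x, tau B L (τ.symm x) = x := fun x => τ.apply_symm_apply x
  have hinj := (tau_bijective B L).1
  have hmul : ∀ a b : B, τ.symm (D.app ⊤ (psi B (a * b))) =
      a • τ.symm (D.app ⊤ (psi B b)) + b • τ.symm (D.app ⊤ (psi B a)) := by
    intro a b
    apply hinj
    rw [tau_add, tau_smul, tau_smul, hτ, hτ, hτ, psi_mul, der_app_mul]
  have hA : ∀ a : A, D.app ⊤ (psi B (algebraMap A B a)) = 0 := by
    intro a
    rw [psi_algebraMap]
    exact der_app_app D ⊤ (psi A a)
  let lin : B →ₗ[A] L :=
    { toFun := fun t => τ.symm (D.app ⊤ (psi B t))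
      map_add' := fun a b => by
        apply hinj
        rw [tau_add, hτ, hτ, hτ, psi_add, map_add]
      map_smul' := fun a b => by
        change τ.symm (D.app ⊤ (psi B (a • b))) = a • τ.symm (D.app ⊤ (psi B b))
        rw [Algebra.smul_def, hmul, hA]
        have h0 : τ.symm 0 = 0 := by
          apply hinj
          rw [hτ]
          exact (map_zero (tilde.isoTop (ModuleCat.of (CommRingCat.of B) L)).hom.hom).symm
        rw [h0, smul_zero, add_zero, algebraMap_smul] }
  refine ⟨Derivation.mk' lin (fun a b => hmul a b), fun t => ?_⟩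
  exact (hτ _).symm

/-- part 2 : a ring derivation comes from a unique sheaf derivation. -/
theorem existsUnique_der (δ : Derivation A B L) :
    ∃! D : Der (Spec.map (CommRingCat.ofHom (algebraMap A B)))
      (tilde (ModuleCat.of (CommRingCat.of B) L)),
      ∀ t : B, D.app ⊤ (psi B t) = tau B L (δ t) := by
  let ψ := Equiv.ofBijective _ (psi_bijective B)
  have hψ : ∀ x, psi B (ψ.symm x) = x := fun x => ψ.apply_symm_apply x
  have hψ' : ∀ x, ψ.symm (psi B x) = x := fun x => ψ.symm_apply_apply x
  have hinj := (psi_bijective B).1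
  let δ' : Γ(Spec (CommRingCat.of B), ⊤) →+
      Γ(tilde (ModuleCat.of (CommRingCat.of B) L), ⊤) :=
    { toFun := fun x => tau B L (δ (ψ.symm x))
      map_zero' := by
        have : ψ.symm 0 = 0 := by
          apply hinj
          rw [hψ]
          exact (map_zero (Scheme.ΓSpecIso (CommRingCat.of B)).inv.hom).symm
        rw [this, map_zero]
        exact map_zero (tilde.isoTop (ModuleCat.of (CommRingCat.of B) L)).hom.hom
      map_add' := fun x y => by
        have : ψ.symm (x + y) = ψ.symm x + ψ.symm y := by
          apply hinj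
          rw [hψ, psi_add, hψ, hψ]
        rw [this, map_add, tau_add] }
  have h1 : ∀ a b : Γ(Spec (CommRingCat.of B), ⊤), δ' (a * b) = a • δ' b + b • δ' a := by
    intro a b
    have : ψ.symm (a * b) = ψ.symm a * ψ.symm b := by
      apply hinj
      rw [hψ, psi_mul, hψ, hψ]
    change tau B L (δ (ψ.symm (a * b))) = a • tau B L (δ (ψ.symm b)) + b • tau B L (δ (ψ.symm a))
    rw [this, Derivation.leibniz, tau_add, tau_smul, tau_smul, hψ, hψ]
  have h2 : ∀ c : Γ(Spec (CommRingCat.of A), ⊤),
      δ' ((Spec.map (CommRingCat.ofHom (algebraMap A B))).appTop c) = 0 := by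
    intro c
    obtain ⟨a, rfl⟩ := (psi_bijective A).2 c
    change tau B L (δ (ψ.symm _)) = 0
    rw [← psi_algebraMap, hψ', Derivation.map_algebraMap]
    exact map_zero (tilde.isoTop (ModuleCat.of (CommRingCat.of B) L)).hom.hom
  obtain ⟨D, hD⟩ := Groth.Agent.Helper18.AffDer.der_exists _ _ δ' h1 h2
  refine ⟨D, fun t => ?_, fun D' hD' => ?_⟩
  · rw [hD]
    change tau B L (δ (ψ.symm (psi B t))) = _
    rw [hψ']
  · apply Groth.Agent.Helper18.AffDer.der_injective
    change D'.app ⊤ = D.app ⊤
    ext x
    obtain ⟨t, rfl⟩ := (psi_bijective B).2 x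
    rw [hD' t, hD]
    change _ = tau B L (δ (ψ.symm (psi B t)))
    rw [hψ']

end Groth.Agent.Helper18.AffDerSpec
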