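import Mathlib
import Groth.Agent.Lib.Helper13.PbTensor
import Groth.Prelude.Def_Pic13
import Groth.Prelude.Def_AlgGrp
import Groth.Prelude.Def_ChGrp

/-!
# Translates of an invertible module are algebraically equivalent to it (helper18)
-/

set_option autoImplicit false
set_option linter.style.haveILetI false
universe u
open CategoryTheory CategoryTheory.Limits MonoidalCategory CartesianMonoidalCategory MonObj GrpObj
  AlgebraicGeometry

noncomputable section

namespace Groth.Agent.Helper18.AlgEqTransl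

theorem fibre_iso {X P : Scheme.{u}} (s : X ⟶ P) (σ pr : P ⟶ X) (τ : X ⟶ X) (hσ : s ≫ σ = τ)
    (hpr : s ≫ pr = 𝟙 X) (L M : X.Modules) (hL : PicF.IsInvertible L) (hM : PicF.IsInvertible M) :
    Nonempty ((Scheme.Modules.pullback s).obj
        (CohB1.tensorMod ((Scheme.Modules.pullback σ).obj L) ((Scheme.Modules.pullback pr).obj M)) ≅
      CohB1.tensorMod ((Scheme.Modules.pullback τ).obj L) M) := by
  have e1 : (Scheme.Modules.pullback s).obj ((Scheme.Modules.pullback σ).obj L) ≅
      (Scheme.Modules.pullback τ).obj L :=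
    (Scheme.Modules.pullbackComp s σ).app L ≪≫ eqToIso (by rw [hσ])
  have e2 : (Scheme.Modules.pullback s).obj ((Scheme.Modules.pullback pr).obj M) ≅ M :=
    (Scheme.Modules.pullbackComp s pr).app M ≪≫ eqToIso (by rw [hpr]) ≪≫
      (Scheme.Modules.pullbackId X).app M
  exact ⟨Groth.Agent.Helper13.PbTensor.pullbackTensorIso s _ _
      (Groth.Agent.Helper13.PbInv.isInvertible_pullback σ L hL)
      (Groth.Agent.Helper13.PbInv.isInvertible_pullback pr M hM) ≪≫
    Groth.Agent.Helper13.Tensor.mapIso e1 e2⟩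

variable {k : Type u} [Field k] {G X : Over (Spec (CommRingCat.of k))} [GrpObj G]

theorem main (a : AlgGrp.Action G X) [LocallyOfFiniteType G.hom] [QuasiCompact G.hom]
    [ConnectedSpace ↥G.left]
    (g : 𝟙_ (Over (Spec (CommRingCat.of k))) ⟶ G)
    (L M : X.left.Modules) (hL : PicF.IsInvertible L) (hM : PicF.IsInvertible M)
    (hLM : Nonempty (CohB1.tensorMod L M ≅ Coh.structureModule X.left)) :
    @Pic13.IsAlgEquivZero k _ X.left ⟨X.hom⟩
      (CohB1.tensorMod ((Scheme.Modules.pullback (lift (toUnit X ≫ g) (𝟙 X) ≫ a.act).left).obj L) M) := by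
  letI : X.left.Over (Spec (CommRingCat.of k)) := ⟨X.hom⟩
  let σ' : pullback X.hom G.hom ⟶ X.left := (lift (snd X G) (fst X G) ≫ a.act : X ⊗ G ⟶ X).left
  let pr : pullback X.hom G.hom ⟶ X.left := pullback.fst X.hom G.hom
  have hslice : ∀ (t : 𝟙_ (Over (Spec (CommRingCat.of k))) ⟶ G) (ht : t.left ≫ G.hom = 𝟙 _),
      Pic13.sliceAt k X.left G.hom t.left ht = (lift (𝟙 X) (toUnit X ≫ t) : X ⟶ X ⊗ G).left := by
    intro t ht
    apply pullback.hom_ext
    · rw [Pic13.sliceAt, pullback.lift_fst]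
      change 𝟙 X.left = (lift (𝟙 X) (toUnit X ≫ t)).left ≫ (fst X G).left
      rw [← Over.comp_left, lift_fst]
      rfl
    · rw [Pic13.sliceAt, pullback.lift_snd]
      change X.hom ≫ t.left = (lift (𝟙 X) (toUnit X ≫ t)).left ≫ (snd X G).left
      rw [← Over.comp_left, lift_snd]
      rfl
  have key : ∀ (t : 𝟙_ (Over (Spec (CommRingCat.of k))) ⟶ G) (ht : t.left ≫ G.hom = 𝟙 _),
      Nonempty (Pic13.fibreMod k X.left G.hom t.left ht
        (CohB1.tensorMod ((Scheme.Modules.pullback σ').obj L) ((Scheme.Modules.pullback pr).obj M)) ≅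
        CohB1.tensorMod ((Scheme.Modules.pullback (lift (toUnit X ≫ t) (𝟙 X) ≫ a.act).left).obj L) M) := by
    intro t ht
    refine fibre_iso _ σ' pr _ ?_ ?_ L M hL hM
    · rw [hslice t ht, ← Over.comp_left, ← Category.assoc, comp_lift, lift_snd, lift_fst]
    · rw [hslice t ht]
      change (lift (𝟙 X) (toUnit X ≫ t)).left ≫ (fst X G).left = 𝟙 X.left
      rw [← Over.comp_left, lift_fst]
      rfl
  refine ⟨G.left, G.hom, inferInstance, inferInstance, inferInstance,
    CohB1.tensorMod ((Scheme.Modules.pullback σ').obj L) ((Scheme.Modules.pullback pr).obj M),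
    Groth.Agent.Helper13.Inv.isInvertible_tensorMod _ _
      (Groth.Agent.Helper13.PbInv.isInvertible_pullback σ' L hL)
      (Groth.Agent.Helper13.PbInv.isInvertible_pullback pr M hM),
    g.left, η[G].left, Over.w g, Over.w η[G], key g (Over.w g), ?_⟩
  obtain ⟨e⟩ := key η[G] (Over.w η[G])
  obtain ⟨e'⟩ := hLM
  have h1 : lift (toUnit X ≫ η[G]) (𝟙 X) ≫ a.act = 𝟙 X := by
    have := AlgGrp.Action.lift_one_act a (𝟙 X)
    rwa [Hom.one_def] at this
  rw [h1] at e
  refine ⟨e ≪≫ Groth.Agent.Helper13.Tensor.mapIso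
    ((Scheme.Modules.pullbackId X.left).app L) (Iso.refl M) ≪≫ e'⟩

end Groth.Agent.Helper18.AlgEqTransl
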