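import Mathlib

/-!
# An unramified morphism injective on geometric points is a monomorphism
-/

namespace Groth.Agent.Lib.Helper18.UnramMono

open AlgebraicGeometry CategoryTheory Limits

universe u

/-- every point of a scheme is the image of a geometric point (algebraically closed field in the
same universe) -/
theorem exists_geometric_point {Z : Scheme.{u}} (z : Z) :
    ∃ (k : Type u) (_ : Field k) (_ : IsAlgClosed k) (g : Spec (CommRingCat.of k) ⟶ Z)
      (pt : Spec (CommRingCat.of k)), g pt = z := by
  let κ := Z.residueField z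
  let K := AlgebraicClosure κ
  let φ : κ ⟶ CommRingCat.of K := CommRingCat.ofHom (algebraMap κ K)
  refine ⟨K, inferInstance, inferInstance, Spec.map φ ≫ Z.fromSpecResidueField z, ?_⟩
  have hne : Nonempty (Spec (CommRingCat.of K)) := by
    haveI : Nontrivial K := inferInstance
    exact inferInstance
  obtain ⟨pt⟩ := hne
  refine ⟨pt, ?_⟩
  rw [Scheme.Hom.comp_apply]
  have : Set.range (Z.fromSpecResidueField z) = {z} := Scheme.range_fromSpecResidueField z
  have h2 : Z.fromSpecResidueField z (Spec.map φ pt) ∈ Set.range (Z.fromSpecResidueField z) :=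
    ⟨_, rfl⟩
  rw [this] at h2
  exact h2

theorem mono_of_unramified_of_injective {X Y : Scheme.{u}} (j : X ⟶ Y) [FormallyUnramified j]
    [LocallyOfFiniteType j]
    (hinj : ∀ (k : Type u) [Field k] [IsAlgClosed k],
      Function.Injective (fun r : Spec (CommRingCat.of k) ⟶ X => r ≫ j)) : Mono j := by
  rw [← pullback.isIso_diagonal_iff, isIso_iff_isOpenImmersion_and_surjective]
  refine ⟨inferInstance, ⟨?_⟩⟩
  intro z
  obtain ⟨k, _, _, g, pt, rfl⟩ := exists_geometric_point z
  have h1 : (g ≫ pullback.fst j j) = (g ≫ pullback.snd j j) := by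
    apply hinj k
    show (g ≫ pullback.fst j j) ≫ j = (g ≫ pullback.snd j j) ≫ j
    rw [Category.assoc, Category.assoc, pullback.condition]
  have h2 : g = (g ≫ pullback.fst j j) ≫ pullback.diagonal j := by
    apply pullback.hom_ext
    · rw [Category.assoc, pullback.diagonal_fst, Category.comp_id]
    · rw [Category.assoc, pullback.diagonal_snd, Category.comp_id, h1]
  refine ⟨(g ≫ pullback.fst j j) pt, ?_⟩
  conv_rhs => rw [h2]
  rfl

end Groth.Agent.Lib.Helper18.UnramMono
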