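import Mathlib
import Groth.Prelude.Def_AlgGrp
import Groth.Agent.Lib.Helper18.KPts
import Groth.Agent.Lib.Helper18.UnramMono
import Groth.Agent.Lib.Helper18.GeomQuot

/-!
# Almost homogeneous varieties: geometric points (helper18)
-/

set_option autoImplicit false
set_option linter.style.haveILetI false
universe u
open CategoryTheory CategoryTheory.Limits MonoidalCategory CartesianMonoidalCategory MonObj GrpObj
  AlgebraicGeometry

namespace Groth.Agent.Helper18.AlmHom

open Groth.Agent.Helper18.KPts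

variable {k : Type u} [Field k]

/-- every point of a `k`-scheme is the image of a geometric point over `k` -/
theorem exists_geom_pt (Y : Over (Spec (CommRingCat.of k))) (y : Y.left) :
    ∃ (K : Type u) (_ : Field K) (_ : Algebra k K) (_ : IsAlgClosed K) (p : objK k K ⟶ Y),
      ∀ t, p.left t = y := by
  obtain ⟨K, hK, hKc, g, pt, hg⟩ := Groth.Agent.Lib.Helper18.UnramMono.exists_geometric_point y
  obtain ⟨φ, hφ⟩ := Spec.map_surjective (g ≫ Y.hom)
  letI : Algebra k K := φ.hom.toAlgebra
  refine ⟨K, hK, inferInstance, hKc, Over.homMk g ?_, ?_⟩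
  · show g ≫ Y.hom = cK k K
    rw [← hφ]
    rfl
  · intro t
    show g t = y
    rw [← hg]
    congr 1
    exact Subsingleton.elim (α := PrimeSpectrum K) _ _

variable {K : Type u} [Field K] [Algebra k K] [IsAlgClosed K]

/-- `K`-points lift along morphisms of schemes locally of finite type, into a prescribed open
set meeting the fibre -/
theorem kpt_lift_open {X Y : Over (Spec (CommRingCat.of k))} [LocallyOfFiniteType X.hom]
    (f : X ⟶ Y) (y : objK k K ⟶ Y) (V : Set X.left) (hV : IsOpen V)
    (h : ∃ v ∈ V, ∃ t, f.left v = y.left t) :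
    ∃ x : objK k K ⟶ X, x ≫ f = y ∧ ∀ t, x.left t ∈ V := by
  haveI : LocallyOfFiniteType f.left := by
    haveI : LocallyOfFiniteType (f.left ≫ Y.hom) := by rw [Over.w]; infer_instance
    exact locallyOfFiniteType_of_comp f.left Y.hom
  let s := pullback.snd f.left y.left
  let pr := pullback.fst f.left y.left
  haveI : LocallyOfFiniteType s := inferInstance
  haveI : JacobsonSpace ↥(objK k K).left :=
    inferInstanceAs (JacobsonSpace ↥(Spec (CommRingCat.of K)))
  haveI : JacobsonSpace ↥(pullback f.left y.left) := LocallyOfFiniteType.jacobsonSpace s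
  obtain ⟨v, hvV, t, hvt⟩ := h
  obtain ⟨z₀, hz₀, -⟩ := Scheme.Pullback.exists_preimage_pullback v t hvt
  have hZ : IsOpen (pr ⁻¹' V) := hV.preimage pr.continuous
  obtain ⟨z, hzZ, hz'⟩ := nonempty_inter_closedPoints (X := ↥(pullback f.left y.left))
    (Z := pr ⁻¹' V) ⟨z₀, by show pr z₀ ∈ V; rw [hz₀]; exact hvV⟩ hZ.isLocallyClosed
  have hz : IsClosed ({z} : Set ↥(pullback f.left y.left)) := hz'
  have h1 : pointOfClosedPoint s z hz ≫ s = 𝟙 _ := pointOfClosedPoint_comp s z hz
  have hw : (pointOfClosedPoint s z hz ≫ pr) ≫ f.left = y.left := by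
    rw [Category.assoc, pullback.condition, ← Category.assoc, h1, Category.id_comp]
  refine ⟨Over.homMk (pointOfClosedPoint s z hz ≫ pr) ?_, ?_, ?_⟩
  · show (pointOfClosedPoint s z hz ≫ pr) ≫ X.hom = cK k K
    rw [← Over.w f, ← Category.assoc, hw]
    exact Over.w y
  · ext
    exact hw
  · intro t'
    show (pointOfClosedPoint s z hz ≫ pr) t' ∈ V
    have := pointOfClosedPoint_apply s z hz t'
    rw [Scheme.Hom.comp_apply, this]
    exact hzZ

section Smul

variable {S : Scheme.{u}} {G X : Over S} [GrpObj G] (a : AlgGrp.Action G X)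

/-- the action on `T`-points -/
noncomputable def sm {T : Over S} (g : T ⟶ G) (x : T ⟶ X) : T ⟶ X := lift g x ≫ a.act

theorem sm_one {T : Over S} (x : T ⟶ X) : sm a (1 : T ⟶ G) x = x := by
  rw [sm, Hom.one_def]
  exact Groth.Agent.Helper18.GeomQuot.act_one a x

theorem sm_mul {T : Over S} (g h : T ⟶ G) (x : T ⟶ X) :
    sm a (g * h) x = sm a g (sm a h x) :=
  Groth.Agent.Helper18.GeomQuot.act_mul a g h x

theorem sm_inv_sm {T : Over S} (g : T ⟶ G) (x : T ⟶ X) : sm a g⁻¹ (sm a g x) = x := by
  rw [← sm_mul, inv_mul_cancel, sm_one]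

theorem sm_sm_inv {T : Over S} (g : T ⟶ G) (x : T ⟶ X) : sm a g (sm a g⁻¹ x) = x := by
  rw [← sm_mul, mul_inv_cancel, sm_one]

theorem eq_inv_sm_of_sm_eq {T : Over S} (g : T ⟶ G) (x y : T ⟶ X) (h : sm a g x = y) :
    x = sm a g⁻¹ y := by
  rw [← h, sm_inv_sm]

end Smul

end Groth.Agent.Helper18.AlmHom
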