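import Mathlib
import Groth.Prelude.Def_AlgGrp
import Groth.Agent.Lib.Helper18.AlmHomA
import Groth.Agent.Lib.Helper18.OrbitLC

/-!
# Almost homogeneous varieties: the open orbit (helper18)
-/

set_option autoImplicit false
set_option linter.style.haveILetI false
universe u
open CategoryTheory CategoryTheory.Limits MonoidalCategory CartesianMonoidalCategory MonObj GrpObj
  AlgebraicGeometry

namespace Groth.Agent.Helper18.AlmHom

open Groth.Agent.Helper18.KPts

variable {k : Type u} [Field k]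

section KL

variable {K : Type u} [Field K] [Algebra k K] [IsAlgClosed K]

/-- the point of `Spec K` -/
noncomputable def pt (k K : Type u) [Field k] [Field K] [Algebra k K] : ↥(objK k K).left :=
  (IsLocalRing.closedPoint K : PrimeSpectrum K)

/-- `K`-points lift along morphisms locally of finite type, into a prescribed open
set meeting the fibre -/
theorem kpt_lift_open' {X Y : Over (Spec (CommRingCat.of k))}
    (f : X ⟶ Y) [LocallyOfFiniteType f.left] (y : objK k K ⟶ Y) (V : Set X.left) (hV : IsOpen V)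
    (h : ∃ v ∈ V, ∃ t, f.left v = y.left t) :
    ∃ x : objK k K ⟶ X, x ≫ f = y ∧ ∀ t, x.left t ∈ V := by
  let s := pullback.snd f.left y.left
  let pr := pullback.fst f.left y.left
  haveI : LocallyOfFiniteType s := inferInstance
  haveI : JacobsonSpace ↥(objK k K).left :=
    inferInstanceAs (JacobsonSpace ↥(Spec (CommRingCat.of K)))
  haveI : JacobsonSpace ↥(pullback f.left y.left) := LocallyOfFiniteType.jacobsonSpace s
  obtain ⟨v, hvV, t, hvt⟩ := h
  obtain ⟨z₀, hz₀, -⟩ := Scheme.Pullback.exists_preimage_pullback v t hvt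
  have hZ : IsOpen (pr ⁻¹' V) := hV.preimage pr.continuous
  obtain ⟨z, hzZ, hz'⟩ := nonempty_inter_closedPoints (X := ↥(pullback f.left y.left))
    (Z := pr ⁻¹' V) ⟨z₀, by show pr z₀ ∈ V; rw [hz₀]; exact hvV⟩ hZ.isLocallyClosed
  have hz : IsClosed ({z} : Set ↥(pullback f.left y.left)) := hz'
  have h1 : pointOfClosedPoint s z hz ≫ s = 𝟙 _ := pointOfClosedPoint_comp s z hz
  have hw : (pointOfClosedPoint s z hz ≫ pr) ≫ f.left = y.left := by
    rw [Category.assoc, pullback.condition, ← Category.assoc, h1, Category.id_comp]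
  refine ⟨Over.homMk (pointOfClosedPoint s z hz ≫ pr) ?_, ?_, ?_⟩
  · show (pointOfClosedPoint s z hz ≫ pr) ≫ X.hom = cK k K
    rw [← Over.w f, ← Category.assoc, hw]
    exact Over.w y
  · ext
    exact hw
  · intro t'
    show (pointOfClosedPoint s z hz ≫ pr) t' ∈ V
    have := pointOfClosedPoint_apply s z hz t'
    rw [Scheme.Hom.comp_apply, this]
    exact hzZ

end KL

theorem lft_tensor (A B : Over (Spec (CommRingCat.of k))) [LocallyOfFiniteType A.hom]
    [LocallyOfFiniteType B.hom] : LocallyOfFiniteType (A ⊗ B).hom := by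
  rw [Over.tensorObj_hom]
  infer_instance

theorem qc_tensor (A B : Over (Spec (CommRingCat.of k))) [QuasiCompact A.hom]
    [QuasiCompact B.hom] : QuasiCompact (A ⊗ B).hom := by
  rw [Over.tensorObj_hom]
  infer_instance

variable {G X : Over (Spec (CommRingCat.of k))} [GrpObj G] (a : AlgGrp.Action G X)

/-- the graph morphism `(g, x) ↦ (x, g x)` -/
noncomputable abbrev gr : G ⊗ X ⟶ X ⊗ X := lift (snd G X) a.act

/-- the identity section `x ↦ (e, x)` -/
noncomputable def es (G X : Over (Spec (CommRingCat.of k))) [GrpObj G] : X ⟶ G ⊗ X :=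
  lift (toUnit X ≫ η[G]) (𝟙 X)

theorem es_snd : es G X ≫ snd G X = 𝟙 X := by simp [es]

theorem es_act : es G X ≫ a.act = 𝟙 X := Groth.Agent.Helper18.GeomQuot.act_one a (𝟙 X)

/-- first projection of `W` -/
def U1 (W : Set (X ⊗ X).left) : Set X.left := (fst X X).left '' W

/-- the saturation of the first projection of `W` -/
def UU (W : Set (X ⊗ X).left) : Set X.left := a.act.left '' ((snd G X).left ⁻¹' (U1 W))

theorem isOpen_U1 {W : Set (X ⊗ X).left} (hW : IsOpen W) : IsOpen (U1 W) := by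
  haveI : UniversallyOpen (fst X X).left := by
    show UniversallyOpen (pullback.fst X.hom X.hom)
    infer_instance
  exact (fst X X).left.isOpenMap W hW

theorem isOpen_UU {W : Set (X ⊗ X).left} (hW : IsOpen W) : IsOpen (UU a W) :=
  Groth.Agent.Helper18.OrbitLC.isOpenMap_act a _
    ((isOpen_U1 hW).preimage (snd G X).left.continuous)

theorem U1_subset_UU (W : Set (X ⊗ X).left) : U1 W ⊆ UU a W := by
  intro u hu
  refine ⟨(es G X).left u, ?_, ?_⟩
  · show (es G X ≫ snd G X).left u ∈ U1 W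
    rw [es_snd]; exact hu
  · show (es G X ≫ a.act).left u = u
    rw [es_act]; rfl

section Pts

variable {K : Type u} [Field K] [Algebra k K] [IsAlgClosed K]

theorem exists_sm_of_mem_UU [LocallyOfFiniteType G.hom] [LocallyOfFiniteType X.hom]
    (W : Set (X ⊗ X).left) (hWo : IsOpen W) (x : objK k K ⟶ X)
    (hx : ∀ t, x.left t ∈ UU a W) :
    ∃ (g : objK k K ⟶ G) (u : objK k K ⟶ X), (∀ t, u.left t ∈ U1 W) ∧ sm a g u = x := by
  have hV : IsOpen ((snd G X).left ⁻¹' (U1 W)) :=
    (isOpen_U1 hWo).preimage (snd G X).left.continuous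
  haveI := lft_tensor G X
  haveI : LocallyOfFiniteType a.act.left := by
    haveI : LocallyOfFiniteType (a.act.left ≫ X.hom) := by rw [Over.w]; infer_instance
    exact locallyOfFiniteType_of_comp a.act.left X.hom
  obtain ⟨z, hz1, hz2⟩ := kpt_lift_open' a.act x _ hV (by
    obtain ⟨v, hv, hvx⟩ := hx (pt k K)
    exact ⟨v, hv, _, hvx⟩)
  refine ⟨z ≫ fst G X, z ≫ snd G X, fun t => hz2 t, ?_⟩
  rw [sm, ← comp_lift, lift_fst_snd, Category.comp_id, hz1]

theorem exists_sm_of_mem_W [LocallyOfFiniteType G.hom] [LocallyOfFiniteType X.hom]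
    (W : Set (X ⊗ X).left) (hWr : W ⊆ Set.range (gr a).left) (u y : objK k K ⟶ X)
    (h : ∀ t, (lift u y).left t ∈ W) :
    ∃ g : objK k K ⟶ G, sm a g u = y := by
  haveI := lft_tensor G X
  haveI : LocallyOfFiniteType (gr a).left := by
    haveI : LocallyOfFiniteType ((gr a).left ≫ (X ⊗ X).hom) := by rw [Over.w]; infer_instance
    exact locallyOfFiniteType_of_comp (gr a).left (X ⊗ X).hom
  obtain ⟨z, hz1, -⟩ := kpt_lift_open' (gr a) (lift u y) Set.univ isOpen_univ (by
    obtain ⟨v, hv⟩ := hWr (h (pt k K))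
    exact ⟨v, trivial, _, hv⟩)
  have h1 : z ≫ snd G X = u := by
    have := congrArg (· ≫ fst X X) hz1
    simpa [gr] using this
  have h2 : z ≫ a.act = y := by
    have := congrArg (· ≫ snd X X) hz1
    simpa [gr] using this
  refine ⟨z ≫ fst G X, ?_⟩
  rw [sm, ← h1, ← comp_lift, lift_fst_snd, Category.comp_id, h2]

theorem exists_common [GeometricallyIrreducible X.hom] [LocallyOfFiniteType X.hom]
    (W : Set (X ⊗ X).left) (hWo : IsOpen W) (u₁ u₂ : objK k K ⟶ X)
    (h₁ : ∀ t, u₁.left t ∈ U1 W) (h₂ : ∀ t, u₂.left t ∈ U1 W) :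
    ∃ y : objK k K ⟶ X, (∀ t, (lift u₁ y).left t ∈ W) ∧ (∀ t, (lift u₂ y).left t ∈ W) := by
  haveI : LocallyOfFiniteType (fst X X).left := by
    show LocallyOfFiniteType (pullback.fst X.hom X.hom)
    infer_instance
  have key : ∀ u : objK k K ⟶ X, (∀ t, u.left t ∈ U1 W) →
      ∃ w : objK k K ⟶ X ⊗ X, w ≫ fst X X = u ∧ ∀ t, w.left t ∈ W := by
    intro u hu
    exact kpt_lift_open' (fst X X) u W hWo (by
      obtain ⟨w, hw, hwu⟩ := hu (pt k K)
      exact ⟨w, hw, _, hwu⟩)
  obtain ⟨w₁, hw₁, hw₁W⟩ := key u₁ h₁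
  obtain ⟨w₂, hw₂, hw₂W⟩ := key u₂ h₂
  let P := objK k K ⊗ X
  let φ : (objK k K ⟶ X) → (P ⟶ X ⊗ X) := fun u => lift (fst _ _ ≫ u) (snd _ _)
  have hφ : ∀ (u : objK k K ⟶ X) (s : objK k K ⟶ P), s ≫ fst _ _ = 𝟙 _ →
      s ≫ φ u = lift u (s ≫ snd _ _) := by
    intro u s hs
    apply CartesianMonoidalCategory.hom_ext
    · simp only [φ, Category.assoc, lift_fst]
      rw [reassoc_of% hs]
    · simp only [φ, Category.assoc, lift_snd]
  haveI : IrreducibleSpace P.left := by
    show IrreducibleSpace ↥(pullback (cK k K) X.hom)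
    infer_instance
  let O : (objK k K ⟶ X) → Set P.left := fun u => (φ u).left ⁻¹' W
  have hOo : ∀ u, IsOpen (O u) := fun u => hWo.preimage (φ u).left.continuous
  have hOne : ∀ (u : objK k K ⟶ X) (w : objK k K ⟶ X ⊗ X), w ≫ fst X X = u →
      (∀ t, w.left t ∈ W) → (O u).Nonempty := by
    intro u w hw hwW
    let s : objK k K ⟶ P := lift (𝟙 _) (w ≫ snd X X)
    have hs : s ≫ φ u = w := by
      rw [hφ u s (by simp [s])]
      apply CartesianMonoidalCategory.hom_ext <;> simp [s, hw]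
    refine ⟨s.left (pt k K), ?_⟩
    show (s ≫ φ u).left (pt k K) ∈ W
    rw [hs]
    exact hwW _
  obtain ⟨p, hp1, hp2⟩ := nonempty_preirreducible_inter (hOo u₁) (hOo u₂)
    (hOne u₁ w₁ hw₁ hw₁W) (hOne u₂ w₂ hw₂ hw₂W)
  haveI : LocallyOfFiniteType (fst (objK k K) X).left := by
    show LocallyOfFiniteType (pullback.fst (cK k K) X.hom)
    infer_instance
  obtain ⟨s, hs1, hs2⟩ := kpt_lift_open' (fst (objK k K) X) (𝟙 (objK k K)) (O u₁ ∩ O u₂)
    ((hOo u₁).inter (hOo u₂))
    ⟨p, ⟨hp1, hp2⟩, pt k K, Subsingleton.elim (α := PrimeSpectrum K) _ _⟩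
  refine ⟨s ≫ snd _ _, ?_, ?_⟩
  · intro t
    rw [← hφ u₁ s hs1]
    exact (hs2 t).1
  · intro t
    rw [← hφ u₂ s hs1]
    exact (hs2 t).2

end Pts

end Groth.Agent.Helper18.AlmHom
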