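import Mathlib
import Groth.Prelude.Def_AlgGrp
import Groth.Agent.Lib.Helper18.AlmHomB

/-!
# Almost homogeneous varieties: homogeneity and stability of the open orbit (helper18)
-/

set_option autoImplicit false
set_option linter.style.haveILetI false
universe u
open CategoryTheory CategoryTheory.Limits MonoidalCategory CartesianMonoidalCategory MonObj GrpObj
  AlgebraicGeometry

namespace Groth.Agent.Helper18.AlmHom

open Groth.Agent.Helper18.KPts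

variable {k : Type u} [Field k]
variable {G X : Over (Spec (CommRingCat.of k))} [GrpObj G] (a : AlgGrp.Action G X)

theorem exists_g [LocallyOfFiniteType G.hom] [LocallyOfFiniteType X.hom]
    [GeometricallyIrreducible X.hom]
    (W : Set (X ⊗ X).left) (hWo : IsOpen W) (hWr : W ⊆ Set.range (gr a).left)
    {K : Type u} [Field K] [Algebra k K] [IsAlgClosed K] (x₁ x₂ : objK k K ⟶ X)
    (h1 : ∀ t, x₁.left t ∈ UU a W) (h2 : ∀ t, x₂.left t ∈ UU a W) :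
    ∃ g : objK k K ⟶ G, sm a g x₁ = x₂ := by
  obtain ⟨g₁, u₁, hu₁, e₁⟩ := exists_sm_of_mem_UU a W hWo x₁ h1
  obtain ⟨g₂, u₂, hu₂, e₂⟩ := exists_sm_of_mem_UU a W hWo x₂ h2
  obtain ⟨y, hy1, hy2⟩ := exists_common W hWo u₁ u₂ hu₁ hu₂
  obtain ⟨h₁, f₁⟩ := exists_sm_of_mem_W a W hWr u₁ y hy1
  obtain ⟨h₂, f₂⟩ := exists_sm_of_mem_W a W hWr u₂ y hy2
  refine ⟨g₂ * h₂⁻¹ * h₁ * g₁⁻¹, ?_⟩
  rw [sm_mul, sm_mul, sm_mul, ← e₁, sm_inv_sm, f₁, ← f₂, sm_inv_sm, e₂]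

theorem stable [LocallyOfFiniteType G.hom] [LocallyOfFiniteType X.hom]
    (W : Set (X ⊗ X).left) (hWo : IsOpen W)
    (z : (G ⊗ X).left) (hz : (snd G X).left z ∈ UU a W) : a.act.left z ∈ UU a W := by
  obtain ⟨K, _, _, _, zb, hzb⟩ := exists_geom_pt (G ⊗ X) z
  obtain ⟨g₁, u₁, hu₁, e₁⟩ := exists_sm_of_mem_UU a W hWo (zb ≫ snd G X) (fun s => by
    show (snd G X).left (zb.left s) ∈ _
    rw [hzb]; exact hz)
  have h1 : lift ((zb ≫ fst G X) * g₁) u₁ ≫ a.act = zb ≫ a.act := by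
    show sm a _ u₁ = _
    rw [sm_mul, e₁, sm, ← comp_lift, lift_fst_snd, Category.comp_id]
  refine ⟨(lift ((zb ≫ fst G X) * g₁) u₁).left (pt k K), ?_, ?_⟩
  · show (lift ((zb ≫ fst G X) * g₁) u₁ ≫ snd G X).left (pt k K) ∈ U1 W
    rw [lift_snd]
    exact hu₁ _
  · show (lift ((zb ≫ fst G X) * g₁) u₁ ≫ a.act).left (pt k K) = _
    rw [h1, ← hzb (pt k K)]
    rfl

end Groth.Agent.Helper18.AlmHom
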