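import Mathlib
import Groth.Prelude.Def_AlgGrp
import Groth.Agent.Lib.Helper18.AlmHomC
import Groth.Agent.Lib.Helper18.ActRestrict
import Groth.Agent.Lib.Helper18.MaxPtImage
import Groth.Agent.Lib.Helper18.GrpFppf

/-!
# Almost homogeneous varieties: the open orbit, main theorem (helper18)
-/

set_option autoImplicit false
set_option linter.style.haveILetI false
universe u
open CategoryTheory CategoryTheory.Limits MonoidalCategory CartesianMonoidalCategory MonObj GrpObj
  AlgebraicGeometry
open Topology TopologicalSpace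

namespace Groth.Agent.Helper18.AlmHom

open Groth.Agent.Helper18.KPts Groth.Agent.Helper18.GeomQuot

variable {k : Type u} [Field k]
variable {G X : Over (Spec (CommRingCat.of k))} [GrpObj G] (a : AlgGrp.Action G X)

/-- the open subscheme as an object over `k` -/
noncomputable abbrev oU (U : X.left.Opens) : Over (Spec (CommRingCat.of k)) :=
  Over.mk (U.ι ≫ X.hom)

/-- its inclusion -/
noncomputable abbrev jU (U : X.left.Opens) : oU U ⟶ X := Over.homMk U.ι rfl

instance mono_jU (U : X.left.Opens) : Mono (jU U) := by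
  haveI : Mono (jU U).left := inferInstanceAs (Mono U.ι)
  exact Over.mono_of_mono_left _

theorem jU_mem (U : X.left.Opens) (u : (oU U).left) : (jU U).left u ∈ U := by
  have : (jU U).left u ∈ Set.range U.ι := ⟨u, rfl⟩
  rwa [Scheme.Opens.range_ι] at this

/-- `U` is nonempty, stable and homogeneous -/
def Good (U : X.left.Opens) : Prop :=
  (U : Set ↥X.left).Nonempty ∧ ∃ b : AlgGrp.Action G (Over.mk (U.ι ≫ X.hom)),
    (G ◁ (Over.homMk U.ι rfl : Over.mk (U.ι ≫ X.hom) ⟶ X)) ≫ a.act =
      b.act ≫ Over.homMk U.ι rfl ∧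
    Surjective (lift (snd G (Over.mk (U.ι ≫ X.hom))) b.act).left

theorem stable_of_restrict (U : X.left.Opens) (b : AlgGrp.Action G (oU U))
    (heq : (G ◁ jU U) ≫ a.act = b.act ≫ jU U)
    (z : (G ⊗ X).left) (hz : (snd G X).left z ∈ U) : a.act.left z ∈ U := by
  obtain ⟨K, _, _, _, zb, hzb⟩ := exists_geom_pt (G ⊗ X) z
  obtain ⟨x', hx'⟩ := exists_lift_open U (zb ≫ snd G X) (fun s => by
    show (snd G X).left (zb.left s) ∈ U
    rw [hzb]; exact hz)
  have h1 : (lift (zb ≫ fst G X) x' ≫ b.act) ≫ jU U = zb ≫ a.act := by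
    rw [Category.assoc, ← heq, lift_whiskerLeft_assoc, hx', ← comp_lift_assoc, lift_fst_snd,
      Category.id_comp]
  have h2 : ((lift (zb ≫ fst G X) x' ≫ b.act) ≫ jU U).left (pt k K) = (zb ≫ a.act).left (pt k K) :=
    congrArg (fun m => m.left (pt k K)) h1
  rw [← hzb (pt k K)]
  show (zb ≫ a.act).left (pt k K) ∈ U
  rw [← h2]
  exact jU_mem U _

theorem exists_W [LocallyOfFiniteType G.hom] [QuasiCompact G.hom] [LocallyOfFiniteType X.hom]
    [QuasiCompact X.hom] [Nonempty (X ⊗ X).left] (hdom : IsDominant (gr a).left) :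
    ∃ W : Set (X ⊗ X).left, IsOpen W ∧ W.Nonempty ∧ W ⊆ Set.range (gr a).left := by
  haveI := lft_tensor X X
  haveI := qc_tensor X X
  haveI := lft_tensor G X
  haveI := qc_tensor G X
  haveI : IsLocallyNoetherian (X ⊗ X).left := LocallyOfFiniteType.isLocallyNoetherian (X ⊗ X).hom
  haveI : CompactSpace (X ⊗ X).left := QuasiCompact.compactSpace_of_compactSpace (X ⊗ X).hom
  haveI : IsNoetherian (X ⊗ X).left := {}
  haveI : TopologicalSpace.NoetherianSpace (X ⊗ X).left := inferInstance
  haveI : QuasiCompact (gr a).left := Groth.Agent.Helper18.GrpFppf.quasiCompact_left (gr a)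
  haveI : LocallyOfFiniteType (gr a).left := by
    haveI : LocallyOfFiniteType ((gr a).left ≫ (X ⊗ X).hom) := by rw [Over.w]; infer_instance
    exact locallyOfFiniteType_of_comp (gr a).left (X ⊗ X).hom
  haveI : LocallyOfFinitePresentation (gr a).left := inferInstance
  have hc : IsConstructible (Set.range (gr a).left) := by
    rw [← Set.image_univ]
    exact (gr a).left.isConstructible_image IsConstructible.univ
  have hd : Dense (Set.range (gr a).left) := hdom.denseRange
  exact Groth.Agent.Helper18.MaxPtImage.exists_isOpen_subset_of_isConstructible_of_dense _ hc hd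

theorem irreducibleSpace_prod [GeometricallyIrreducible X.hom] :
    IrreducibleSpace (X ⊗ X).left := by
  haveI : Subsingleton ↥(Spec (CommRingCat.of k)) :=
    inferInstanceAs (Subsingleton (PrimeSpectrum k))
  haveI : IrreducibleSpace X.left :=
    GeometricallyIrreducible.irreducibleSpace_of_subsingleton X.hom
  show IrreducibleSpace ↥(pullback X.hom X.hom)
  infer_instance

theorem good_of_dominant [LocallyOfFiniteType G.hom] [QuasiCompact G.hom]
    [LocallyOfFiniteType X.hom] [QuasiCompact X.hom] [GeometricallyIrreducible X.hom]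
    (hdom : IsDominant (gr a).left) : ∃ U, Good a U := by
  haveI := irreducibleSpace_prod (X := X)
  obtain ⟨W, hWo, hWne, hWr⟩ := exists_W a hdom
  let U : X.left.Opens := ⟨UU a W, isOpen_UU a hWo⟩
  have hUne : (U : Set X.left).Nonempty := by
    obtain ⟨w, hw⟩ := hWne
    exact ⟨(fst X X).left w, U1_subset_UU a W ⟨w, hw, rfl⟩⟩
  obtain ⟨act', hact'⟩ := exists_lift_open U ((G ◁ jU U) ≫ a.act) (fun z => by
    show a.act.left ((G ◁ jU U).left z) ∈ UU a W
    apply stable a W hWo
    show ((G ◁ jU U) ≫ snd G X).left z ∈ UU a W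
    rw [whiskerLeft_snd]
    exact jU_mem U _)
  let b := Groth.Agent.Helper18.ActRestrict.restrictMono a (jU U) act' hact'
  refine ⟨U, hUne, b, hact'.symm, ⟨?_⟩⟩
  intro t'
  obtain ⟨K, _, _, _, tb', htb'⟩ := exists_geom_pt (oU U ⊗ oU U) t'
  obtain ⟨g, hg⟩ := exists_g a W hWo hWr ((tb' ≫ fst _ _) ≫ jU U) ((tb' ≫ snd _ _) ≫ jU U)
    (fun s => jU_mem U ((tb' ≫ fst _ _).left s)) (fun s => jU_mem U ((tb' ≫ snd _ _).left s))
  have hfac : lift g (tb' ≫ fst _ _) ≫ lift (snd G (oU U)) b.act = tb' := by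
    apply CartesianMonoidalCategory.hom_ext
    · simp only [Category.assoc, lift_fst, lift_snd]
    · simp only [Category.assoc, lift_snd]
      rw [← cancel_mono (jU U), Category.assoc]
      show lift g (tb' ≫ fst _ _) ≫ act' ≫ jU U = _
      rw [hact', lift_whiskerLeft_assoc]
      exact hg
  refine ⟨(lift g (tb' ≫ fst _ _)).left (pt k K), ?_⟩
  rw [← htb' (pt k K)]
  exact congrArg (fun m => m.left (pt k K)) hfac

theorem dominant_of_good [LocallyOfFiniteType G.hom] [LocallyOfFiniteType X.hom]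
    [GeometricallyIrreducible X.hom] (U : X.left.Opens) (h : Good a U) :
    IsDominant (gr a).left := by
  obtain ⟨hne, b, heq, hsurj⟩ := h
  haveI := irreducibleSpace_prod (X := X)
  let O : Set (X ⊗ X).left := (fst X X).left ⁻¹' U ∩ (snd X X).left ⁻¹' U
  have hOo : IsOpen O := (U.2.preimage (fst X X).left.continuous).inter
    (U.2.preimage (snd X X).left.continuous)
  have hOne : O.Nonempty := by
    obtain ⟨u, hu⟩ := hne
    refine ⟨(lift (𝟙 X) (𝟙 X)).left u, ?_, ?_⟩
    · show (lift (𝟙 X) (𝟙 X) ≫ fst X X).left u ∈ U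
      rw [lift_fst]; exact hu
    · show (lift (𝟙 X) (𝟙 X) ≫ snd X X).left u ∈ U
      rw [lift_snd]; exact hu
  have hsub : O ⊆ Set.range (gr a).left := by
    rintro t ⟨ht1, ht2⟩
    obtain ⟨K, _, _, _, tb, htb⟩ := exists_geom_pt (X ⊗ X) t
    obtain ⟨x₁, hx₁⟩ := exists_lift_open U (tb ≫ fst X X) (fun s => by
      show (fst X X).left (tb.left s) ∈ U
      rw [htb]; exact ht1)
    obtain ⟨x₂, hx₂⟩ := exists_lift_open U (tb ≫ snd X X) (fun s => by
      show (snd X X).left (tb.left s) ∈ U
      rw [htb]; exact ht2)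
    haveI : LocallyOfFiniteType (oU U).hom := by
      show LocallyOfFiniteType (U.ι ≫ X.hom)
      infer_instance
    haveI := lft_tensor G (oU U)
    haveI := lft_tensor (oU U) (oU U)
    haveI : LocallyOfFiniteType (lift (snd G (oU U)) b.act).left := by
      haveI : LocallyOfFiniteType ((lift (snd G (oU U)) b.act).left ≫ (oU U ⊗ oU U).hom) := by
        rw [Over.w]; infer_instance
      exact locallyOfFiniteType_of_comp _ (oU U ⊗ oU U).hom
    obtain ⟨zb, hzb, -⟩ := kpt_lift_open' (lift (snd G (oU U)) b.act) (lift x₁ x₂) Set.univ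
      isOpen_univ (by
        obtain ⟨v, hv⟩ := (lift (snd G (oU U)) b.act).left.surjective ((lift x₁ x₂).left (pt k K))
        exact ⟨v, trivial, _, hv⟩)
    have e1 : zb ≫ snd G (oU U) = x₁ := by
      have := congrArg (· ≫ fst _ _) hzb
      simpa using this
    have e2 : zb ≫ b.act = x₂ := by
      have := congrArg (· ≫ snd _ _) hzb
      simpa using this
    have hfac : (zb ≫ (G ◁ jU U)) ≫ gr a = tb := by
      apply CartesianMonoidalCategory.hom_ext
      · simp only [gr, Category.assoc, lift_fst, whiskerLeft_snd]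
        rw [reassoc_of% e1, hx₁]
      · simp only [gr, Category.assoc, lift_snd]
        rw [heq, reassoc_of% e2, hx₂]
    refine ⟨(zb ≫ (G ◁ jU U)).left (pt k K), ?_⟩
    rw [← htb (pt k K)]
    exact congrArg (fun m => m.left (pt k K)) hfac
  exact ⟨(hOo.dense hOne).mono hsub⟩

theorem le_of_good [GeometricallyIrreducible X.hom] (U U' : X.left.Opens)
    (h : Good a U) (h' : Good a U') : U ≤ U' := by
  obtain ⟨hne, b, heq, hsurj⟩ := h
  obtain ⟨hne', b', heq', hsurj'⟩ := h'
  haveI : Subsingleton ↥(Spec (CommRingCat.of k)) :=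
    inferInstanceAs (Subsingleton (PrimeSpectrum k))
  haveI : IrreducibleSpace X.left :=
    GeometricallyIrreducible.irreducibleSpace_of_subsingleton X.hom
  intro x hx
  obtain ⟨y, hyU, hyU'⟩ := nonempty_preirreducible_inter U.2 U'.2 hne hne'
  obtain ⟨t', ht1, ht2⟩ := Scheme.Pullback.exists_preimage_pullback (f := (oU U).hom)
    (g := (oU U).hom) (⟨y, hyU⟩ : U.toScheme) (⟨x, hx⟩ : U.toScheme) (Subsingleton.elim _ _)
  obtain ⟨z', hz'⟩ := (lift (snd G (oU U)) b.act).left.surjective t'
  have e1 : (snd G (oU U)).left z' = ⟨y, hyU⟩ := by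
    rw [← ht1, ← hz']
    show _ = (lift (snd G (oU U)) b.act ≫ fst _ _).left z'
    rw [lift_fst]
  have e2 : b.act.left z' = ⟨x, hx⟩ := by
    rw [← ht2, ← hz']
    show _ = (lift (snd G (oU U)) b.act ≫ snd _ _).left z'
    rw [lift_snd]
  have hs := stable_of_restrict a U' b' heq' ((G ◁ jU U).left z') (by
    show ((G ◁ jU U) ≫ snd G X).left z' ∈ U'
    rw [whiskerLeft_snd]
    show (jU U).left ((snd G (oU U)).left z') ∈ U'
    rw [e1]
    exact hyU')
  have hx' : a.act.left ((G ◁ jU U).left z') = x := by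
    show ((G ◁ jU U) ≫ a.act).left z' = x
    rw [heq]
    show (jU U).left (b.act.left z') = x
    rw [e2]
    rfl
  rw [hx'] at hs
  exact hs

theorem main [LocallyOfFiniteType G.hom] [QuasiCompact G.hom]
    [LocallyOfFiniteType X.hom] [QuasiCompact X.hom] [GeometricallyIrreducible X.hom] :
    (IsDominant (gr a).left ↔ ∃ U, Good a U) ∧
      ∀ U U', Good a U → Good a U' → U = U' :=
  ⟨⟨good_of_dominant a, fun ⟨U, h⟩ => dominant_of_good a U h⟩,
    fun U U' h h' => le_antisymm (le_of_good a U U' h h') (le_of_good a U' U h' h)⟩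

end Groth.Agent.Helper18.AlmHom
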