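import Groth.Agent.Lib.Helper18.DerivationSurj
import Groth.Agent.Lib.Helper18.ArtFunMinimal
import Groth.Agent.Lib.Helper18.NoethSurjEnd

/-!
Derivations and maps to the dual numbers; surjectivity criterion for maps of coefficient rings in
terms of `h_S(k[ε]) → h_R(k[ε])`.
-/

set_option autoImplicit false
universe u v
open CategoryTheory

namespace Groth.Agent.Helper18

open ArtFun ArtFun.Art

variable {Λ : Type u} {k : Type u} [CommRing Λ] [Field k] [Algebra Λ k]

/-- the algebra map `S → k[ε]`, `s ↦ s̄ + D(s) ε` attached to a derivation -/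
def derToDual {S : Type u} [CommRing S] [Algebra Λ S] [Algebra S k] [IsScalarTower Λ S k]
    (D : Derivation Λ S k) : S →ₐ[Λ] TrivSqZeroExt k k where
  toFun s := (algebraMap S k s, D s)
  map_one' := TrivSqZeroExt.ext (map_one _) D.map_one_eq_zero
  map_mul' x y := TrivSqZeroExt.ext (map_mul _ _ _) (by
    change D (x * y) = algebraMap S k x • D y + MulOpposite.op (algebraMap S k y) • D x
    rw [D.leibniz, op_smul_eq_smul, Algebra.smul_def, Algebra.smul_def]
    rfl)
  map_zero' := TrivSqZeroExt.ext (map_zero _) (map_zero D)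
  map_add' x y := TrivSqZeroExt.ext (map_add _ _ _) (map_add D x y)
  commutes' l := TrivSqZeroExt.ext (by
      change algebraMap S k (algebraMap Λ S l) = (algebraMap Λ (TrivSqZeroExt k k) l).fst
      rw [TrivSqZeroExt.algebraMap_eq_inl', TrivSqZeroExt.fst_inl,
        ← IsScalarTower.algebraMap_apply]) (by
      change D (algebraMap Λ S l) = (algebraMap Λ (TrivSqZeroExt k k) l).snd
      rw [TrivSqZeroExt.algebraMap_eq_inl', TrivSqZeroExt.snd_inl, D.map_algebraMap])

/-- if `h_S(k[ε]) → h_R(k[ε])` is injective, then `R → S` is surjective -/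
theorem surjective_of_homSet_dual_injective (R S : CRing Λ k)
    (g : R.carrier →ₐ[Λ] S.carrier) (hg : S.res.comp g = R.res)
    (hinj : ∀ φ₁ φ₂ : HomSet S.carrier S.res (dual Λ k), φ₁.1.comp g = φ₂.1.comp g → φ₁ = φ₂) :
    Function.Surjective g := by
  letI alg : Algebra S.carrier k := S.res.toRingHom.toAlgebra
  haveI tower : IsScalarTower Λ S.carrier k :=
    IsScalarTower.of_algebraMap_eq (fun l => (S.res.commutes l).symm)
  haveI : IsPrecomplete (IsLocalRing.maximalIdeal R.carrier) R.carrier :=
    R.isAdicComplete.toIsPrecomplete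
  have hto : IsScalarTower.toAlgHom Λ S.carrier k = S.res := AlgHom.ext fun _ => rfl
  refine surjective_of_derivation_ext (Λ := Λ) (k := k) S.res_surjective R.res R.res_surjective g
    (by rw [hto, hg]) ?_
  intro D₁ D₂ h
  have h1 : (dual Λ k).res.comp (derToDual D₁) = S.res := AlgHom.ext fun _ => rfl
  have h2 : (dual Λ k).res.comp (derToDual D₂) = S.res := AlgHom.ext fun _ => rfl
  have h3 := hinj ⟨derToDual D₁, h1⟩ ⟨derToDual D₂, h2⟩
    (AlgHom.ext fun r => TrivSqZeroExt.ext rfl (h r))
  apply Derivation.ext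
  intro s
  have h4 := congrArg (fun φ : HomSet S.carrier S.res (dual Λ k) => (φ.1 s : TrivSqZeroExt k k).snd) h3
  exact h4

end Groth.Agent.Helper18
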