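import Groth.Agent.Lib.Helper18.ArtFunTorsor

/-!
The dual numbers `k[ε] → k` form a small extension.
-/

set_option autoImplicit false
universe u v
open CategoryTheory

namespace Groth.Agent.Helper18

open ArtFun ArtFun.Art

variable {Λ : Type u} {k : Type u} [CommRing Λ] [Field k] [Algebra Λ k]

theorem dfst_mul (x y : (dual Λ k : Art Λ k)) : dfst (x * y) = dfst x * dfst y := by
  rw [dfst_eq_res, dfst_eq_res, dfst_eq_res, map_mul]

theorem mem_ker_toBase_dual (x : (dual Λ k : Art Λ k)) :
    x ∈ RingHom.ker (toBase (dual Λ k)).toAlgHom ↔ dfst x = 0 := by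
  rw [RingHom.mem_ker]
  rfl

theorem isSmallExt_toBase_dual : IsSmallExt (toBase (dual Λ k)) := by
  have hε : (dmk 0 1 : (dual Λ k : Art Λ k)) ∈ RingHom.ker (toBase (dual Λ k)).toAlgHom := by
    rw [mem_ker_toBase_dual]; rfl
  have hspan : RingHom.ker (toBase (dual Λ k)).toAlgHom = Ideal.span {(dmk 0 1 : (dual Λ k : Art Λ k))} := by
    apply le_antisymm
    · intro x hx
      rw [mem_ker_toBase_dual] at hx
      rw [Ideal.mem_span_singleton']
      refine ⟨dmk (dsnd x) 0, ?_⟩
      apply dual_ext
      · rw [hx]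
        rw [dfst_mul, dfst_dmk, dfst_dmk, mul_zero]
      · rw [dsnd_mul]
        simp
    · rw [Ideal.span_le]
      intro x hx
      rw [Set.mem_singleton_iff] at hx
      rw [hx]
      exact hε
  refine ⟨toBase_surjective _, ?_, ⟨⟨dmk 0 1, hspan⟩⟩, ?_⟩
  · intro h
    rw [h] at hε
    have h1 : (dmk 0 1 : (dual Λ k : Art Λ k)) = 0 := hε
    have h2 := congrArg dsnd h1
    rw [dsnd_dmk, dsnd_zero] at h2
    exact one_ne_zero h2
  · rw [eq_bot_iff]
    intro x hx
    refine Submodule.mul_induction_on hx ?_ ?_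
    · intro a ha b hb
      rw [Art.mem_maximalIdeal_iff] at ha
      rw [mem_ker_toBase_dual] at hb
      have ha' : dfst a = 0 := ha
      change a * b = 0
      apply dual_ext
      · rw [dfst_mul, ha', zero_mul]
        rfl
      · rw [dsnd_mul, ha', hb, zero_mul, zero_mul, add_zero]
        rfl
    · intro a b ha hb
      exact Submodule.add_mem _ ha hb

end Groth.Agent.Helper18
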