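import Mathlib
import Groth.Agent.Lib.Helper18.ArtFunCmp

/-!
Fibre products of functors on `Art Λ k`: elementwise description.
-/

set_option autoImplicit false
universe u v
open CategoryTheory CategoryTheory.Limits

namespace Groth.Agent.Helper18

open ArtFun ArtFun.Art

variable {Λ : Type u} {k : Type u} [CommRing Λ] [Field k] [Algebra Λ k]
variable {F G H : Art Λ k ⥤ Type v} (f : H ⟶ F) (g : G ⟶ F)

theorem pb_isPullback (A : Art Λ k) :
    IsPullback ((pullback.fst f g).app A) ((pullback.snd f g).app A) (f.app A) (g.app A) :=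
  (IsPullback.of_hasPullback f g).map ((evaluation _ _).obj A)

theorem pb_ext {A : Art Λ k} {x y : (pullback f g).obj A}
    (h1 : (pullback.fst f g).app A x = (pullback.fst f g).app A y)
    (h2 : (pullback.snd f g).app A x = (pullback.snd f g).app A y) : x = y :=
  Types.ext_of_isPullback (pb_isPullback f g A) h1 h2

theorem pb_exists {A : Art Λ k} (h : H.obj A) (g' : G.obj A) (e : f.app A h = g.app A g') :
    ∃ x : (pullback f g).obj A, (pullback.fst f g).app A x = h ∧ (pullback.snd f g).app A x = g' :=
  Types.exists_of_isPullback (pb_isPullback f g A) h g' e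

theorem pb_condition {A : Art Λ k} (x : (pullback f g).obj A) :
    f.app A ((pullback.fst f g).app A x) = g.app A ((pullback.snd f g).app A x) :=
  congrFun (congrArg (fun t => t.app A) (pullback.condition (f := f) (g := g))) x

/-- the Rim–Schlessinger condition passes to fibre products of functors -/
theorem rs_pullback
    (hF : ∀ ⦃B A A' A'' : Art Λ k⦄ (p' : B ⟶ A') (p'' : B ⟶ A'') (f' : A' ⟶ A) (f'' : A'' ⟶ A)
      (h : IsFibreProd p' p'' f' f''), Function.Surjective f'' → Function.Bijective (cmp F h))
    (hG : ∀ ⦃B A A' A'' : Art Λ k⦄ (p' : B ⟶ A') (p'' : B ⟶ A'') (f' : A' ⟶ A) (f'' : A'' ⟶ A)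
      (h : IsFibreProd p' p'' f' f''), Function.Surjective f'' → Function.Bijective (cmp G h))
    (hH : ∀ ⦃B A A' A'' : Art Λ k⦄ (p' : B ⟶ A') (p'' : B ⟶ A'') (f' : A' ⟶ A) (f'' : A'' ⟶ A)
      (h : IsFibreProd p' p'' f' f''), Function.Surjective f'' → Function.Bijective (cmp H h)) :
    ∀ ⦃B A A' A'' : Art Λ k⦄ (p' : B ⟶ A') (p'' : B ⟶ A'') (f' : A' ⟶ A) (f'' : A'' ⟶ A)
      (h : IsFibreProd p' p'' f' f''), Function.Surjective f'' →
        Function.Bijective (cmp (pullback f g) h) := by
  intro B A A' A'' p' p'' f' f'' h hs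
  constructor
  · intro x y hxy
    rw [cmp_eq_iff] at hxy
    obtain ⟨h1, h2⟩ := hxy
    rw [cmp_fst] at h1
    rw [cmp_snd] at h2
    apply pb_ext
    · apply (hH p' p'' f' f'' h hs).1
      apply FibProd.ext
      · change H.map p' _ = H.map p' _
        rw [← NatTrans.naturality_apply, ← NatTrans.naturality_apply, h1]
      · change H.map p'' _ = H.map p'' _
        rw [← NatTrans.naturality_apply, ← NatTrans.naturality_apply, h2]
    · apply (hG p' p'' f' f'' h hs).1
      apply FibProd.ext
      · change G.map p' _ = G.map p' _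
        rw [← NatTrans.naturality_apply, ← NatTrans.naturality_apply, h1]
      · change G.map p'' _ = G.map p'' _
        rw [← NatTrans.naturality_apply, ← NatTrans.naturality_apply, h2]
  · rintro ⟨⟨x', x''⟩, hx⟩
    dsimp only at hx
    obtain ⟨hh, hhh⟩ := (hH p' p'' f' f'' h hs).2
      ⟨((pullback.fst f g).app _ x', (pullback.fst f g).app _ x''), by
        dsimp only
        rw [← NatTrans.naturality_apply, ← NatTrans.naturality_apply, hx]⟩
    obtain ⟨gg, hgg⟩ := (hG p' p'' f' f'' h hs).2
      ⟨((pullback.snd f g).app _ x', (pullback.snd f g).app _ x''), by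
        dsimp only
        rw [← NatTrans.naturality_apply, ← NatTrans.naturality_apply, hx]⟩
    rw [cmp_eq_iff] at hhh hgg
    obtain ⟨hh1, hh2⟩ := hhh
    obtain ⟨hg1, hg2⟩ := hgg
    dsimp only at hh1 hh2 hg1 hg2
    have e : f.app B hh = g.app B gg := by
      apply (hF p' p'' f' f'' h hs).1
      apply FibProd.ext
      · change F.map p' _ = F.map p' _
        rw [← NatTrans.naturality_apply, ← NatTrans.naturality_apply, hh1, hg1, pb_condition]
      · change F.map p'' _ = F.map p'' _
        rw [← NatTrans.naturality_apply, ← NatTrans.naturality_apply, hh2, hg2, pb_condition]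
    obtain ⟨x, hx1, hx2⟩ := pb_exists f g hh gg e
    refine ⟨x, ?_⟩
    rw [cmp_eq_iff]
    dsimp only
    constructor
    · apply pb_ext
      · rw [NatTrans.naturality_apply, hx1, hh1]
      · rw [NatTrans.naturality_apply, hx2, hg1]
    · apply pb_ext
      · rw [NatTrans.naturality_apply, hx1, hh2]
      · rw [NatTrans.naturality_apply, hx2, hg2]

end Groth.Agent.Helper18
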