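import Groth.Agent.Lib.Helper18.ArtFunRS

/-!
Refinement of `injective_of_small`: a morphism of (RS)-functors which is injective on tangent
spaces is injective on the fibres of `F(A') → F(A)` for small extensions `A' → A`.
-/

set_option autoImplicit false
universe u v
open CategoryTheory

namespace Groth.Agent.Helper18

open ArtFun ArtFun.Art

variable {Λ : Type u} {k : Type u} [CommRing Λ] [Field k] [Algebra Λ k]
variable {F G : Art Λ k ⥤ Type v}

theorem eq_of_small (hF : RS F) (hG : RS G) (φ : F ⟶ G)
    (htan : Function.Injective (φ.app (dual Λ k)))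
    {A' A : Art Λ k} (μ : A' ⟶ A) (hμ : IsSmallExt μ) (x₁ x₂ : F.obj A')
    (h1 : F.map μ x₁ = F.map μ x₂) (hx : φ.app A' x₁ = φ.app A' x₂) : x₁ = x₂ := by
  obtain ⟨t, ht, htm, ht0, hker⟩ := IsSmallExt.exists_generator hμ
  have hsq := isFibreProd_shift μ (Deps.isFibreProd A') ht htm ht0 hker
  obtain ⟨z, hz₁, hz₂⟩ := exists_shift_of_same_image hF.hbar μ hμ ht htm ht0 hker _ _ h1
  have hφz : φ.app _ z = G.map (zeroSec A') (φ.app _ x₁) := by
    apply (hG _ _ _ _ hsq hμ.1).1
    apply FibProd.ext
    · change G.map (Deps.q₁ A') (φ.app _ z) = G.map (Deps.q₁ A') (G.map (zeroSec A') (φ.app _ x₁))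
      rw [← NatTrans.naturality_apply φ, hz₁, ← Functor.map_comp_apply, zeroSec_q₁,
        Functor.map_id_apply]
    · change G.map (shift _ _ ht htm) (φ.app _ z) = G.map (shift _ _ ht htm) (G.map (zeroSec A') (φ.app _ x₁))
      rw [← NatTrans.naturality_apply φ, hz₂, ← Functor.map_comp_apply, zeroSec_shift,
        Functor.map_id_apply, hx]
  have hv : F.map (Deps.q₂ A') z = F.map (Deps.q₂ A') (F.map (zeroSec A') x₁) := by
    apply htan
    rw [NatTrans.naturality_apply φ, hφz, NatTrans.naturality_apply φ, NatTrans.naturality_apply φ]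
  have hz : z = F.map (zeroSec A') x₁ := by
    apply (hF.heps _ _ (Deps.isFibreProd A')).1
    apply FibProd.ext
    · change F.map (Deps.q₁ A') z = F.map (Deps.q₁ A') (F.map (zeroSec A') x₁)
      rw [hz₁, ← Functor.map_comp_apply, zeroSec_q₁, Functor.map_id_apply]
    · exact hv
  rw [← hz₂, hz, ← Functor.map_comp_apply, zeroSec_shift, Functor.map_id_apply]

end Groth.Agent.Helper18
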