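import Groth.Agent.Lib.Helper18.ArtFunRS2

/-!
Variants of the injectivity results with weaker hypotheses on the source functor
(`Hbar` and `Heps` only).
-/

set_option autoImplicit false
universe u v
open CategoryTheory

namespace Groth.Agent.Helper18

open ArtFun ArtFun.Art

variable {Λ : Type u} {k : Type u} [CommRing Λ] [Field k] [Algebra Λ k]
variable {F G : Art Λ k ⥤ Type v}

theorem eq_of_small' (hbar : Hbar F) (heps : Heps F) (hG : RS G) (φ : F ⟶ G)
    (htan : Function.Injective (φ.app (dual Λ k)))
    {A' A : Art Λ k} (μ : A' ⟶ A) (hμ : IsSmallExt μ) (x₁ x₂ : F.obj A')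
    (h1 : F.map μ x₁ = F.map μ x₂) (hx : φ.app A' x₁ = φ.app A' x₂) : x₁ = x₂ := by
  obtain ⟨t, ht, htm, ht0, hker⟩ := IsSmallExt.exists_generator hμ
  have hsq := isFibreProd_shift μ (Deps.isFibreProd A') ht htm ht0 hker
  obtain ⟨z, hz₁, hz₂⟩ := exists_shift_of_same_image hbar μ hμ ht htm ht0 hker _ _ h1
  have hφz : φ.app _ z = G.map (zeroSec A') (φ.app _ x₁) := by
    apply (hG _ _ _ _ hsq hμ.1).1
    apply FibProd.ext
    · change G.map (Deps.q₁ A') (φ.app _ z) = G.map (Deps.q₁ A') (G.map (zeroSec A') (φ.app _ x₁))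
      rw [← NatTrans.naturality_apply φ, hz₁, ← Functor.map_comp_apply, zeroSec_q₁,
        Functor.map_id_apply]
    · change G.map (shift _ _ ht htm) (φ.app _ z) = G.map (shift _ _ ht htm) (G.map (zeroSec A') (φ.app _ x₁))
      rw [← NatTrans.naturality_apply φ, hz₂, ← Functor.map_comp_apply, zeroSec_shift,
        Functor.map_id_apply, hx]
  have hv : F.map (Deps.q₂ A') z = F.map (Deps.q₂ A') (F.map (zeroSec A') x₁) := by
    apply htan
    rw [NatTrans.naturality_apply φ, hφz, NatTrans.naturality_apply φ, NatTrans.naturality_apply φ]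
  have hz : z = F.map (zeroSec A') x₁ := by
    apply (heps _ _ (Deps.isFibreProd A')).1
    apply FibProd.ext
    · change F.map (Deps.q₁ A') z = F.map (Deps.q₁ A') (F.map (zeroSec A') x₁)
      rw [hz₁, ← Functor.map_comp_apply, zeroSec_q₁, Functor.map_id_apply]
    · exact hv
  rw [← hz₂, hz, ← Functor.map_comp_apply, zeroSec_shift, Functor.map_id_apply]

variable [IsNoetherianRing Λ] [Module.Finite Λ k]

theorem injective_app_of_tangent_injective' (hF0 : H0 F) (hbar : Hbar F) (heps : Heps F)
    (hG : RS G) (φ : F ⟶ G)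
    (htan : Function.Injective (φ.app (dual Λ k))) (A : Art Λ k) :
    Function.Injective (φ.app A) := by
  have key := surjective_induction (Λ := Λ) (k := k)
    (fun A B μ => Function.Injective (φ.app A) → Function.Injective (φ.app B))
    (fun A B e he hA x₁ x₂ hx => by
      have h1 : F.map e x₁ = F.map e x₂ := by
        apply hA
        rw [NatTrans.naturality_apply φ, NatTrans.naturality_apply φ, hx]
      have h2 := congrArg (F.map (inv e)) h1
      rwa [map_map_inv, map_map_inv] at h2)
    (fun A B p hp hA x₁ x₂ hx => by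
      apply eq_of_small' hbar heps hG φ htan p hp x₁ x₂ _ hx
      apply hA
      rw [NatTrans.naturality_apply φ, NatTrans.naturality_apply φ, hx])
    (fun A B C p q hp hq hA => hp (hq hA))
    (toBase A) (toBase_surjective A)
  apply key
  intro x y _
  have hs := hF0.2
  exact Subsingleton.elim _ _

end Groth.Agent.Helper18
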