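import Groth.Agent.Lib.Helper18.ArtFunCmp

/-!
The shift map `A' ×_k k[ε] → A'`, `(a, c ε) ↦ a + c t` for a socle element `t`, and the
resulting description `A' ×_A A' = A' ×_k k[ε]` for a small extension `A' → A`.
-/

set_option autoImplicit false
universe u v
open CategoryTheory

namespace Groth.Agent.Helper18

open ArtFun ArtFun.Art

variable {Λ : Type u} {k : Type u} [CommRing Λ] [Field k] [Algebra Λ k]

section DualHelpers

/-- first component of a dual number -/
def dfst (x : (dual Λ k : Art Λ k)) : k := TrivSqZeroExt.fst (R := k) (M := k) x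
/-- second component of a dual number -/
def dsnd (x : (dual Λ k : Art Λ k)) : k := TrivSqZeroExt.snd (R := k) (M := k) x
/-- the dual number `a + b ε` -/
def dmk (a b : k) : (dual Λ k : Art Λ k) := ((a, b) : TrivSqZeroExt k k)

@[simp] theorem dfst_dmk (a b : k) : dfst (dmk (Λ := Λ) a b) = a := rfl
@[simp] theorem dsnd_dmk (a b : k) : dsnd (dmk (Λ := Λ) a b) = b := rfl

theorem dual_ext {x y : (dual Λ k : Art Λ k)} (h1 : dfst x = dfst y) (h2 : dsnd x = dsnd y) : x = y :=
  TrivSqZeroExt.ext h1 h2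

theorem dfst_eq_res (x : (dual Λ k : Art Λ k)) : dfst x = (dual Λ k).res x := rfl

theorem dsnd_one : dsnd (1 : (dual Λ k : Art Λ k)) = 0 := rfl
theorem dsnd_zero : dsnd (0 : (dual Λ k : Art Λ k)) = 0 := rfl
theorem dsnd_add (x y : (dual Λ k : Art Λ k)) : dsnd (x + y) = dsnd x + dsnd y := rfl
theorem tsze_snd_mul (x y : TrivSqZeroExt k k) : (x * y).snd = x.fst * y.snd + y.fst * x.snd := by
  rw [TrivSqZeroExt.snd_mul]
  simp only [smul_eq_mul, MulOpposite.smul_eq_mul_unop, MulOpposite.unop_op]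
  ring
theorem dsnd_mul (x y : (dual Λ k : Art Λ k)) : dsnd (x * y) = dfst x * dsnd y + dfst y * dsnd x :=
  tsze_snd_mul (k := k) x y
theorem dsnd_algebraMap (r : Λ) : dsnd (algebraMap Λ (dual Λ k : Art Λ k) r) = 0 := by
  change (algebraMap Λ (TrivSqZeroExt k k) r).snd = 0
  rw [TrivSqZeroExt.algebraMap_eq_inl', TrivSqZeroExt.snd_inl]

end DualHelpers

section Socle

variable {A' : Art Λ k} (t : A')

/-- a chosen lift of a residue class -/
noncomputable def resLift (A' : Art Λ k) (c : k) : A' := Function.surjInv A'.res_surjective c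

theorem res_resLift (A' : Art Λ k) (c : k) : A'.res (resLift A' c) = c :=
  Function.surjInv_eq A'.res_surjective c

/-- `c • t` for a socle element `t` -/
noncomputable def socleSMul (c : k) : A' := resLift A' c * t

variable {t}

theorem mul_eq_socleSMul (ht : ∀ x ∈ IsLocalRing.maximalIdeal A', x * t = 0) (a : A') :
    a * t = socleSMul t (A'.res a) := by
  have h1 : a - resLift A' (A'.res a) ∈ IsLocalRing.maximalIdeal A' := by
    rw [Art.mem_maximalIdeal_iff, map_sub, res_resLift, sub_self]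
  have h2 := ht _ h1
  rw [sub_mul, sub_eq_zero] at h2
  exact h2

theorem socleSMul_res_mul (ht : ∀ x ∈ IsLocalRing.maximalIdeal A', x * t = 0) (a : A') (c : k) :
    a * socleSMul t c = socleSMul t (A'.res a * c) := by
  rw [socleSMul, ← mul_assoc, mul_eq_socleSMul ht, map_mul, res_resLift]

theorem socleSMul_add (ht : ∀ x ∈ IsLocalRing.maximalIdeal A', x * t = 0) (c c' : k) :
    socleSMul t (c + c') = socleSMul t c + socleSMul t c' := by
  have := mul_eq_socleSMul ht (resLift A' c + resLift A' c')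
  rw [map_add, res_resLift, res_resLift, add_mul] at this
  exact this.symm

theorem socleSMul_zero (ht : ∀ x ∈ IsLocalRing.maximalIdeal A', x * t = 0) : socleSMul t 0 = 0 := by
  have := mul_eq_socleSMul ht (0 : A')
  rw [map_zero, zero_mul] at this
  exact this.symm

theorem socleSMul_mul_socleSMul (ht : ∀ x ∈ IsLocalRing.maximalIdeal A', x * t = 0)
    (htm : t ∈ IsLocalRing.maximalIdeal A') (c c' : k) : socleSMul t c * socleSMul t c' = 0 := by
  have htt : t * t = 0 := ht t htm
  rw [socleSMul, socleSMul]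
  calc resLift A' c * t * (resLift A' c' * t) = resLift A' c * resLift A' c' * (t * t) := by ring
    _ = 0 := by rw [htt, mul_zero]

theorem res_socleSMul (htm : t ∈ IsLocalRing.maximalIdeal A') (c : k) : A'.res (socleSMul t c) = 0 := by
  rw [socleSMul, map_mul, (Art.mem_maximalIdeal_iff A' t).1 htm, mul_zero]

theorem socleSMul_eq_zero_iff (ht : ∀ x ∈ IsLocalRing.maximalIdeal A', x * t = 0) (ht0 : t ≠ 0) (c : k) :
    socleSMul t c = 0 ↔ c = 0 := by
  constructor
  · intro h
    by_contra hc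
    have hu : IsUnit (resLift A' c) := by
      by_contra hnu
      have := (IsLocalRing.mem_maximalIdeal _).2 hnu
      rw [Art.mem_maximalIdeal_iff, res_resLift] at this
      exact hc this
    apply ht0
    rw [socleSMul] at h
    exact (hu.mul_right_eq_zero).1 h
  · rintro rfl
    exact socleSMul_zero ht

end Socle

section Shift

variable {A' D : Art Λ k} {q₁ : D ⟶ A'} {q₂ : D ⟶ dual Λ k}

theorem fst_q₂ (d : D) : dfst (q₂ d) = A'.res (q₁ d) := by
  have h1 : (dual Λ k).res (q₂ d) = D.res d := Art.res_app q₂ d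
  have h2 : A'.res (q₁ d) = D.res d := Art.res_app q₁ d
  rw [h2, ← h1, dfst_eq_res]

variable (q₁ q₂) in
/-- The shift morphism `D = A' ×_k k[ε] → A'`, `d ↦ q₁ d + (ε-part of q₂ d) • t`. -/
noncomputable def shift {t : A'} (ht : ∀ x ∈ IsLocalRing.maximalIdeal A', x * t = 0)
    (htm : t ∈ IsLocalRing.maximalIdeal A') : D ⟶ A' :=
  ⟨{ toFun := fun d => q₁ d + socleSMul t (dsnd (q₂ d))
     map_one' := by
       have h1 : dsnd (q₂ (1 : D)) = 0 := by
         have : q₂ (1 : D) = 1 := map_one q₂.toAlgHom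
         rw [this, dsnd_one]
       have h2 : q₁ (1 : D) = 1 := map_one q₁.toAlgHom
       rw [h1, h2, socleSMul_zero ht, add_zero]
     map_mul' := by
       intro d d'
       have h1 : q₁ (d * d') = q₁ d * q₁ d' := map_mul q₁.toAlgHom d d'
       have h2 : dsnd (q₂ (d * d'))
           = A'.res (q₁ d) * dsnd (q₂ d') + A'.res (q₁ d') * dsnd (q₂ d) := by
         have : q₂ (d * d') = q₂ d * q₂ d' := map_mul q₂.toAlgHom d d'
         rw [this, dsnd_mul, fst_q₂ (q₁ := q₁), fst_q₂ (q₁ := q₁)]
       rw [h1, h2, socleSMul_add ht, add_mul, mul_add, mul_add, socleSMul_mul_socleSMul ht htm,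
         add_zero, socleSMul_res_mul ht, mul_comm (socleSMul t _) (q₁ d'), socleSMul_res_mul ht]
       abel
     map_zero' := by
       have h1 : dsnd (q₂ (0 : D)) = 0 := by
         have : q₂ (0 : D) = 0 := map_zero q₂.toAlgHom
         rw [this, dsnd_zero]
       have h2 : q₁ (0 : D) = 0 := map_zero q₁.toAlgHom
       rw [h1, h2, socleSMul_zero ht, add_zero]
     map_add' := by
       intro d d'
       have h1 : q₁ (d + d') = q₁ d + q₁ d' := map_add q₁.toAlgHom d d'
       have h2 : dsnd (q₂ (d + d')) = dsnd (q₂ d) + dsnd (q₂ d') := by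
         have : q₂ (d + d') = q₂ d + q₂ d' := map_add q₂.toAlgHom d d'
         rw [this, dsnd_add]
       rw [h1, h2, socleSMul_add ht]
       abel
     commutes' := by
       intro r
       have h1 : q₁ (algebraMap Λ D r) = algebraMap Λ A' r := q₁.toAlgHom.commutes r
       have h2 : dsnd (q₂ (algebraMap Λ D r)) = 0 := by
         have : q₂ (algebraMap Λ D r) = algebraMap Λ (dual Λ k) r := q₂.toAlgHom.commutes r
         rw [this, dsnd_algebraMap]
       rw [h1, h2, socleSMul_zero ht, add_zero] },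
   by
     apply AlgHom.ext
     intro d
     change A'.res (q₁ d + socleSMul t (dsnd (q₂ d))) = D.res d
     rw [map_add, res_socleSMul htm, add_zero]
     exact Art.res_app q₁ d⟩

theorem shift_apply {t : A'} (ht : ∀ x ∈ IsLocalRing.maximalIdeal A', x * t = 0)
    (htm : t ∈ IsLocalRing.maximalIdeal A') (d : D) :
    shift q₁ q₂ ht htm d = q₁ d + socleSMul t (dsnd (q₂ d)) := rfl

/-- For a small extension `μ : A' → A` with kernel `(t)`, the square `(q₁, shift ; μ, μ)` is a
fibre product: `A' ×_k k[ε] = A' ×_A A'`. -/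
theorem isFibreProd_shift {A : Art Λ k} (μ : A' ⟶ A)
    (h₂ : IsFibreProd q₁ q₂ (toBase A') (toBase (dual Λ k)))
    {t : A'} (ht : ∀ x ∈ IsLocalRing.maximalIdeal A', x * t = 0)
    (htm : t ∈ IsLocalRing.maximalIdeal A') (ht0 : t ≠ 0)
    (hker : RingHom.ker μ.toAlgHom = Ideal.span {t}) :
    IsFibreProd q₁ (shift q₁ q₂ ht htm) μ μ where
  w := by
    apply Art.hom_ext
    apply AlgHom.ext
    intro d
    change μ (q₁ d) = μ (shift q₁ q₂ ht htm d)
    rw [shift_apply, map_add, socleSMul, map_mul]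
    have : μ t = 0 := by
      have : t ∈ RingHom.ker μ.toAlgHom := by rw [hker]; exact Ideal.subset_span rfl
      exact this
    rw [this, mul_zero, add_zero]
  inj := by
    intro d d' h1 h2
    rw [shift_apply, shift_apply, h1, add_left_cancel_iff] at h2
    have h3 : socleSMul t (dsnd (q₂ d) - dsnd (q₂ d')) = 0 := by
      have := socleSMul_add ht (dsnd (q₂ d) - dsnd (q₂ d')) (dsnd (q₂ d'))
      rw [sub_add_cancel, h2] at this
      exact (right_eq_add.1 this)
    rw [socleSMul_eq_zero_iff ht ht0, sub_eq_zero] at h3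
    apply h₂.inj _ _ h1
    apply dual_ext
    · rw [fst_q₂ (q₁ := q₁), fst_q₂ (q₁ := q₁), h1]
    · exact h3
  surj := by
    intro a₁ a₂ ha
    have hmem : a₂ - a₁ ∈ RingHom.ker μ.toAlgHom := by
      rw [RingHom.mem_ker, map_sub, sub_eq_zero]
      exact ha.symm
    rw [hker] at hmem
    obtain ⟨b, hb⟩ := Ideal.mem_span_singleton'.1 hmem
    obtain ⟨d, hd1, hd2⟩ := h₂.surj a₁ (dmk (A'.res a₁) (A'.res b)) rfl
    refine ⟨d, hd1, ?_⟩
    rw [shift_apply, hd1, hd2, dsnd_dmk, ← mul_eq_socleSMul ht, hb]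
    ring

end Shift

/-- data of a small extension: a generator of the kernel -/
theorem IsSmallExt.exists_generator {A' A : Art Λ k} {μ : A' ⟶ A} (h : IsSmallExt μ) :
    ∃ t : A', (∀ x ∈ IsLocalRing.maximalIdeal A', x * t = 0) ∧ t ∈ IsLocalRing.maximalIdeal A' ∧
      t ≠ 0 ∧ RingHom.ker μ.toAlgHom = Ideal.span {t} := by
  obtain ⟨-, hne, ⟨⟨t, ht⟩⟩, hm⟩ := h
  have ht' : RingHom.ker μ.toAlgHom = Ideal.span {t} := ht
  refine ⟨t, ?_, ?_, ?_, ht'⟩
  · intro x hx
    have : x * t ∈ IsLocalRing.maximalIdeal A' * RingHom.ker μ.toAlgHom :=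
      Ideal.mul_mem_mul hx (by rw [ht']; exact Ideal.subset_span rfl)
    rw [hm] at this
    exact this
  · apply ker_le_maximalIdeal μ
    rw [ht']
    exact Ideal.subset_span rfl
  · intro h0
    apply hne
    rw [ht', h0, Ideal.span_singleton_eq_bot]

end Groth.Agent.Helper18
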