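import Groth.Agent.Lib.Helper18.ArtFunBasic
import Groth.Prelude.Def_ArtFun3
import Mathlib.RingTheory.Artinian.Ring
import Mathlib.RingTheory.HopkinsLevitzki
import Mathlib.RingTheory.Nakayama
import Mathlib.CategoryTheory.Iso

set_option autoImplicit false
universe u v
open CategoryTheory

namespace Groth.Agent.Helper18

open ArtFun ArtFun.Art

variable {Λ : Type u} {k : Type u} [CommRing Λ] [Field k] [Algebra Λ k]

/-- A bijective morphism of `Art` is an isomorphism. -/
theorem isIso_of_bijective {A B : Art Λ k} (f : B ⟶ A) (hf : Function.Bijective f) : IsIso f := by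
  let e : B ≃ₐ[Λ] A := AlgEquiv.ofBijective f.toAlgHom hf
  have hres : B.res.comp (e.symm : A →ₐ[Λ] B) = A.res := by
    apply AlgHom.ext
    intro a
    have h1 := Art.res_app f (e.symm a)
    have h2 : f (e.symm a) = a := e.apply_symm_apply a
    change B.res (e.symm a) = A.res a
    rw [← h1, h2]
  refine ⟨⟨Art.homMk (e.symm : A →ₐ[Λ] B) hres, ?_, ?_⟩⟩
  · apply Art.hom_ext
    apply AlgHom.ext
    intro b
    exact e.symm_apply_apply b
  · apply Art.hom_ext
    apply AlgHom.ext
    intro a
    exact e.apply_symm_apply a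

theorem bijective_of_isIso {A B : Art Λ k} (f : B ⟶ A) [IsIso f] : Function.Bijective f := by
  constructor
  · intro x y hxy
    have h1 : (f ≫ inv f) x = (f ≫ inv f) y := by
      rw [Art.comp_apply, Art.comp_apply, hxy]
    rwa [IsIso.hom_inv_id, Art.id_apply, Art.id_apply] at h1
  · intro a
    refine ⟨inv f a, ?_⟩
    have h1 : (inv f ≫ f) a = a := by rw [IsIso.inv_hom_id, Art.id_apply]
    exact h1

theorem ker_quotMk (B : Art Λ k) (K : Ideal B) (hK : K ≤ IsLocalRing.maximalIdeal B) :
    RingHom.ker (quotMk B K hK).toAlgHom = K := by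
  ext x
  rw [RingHom.mem_ker]
  exact Ideal.Quotient.eq_zero_iff_mem

theorem quotMk_eq_zero_iff (B : Art Λ k) (K : Ideal B) (hK : K ≤ IsLocalRing.maximalIdeal B) (b : B) :
    quotMk B K hK b = 0 ↔ b ∈ K := by
  rw [quotMk_apply]
  exact Ideal.Quotient.eq_zero_iff_mem

theorem quotFactor_quotMk {C D : Art Λ k} {K : Ideal C} (hK : K ≤ IsLocalRing.maximalIdeal C) (p : C ⟶ D)
    (hp : K ≤ RingHom.ker p.toAlgHom) (c : C) : quotFactor hK p hp (quotMk C K hK c) = p c := rfl

theorem mem_maximalIdeal_quot (B : Art Λ k) (K : Ideal B) (hK : K ≤ IsLocalRing.maximalIdeal B)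
    (y : quot B K hK) :
    y ∈ IsLocalRing.maximalIdeal (quot B K hK) ↔
      ∃ b ∈ IsLocalRing.maximalIdeal B, quotMk B K hK b = y := by
  constructor
  · intro hy
    obtain ⟨b, rfl⟩ := quotMk_surjective B K hK y
    refine ⟨b, ?_, rfl⟩
    rw [Art.mem_maximalIdeal_iff] at hy ⊢
    rw [← Art.res_app (quotMk B K hK) b]
    exact hy
  · rintro ⟨b, hb, rfl⟩
    rw [Art.mem_maximalIdeal_iff] at hb ⊢
    rw [Art.res_app (quotMk B K hK) b]
    exact hb

/-- Below a nonzero ideal `K` there is an ideal `K'` such that `B/K' → B/K` is a small extension. -/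
theorem exists_small_quot_step (B : Art Λ k) (K : Ideal B) (hK : K ≤ IsLocalRing.maximalIdeal B)
    (hK0 : K ≠ ⊥) :
    ∃ (K' : Ideal B) (hlt : K' < K),
      IsSmallExt (quotFactor (hlt.le.trans hK) (quotMk B K hK)
        (by rw [ker_quotMk]; exact hlt.le)) := by
  classical
  set m := IsLocalRing.maximalIdeal B with hm
  -- Nakayama: m * K ≠ K
  have hne : m * K ≠ K := by
    intro h
    apply hK0
    have hfg : K.FG := IsNoetherian.noetherian K
    have := Submodule.eq_bot_of_le_smul_of_le_jacobson_bot m K hfg (by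
      rw [smul_eq_mul, h]) (by
      rw [IsLocalRing.jacobson_eq_maximalIdeal ⊥ bot_ne_top])
    exact this
  obtain ⟨x, hxK, hxm⟩ : ∃ x ∈ K, x ∉ m * K := by
    by_contra hcon
    push_neg at hcon
    exact hne (le_antisymm Ideal.mul_le_right hcon)
  -- maximal ideal between m*K and K avoiding x
  let S : Set (Ideal B) := {J | m * K ≤ J ∧ J ≤ K ∧ x ∉ J}
  have hS : S.Nonempty := ⟨m * K, le_rfl, Ideal.mul_le_right, hxm⟩
  obtain ⟨K', hK'S, hK'max⟩ := (wellFounded_gt : WellFounded ((· > ·) : Ideal B → Ideal B → Prop)).has_min S hS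
  obtain ⟨h1, h2, h3⟩ := hK'S
  have hlt : K' < K := lt_of_le_of_ne h2 (fun h => h3 (h ▸ hxK))
  have hsup : K' ⊔ Ideal.span {x} = K := by
    apply le_antisymm
    · exact sup_le h2 ((Ideal.span_singleton_le_iff_mem K).2 hxK)
    · intro y hy
      by_contra hy'
      have hyK' : y ∉ K' := fun h => hy' (Ideal.mem_sup_left h)
      let J := K' ⊔ Ideal.span {y}
      have hJgt : K' < J := by
        refine lt_of_le_of_ne le_sup_left (fun h => hyK' ?_)
        rw [h]
        exact Ideal.mem_sup_right (Ideal.subset_span rfl)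
      have hxJ : x ∈ J := by
        by_contra hxJ
        exact hK'max J ⟨h1.trans le_sup_left, sup_le h2 ((Ideal.span_singleton_le_iff_mem K).2 hy), hxJ⟩ hJgt
      obtain ⟨k', hk', z, hz, hxz⟩ := Submodule.mem_sup.1 hxJ
      obtain ⟨b, rfl⟩ := Ideal.mem_span_singleton'.1 hz
      by_cases hb : b ∈ m
      · apply h3
        rw [← hxz]
        exact K'.add_mem hk' (h1 (Ideal.mul_mem_mul hb hy))
      · have hbu : IsUnit b := by
          by_contra hnu
          exact hb ((IsLocalRing.mem_maximalIdeal b).2 hnu)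
        obtain ⟨u, rfl⟩ := hbu
        apply hy'
        have : y = ↑u⁻¹ * (x - k') := by
          rw [← hxz, add_sub_cancel_left, ← mul_assoc, Units.inv_mul, one_mul]
        rw [this]
        apply Ideal.mul_mem_left
        exact Submodule.sub_mem _ (Ideal.mem_sup_right (Ideal.subset_span rfl)) (Ideal.mem_sup_left hk')
  refine ⟨K', hlt, ?_⟩
  have hK'm : K' ≤ IsLocalRing.maximalIdeal B := hlt.le.trans hK
  set g := quotFactor hK'm (quotMk B K hK) (by rw [ker_quotMk]; exact hlt.le) with hg
  set q' := quotMk B K' hK'm with hq'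
  have hgq : ∀ b : B, g (q' b) = quotMk B K hK b := fun b => rfl
  have hker : RingHom.ker g.toAlgHom = Ideal.span {q' x} := by
    apply le_antisymm
    · intro y hy
      obtain ⟨b, rfl⟩ := quotMk_surjective B K' hK'm y
      rw [RingHom.mem_ker] at hy
      have hbK : b ∈ K := (quotMk_eq_zero_iff B K hK b).1 ((hgq b).symm.trans hy)
      rw [← hsup] at hbK
      obtain ⟨k', hk', z, hz, rfl⟩ := Submodule.mem_sup.1 hbK
      obtain ⟨c, rfl⟩ := Ideal.mem_span_singleton'.1 hz
      have e1 : q' (k' + c * x) = q' c * q' x := by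
        rw [map_add, (quotMk_eq_zero_iff B K' hK'm k').2 hk', zero_add, map_mul]
      rw [← hq', e1]
      exact Ideal.mul_mem_left _ _ (Ideal.subset_span rfl)
    · rw [Ideal.span_singleton_le_iff_mem, RingHom.mem_ker]
      exact (hgq x).trans ((quotMk_eq_zero_iff B K hK x).2 hxK)
  refine ⟨?_, ?_, ?_, ?_⟩
  · intro y
    obtain ⟨b, rfl⟩ := quotMk_surjective B K hK y
    exact ⟨q' b, rfl⟩
  · rw [hker]
    intro h
    rw [Ideal.span_singleton_eq_bot] at h
    exact h3 ((quotMk_eq_zero_iff B K' hK'm x).1 h)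
  · rw [hker]
    exact ⟨⟨_, rfl⟩⟩
  · rw [hker, eq_bot_iff, Ideal.mul_le]
    intro y hy z hz
    rw [mem_maximalIdeal_quot] at hy
    obtain ⟨b, hb, rfl⟩ := hy
    obtain ⟨c, rfl⟩ := Ideal.mem_span_singleton'.1 hz
    rw [Ideal.mem_bot]
    have h4 : b * x ∈ K' := h1 (Ideal.mul_mem_mul hb hxK)
    have h5 : q' b * (c * q' x) = c * q' (b * x) := by
      rw [map_mul]
      ring
    rw [← hq', h5, (quotMk_eq_zero_iff B K' hK'm (b * x)).2 h4, mul_zero]

theorem ker_le_maximalIdeal {A B : Art Λ k} (f : B ⟶ A) :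
    RingHom.ker f.toAlgHom ≤ IsLocalRing.maximalIdeal B := by
  intro x hx
  rw [Art.mem_maximalIdeal_iff, ← Art.res_app f x]
  rw [RingHom.mem_ker] at hx
  change A.res (f.toAlgHom x) = 0
  rw [hx, map_zero]

/-- The quotient by the kernel maps bijectively onto the target of a surjection. -/
theorem quotFactor_ker_bijective {A B : Art Λ k} (f : B ⟶ A) (hf : Function.Surjective f) :
    Function.Bijective (quotFactor (ker_le_maximalIdeal f) f le_rfl) := by
  constructor
  · rw [injective_iff_map_eq_zero]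
    intro y hy
    obtain ⟨b, rfl⟩ := quotMk_surjective B _ (ker_le_maximalIdeal f) y
    rw [quotMk_eq_zero_iff, RingHom.mem_ker]
    exact hy
  · intro a
    obtain ⟨b, rfl⟩ := hf a
    exact ⟨quotMk B _ (ker_le_maximalIdeal f) b, rfl⟩

/-- Induction principle: a property of surjections which holds for isomorphisms and small extensions
and is stable under composition holds for all surjections. -/
theorem surjective_induction (P : ∀ ⦃A B : Art Λ k⦄, (B ⟶ A) → Prop)
    (hiso : ∀ ⦃A B : Art Λ k⦄ (e : B ⟶ A), IsIso e → P e)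
    (hsmall : ∀ ⦃A B : Art Λ k⦄ (p : B ⟶ A), IsSmallExt p → P p)
    (hcomp : ∀ ⦃A B C : Art Λ k⦄ (p : C ⟶ B) (q : B ⟶ A), P p → P q → P (p ≫ q))
    ⦃A B : Art Λ k⦄ (f : B ⟶ A) (hf : Function.Surjective f) : P f := by
  have hQ : ∀ K : Ideal B, ∀ hK : K ≤ IsLocalRing.maximalIdeal B, P (quotMk B K hK) := by
    intro K
    induction K using WellFoundedLT.induction with
    | ind K ih =>
      intro hK
      by_cases hK0 : K = ⊥
      · apply hiso
        apply isIso_of_bijective
        refine ⟨?_, quotMk_surjective B K hK⟩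
        rw [injective_iff_map_eq_zero]
        intro b hb
        rw [quotMk_eq_zero_iff, hK0] at hb
        exact hb
      · obtain ⟨K', hlt, hsm⟩ := exists_small_quot_step B K hK hK0
        have h1 := hcomp _ _ (ih K' hlt (hlt.le.trans hK)) (hsmall _ hsm)
        rwa [quotMk_quotFactor] at h1
  have h2 := hcomp _ _ (hQ _ (ker_le_maximalIdeal f))
    (hiso _ (isIso_of_bijective _ (quotFactor_ker_bijective f hf)))
  rwa [quotMk_quotFactor] at h2

end Groth.Agent.Helper18
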