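import Groth.Agent.Lib.Helper18.ArtFunComplete
import Mathlib.LinearAlgebra.Dual.Lemmas

set_option autoImplicit false
universe u v
open CategoryTheory

namespace Groth.Agent.Helper18

open ArtFun ArtFun.Art

variable {k : Type u} [Field k]

section SqZero

variable (A : Art k k)

/-- the `m`-part of an element -/
def mPart (a : A) : A := a - algebraMap k A (A.res a)

theorem mPart_mem (a : A) : mPart A a ∈ IsLocalRing.maximalIdeal A := by
  rw [Art.mem_maximalIdeal_iff, mPart, map_sub, AlgHom.commutes]
  exact sub_self _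

theorem eq_add_mPart (a : A) : a = algebraMap k A (A.res a) + mPart A a := by
  rw [mPart]; ring

theorem mPart_mul (hA : ∀ x ∈ IsLocalRing.maximalIdeal A, ∀ y ∈ IsLocalRing.maximalIdeal A, x * y = 0)
    (a b : A) : mPart A (a * b) = A.res a • mPart A b + A.res b • mPart A a := by
  have h := hA _ (mPart_mem A a) _ (mPart_mem A b)
  rw [mPart, mPart] at h
  rw [mPart, mPart, mPart, map_mul, map_mul, Algebra.smul_def, Algebra.smul_def]
  linear_combination h

/-- For a square-zero object, a linear functional gives a morphism to the dual numbers. -/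
noncomputable def piOfFunctional
    (hA : ∀ x ∈ IsLocalRing.maximalIdeal A, ∀ y ∈ IsLocalRing.maximalIdeal A, x * y = 0)
    (l : A →ₗ[k] k) : A ⟶ dual k k :=
  ⟨{ toFun := fun a => ((A.res a, l (mPart A a)) : TrivSqZeroExt k k)
     map_one' := by
       refine TrivSqZeroExt.ext (map_one A.res) ?_
       change l (mPart A 1) = 0
       rw [mPart, map_one, map_one, sub_self, map_zero]
     map_mul' := by
       intro a b
       refine TrivSqZeroExt.ext (map_mul A.res a b) ?_
       change l (mPart A (a * b)) = A.res a • l (mPart A b) + MulOpposite.op (A.res b) • l (mPart A a)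
       rw [mPart_mul A hA, map_add, map_smul, map_smul, op_smul_eq_smul]
     map_zero' := by
       refine TrivSqZeroExt.ext (map_zero A.res) ?_
       change l (mPart A 0) = 0
       rw [mPart, map_zero, map_zero, sub_self, map_zero]
     map_add' := by
       intro a b
       refine TrivSqZeroExt.ext (map_add A.res a b) ?_
       change l (mPart A (a + b)) = l (mPart A a) + l (mPart A b)
       rw [← map_add]
       congr 1
       rw [mPart, mPart, mPart, map_add, map_add]; ring
     commutes' := by
       intro c
       refine TrivSqZeroExt.ext ?_ ?_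
       · change A.res (algebraMap k A c) = c
         exact A.res.commutes c
       · change l (mPart A (algebraMap k A c)) = 0
         rw [mPart, AlgHom.commutes]
         change l (algebraMap k A c - algebraMap k A c) = 0
         rw [sub_self, map_zero] },
   AlgHom.ext fun _ => rfl⟩

theorem piOfFunctional_snd
    (hA : ∀ x ∈ IsLocalRing.maximalIdeal A, ∀ y ∈ IsLocalRing.maximalIdeal A, x * y = 0)
    (l : A →ₗ[k] k) (a : A) :
    TrivSqZeroExt.snd ((piOfFunctional A hA l).toAlgHom a) = l (mPart A a) := rfl

/-- Morphisms to the dual numbers separate maps into a square-zero object. -/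
theorem homSet_ext_of_sqZero
    (hA : ∀ x ∈ IsLocalRing.maximalIdeal A, ∀ y ∈ IsLocalRing.maximalIdeal A, x * y = 0)
    {R : Type u} [CommRing R] [Algebra k R] {resR : R →ₐ[k] k} (φ₁ φ₂ : HomSet R resR A)
    (h : ∀ π : A ⟶ dual k k, HomSet.map π φ₁ = HomSet.map π φ₂) : φ₁ = φ₂ := by
  apply Subtype.ext
  apply AlgHom.ext
  intro r
  have hres : A.res (φ₁.1 r) = A.res (φ₂.1 r) :=
    (AlgHom.congr_fun φ₁.2 r).trans (AlgHom.congr_fun φ₂.2 r).symm
  have hm : mPart A (φ₁.1 r) = mPart A (φ₂.1 r) := by
    rw [← sub_eq_zero, ← Module.forall_dual_apply_eq_zero_iff k]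
    intro l
    have := congrArg (fun t : HomSet R resR (dual k k) => TrivSqZeroExt.snd (t.1 r))
      (h (piOfFunctional A hA l))
    change l (mPart A (φ₁.1 r)) = l (mPart A (φ₂.1 r)) at this
    rw [map_sub, this, sub_self]
  rw [eq_add_mPart A (φ₁.1 r), eq_add_mPart A (φ₂.1 r), hres, hm]

end SqZero

section Trunc1

variable {Λ : Type u} [CommRing Λ] [Algebra Λ k] (R : CRing Λ k)

theorem trunc_one_sqZero :
    ∀ x ∈ IsLocalRing.maximalIdeal (R.trunc 1), ∀ y ∈ IsLocalRing.maximalIdeal (R.trunc 1), x * y = 0 := by
  intro x hx y hy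
  have hx' := CRing.maximalIdeal_quot_le R 1 hx
  have hy' := CRing.maximalIdeal_quot_le R 1 hy
  have h := Ideal.mul_mem_mul hx' hy'
  rw [← Ideal.map_mul, ← pow_two] at h
  have : (IsLocalRing.maximalIdeal R.carrier ^ 2).map (Ideal.Quotient.mk (R.mpow 1)) = ⊥ :=
    Ideal.map_quotient_self _
  rw [this] at h
  exact h

end Trunc1

end Groth.Agent.Helper18
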