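import Groth.Agent.Lib.Helper18.ArtSchPts

/-!
# The Artin–Schreier sequence is exact for the fpqc topology (helper18)
-/

set_option autoImplicit false
universe u

open CategoryTheory CategoryTheory.Limits MonoidalCategory CartesianMonoidalCategory MonObj AlgebraicGeometry

noncomputable section

namespace Groth.Agent.Helper18.ArtSch

open Groth.Agent.Helper13 Groth.Agent.Helper22 Groth.Agent.Helper18.ConstPts Groth.Agent.Helper18.ArtSchRing

variable {p : ℕ} [hpF : Fact p.Prime] {S : Scheme.{u}} (hp : (p : Γ(S, ⊤)) = 0)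
  {G' : Over S} [GrpObj G'] (e : G' ≅ TwC.const S (Multiplicative (ZMod p)))
  (he : TwC.IsConstGrp (Multiplicative (ZMod p)) G' e)
  (i : G' ⟶ Red.Ga S) [IsMonHom i]
  (hi : Red.gaFn (TwC.pt S (Multiplicative (ZMod p)) (Multiplicative.ofAdd 1) ≫ e.inv ≫ i) = 1)
  (F : Red.Ga S ⟶ Red.Ga S)
  (hF : ∀ (T : Over S) (x : T ⟶ Red.Ga S), Red.gaFn (x ≫ F) = Red.gaFn x ^ p)

section Pullback

theorem whisker_mul : (Red.Ga S ◁ i) ≫ μ[Red.Ga S] =
    fst (Red.Ga S) G' * (snd (Red.Ga S) G' ≫ i) := by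
  rw [Hom.mul_def]
  congr 1

include hp he hi hF in
theorem isPullback_AS :
    IsPullback (fst (Red.Ga S) G') ((Red.Ga S ◁ i) ≫ μ[Red.Ga S])
      (𝟙 (Red.Ga S) * F⁻¹) (𝟙 (Red.Ga S) * F⁻¹) := by
  haveI := isMonHom_P hp F hF
  apply TorsComp.isPullback_of_points
  · have h0 : (snd (Red.Ga S) G' ≫ i) ≫ (𝟙 (Red.Ga S) * F⁻¹) = 1 := by
      rw [Category.assoc, i_comp_P hp e he i hi F hF, MonObj.comp_one]
    have h00 := congrArg Red.gaFn h0
    rw [gaFn_P F hF, GaPts.gaFn_one] at h00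
    rw [whisker_mul]
    apply GaPts.eq_of_gaFn_eq
    rw [gaFn_P F hF, gaFn_P F hF, GaPts.gaFn_mul, add_pow_p (natCast_T hp _)]
    linear_combination -h00
  · intro T x y hxy
    have hab : Red.gaFn x - Red.gaFn x ^ p = Red.gaFn y - Red.gaFn y ^ p := by
      rw [← gaFn_P F hF, ← gaFn_P F hF, hxy]
    have hz : (Red.gaFn y - Red.gaFn x) ^ p = Red.gaFn y - Red.gaFn x := by
      rw [sub_eq_add_neg, add_pow_p (natCast_T hp T), neg_pow_p (natCast_T hp T)]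
      linear_combination hab
    obtain ⟨c, hc⟩ := exists_const_pt hp e he i hi T (Red.gaFn y - Red.gaFn x) hz
    refine ⟨lift x (c ≫ e.inv), lift_fst _ _, ?_⟩
    rw [whisker_mul, MonObj.comp_mul, lift_fst, lift_snd_assoc, Category.assoc, hc]
    apply GaPts.eq_of_gaFn_eq
    rw [GaPts.gaFn_mul, GaPts.gaFn_ptOfElt]
    ring
  · intro T m m' h1 h2
    rw [whisker_mul, MonObj.comp_mul, MonObj.comp_mul, h1] at h2
    have h3 : m ≫ snd (Red.Ga S) G' ≫ i = m' ≫ snd (Red.Ga S) G' ≫ i := by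
      rw [← inv_mul_cancel_left (m' ≫ fst (Red.Ga S) G') (m ≫ snd (Red.Ga S) G' ≫ i), h2,
        inv_mul_cancel_left]
    rw [← Category.assoc, ← Category.assoc] at h3
    have h4 := i_injective hp e he i hi _ _ h3
    exact CartesianMonoidalCategory.hom_ext _ _ h1 h4

end Pullback

section Loc

include hF in
theorem loc_fpqc :
    NonAbH1.IsLocallyTrivialFor Scheme.fpqcPrecoverage
      (Over.mk (𝟙 (Red.Ga S) * F⁻¹).left : Over (Red.Ga S).left) := by
  let X : Scheme.{u} := (Red.Ga S).left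
  let 𝒱 := X.affineOpenCover
  let Tj : 𝒱.I₀ → Over S := fun j => Over.mk (𝒱.f j ≫ (Red.Ga S).hom)
  let bj : ∀ j, Tj j ⟶ Red.Ga S := fun j => Over.homMk (𝒱.f j) rfl
  let yj : ∀ j, (𝒱.X j : Type u) := fun j => (Scheme.ΓSpecIso (𝒱.X j)).hom.hom (Red.gaFn (bj j))
  let Cj : 𝒱.I₀ → CommRingCat.{u} := fun j => CommRingCat.of (AdjoinRoot (asPoly p (yj j)))
  let φj : ∀ j, 𝒱.X j ⟶ Cj j := fun j => CommRingCat.ofHom (AdjoinRoot.of (asPoly p (yj j)))
  let gj : ∀ j, Spec (Cj j) ⟶ Spec (𝒱.X j) := fun j => Spec.map (φj j)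
  have hg : ∀ j, Presieve.ofArrows (fun _ : PUnit.{1} => Spec (Cj j)) (fun _ => gj j) ∈
      Scheme.fpqcPrecoverage (Spec (𝒱.X j)) := by
    intro j
    haveI : Flat (gj j) := Flat.SpecMap_iff.mpr (of_flat p (yj j))
    haveI : Surjective (gj j) := (surjective_iff _).mpr (of_comap_surjective p (yj j))
    rw [Presieve.ofArrows_pUnit]
    exact Scheme.Hom.singleton_mem_fpqcPrecoverage _
  have hcov := Precoverage.comp_mem_coverings (J := Scheme.fpqcPrecoverage) 𝒱.f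
    (Scheme.zariskiPrecoverage_le_fpqcPrecoverage _ 𝒱.openCover.mem₀) (fun j _ => gj j) hg
  refine ⟨_, hcov, ?_⟩
  rintro S' f ⟨⟨j, _⟩⟩
  let T : Over S := Over.mk ((gj j ≫ 𝒱.f j) ≫ (Red.Ga S).hom)
  let b : T ⟶ Red.Ga S := Over.homMk (gj j ≫ 𝒱.f j) rfl
  let r : Γ(T.left, ⊤) := (Scheme.ΓSpecIso (Cj j)).inv.hom (AdjoinRoot.root (asPoly p (yj j)))
  refine ⟨(GaPts.ptOfElt r : T ⟶ Red.Ga S).left, ?_⟩
  change (GaPts.ptOfElt r ≫ (𝟙 _ * F⁻¹)).left = b.left
  congr 1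
  apply GaPts.eq_of_gaFn_eq
  rw [gaFn_P F hF, GaPts.gaFn_ptOfElt]
  have hb : b = (Over.homMk (gj j) (by simp [T, Tj]) : T ⟶ Tj j) ≫ bj j := by
    apply Over.OverMorphism.ext
    rfl
  rw [hb, GaPts.gaFn_comp]
  change r - r ^ p = (Spec.map (φj j)).appTop.hom (Red.gaFn (bj j))
  have h1 : (Spec.map (φj j)).appTop.hom (Red.gaFn (bj j)) =
      (Scheme.ΓSpecIso (Cj j)).inv.hom ((φj j).hom (yj j)) := by
    have := Scheme.ΓSpecIso_naturality (φj j)
    have h2 := congrArg (fun t => t.hom (Red.gaFn (bj j))) this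
    simp only [CommRingCat.hom_comp, RingHom.coe_comp, Function.comp_apply] at h2
    change (Scheme.ΓSpecIso (Cj j)).hom.hom ((Spec.map (φj j)).appTop.hom (Red.gaFn (bj j))) =
      (φj j).hom (yj j) at h2
    rw [← h2]
    change _ = ((Scheme.ΓSpecIso (Cj j)).hom ≫ (Scheme.ΓSpecIso (Cj j)).inv).hom _
    rw [Iso.hom_inv_id]
    rfl
  rw [h1]
  change _ = (Scheme.ΓSpecIso (Cj j)).inv.hom (AdjoinRoot.of (asPoly p (yj j)) (yj j))
  rw [← root_eq, map_sub, map_pow]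

end Loc

include hp he hi hF in
theorem exact_fpqc : NonAbH1.IsExactSeq Scheme.fpqcPrecoverage i (𝟙 (Red.Ga S) * F⁻¹) :=
  ⟨inferInstance, isMonHom_P hp F hF, i_comp_P hp e he i hi F hF, isPullback_AS hp e he i hi F hF,
    loc_fpqc F hF⟩

end Groth.Agent.Helper18.ArtSch
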