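import Mathlib

/-!
# Ring-level facts for the Artin–Schreier sequence (helper18)
-/

set_option autoImplicit false
universe u

open Polynomial

namespace Groth.Agent.Helper18.ArtSchRing

variable (p : ℕ) [hpF : Fact p.Prime]

section ZModPoly

theorem monic_X_pow_sub_X : (X ^ p - X : (ZMod p)[X]).Monic := by
  apply monic_X_pow_sub
  rw [degree_X]
  exact_mod_cast hpF.out.one_lt

theorem prod_X_sub_C : ∏ a : ZMod p, (X - C a) = (X ^ p - X : (ZMod p)[X]) := by
  have hcard : Fintype.card (ZMod p) = p := ZMod.card p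
  have hroots : (X ^ p - X : (ZMod p)[X]).roots = Finset.univ.val := by
    have := FiniteField.roots_X_pow_card_sub_X (ZMod p)
    rwa [hcard] at this
  have hdeg : (X ^ p - X : (ZMod p)[X]).natDegree = p :=
    FiniteField.X_pow_card_sub_X_natDegree_eq (ZMod p) hpF.out.one_lt
  have h := prod_multiset_X_sub_C_of_monic_of_roots_card_eq (monic_X_pow_sub_X p) (by
    rw [hroots, hdeg]
    change Finset.univ.card = p
    rw [Finset.card_univ, hcard])
  rw [hroots] at h
  exact h

end ZModPoly

section Hom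

variable {R : Type*} [CommRing R] (h : (p : R) = 0)

/-- the structure map `𝔽_p → R` of a ring of characteristic `p` -/
noncomputable def zmodHom : ZMod p →+* R :=
  (Ideal.Quotient.lift (Ideal.span {(p : ℤ)}) (Int.castRingHom R) (by
    intro a ha
    obtain ⟨c, rfl⟩ := Ideal.mem_span_singleton.1 ha
    simp [h])).comp (Int.quotientSpanNatEquivZMod p).symm.toRingHom

variable {p}

theorem prod_sub (φ : ZMod p →+* R) (z : R) : ∏ a : ZMod p, (z - φ a) = z ^ p - z := by
  have := congrArg (eval₂ φ z) (prod_X_sub_C p)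
  rw [eval₂_finset_prod] at this
  simpa using this

theorem isUnit_sub (φ : ZMod p →+* R) {a b : ZMod p} (hab : a ≠ b) : IsUnit (φ a - φ b) := by
  rw [← map_sub]
  exact (IsUnit.mk0 _ (sub_ne_zero.2 hab)).map φ

/-- the product of the `z - φ b` for `b ≠ a` -/
noncomputable def uElt (φ : ZMod p →+* R) (z : R) (a : ZMod p) : R :=
  ∏ b ∈ Finset.univ.erase a, (z - φ b)

theorem mul_uElt (φ : ZMod p →+* R) (z : R) (a : ZMod p) :
    (z - φ a) * uElt φ z a = z ^ p - z := by
  rw [uElt, Finset.mul_prod_erase Finset.univ (fun b => z - φ b) (Finset.mem_univ a), prod_sub]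

theorem span_uElt (φ : ZMod p →+* R) (z : R) : Ideal.span (Set.range (uElt φ z)) = ⊤ := by
  by_contra hne
  obtain ⟨M, hM, hle⟩ := Ideal.exists_le_maximal _ hne
  haveI := hM.isPrime
  have key : ∀ a : ZMod p, ∃ b, b ≠ a ∧ z - φ b ∈ M := by
    intro a
    have h1 : uElt φ z a ∈ M := hle (Ideal.subset_span ⟨a, rfl⟩)
    rw [uElt, Ideal.IsPrime.prod_mem_iff] at h1
    obtain ⟨b, hb, hbM⟩ := h1
    exact ⟨b, (Finset.mem_erase.1 hb).1, hbM⟩
  obtain ⟨b₁, -, h1⟩ := key 0
  obtain ⟨b₂, hb₂, h2⟩ := key b₁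
  have h3 : φ b₂ - φ b₁ ∈ M := by
    have := M.sub_mem h1 h2
    have e : z - φ b₁ - (z - φ b₂) = φ b₂ - φ b₁ := by ring
    rwa [e] at this
  exact hM.ne_top (Ideal.eq_top_of_isUnit_mem _ h3 (isUnit_sub φ hb₂))

include h in
theorem add_pow_p (a b : R) : (a + b) ^ p = a ^ p + b ^ p := by
  rcases subsingleton_or_nontrivial R with hs | hn
  · exact Subsingleton.elim _ _
  · haveI : CharP R p := (CharP.charP_iff_prime_eq_zero hpF.out).2 h
    exact add_pow_char a b p

include h in
theorem neg_pow_p (a : R) : (-a) ^ p = -(a ^ p) := by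
  have h1 := add_pow_p h a (-a)
  rw [add_neg_cancel, zero_pow hpF.out.ne_zero] at h1
  exact (neg_eq_of_add_eq_zero_right h1.symm).symm

theorem zmod_pow_p (φ : ZMod p →+* R) (a : ZMod p) : φ a ^ p = φ a := by
  rw [← map_pow, ZMod.pow_card]

end Hom

section AdjoinRoot

variable {B : Type u} [CommRing B] (y : B)

/-- the Artin–Schreier polynomial `X^p - X + y` -/
noncomputable def asPoly : B[X] := X ^ p - (X - C y)

theorem asPoly_monic : (asPoly p y).Monic := by
  apply monic_X_pow_sub
  refine lt_of_le_of_lt (degree_X_sub_C_le y) ?_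
  exact_mod_cast hpF.out.one_lt

theorem asPoly_natDegree [Nontrivial B] : (asPoly p y).natDegree = p := by
  rw [asPoly, natDegree_sub_eq_left_of_natDegree_lt, natDegree_X_pow]
  rw [natDegree_X_pow]
  exact lt_of_le_of_lt (natDegree_X_sub_C_le y) hpF.out.one_lt

theorem root_eq : (AdjoinRoot.root (asPoly p y)) - (AdjoinRoot.root (asPoly p y)) ^ p =
    AdjoinRoot.of (asPoly p y) y := by
  have h := AdjoinRoot.eval₂_root (asPoly p y)
  unfold asPoly at h ⊢
  rw [eval₂_sub, eval₂_pow, eval₂_X, eval₂_sub, eval₂_X, eval₂_C] at h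
  have h2 := sub_eq_zero.1 h
  rw [h2]
  ring

theorem of_flat : (AdjoinRoot.of (asPoly p y)).Flat := by
  haveI : Module.Free B (AdjoinRoot (asPoly p y)) :=
    Module.Free.of_basis (AdjoinRoot.powerBasis' (asPoly_monic p y)).basis
  change (algebraMap B (AdjoinRoot (asPoly p y))).Flat
  rw [RingHom.flat_algebraMap_iff]
  infer_instance

theorem of_comap_surjective :
    Function.Surjective (PrimeSpectrum.comap (AdjoinRoot.of (asPoly p y))) := by
  rcases subsingleton_or_nontrivial B with hs | hn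
  · intro q
    haveI := PrimeSpectrum.nonempty_iff_nontrivial.1 ⟨q⟩
    exact (not_subsingleton B hs).elim
  · haveI : Module.Free B (AdjoinRoot (asPoly p y)) :=
      Module.Free.of_basis (AdjoinRoot.powerBasis' (asPoly_monic p y)).basis
    haveI : Nontrivial (AdjoinRoot (asPoly p y)) := by
      let b := (AdjoinRoot.powerBasis' (asPoly_monic p y)).basis
      have hdim : 0 < (AdjoinRoot.powerBasis' (asPoly_monic p y)).dim := by
        rw [AdjoinRoot.powerBasis'_dim, asPoly_natDegree]
        exact hpF.out.pos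
      exact ⟨⟨b ⟨0, hdim⟩, 0, b.ne_zero _⟩⟩
    exact PrimeSpectrum.comap_surjective_of_faithfullyFlat

end AdjoinRoot

end Groth.Agent.Helper18.ArtSchRing
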