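import Mathlib
import Groth.Prelude.Def_ChGrp
import Groth.Prelude.Def_NonAbH2
import Groth.Prelude.Def_AlgGrp

/-!
# Composition of torsors (helper18)

`N ◁ G` the kernel of `q : G ⟶ Q` admitting a scheme-theoretic section; `X ⟶ Y` an `N`-torsor, `Y ⟶ Z` a `Q`-torsor,
compatible: then `X ⟶ Z` is a `G`-torsor.
-/

set_option autoImplicit false
set_option linter.unusedSectionVars false

universe u

open CategoryTheory CategoryTheory.Limits MonoidalCategory CartesianMonoidalCategory MonObj GrpObj AlgebraicGeometry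

namespace Groth.Agent.Helper18.TorsComp

variable {S : Scheme.{u}}

/-- points criterion for a cartesian square -/
theorem isPullback_of_points {C : Type*} [Category C] {A B D E : C} (f : A ⟶ B) (g : A ⟶ D) (h : B ⟶ E) (k : D ⟶ E)
    (w : f ≫ h = g ≫ k)
    (ex : ∀ (T : C) (x : T ⟶ B) (y : T ⟶ D), x ≫ h = y ≫ k → ∃ m : T ⟶ A, m ≫ f = x ∧ m ≫ g = y)
    (uniq : ∀ (T : C) (m m' : T ⟶ A), m ≫ f = m' ≫ f → m ≫ g = m' ≫ g → m = m') : IsPullback f g h k := by
  refine ⟨⟨w⟩, ⟨PullbackCone.IsLimit.mk w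
    (fun s => Classical.choose (ex _ s.fst s.snd s.condition))
    (fun s => (Classical.choose_spec (ex _ s.fst s.snd s.condition)).1)
    (fun s => (Classical.choose_spec (ex _ s.fst s.snd s.condition)).2)
    (fun s m h1 h2 => uniq _ _ _ ?_ ?_)⟩⟩
  · rw [h1, (Classical.choose_spec (ex _ s.fst s.snd s.condition)).1]
  · rw [h2, (Classical.choose_spec (ex _ s.fst s.snd s.condition)).2]

section Cart

variable {G N Q X Y Z : Over S} [GrpObj G] [GrpObj N] [GrpObj Q]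

theorem equiv_points (q : G ⟶ Q) (a : AlgGrp.Action G X) (φ₁ : X ⟶ Y) (aY : AlgGrp.Action Q Y)
    (hequiv : (q ⊗ₘ φ₁) ≫ aY.act = a.act ≫ φ₁) {T : Over S} (g : T ⟶ G) (x : T ⟶ X) :
    (lift g x ≫ a.act) ≫ φ₁ = lift (g ≫ q) (x ≫ φ₁) ≫ aY.act := by
  rw [Category.assoc, ← hequiv, ← Category.assoc, lift_map]

theorem comp_cart (iN : N ⟶ G) [IsMonHom iN] (q : G ⟶ Q) [IsMonHom q] (hker : AlgGrp.IsKernel iN q)
    (s : Q ⟶ G) (hs : s ≫ q = 𝟙 Q)
    (a : AlgGrp.Action G X) (φ₁ : X ⟶ Y) (h₁ : IsPullback (a.restrict iN).act (snd N X) φ₁ φ₁)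
    (aY : AlgGrp.Action Q Y) (hequiv : (q ⊗ₘ φ₁) ≫ aY.act = a.act ≫ φ₁)
    (φ₂ : Y ⟶ Z) (h₂ : IsPullback aY.act (snd Q Y) φ₂ φ₂) :
    IsPullback a.act (snd G X) (φ₁ ≫ φ₂) (φ₁ ≫ φ₂) := by
  have hE := @equiv_points S G Q X Y _ _ q a φ₁ aY hequiv
  apply isPullback_of_points
  · rw [← Category.assoc, ← hequiv, Category.assoc, h₂.w, ← Category.assoc, tensorHom_snd, Category.assoc]
  · intro T x' x hx
    -- step 1
    let c := h₂.lift (x' ≫ φ₁) (x ≫ φ₁) (by simpa using hx)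
    have hc1 : c ≫ aY.act = x' ≫ φ₁ := h₂.lift_fst _ _ _
    have hc2 : c ≫ snd Q Y = x ≫ φ₁ := h₂.lift_snd _ _ _
    let c₁ : T ⟶ Q := c ≫ fst Q Y
    have hc : c = lift c₁ (x ≫ φ₁) := by
      apply CartesianMonoidalCategory.hom_ext
      · simp [c₁]
      · simp [hc2]
    let h : T ⟶ G := c₁ ≫ s
    have hh : h ≫ q = c₁ := by simp [h, hs]
    let x₂ : T ⟶ X := lift h x ≫ a.act
    have hx₂ : x₂ ≫ φ₁ = x' ≫ φ₁ := by
      rw [hE, hh, ← hc, hc1]
    let d := h₁.lift x' x₂ hx₂.symm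
    have hd1 : d ≫ (a.restrict iN).act = x' := h₁.lift_fst _ _ _
    have hd2 : d ≫ snd N X = x₂ := h₁.lift_snd _ _ _
    let n : T ⟶ N := d ≫ fst N X
    have hd : d = lift n x₂ := by
      apply CartesianMonoidalCategory.hom_ext
      · simp [n]
      · simp [hd2]
    refine ⟨lift ((n ≫ iN) * h) x, ?_, lift_snd _ _⟩
    rw [AlgGrp.Action.lift_mul_act, ← AlgGrp.Action.lift_restrict_act, ← hd, hd1]
  · intro T m m' hact hsnd
    have hm : m = lift (m ≫ fst G X) (m ≫ snd G X) := by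
      apply CartesianMonoidalCategory.hom_ext <;> simp
    have hm' : m' = lift (m' ≫ fst G X) (m ≫ snd G X) := by
      apply CartesianMonoidalCategory.hom_ext
      · simp
      · simp [hsnd]
    set g := m ≫ fst G X with hg
    set g' := m' ≫ fst G X with hg'
    set x := m ≫ snd G X with hx
    rw [hm, hm'] at hact
    -- g ≫ q = g' ≫ q
    have hq : g ≫ q = g' ≫ q := by
      have e1 : lift (g ≫ q) (x ≫ φ₁) ≫ aY.act = lift (g' ≫ q) (x ≫ φ₁) ≫ aY.act := by
        rw [← hE, ← hE, hact]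
      have e2 : lift (g ≫ q) (x ≫ φ₁) = lift (g' ≫ q) (x ≫ φ₁) := by
        apply h₂.hom_ext e1
        simp
      have := congrArg (fun k => k ≫ fst Q Y) e2
      simpa using this
    have hq1 : (g * g'⁻¹) ≫ q = 1 := by
      rw [MonObj.mul_comp, GrpObj.inv_comp, hq, mul_inv_cancel]
    -- lift to N
    let n : T ⟶ N := hker.lift (g * g'⁻¹) (toUnit T) (by rw [hq1, Hom.one_def])
    have hn : n ≫ iN = g * g'⁻¹ := hker.lift_fst _ _ _
    have e3 : lift n (lift g' x ≫ a.act) ≫ (a.restrict iN).act =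
        lift (1 : T ⟶ N) (lift g' x ≫ a.act) ≫ (a.restrict iN).act := by
      rw [AlgGrp.Action.lift_restrict_act, hn, ← AlgGrp.Action.lift_mul_act, inv_mul_cancel_right, hact,
        AlgGrp.Action.lift_one_act]
    have e4 : lift n (lift g' x ≫ a.act) = lift (1 : T ⟶ N) (lift g' x ≫ a.act) := by
      apply h₁.hom_ext e3
      simp
    have hn1 : n = 1 := by
      have := congrArg (fun k => k ≫ fst N X) e4
      simpa using this
    have hgg : g * g'⁻¹ = 1 := by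
      rw [← hn, hn1, MonObj.one_comp]
    have : g = g' := by
      have := mul_inv_eq_one.mp hgg
      exact this
    rw [hm, hm', this]

end Cart

section Loc

/-- composition of locally trivial morphisms is locally trivial. -/
theorem isLocallyTrivialFor_comp (K : Precoverage Scheme.{u}) [K.IsStableUnderBaseChange]
    [K.IsStableUnderComposition] {X Y Z : Scheme.{u}} (f : X ⟶ Y) (g : Y ⟶ Z)
    (hf : NonAbH1.IsLocallyTrivialFor K (Over.mk f)) (hg : NonAbH1.IsLocallyTrivialFor K (Over.mk g)) :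
    NonAbH1.IsLocallyTrivialFor K (Over.mk (f ≫ g)) := by
  obtain ⟨R₁, hR₁, hsec₁⟩ := hf
  obtain ⟨R₂, hR₂, hsec₂⟩ := hg
  obtain ⟨J, Y', d, rfl⟩ := R₁.exists_eq_ofArrows
  obtain ⟨I, Z', c, rfl⟩ := R₂.exists_eq_ofArrows
  have h1 : ∀ j, ∃ τ : Y' j ⟶ X, τ ≫ f = d j := fun j => hsec₁ (d j) (Presieve.ofArrows.mk j)
  have h2 : ∀ i, ∃ σ : Z' i ⟶ Y, σ ≫ g = c i := fun i => hsec₂ (c i) (Presieve.ofArrows.mk i)
  choose τ hτ using h1
  choose σ hσ using h2
  have hbc : ∀ i, Presieve.ofArrows (fun j => pullback (d j) (σ i)) (fun j => pullback.snd (d j) (σ i)) ∈ K (Z' i) :=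
    fun i => K.mem_coverings_of_isPullback d hR₁ (σ i) (fun j => pullback.snd (d j) (σ i))
      (fun j => pullback.fst (d j) (σ i)) (fun j => (IsPullback.of_hasPullback (d j) (σ i)).flip)
  have hcomp := K.comp_mem_coverings c hR₂ (fun i j => pullback.snd (d j) (σ i)) hbc
  refine ⟨_, hcomp, ?_⟩
  rintro S' k ⟨p⟩
  refine ⟨pullback.fst (d p.2) (σ p.1) ≫ τ p.2, ?_⟩
  change (pullback.fst (d p.2) (σ p.1) ≫ τ p.2) ≫ f ≫ g = pullback.snd (d p.2) (σ p.1) ≫ c p.1
  rw [Category.assoc, ← Category.assoc (τ p.2), hτ, ← Category.assoc, pullback.condition, Category.assoc, hσ]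

end Loc

end Groth.Agent.Helper18.TorsComp
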