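import Groth.Prelude.Def_TwC
import Groth.Prelude.Def_NonAbH2
import Groth.Agent.Lib.Helper13.GaPts
import Groth.Agent.Lib.Helper22.GrpYoneda
import Groth.Agent.Lib.Helper18.ConstPts
import Groth.Agent.Lib.Helper18.ArtSchRing
import Groth.Agent.Lib.Helper18.TorsComp

/-!
# Points of the Artin–Schreier sequence (helper18)
-/

set_option autoImplicit false
universe u

open CategoryTheory CategoryTheory.Limits MonoidalCategory CartesianMonoidalCategory MonObj AlgebraicGeometry

noncomputable section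

namespace Groth.Agent.Helper18.ArtSch

open Groth.Agent.Helper13 Groth.Agent.Helper22 Groth.Agent.Helper18.ConstPts Groth.Agent.Helper18.ArtSchRing

variable {p : ℕ} [hpF : Fact p.Prime] {S : Scheme.{u}} (hp : (p : Γ(S, ⊤)) = 0)

section Basic

include hp in
theorem natCast_T (T : Over S) : (p : Γ(T.left, ⊤)) = 0 := by
  have := congrArg T.hom.appTop.hom hp
  rwa [map_natCast, map_zero] at this

/-- the structure map `𝔽_p → Γ(T)` -/
def phi (T : Over S) : ZMod p →+* Γ(T.left, ⊤) := zmodHom p (natCast_T hp T)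

theorem phi_comp {T T' : Over S} (g : T' ⟶ T) (a : ZMod p) :
    g.left.appTop.hom (phi hp T a) = phi hp T' a := by
  have : g.left.appTop.hom.comp (phi hp T) = phi hp T' := Subsingleton.elim _ _
  exact congrArg (fun f => f a) this

end Basic

section PMap

variable (F : Red.Ga S ⟶ Red.Ga S)
  (hF : ∀ (T : Over S) (x : T ⟶ Red.Ga S), Red.gaFn (x ≫ F) = Red.gaFn x ^ p)

include hF in
theorem gaFn_P {T : Over S} (x : T ⟶ Red.Ga S) :
    Red.gaFn (x ≫ (𝟙 (Red.Ga S) * F⁻¹)) = Red.gaFn x - Red.gaFn x ^ p := by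
  rw [MonObj.comp_mul, GrpObj.comp_inv, Category.comp_id, GaPts.gaFn_mul, GaPts.gaFn_inv, hF,
    sub_eq_add_neg]

include hp hF in
theorem isMonHom_P : IsMonHom (𝟙 (Red.Ga S) * F⁻¹) := by
  apply GrpYoneda.isMonHom_of_points
  · apply GaPts.eq_of_gaFn_eq
    rw [gaFn_P F hF, GrpYoneda.eta_eq_one, GaPts.gaFn_one, zero_pow hpF.out.ne_zero, sub_zero]
  · apply GaPts.eq_of_gaFn_eq
    rw [gaFn_P F hF, GaPts.gaFn_mul, GaPts.gaFn_mul, gaFn_P F hF, gaFn_P F hF,
      add_pow_p (natCast_T hp _)]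
    ring

theorem gaFn_pow {T : Over S} (x : T ⟶ Red.Ga S) (n : ℕ) : Red.gaFn (x ^ n) = n • Red.gaFn x := by
  induction n with
  | zero => rw [pow_zero, GaPts.gaFn_one, zero_smul]
  | succ n ih => rw [pow_succ, GaPts.gaFn_mul, ih, succ_nsmul]

end PMap

section ConstPts

variable {G' : Over S} [GrpObj G'] (e : G' ≅ TwC.const S (Multiplicative (ZMod p)))
  (he : TwC.IsConstGrp (Multiplicative (ZMod p)) G' e)
  (i : G' ⟶ Red.Ga S) [IsMonHom i]
  (hi : Red.gaFn (TwC.pt S (Multiplicative (ZMod p)) (Multiplicative.ofAdd 1) ≫ e.inv ≫ i) = 1)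

include he hi in
theorem gaFn_pt (T : Over S) (a : ZMod p) :
    Red.gaFn (toUnit T ≫ TwC.pt S (Multiplicative (ZMod p)) (Multiplicative.ofAdd a) ≫ e.inv ≫ i) =
      phi hp T a := by
  haveI : NeZero p := ⟨hpF.out.ne_zero⟩
  obtain ⟨n, rfl⟩ : ∃ n : ℕ, (n : ZMod p) = a := ⟨a.val, ZMod.natCast_zmod_val a⟩
  have h1 : (Multiplicative.ofAdd ((n : ℕ) : ZMod p)) = (Multiplicative.ofAdd (1 : ZMod p)) ^ n := by
    rw [← ofAdd_nsmul, nsmul_one]
  have h2 := pt_pow e he T (Multiplicative.ofAdd (1 : ZMod p)) n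
  have h3 : toUnit T ≫ TwC.pt S (Multiplicative (ZMod p)) (Multiplicative.ofAdd (1 : ZMod p) ^ n) ≫ e.inv ≫ i =
      (toUnit T ≫ TwC.pt S (Multiplicative (ZMod p)) (Multiplicative.ofAdd (1 : ZMod p)) ≫ e.inv ≫ i) ^ n := by
    have := congrArg (fun c => c ≫ i) h2
    simp only [MonObj.pow_comp, Category.assoc] at this
    exact this.symm
  rw [h1, h3, gaFn_pow, GaPts.gaFn_comp, hi, map_one, nsmul_one, map_natCast]

end ConstPts

section Res

/-- restriction of an `S`-scheme to an open subscheme -/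
def resOver (T : Over S) (U : T.left.Opens) : Over S := Over.mk (U.ι ≫ T.hom)

/-- the inclusion of the restriction -/
def resHom (T : Over S) (U : T.left.Opens) : resOver T U ⟶ T := Over.homMk U.ι rfl

theorem const_hom_ext {X : Over S} (M : Type) (f g : TwC.const S M ⟶ X)
    (h : ∀ m, TwC.pt S M m ≫ f = TwC.pt S M m ≫ g) : f = g := by
  apply Over.OverMorphism.ext
  apply Sigma.hom_ext
  intro m
  exact congrArg (fun t => t.left) (h m)

/-- two points of a constant scheme with the same index function are equal -/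
theorem ext_of_idx (M : Type) {T : Over S} (c c' : T ⟶ TwC.const S M)
    (h : ∀ y : T.left, idx (S := S) M (c.left y) = idx (S := S) M (c'.left y)) : c = c' := by
  apply Over.OverMorphism.ext
  apply Scheme.hom_ext_of_forall
  intro x
  let m := idx (S := S) M (c.left x)
  let U : T.left.Opens := c.left ⁻¹ᵁ (Sigma.ι (fun _ : M => S) m).opensRange
  refine ⟨U, mem_idx (S := S) M (c.left x), ?_⟩
  have h1 : resHom T U ≫ c = toUnit _ ≫ TwC.pt S M m := by
    apply eq_pt_of_idx
    intro y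
    exact idx_eq (S := S) M y.2
  have h2 : resHom T U ≫ c' = toUnit _ ≫ TwC.pt S M m := by
    apply eq_pt_of_idx
    intro y
    change idx (S := S) M (c'.left y.1) = m
    rw [← h y.1]
    exact idx_eq (S := S) M y.2
  exact congrArg (fun t => t.left) (h1.trans h2.symm)

end Res

section ConstPts2

variable {G' : Over S} [GrpObj G'] (e : G' ≅ TwC.const S (Multiplicative (ZMod p)))
  (he : TwC.IsConstGrp (Multiplicative (ZMod p)) G' e)
  (i : G' ⟶ Red.Ga S) [IsMonHom i]
  (hi : Red.gaFn (TwC.pt S (Multiplicative (ZMod p)) (Multiplicative.ofAdd 1) ≫ e.inv ≫ i) = 1)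
  (F : Red.Ga S ⟶ Red.Ga S)
  (hF : ∀ (T : Over S) (x : T ⟶ Red.Ga S), Red.gaFn (x ≫ F) = Red.gaFn x ^ p)

include hp he hi hF in
theorem i_comp_P : i ≫ (𝟙 (Red.Ga S) * F⁻¹) = 1 := by
  rw [← cancel_epi e.inv]
  apply const_hom_ext
  intro m
  apply GaPts.eq_of_gaFn_eq
  obtain ⟨a, rfl⟩ : ∃ a, Multiplicative.ofAdd a = m := ⟨m.toAdd, rfl⟩
  rw [MonObj.comp_one, MonObj.comp_one, GaPts.gaFn_one, ← Category.assoc e.inv, ← Category.assoc,
    gaFn_P F hF]
  have h := gaFn_pt hp e he i hi (𝟙_ (Over S)) a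
  rw [show toUnit (𝟙_ (Over S)) = 𝟙 _ from toUnit_unique _ _, Category.id_comp] at h
  rw [h, zmod_pow_p, sub_self]

include hp he hi in
theorem i_injective {T : Over S} (g g' : T ⟶ G') (h : g ≫ i = g' ≫ i) : g = g' := by
  rw [← cancel_mono e.hom]
  apply ext_of_idx
  intro y
  let t := T.left.fromSpecResidueField y
  let Ty : Over S := Over.mk (t ≫ T.hom)
  let j : Ty ⟶ T := Over.homMk t rfl
  have key : ∀ g₀ : T ⟶ G', Red.gaFn (j ≫ g₀ ≫ i) =
      phi hp Ty (Multiplicative.toAdd (idx (S := S) (Multiplicative (ZMod p)) ((g₀ ≫ e.hom).left y))) := by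
    intro g₀
    have h1 : j ≫ g₀ ≫ e.hom = toUnit Ty ≫ TwC.pt S (Multiplicative (ZMod p))
        (idx (S := S) (Multiplicative (ZMod p)) ((g₀ ≫ e.hom).left y)) := by
      apply eq_pt_of_idx
      intro y0
      change idx (S := S) _ ((g₀ ≫ e.hom).left (t y0)) = _
      rw [Scheme.fromSpecResidueField_apply]
    have h2 : j ≫ g₀ = toUnit Ty ≫ TwC.pt S (Multiplicative (ZMod p))
        (idx (S := S) (Multiplicative (ZMod p)) ((g₀ ≫ e.hom).left y)) ≫ e.inv := by
      have := congrArg (fun c => c ≫ e.inv) h1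
      simpa only [Category.assoc, Iso.hom_inv_id, Category.comp_id] using this
    rw [← Category.assoc, h2, Category.assoc, Category.assoc]
    exact gaFn_pt hp e he i hi Ty _
  have h3 : phi hp Ty (Multiplicative.toAdd (idx (S := S) (Multiplicative (ZMod p)) ((g ≫ e.hom).left y))) =
      phi hp Ty (Multiplicative.toAdd (idx (S := S) (Multiplicative (ZMod p)) ((g' ≫ e.hom).left y))) := by
    rw [← key g, ← key g', h]
  haveI : Nontrivial Γ(Ty.left, ⊤) :=
    (Scheme.ΓSpecIso (T.left.residueField y)).commRingCatIsoToRingEquiv.symm.injective.nontrivial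
  exact Multiplicative.toAdd.injective ((phi hp Ty).injective h3)

end ConstPts2

section Exist

theorem isUnit_ι_appTop {X : Scheme.{u}} (f : Γ(X, ⊤)) :
    IsUnit ((X.basicOpen f).ι.appTop.hom f) := by
  let Y : Scheme.{u} := (X.basicOpen f).toScheme
  have h1 : Y.basicOpen ((X.basicOpen f).ι.appTop.hom f) = ⊤ := by
    rw [← Scheme.preimage_basicOpen_top, Scheme.Opens.ι_preimage_self]
  apply Y.toRingedSpace.isUnit_of_isUnit_germ ⊤
  intro x hx
  have : x ∈ Y.basicOpen ((X.basicOpen f).ι.appTop.hom f) := by rw [h1]; trivial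
  exact (Scheme.mem_basicOpen_top _ _ x).1 this

variable (T : Over S) (z : Γ(T.left, ⊤))

/-- the open subscheme where `z = a` -/
def Uz (a : ZMod p) : T.left.Opens := T.left.basicOpen (uElt (phi hp T) z a)

theorem isOpenCover_Uz : TopologicalSpace.IsOpenCover (Uz hp T z) := by
  have h := iSup_basicOpen_of_span_eq_top (X := T.left) ⊤ _ (span_uElt (phi hp T) z)
  rw [iSup_range] at h
  exact h

theorem Uz_inf (hz : z ^ p = z) {a b : ZMod p} (hab : a ≠ b) : Uz hp T z a ⊓ Uz hp T z b = ⊥ := by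
  rw [Uz, Uz, ← Scheme.basicOpen_mul]
  have h0 : uElt (phi hp T) z a * uElt (phi hp T) z b = 0 := by
    have h1 : uElt (phi hp T) z a = (z - phi hp T b) *
        ∏ c ∈ (Finset.univ.erase a).erase b, (z - phi hp T c) := by
      rw [uElt, Finset.mul_prod_erase (Finset.univ.erase a) (fun c => z - phi hp T c)
        (Finset.mem_erase.2 ⟨hab.symm, Finset.mem_univ b⟩)]
    rw [h1, mul_comm (z - phi hp T b), _root_.mul_assoc, mul_uElt, hz, sub_self, mul_zero]
  rw [h0, Scheme.basicOpen_zero]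

theorem res_eq (hz : z ^ p = z) (a : ZMod p) :
    (Uz hp T z a).ι.appTop.hom z = (Uz hp T z a).ι.appTop.hom (phi hp T a) := by
  have h1 := isUnit_ι_appTop (uElt (phi hp T) z a)
  have h2 : (Uz hp T z a).ι.appTop.hom (z - phi hp T a) *
      (Uz hp T z a).ι.appTop.hom (uElt (phi hp T) z a) = 0 := by
    rw [← map_mul, mul_uElt, hz, sub_self, map_zero]
  have h3 := (h1.mul_left_eq_zero).1 h2
  rw [map_sub] at h3
  exact sub_eq_zero.1 h3

end Exist

section Exist2

variable {G' : Over S} [GrpObj G'] (e : G' ≅ TwC.const S (Multiplicative (ZMod p)))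
  (he : TwC.IsConstGrp (Multiplicative (ZMod p)) G' e)
  (i : G' ⟶ Red.Ga S) [IsMonHom i]
  (hi : Red.gaFn (TwC.pt S (Multiplicative (ZMod p)) (Multiplicative.ofAdd 1) ≫ e.inv ≫ i) = 1)
  (T : Over S) (z : Γ(T.left, ⊤))

include hp he hi in
theorem exists_const_pt (hz : z ^ p = z) :
    ∃ c : T ⟶ TwC.const S (Multiplicative (ZMod p)), c ≫ e.inv ≫ i = GaPts.ptOfElt z := by
  let 𝒰 : T.left.OpenCover := T.left.openCoverOfIsOpenCover (Uz hp T z) (isOpenCover_Uz hp T z)
  let f : ∀ a : ZMod p, (𝒰.X a) ⟶ (∐ fun _ : Multiplicative (ZMod p) => S) := fun a =>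
    (Uz hp T z a).ι ≫ T.hom ≫ Sigma.ι (fun _ : Multiplicative (ZMod p) => S) (Multiplicative.ofAdd a)
  have hf : ∀ a b, pullback.fst (𝒰.f a) (𝒰.f b) ≫ f a = pullback.snd (𝒰.f a) (𝒰.f b) ≫ f b := by
    intro a b
    by_cases hab : a = b
    · subst hab
      change pullback.fst (𝒰.f a) (𝒰.f a) ≫ 𝒰.f a ≫ _ = pullback.snd (𝒰.f a) (𝒰.f a) ≫ 𝒰.f a ≫ _
      rw [← Category.assoc, ← Category.assoc (pullback.snd _ _), pullback.condition]
    · haveI : IsEmpty ↥(pullback (𝒰.f a) (𝒰.f b)) := by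
        constructor
        intro w
        have h1 : (pullback.fst (𝒰.f a) (𝒰.f b) ≫ 𝒰.f a) w ∈ Uz hp T z a ⊓ Uz hp T z b := by
          constructor
          · exact ((pullback.fst (𝒰.f a) (𝒰.f b)) w).2
          · rw [pullback.condition]
            exact ((pullback.snd (𝒰.f a) (𝒰.f b)) w).2
        rw [Uz_inf hp T z hz hab] at h1
        exact h1
      exact isInitialOfIsEmpty.hom_ext _ _
  let cl : T.left ⟶ (∐ fun _ : Multiplicative (ZMod p) => S) := 𝒰.glueMorphisms f hf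
  have hc : ∀ a, (Uz hp T z a).ι ≫ cl = f a := fun a => 𝒰.ι_glueMorphisms f hf a
  have w : cl ≫ (TwC.const S (Multiplicative (ZMod p))).hom = T.hom := by
    apply 𝒰.hom_ext
    intro (a : ZMod p)
    change (Uz hp T z a).ι ≫ cl ≫ _ = (Uz hp T z a).ι ≫ T.hom
    rw [← Category.assoc, hc a]
    change ((Uz hp T z a).ι ≫ T.hom ≫ Sigma.ι (fun _ : Multiplicative (ZMod p) => S)
      (Multiplicative.ofAdd a)) ≫ Sigma.desc (fun _ => 𝟙 S) = _
    rw [Category.assoc, Category.assoc, Sigma.ι_desc, Category.comp_id]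
  let c : T ⟶ TwC.const S (Multiplicative (ZMod p)) := Over.homMk cl w
  refine ⟨c, ?_⟩
  have key : ∀ a, resHom T (Uz hp T z a) ≫ c ≫ e.inv ≫ i = resHom T (Uz hp T z a) ≫ GaPts.ptOfElt z := by
    intro a
    have h1 : resHom T (Uz hp T z a) ≫ c =
        toUnit _ ≫ TwC.pt S (Multiplicative (ZMod p)) (Multiplicative.ofAdd a) := by
      apply Over.OverMorphism.ext
      change (Uz hp T z a).ι ≫ cl = ((Uz hp T z a).ι ≫ T.hom) ≫
        Sigma.ι (fun _ : Multiplicative (ZMod p) => S) (Multiplicative.ofAdd a)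
      rw [hc a, Category.assoc]
      rfl
    apply GaPts.eq_of_gaFn_eq
    rw [← Category.assoc, h1, Category.assoc, gaFn_pt hp e he i hi, GaPts.gaFn_comp,
      GaPts.gaFn_ptOfElt]
    change _ = (Uz hp T z a).ι.appTop.hom z
    rw [res_eq hp T z hz a]
    exact (phi_comp hp (resHom T (Uz hp T z a)) a).symm
  apply Over.OverMorphism.ext
  apply 𝒰.hom_ext
  intro (a : ZMod p)
  exact congrArg (fun t => t.left) (key a)

end Exist2

end Groth.Agent.Helper18.ArtSch
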