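import Mathlib
import Groth.Prelude

set_option autoImplicit false
set_option linter.style.haveILetI false
set_option linter.unusedSectionVars false
universe u
open CategoryTheory MonoidalCategory CartesianMonoidalCategory MonObj GrpObj AlgebraicGeometry Limits

namespace Groth.Agent.Helper18.AssocBun

variable {S : Scheme.{u}} {G X Y F : Over S} [GrpObj G] (a : AlgGrp.Action G X) (φ : X ⟶ Y)
  (hcart : IsPullback a.act (snd G X) φ φ) (b : AlgGrp.Action G F)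

include hcart in
theorem act_phi {A : Over S} (g : A ⟶ G) (p : A ⟶ X) : (lift g p ≫ a.act) ≫ φ = p ≫ φ := by
  rw [Category.assoc, hcart.w, ← Category.assoc, lift_snd]

/-- the unique `g` with `g • p₁ = p₀` -/
noncomputable def gg {A : Over S} (p₀ p₁ : A ⟶ X) (h : p₀ ≫ φ = p₁ ≫ φ) : A ⟶ G :=
  hcart.lift p₀ p₁ h ≫ fst G X

theorem gg_spec {A : Over S} (p₀ p₁ : A ⟶ X) (h : p₀ ≫ φ = p₁ ≫ φ) :
    lift (gg a φ hcart p₀ p₁ h) p₁ ≫ a.act = p₀ := by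
  have e : lift (gg a φ hcart p₀ p₁ h) p₁ = hcart.lift p₀ p₁ h := by
    apply CartesianMonoidalCategory.hom_ext
    · rw [lift_fst]; rfl
    · rw [lift_snd, hcart.lift_snd]
  rw [e, hcart.lift_fst]

theorem gg_unique {A : Over S} (p₀ p₁ : A ⟶ X) (h : p₀ ≫ φ = p₁ ≫ φ) (g : A ⟶ G)
    (hg : lift g p₁ ≫ a.act = p₀) : g = gg a φ hcart p₀ p₁ h := by
  have e : lift g p₁ = hcart.lift p₀ p₁ h := by
    apply hcart.hom_ext
    · rw [hg, hcart.lift_fst]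
    · rw [lift_snd, hcart.lift_snd]
  unfold gg
  rw [← e, lift_fst]

theorem gg_nat {A A' : Over S} (k : A' ⟶ A) (p₀ p₁ : A ⟶ X) (h : p₀ ≫ φ = p₁ ≫ φ) :
    k ≫ gg a φ hcart p₀ p₁ h = gg a φ hcart (k ≫ p₀) (k ≫ p₁)
      (by rw [Category.assoc, Category.assoc, h]) := by
  apply gg_unique
  rw [← comp_lift, Category.assoc, gg_spec]

theorem gg_self {A : Over S} (p : A ⟶ X) : gg a φ hcart p p rfl = 1 :=
  (gg_unique a φ hcart p p rfl 1 (AlgGrp.Action.lift_one_act a p)).symm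

theorem gg_mul {A : Over S} (p₀ p₁ p₂ : A ⟶ X) (h₀₁ : p₀ ≫ φ = p₁ ≫ φ) (h₁₂ : p₁ ≫ φ = p₂ ≫ φ) :
    gg a φ hcart p₀ p₁ h₀₁ * gg a φ hcart p₁ p₂ h₁₂ = gg a φ hcart p₀ p₂ (h₀₁.trans h₁₂) := by
  apply gg_unique
  rw [AlgGrp.Action.lift_mul_act, gg_spec, gg_spec]

theorem gg_act {A : Over S} (g : A ⟶ G) (p : A ⟶ X) :
    gg a φ hcart (lift g p ≫ a.act) p (act_phi a φ hcart g p) = g :=
  (gg_unique a φ hcart _ _ _ g rfl).symm

/-- the twist: move a point `m = (p₀, f)` of `X ⊗ F` to the `X`-coordinate `p₁` in the same fibre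
of `φ`, i.e. `g • m` for the unique `g` with `g • p₀ = p₁` -/
noncomputable def tw {A : Over S} (m : A ⟶ X ⊗ F) (p₁ : A ⟶ X)
    (h : (m ≫ fst X F) ≫ φ = p₁ ≫ φ) : A ⟶ X ⊗ F :=
  lift p₁ (lift (gg a φ hcart p₁ (m ≫ fst X F) h.symm) (m ≫ snd X F) ≫ b.act)

@[simp] theorem tw_fst {A : Over S} (m : A ⟶ X ⊗ F) (p₁ : A ⟶ X)
    (h : (m ≫ fst X F) ≫ φ = p₁ ≫ φ) : tw a φ hcart b m p₁ h ≫ fst X F = p₁ := lift_fst _ _

@[simp] theorem tw_snd {A : Over S} (m : A ⟶ X ⊗ F) (p₁ : A ⟶ X)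
    (h : (m ≫ fst X F) ≫ φ = p₁ ≫ φ) : tw a φ hcart b m p₁ h ≫ snd X F =
      lift (gg a φ hcart p₁ (m ≫ fst X F) h.symm) (m ≫ snd X F) ≫ b.act := lift_snd _ _

theorem lift_prod_act' {A : Over S} (g : A ⟶ G) (m : A ⟶ X ⊗ F) :
    lift g m ≫ (a.prod b).act =
      lift (lift g (m ≫ fst X F) ≫ a.act) (lift g (m ≫ snd X F) ≫ b.act) := by
  rw [AlgGrp.Action.prod_act, comp_lift, lift_whiskerLeft_assoc, lift_whiskerLeft_assoc]

theorem tw_eq_act {A : Over S} (m : A ⟶ X ⊗ F) (p₁ : A ⟶ X)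
    (h : (m ≫ fst X F) ≫ φ = p₁ ≫ φ) :
    tw a φ hcart b m p₁ h = lift (gg a φ hcart p₁ (m ≫ fst X F) h.symm) m ≫ (a.prod b).act := by
  rw [lift_prod_act', gg_spec]
  rfl

theorem tw_nat {A A' : Over S} (k : A' ⟶ A) (m : A ⟶ X ⊗ F) (p₁ : A ⟶ X)
    (h : (m ≫ fst X F) ≫ φ = p₁ ≫ φ) :
    k ≫ tw a φ hcart b m p₁ h = tw a φ hcart b (k ≫ m) (k ≫ p₁)
      (by rw [Category.assoc, Category.assoc, Category.assoc, ← Category.assoc m, h]) := by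
  unfold tw
  rw [comp_lift, ← Category.assoc, comp_lift, gg_nat]
  simp only [Category.assoc]

theorem tw_self {A : Over S} (m : A ⟶ X ⊗ F) : tw a φ hcart b m (m ≫ fst X F) rfl = m := by
  apply CartesianMonoidalCategory.hom_ext
  · rw [tw_fst]
  · rw [tw_snd, gg_self, AlgGrp.Action.lift_one_act]

theorem tw_tw {A : Over S} (m : A ⟶ X ⊗ F) (p₁ p₂ : A ⟶ X)
    (h₁ : (m ≫ fst X F) ≫ φ = p₁ ≫ φ) (h₂ : p₁ ≫ φ = p₂ ≫ φ) :
    tw a φ hcart b (tw a φ hcart b m p₁ h₁) p₂ (by rw [tw_fst]; exact h₂) =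
      tw a φ hcart b m p₂ (h₁.trans h₂) := by
  apply CartesianMonoidalCategory.hom_ext
  · rw [tw_fst, tw_fst]
  · rw [tw_snd, tw_snd]
    have e : gg a φ hcart p₂ (tw a φ hcart b m p₁ h₁ ≫ fst X F) (by rw [tw_fst]; exact h₂.symm) =
        gg a φ hcart p₂ p₁ h₂.symm := by
      congr 1
      exact tw_fst a φ hcart b m p₁ h₁
    rw [e, tw_snd, ← AlgGrp.Action.lift_mul_act, gg_mul]

end Groth.Agent.Helper18.AssocBun
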