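import Mathlib
import Groth.Prelude
import Groth.Agent.Lib.Helper18.AssocBun1
import Groth.Agent.Lib.Helper21.DescA

set_option autoImplicit false
set_option linter.style.haveILetI false
set_option linter.unusedSectionVars false
universe u
open CategoryTheory MonoidalCategory CartesianMonoidalCategory MonObj GrpObj AlgebraicGeometry Limits

namespace Groth.Agent.Helper18.AssocBun

open Desc

variable {S : Scheme.{u}} {G X Y F : Over S} [GrpObj G] (a : AlgGrp.Action G X) (φ : X ⟶ Y)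
  (hcart : IsPullback a.act (snd G X) φ φ) (b : AlgGrp.Action G F)

theorem tw_congr {A : Over S} {m m' : A ⟶ X ⊗ F} {p₁ p₁' : A ⟶ X} (hm : m = m') (hp : p₁ = p₁')
    (h : (m ≫ fst X F) ≫ φ = p₁ ≫ φ) (h' : (m' ≫ fst X F) ≫ φ = p₁' ≫ φ) :
    tw a φ hcart b m p₁ h = tw a φ hcart b m' p₁' h' := by
  subst hm hp
  rfl

theorem lifts_w {A : Over S} {x : A.left ⟶ X.left} (hx : x ≫ X.hom = A.hom)
    (v : Lifts (Over.mk (fst X F).left) x) : v.1 ≫ (X ⊗ F).hom = A.hom := by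
  have e : v.1 ≫ (fst X F).left = x := v.2
  rw [← Over.w (fst X F), ← Category.assoc, e, hx]

/-- a lift as a morphism over `S` -/
noncomputable def toOv {A : Over S} {x : A.left ⟶ X.left} (hx : x ≫ X.hom = A.hom)
    (v : Lifts (Over.mk (fst X F).left) x) : A ⟶ X ⊗ F := Over.homMk v.1 (lifts_w hx v)

theorem toOv_fst {A : Over S} {x : A.left ⟶ X.left} (hx : x ≫ X.hom = A.hom)
    (v : Lifts (Over.mk (fst X F).left) x) : toOv hx v ≫ fst X F = Over.homMk x hx := by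
  apply Over.OverMorphism.ext
  exact v.2

theorem phi_cond {A : Over S} {x₀ x₁ : A.left ⟶ X.left} (hx₀ : x₀ ≫ X.hom = A.hom)
    (hx₁ : x₁ ≫ X.hom = A.hom) (h : x₀ ≫ φ.left = x₁ ≫ φ.left)
    (v : Lifts (Over.mk (fst X F).left) x₀) :
    (toOv hx₀ v ≫ fst X F) ≫ φ = (Over.homMk x₁ hx₁ : A ⟶ X) ≫ φ := by
  rw [toOv_fst]
  apply Over.OverMorphism.ext
  exact h

/-- the gluing map on points -/
noncomputable def phiFun {A : Over S} {x₀ x₁ : A.left ⟶ X.left} (hx₀ : x₀ ≫ X.hom = A.hom)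
    (hx₁ : x₁ ≫ X.hom = A.hom) (h : x₀ ≫ φ.left = x₁ ≫ φ.left)
    (v : Lifts (Over.mk (fst X F).left) x₀) : Lifts (Over.mk (fst X F).left) x₁ :=
  ⟨(tw a φ hcart b (toOv hx₀ v) (Over.homMk x₁ hx₁) (phi_cond φ hx₀ hx₁ h v)).left, by
    have := congrArg (fun k => k.left)
      (tw_fst a φ hcart b (toOv hx₀ v) (Over.homMk x₁ hx₁) (phi_cond φ hx₀ hx₁ h v))
    exact this⟩

theorem phiFun_val {A : Over S} {x₀ x₁ : A.left ⟶ X.left} (hx₀ : x₀ ≫ X.hom = A.hom)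
    (hx₁ : x₁ ≫ X.hom = A.hom) (h : x₀ ≫ φ.left = x₁ ≫ φ.left)
    (v : Lifts (Over.mk (fst X F).left) x₀) :
    (phiFun a φ hcart b hx₀ hx₁ h v).1 =
      (tw a φ hcart b (toOv hx₀ v) (Over.homMk x₁ hx₁) (phi_cond φ hx₀ hx₁ h v)).left := rfl

theorem toOv_phiFun {A : Over S} {x₀ x₁ : A.left ⟶ X.left} (hx₀ : x₀ ≫ X.hom = A.hom)
    (hx₁ : x₁ ≫ X.hom = A.hom) (h : x₀ ≫ φ.left = x₁ ≫ φ.left)
    (v : Lifts (Over.mk (fst X F).left) x₀) :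
    toOv hx₁ (phiFun a φ hcart b hx₀ hx₁ h v) =
      tw a φ hcart b (toOv hx₀ v) (Over.homMk x₁ hx₁) (phi_cond φ hx₀ hx₁ h v) := by
  apply Over.OverMorphism.ext
  rfl

theorem phiFun_comp {A : Over S} {x₀ x₁ x₂ : A.left ⟶ X.left} (hx₀ : x₀ ≫ X.hom = A.hom)
    (hx₁ : x₁ ≫ X.hom = A.hom) (hx₂ : x₂ ≫ X.hom = A.hom)
    (h₀₁ : x₀ ≫ φ.left = x₁ ≫ φ.left) (h₁₂ : x₁ ≫ φ.left = x₂ ≫ φ.left)
    (v : Lifts (Over.mk (fst X F).left) x₀) :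
    phiFun a φ hcart b hx₁ hx₂ h₁₂ (phiFun a φ hcart b hx₀ hx₁ h₀₁ v) =
      phiFun a φ hcart b hx₀ hx₂ (h₀₁.trans h₁₂) v := by
  apply Subtype.ext
  rw [phiFun_val, phiFun_val]
  congr 1
  have h₁₂' : (Over.homMk x₁ hx₁ : A ⟶ X) ≫ φ = (Over.homMk x₂ hx₂ : A ⟶ X) ≫ φ := by
    apply Over.OverMorphism.ext
    exact h₁₂
  rw [← tw_tw a φ hcart b (toOv hx₀ v) (Over.homMk x₁ hx₁) (Over.homMk x₂ hx₂)
    (phi_cond φ hx₀ hx₁ h₀₁ v) h₁₂']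
  exact tw_congr a φ hcart b (toOv_phiFun a φ hcart b hx₀ hx₁ h₀₁ v) rfl _ _

theorem phiFun_self {A : Over S} {x : A.left ⟶ X.left} (hx : x ≫ X.hom = A.hom)
    (v : Lifts (Over.mk (fst X F).left) x) : phiFun a φ hcart b hx hx rfl v = v := by
  apply Subtype.ext
  rw [phiFun_val]
  have e := tw_self a φ hcart b (toOv hx v)
  have e' : tw a φ hcart b (toOv hx v) (Over.homMk x hx) (phi_cond φ hx hx rfl v) =
      tw a φ hcart b (toOv hx v) (toOv hx v ≫ fst X F) rfl :=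
    tw_congr a φ hcart b rfl (toOv_fst hx v).symm _ _
  rw [e', e]
  rfl

theorem phiFun_nat {A A' : Over S} (k : A' ⟶ A) {x₀ x₁ : A.left ⟶ X.left}
    (hx₀ : x₀ ≫ X.hom = A.hom) (hx₁ : x₁ ≫ X.hom = A.hom) (h : x₀ ≫ φ.left = x₁ ≫ φ.left)
    {y₀ y₁ : A'.left ⟶ X.left}
    (hy₀ : y₀ ≫ X.hom = A'.hom) (hy₁ : y₁ ≫ X.hom = A'.hom) (h' : y₀ ≫ φ.left = y₁ ≫ φ.left)
    (e₁ : k.left ≫ x₁ = y₁) (v : Lifts (Over.mk (fst X F).left) x₀)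
    (v' : Lifts (Over.mk (fst X F).left) y₀) (hv : v'.1 = k.left ≫ v.1) :
    (phiFun a φ hcart b hy₀ hy₁ h' v').1 = k.left ≫ (phiFun a φ hcart b hx₀ hx₁ h v).1 := by
  have h1 : toOv hy₀ v' = k ≫ toOv hx₀ v := by
    apply Over.OverMorphism.ext
    exact hv
  have h2 : (Over.homMk y₁ hy₁ : A' ⟶ X) = k ≫ Over.homMk x₁ hx₁ := by
    apply Over.OverMorphism.ext
    exact e₁.symm
  rw [phiFun_val, phiFun_val, ← Over.comp_left, tw_nat]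
  congr 1
  exact tw_congr a φ hcart b h1 h2 _ _

theorem phiFun_indep {T : Scheme.{u}} {t t' : T ⟶ S} (ht : t = t') {x₀ x₁ : T ⟶ X.left}
    (hx₀ : x₀ ≫ X.hom = t) (hx₁ : x₁ ≫ X.hom = t) (hx₀' : x₀ ≫ X.hom = t')
    (hx₁' : x₁ ≫ X.hom = t') (h : x₀ ≫ φ.left = x₁ ≫ φ.left)
    (v : Lifts (Over.mk (fst X F).left) x₀) :
    (phiFun a φ hcart b (A := Over.mk t) hx₀ hx₁ h v).1 =
      (phiFun a φ hcart b (A := Over.mk t') hx₀' hx₁' h v).1 := by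
  subst ht
  rfl

theorem hom_eq_of_phi {T : Scheme.{u}} {x₀ x₁ : T ⟶ X.left} (h : x₀ ≫ φ.left = x₁ ≫ φ.left) :
    x₁ ≫ X.hom = x₀ ≫ X.hom := by
  rw [← Over.w φ, ← Category.assoc, ← h, Category.assoc]

theorem phiFun_nat_mk {T T' : Scheme.{u}} (g : T' ⟶ T) {x₀ x₁ : T ⟶ X.left}
    (h : x₀ ≫ φ.left = x₁ ≫ φ.left) {y₀ y₁ : T' ⟶ X.left} (h' : y₀ ≫ φ.left = y₁ ≫ φ.left)
    (e₀ : g ≫ x₀ = y₀) (e₁ : g ≫ x₁ = y₁) (v : Lifts (Over.mk (fst X F).left) x₀)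
    (v' : Lifts (Over.mk (fst X F).left) y₀) (hv : v'.1 = g ≫ v.1) :
    (phiFun a φ hcart b (A := Over.mk (y₀ ≫ X.hom)) rfl (hom_eq_of_phi φ h') h' v').1 =
      g ≫ (phiFun a φ hcart b (A := Over.mk (x₀ ≫ X.hom)) rfl (hom_eq_of_phi φ h) h v).1 := by
  have hk : g ≫ (Over.mk (x₀ ≫ X.hom)).hom = (Over.mk (y₀ ≫ X.hom)).hom := by
    change g ≫ x₀ ≫ X.hom = y₀ ≫ X.hom
    rw [← e₀, Category.assoc]
  exact phiFun_nat a φ hcart b (A := Over.mk (x₀ ≫ X.hom)) (A' := Over.mk (y₀ ≫ X.hom))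
    (Over.homMk g hk) rfl (hom_eq_of_phi φ h) h rfl (hom_eq_of_phi φ h') h' e₁ v v' hv

/-- the gluing bijection -/
noncomputable def phiEquiv {T : Scheme.{u}} (x₀ x₁ : T ⟶ X.left) (h : x₀ ≫ φ.left = x₁ ≫ φ.left) :
    Lifts (Over.mk (fst X F).left) x₀ ≃ Lifts (Over.mk (fst X F).left) x₁ where
  toFun := phiFun a φ hcart b (A := Over.mk (x₀ ≫ X.hom)) rfl (hom_eq_of_phi φ h) h
  invFun := phiFun a φ hcart b (A := Over.mk (x₀ ≫ X.hom)) (hom_eq_of_phi φ h) rfl h.symm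
  left_inv := fun v => by rw [phiFun_comp, phiFun_self]
  right_inv := fun v => by rw [phiFun_comp, phiFun_self]

theorem phiEquiv_val {T : Scheme.{u}} (x₀ x₁ : T ⟶ X.left) (h : x₀ ≫ φ.left = x₁ ≫ φ.left)
    (v : Lifts (Over.mk (fst X F).left) x₀) :
    (phiEquiv a φ hcart b x₀ x₁ h v).1 =
      (phiFun a φ hcart b (A := Over.mk (x₀ ≫ X.hom)) rfl (hom_eq_of_phi φ h) h v).1 := rfl

theorem phiEquiv_comp {T : Scheme.{u}} (x₀ x₁ x₂ : T ⟶ X.left)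
    (h₀₁ : x₀ ≫ φ.left = x₁ ≫ φ.left) (h₁₂ : x₁ ≫ φ.left = x₂ ≫ φ.left)
    (v : Lifts (Over.mk (fst X F).left) x₀) :
    phiEquiv a φ hcart b x₁ x₂ h₁₂ (phiEquiv a φ hcart b x₀ x₁ h₀₁ v) =
      phiEquiv a φ hcart b x₀ x₂ (h₀₁.trans h₁₂) v := by
  apply Subtype.ext
  rw [phiEquiv_val, phiEquiv_val]
  refine (phiFun_indep a φ hcart b (hom_eq_of_phi φ h₀₁) rfl (hom_eq_of_phi φ h₁₂)
    (hom_eq_of_phi φ h₀₁) (hom_eq_of_phi φ (h₀₁.trans h₁₂)) h₁₂ _).trans ?_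
  have : phiEquiv a φ hcart b x₀ x₁ h₀₁ v =
      phiFun a φ hcart b (A := Over.mk (x₀ ≫ X.hom)) rfl (hom_eq_of_phi φ h₀₁) h₀₁ v := rfl
  rw [this, phiFun_comp]

/-- the descent datum on `X ×_S F` relative to `φ : X ⟶ Y` defining the associated bundle -/
noncomputable def DD : SchDDFam (fun _ : PUnit.{u + 1} => φ.left) where
  obj _ := Over.mk (fst X F).left
  φ T _ _ x₀ x₁ h := phiEquiv a φ hcart b x₀ x₁ h
  φ_natural T T' g _ _ x₀ x₁ h y₀ y₁ hy₀ hy₁ h' v v' hv' :=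
    phiFun_nat_mk a φ hcart b g h h' hy₀ hy₁ v v' hv'
  φ_self T _ x v := phiFun_self a φ hcart b (A := Over.mk (x ≫ X.hom)) rfl v
  φ_comp T _ _ _ x₀ x₁ x₂ h₀₁ h₁₂ v := phiEquiv_comp a φ hcart b x₀ x₁ x₂ h₀₁ h₁₂ v

theorem DD_φ_val_mk {T : Scheme.{u}} {t : T ⟶ S} {x₀ x₁ : T ⟶ X.left} (hx₀ : x₀ ≫ X.hom = t)
    (hx₁ : x₁ ≫ X.hom = t) (h : x₀ ≫ φ.left = x₁ ≫ φ.left)
    (v : Lifts (Over.mk (fst X F).left) x₀) :
    ((DD a φ hcart b).φ (i := PUnit.unit) (j := PUnit.unit) x₀ x₁ h v).1 =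
      (phiFun a φ hcart b (A := Over.mk t) hx₀ hx₁ h v).1 := by
  subst hx₀
  rfl

theorem DD_φ_val {A : Over S} {x₀ x₁ : A.left ⟶ X.left} (hx₀ : x₀ ≫ X.hom = A.hom)
    (hx₁ : x₁ ≫ X.hom = A.hom) (h : x₀ ≫ φ.left = x₁ ≫ φ.left)
    (v : Lifts (Over.mk (fst X F).left) x₀) :
    ((DD a φ hcart b).φ (i := PUnit.unit) (j := PUnit.unit) x₀ x₁ h v).1 =
      (phiFun a φ hcart b hx₀ hx₁ h v).1 :=
  DD_φ_val_mk a φ hcart b (t := A.hom) hx₀ hx₁ h v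

end Groth.Agent.Helper18.AssocBun
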