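import Mathlib

set_option autoImplicit false
universe v u
open CategoryTheory MonoidalCategory CartesianMonoidalCategory MonObj GrpObj Limits

namespace Groth.Agent.Helper18.GrpOfEpi

variable {C : Type u} [Category.{v} C] [CartesianMonoidalCategory C]

/-- transport of a group structure along an epimorphism compatible with the operations -/
@[instance_reducible]
noncomputable def grpObjOfEpi {G Q : C} [GrpObj G] (q : G ⟶ Q) [Epi q]
    [Epi ((q ⊗ₘ q) ⊗ₘ q)]
    (m : Q ⊗ Q ⟶ Q) (hm : (q ⊗ₘ q) ≫ m = μ[G] ≫ q) (j : Q ⟶ Q) (hj : q ≫ j = ι[G] ≫ q) :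
    GrpObj Q where
  one := η[G] ≫ q
  mul := m
  one_mul := by
    haveI : Epi (𝟙_ C ◁ q) := by
      have : (𝟙_ C ◁ q) = (λ_ G).hom ≫ q ≫ (λ_ Q).inv := by
        rw [← Category.assoc, ← leftUnitor_naturality, Category.assoc, Iso.hom_inv_id,
          Category.comp_id]
      rw [this]
      infer_instance
    rw [← cancel_epi (𝟙_ C ◁ q)]
    have : (𝟙_ C ◁ q) ≫ ((η[G] ≫ q) ▷ Q) = (η[G] ▷ G) ≫ (q ⊗ₘ q) := by
      apply CartesianMonoidalCategory.hom_ext
      · simp only [Category.assoc, whiskerRight_fst, whiskerLeft_fst_assoc, tensorHom_fst,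
          whiskerRight_fst_assoc]
      · simp only [Category.assoc, whiskerRight_snd, whiskerLeft_snd, tensorHom_snd,
          whiskerRight_snd_assoc]
    rw [← Category.assoc, this, Category.assoc, hm, ← Category.assoc, MonObj.one_mul,
      leftUnitor_naturality]
  mul_one := by
    haveI : Epi (q ▷ 𝟙_ C) := by
      have : (q ▷ 𝟙_ C) = (ρ_ G).hom ≫ q ≫ (ρ_ Q).inv := by
        rw [← Category.assoc, ← rightUnitor_naturality, Category.assoc, Iso.hom_inv_id,
          Category.comp_id]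
      rw [this]
      infer_instance
    rw [← cancel_epi (q ▷ 𝟙_ C)]
    have : (q ▷ 𝟙_ C) ≫ (Q ◁ (η[G] ≫ q)) = (G ◁ η[G]) ≫ (q ⊗ₘ q) := by
      apply CartesianMonoidalCategory.hom_ext
      · simp only [Category.assoc, whiskerLeft_fst, whiskerRight_fst, tensorHom_fst,
          whiskerLeft_fst_assoc]
      · simp only [Category.assoc, whiskerLeft_snd, whiskerRight_snd_assoc, tensorHom_snd,
          whiskerLeft_snd_assoc]
    rw [← Category.assoc, this, Category.assoc, hm, ← Category.assoc, MonObj.mul_one,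
      rightUnitor_naturality]
  mul_assoc := by
    rw [← cancel_epi ((q ⊗ₘ q) ⊗ₘ q)]
    have h1 : ((q ⊗ₘ q) ⊗ₘ q) ≫ (m ▷ Q) = (μ[G] ▷ G) ≫ (q ⊗ₘ q) := by
      apply CartesianMonoidalCategory.hom_ext
      · simp only [Category.assoc, whiskerRight_fst, tensorHom_fst, tensorHom_fst_assoc,
          whiskerRight_fst_assoc]
        rw [hm]
      · simp
    have h2 : ((q ⊗ₘ q) ⊗ₘ q) ≫ (α_ Q Q Q).hom ≫ (Q ◁ m) =
        (α_ G G G).hom ≫ (G ◁ μ[G]) ≫ (q ⊗ₘ q) := by
      rw [← Category.assoc, associator_naturality, Category.assoc]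
      congr 1
      apply CartesianMonoidalCategory.hom_ext
      · simp
      · simp only [Category.assoc, whiskerLeft_snd, tensorHom_snd, tensorHom_snd_assoc,
          whiskerLeft_snd_assoc]
        rw [hm]
    have lhs : ((q ⊗ₘ q) ⊗ₘ q) ≫ (m ▷ Q) ≫ m = (μ[G] ▷ G) ≫ μ[G] ≫ q := by
      rw [← Category.assoc, h1, Category.assoc, hm]
    have rhs : ((q ⊗ₘ q) ⊗ₘ q) ≫ (α_ Q Q Q).hom ≫ (Q ◁ m) ≫ m =
        (α_ G G G).hom ≫ (G ◁ μ[G]) ≫ μ[G] ≫ q := by
      rw [← Category.assoc (α_ Q Q Q).hom, ← Category.assoc, h2]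
      simp only [Category.assoc]
      rw [hm]
    rw [lhs, rhs, ← Category.assoc, MonObj.mul_assoc]
    simp only [Category.assoc]
  inv := j
  left_inv := by
    rw [← cancel_epi q]
    have : q ≫ lift j (𝟙 Q) = lift ι[G] (𝟙 G) ≫ (q ⊗ₘ q) := by
      apply CartesianMonoidalCategory.hom_ext
      · simp [hj]
      · simp
    rw [← Category.assoc, this, Category.assoc, hm, ← Category.assoc, GrpObj.left_inv,
      Category.assoc, ← Category.assoc q, toUnit_unique (q ≫ toUnit Q) (toUnit G)]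
  right_inv := by
    rw [← cancel_epi q]
    have : q ≫ lift (𝟙 Q) j = lift (𝟙 G) ι[G] ≫ (q ⊗ₘ q) := by
      apply CartesianMonoidalCategory.hom_ext
      · simp
      · simp [hj]
    rw [← Category.assoc, this, Category.assoc, hm, ← Category.assoc, GrpObj.right_inv,
      Category.assoc, ← Category.assoc q, toUnit_unique (q ≫ toUnit Q) (toUnit G)]

end Groth.Agent.Helper18.GrpOfEpi
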