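import Mathlib
import Groth.Prelude
import Groth.Agent.Lib.Helper18.FlatEpi
import Groth.Agent.Lib.Helper18.GrpOfEpi

set_option autoImplicit false
universe u
open CategoryTheory MonoidalCategory CartesianMonoidalCategory MonObj GrpObj AlgebraicGeometry Limits
open Groth.Agent.Helper28.AlgGrpShear

namespace Groth.Agent.Helper18.QuotGrp

variable {S : Scheme.{u}}

section
variable {H G Q : Over S} [GrpObj G] (i : H ⟶ G) (q : G ⟶ Q)

theorem mul_comp_eq (hsq : IsPullback (fst G H) ((G ◁ i) ≫ μ[G]) q q) {T : Over S}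
    (g : T ⟶ G) (h : T ⟶ H) : (g * (h ≫ i)) ≫ q = g ≫ q := by
  have e : g * (h ≫ i) = lift g h ≫ (G ◁ i) ≫ μ[G] := by
    rw [← Category.assoc]
    have : lift g h ≫ (G ◁ i) = lift g (h ≫ i) := by
      apply CartesianMonoidalCategory.hom_ext <;> simp
    rw [this]
    rfl
  have hw : ((G ◁ i) ≫ μ[G]) ≫ q = fst G H ≫ q := hsq.w.symm
  rw [e, Category.assoc (lift g h), hw, ← Category.assoc, lift_fst]

theorem exists_of_comp_eq (hsq : IsPullback (fst G H) ((G ◁ i) ≫ μ[G]) q q) {T : Over S}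
    (g₁ g₂ : T ⟶ G) (hg : g₁ ≫ q = g₂ ≫ q) : ∃ h : T ⟶ H, g₂ = g₁ * (h ≫ i) := by
  obtain ⟨l, h1, h2⟩ : ∃ l : T ⟶ G ⊗ H, l ≫ fst G H = g₁ ∧ l ≫ (G ◁ i) ≫ μ[G] = g₂ :=
    ⟨hsq.lift g₁ g₂ hg, hsq.lift_fst _ _ _, hsq.lift_snd _ _ _⟩
  refine ⟨l ≫ snd G H, ?_⟩
  rw [← h2, ← Category.assoc]
  have : l ≫ (G ◁ i) = lift g₁ ((l ≫ snd G H) ≫ i) := by
    apply CartesianMonoidalCategory.hom_ext
    · simp [h1]
    · simp
  rw [this]
  rfl

end

section
variable {H G : Over S} [GrpObj H] [GrpObj G] (i : H ⟶ G) [IsMonHom i]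

omit [IsMonHom i] in
theorem mul_eq_lift {T : Over S} (g : T ⟶ G ⊗ G) :
    g ≫ μ[G] = (g ≫ fst G G) * (g ≫ snd G G) := by
  rw [Hom.mul_def]
  congr 1
  apply CartesianMonoidalCategory.hom_ext <;> simp

theorem comp_mul' {T : Over S} (a b : T ⟶ H) : (a * b) ≫ i = (a ≫ i) * (b ≫ i) :=
  map_mul (IsMonHom.monoidHom i T) a b

theorem comp_inv' {T : Over S} (a : T ⟶ H) : a⁻¹ ≫ i = (a ≫ i)⁻¹ :=
  map_inv (IsMonHom.monoidHom i T) a

end

/-- the multiplication on the quotient -/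
theorem exists_mul {H G Q : Over S} [GrpObj H] [GrpObj G] (i : H ⟶ G) [IsMonHom i]
    (hn : AlgGrp.IsNormalHom i) (q : G ⟶ Q)
    (hsq : IsPullback (fst G H) ((G ◁ i) ≫ μ[G]) q q) [EffectiveEpi (q ⊗ₘ q).left] :
    ∃ m : Q ⊗ Q ⟶ Q, (q ⊗ₘ q) ≫ m = μ[G] ≫ q := by
  refine Groth.Agent.Helper18.FlatEpi.exists_desc (q ⊗ₘ q) (μ[G] ≫ q) ?_
  intro T g₁ g₂ hg
  have ha : (g₁ ≫ fst G G) ≫ q = (g₂ ≫ fst G G) ≫ q := by
    have := congrArg (· ≫ fst Q Q) hg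
    simpa using this
  have hb : (g₁ ≫ snd G G) ≫ q = (g₂ ≫ snd G G) ≫ q := by
    have := congrArg (· ≫ snd Q Q) hg
    simpa using this
  obtain ⟨h, hh⟩ := exists_of_comp_eq i q hsq _ _ ha
  obtain ⟨h', hh'⟩ := exists_of_comp_eq i q hsq _ _ hb
  obtain ⟨n, hn'⟩ := hn T (g₁ ≫ snd G G)⁻¹ h
  rw [← Category.assoc, ← Category.assoc, mul_eq_lift g₁, mul_eq_lift g₂, hh, hh']
  have : ((g₁ ≫ fst G G) * (h ≫ i)) * ((g₁ ≫ snd G G) * (h' ≫ i)) =
      ((g₁ ≫ fst G G) * (g₁ ≫ snd G G)) * ((n * h') ≫ i) := by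
    rw [comp_mul', ← hn']
    group
  rw [this, mul_comp_eq i q hsq]

/-- the inverse on the quotient -/
theorem exists_inv {H G Q : Over S} [GrpObj H] [GrpObj G] (i : H ⟶ G) [IsMonHom i]
    (hn : AlgGrp.IsNormalHom i) (q : G ⟶ Q)
    (hsq : IsPullback (fst G H) ((G ◁ i) ≫ μ[G]) q q) [EffectiveEpi q.left] :
    ∃ j : Q ⟶ Q, q ≫ j = ι[G] ≫ q := by
  refine Groth.Agent.Helper18.FlatEpi.exists_desc q (ι[G] ≫ q) ?_
  intro T g₁ g₂ hg
  obtain ⟨h, hh⟩ := exists_of_comp_eq i q hsq _ _ hg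
  obtain ⟨n, hn'⟩ := hn T g₁ h⁻¹
  rw [← Category.assoc, ← Category.assoc, ← Hom.inv_def, ← Hom.inv_def, hh]
  have : (g₁ * (h ≫ i))⁻¹ = g₁⁻¹ * (n ≫ i) := by
    rw [← hn', comp_inv']
    group
  rw [this, mul_comp_eq i q hsq]

instance lofp_whiskerRight {A B : Over S} (i : A ⟶ B) [LocallyOfFinitePresentation i.left]
    (Z : Over S) : LocallyOfFinitePresentation (i ▷ Z).left :=
  MorphismProperty.of_isPullback (P := @LocallyOfFinitePresentation)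
    (Groth.Agent.Helper18.GrpFppf.isPullback_left (isPullback_fst i Z)) inferInstance

instance lofp_whiskerLeft {A B : Over S} (i : A ⟶ B) [LocallyOfFinitePresentation i.left]
    (Z : Over S) : LocallyOfFinitePresentation (Z ◁ i).left :=
  MorphismProperty.of_isPullback (P := @LocallyOfFinitePresentation)
    (Groth.Agent.Helper18.GrpFppf.isPullback_left (isPullback_snd Z i)) inferInstance

instance lofp_tensorHom {A B A' B' : Over S} (i : A ⟶ B) (j : A' ⟶ B')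
    [LocallyOfFinitePresentation i.left] [LocallyOfFinitePresentation j.left] :
    LocallyOfFinitePresentation (i ⊗ₘ j).left := by
  rw [MonoidalCategory.tensorHom_def, Over.comp_left]
  infer_instance

/-- abstract form: unique group structure on a quotient -/
theorem existsUnique_grpObj {H G Q : Over S} [GrpObj H] [hG : GrpObj G] (i : H ⟶ G) [IsMonHom i]
    (hn : AlgGrp.IsNormalHom i) (q : G ⟶ Q)
    (hsq : IsPullback (fst G H) ((G ◁ i) ≫ μ[G]) q q) [EffectiveEpi q.left]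
    [EffectiveEpi (q ⊗ₘ q).left] [Epi q] [Epi (q ⊗ₘ q)] [Epi ((q ⊗ₘ q) ⊗ₘ q)] :
    ∃! s : GrpObj Q, @IsMonHom (Over S) _ _ G Q hG.toMonObj s.toMonObj q := by
  obtain ⟨m, hm⟩ := exists_mul i hn q hsq
  obtain ⟨j, hj⟩ := exists_inv i hn q hsq
  refine ⟨Groth.Agent.Helper18.GrpOfEpi.grpObjOfEpi q m hm j hj, ?_, ?_⟩
  · letI := Groth.Agent.Helper18.GrpOfEpi.grpObjOfEpi q m hm j hj
    exact { one_hom := rfl, mul_hom := hm.symm }
  · intro s hs
    apply GrpObj.ext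
    apply MonObj.ext
    show s.mul = m
    rw [← cancel_epi (q ⊗ₘ q), hm]
    exact (@IsMonHom.mul_hom (Over S) _ _ G Q hG.toMonObj s.toMonObj q hs).symm

end Groth.Agent.Helper18.QuotGrp
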