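import Mathlib
import Groth.Prelude
import Groth.Agent.Lib.Helper18.FlatEpi
import Groth.Agent.Lib.Helper18.QuotGrp

set_option autoImplicit false
universe u
open CategoryTheory MonoidalCategory CartesianMonoidalCategory MonObj GrpObj AlgebraicGeometry Limits
open Groth.Agent.Helper28.AlgGrpShear

namespace Groth.Agent.Helper18.FpqcCov

/-- a morphism generating a covering sieve for the fpqc topology -/
def IsFpqcCov {X Y : Scheme.{u}} (f : X ⟶ Y) : Prop :=
  Sieve.generate (Presieve.singleton f) ∈ Scheme.fpqcTopology Y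

theorem singleton_mem_fpqcPrecoverage {Z Y : Scheme.{u}} (q : Z ⟶ Y) [Flat q] [Surjective q]
    (hqc : ∀ V : Y.Opens, IsAffineOpen V →
      ∃ W : Z.Opens, IsCompact (W : Set Z) ∧ q.base '' (W : Set Z) = (V : Set Y)) :
    Presieve.singleton q ∈ Scheme.fpqcPrecoverage Y := by
  refine ⟨?_, ?_⟩
  · rw [Scheme.qcPrecoverage, PreZeroHypercoverFamily.mem_precoverage_iff]
    refine ⟨(q.cover (P := ⊤) trivial).toPreZeroHypercover, ?_, by simp⟩
    simp only [Scheme.qcCoverFamily_property, Scheme.quasiCompactCover_iff]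
    constructor
    intro U hU
    obtain ⟨W, hW, hWU⟩ := hqc U hU
    refine ⟨{PUnit.unit}, Set.finite_singleton _, fun _ _ => W, fun _ _ => hW, ?_⟩
    ext y
    simp only [Set.mem_iUnion]
    constructor
    · rintro ⟨i, hi, hy⟩
      rw [← hWU]
      exact hy
    · intro hy
      rw [← hWU] at hy
      exact ⟨PUnit.unit, rfl, hy⟩
  · grind [Scheme.singleton_mem_precoverage_iff]

theorem IsFpqcCov.of_factor {Z X Y : Scheme.{u}} (q : Z ⟶ Y) (r : Z ⟶ X) (p : X ⟶ Y)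
    (h : r ≫ p = q) [Flat q] [Surjective q]
    (hqc : ∀ V : Y.Opens, IsAffineOpen V →
      ∃ W : Z.Opens, IsCompact (W : Set Z) ∧ q.base '' (W : Set Z) = (V : Set Y)) :
    IsFpqcCov p := by
  refine GrothendieckTopology.superset_covering _ ?_
    (Precoverage.generate_mem_toGrothendieck (singleton_mem_fpqcPrecoverage q hqc))
  rw [Sieve.generate_le_iff]
  rintro _ _ ⟨⟩
  exact ⟨_, r, p, ⟨⟩, h⟩

theorem IsFpqcCov.effectiveEpi {X Y : Scheme.{u}} {p : X ⟶ Y} (hp : IsFpqcCov p) :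
    EffectiveEpi p := by
  rw [← Sieve.effectiveEpimorphic_singleton,
    Presieve.EffectiveEpimorphic.iff_forall_isSheafFor_yoneda]
  intro W
  exact (GrothendieckTopology.Subcanonical.isSheaf_of_isRepresentable _).isSheafFor _ hp

theorem IsFpqcCov.of_isPullback {X Y X' Y' : Scheme.{u}} {f : X ⟶ Y} {g : Y' ⟶ Y} {f' : X' ⟶ Y'}
    {g' : X' ⟶ X} (sq : IsPullback g' f' f g) (hf : IsFpqcCov f) : IsFpqcCov f' := by
  have h1 : Sieve.pullback g (Sieve.generate (Presieve.singleton f)) ∈ Scheme.fpqcTopology Y' :=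
    GrothendieckTopology.pullback_stable _ g hf
  refine GrothendieckTopology.superset_covering _ ?_ h1
  intro T h hh
  obtain ⟨W, t, _, ⟨⟩, ht⟩ := hh
  exact ⟨_, sq.lift t h ht, f', ⟨⟩, sq.lift_snd _ _ _⟩

theorem IsFpqcCov.comp {X Y W : Scheme.{u}} {f : X ⟶ Y} {g : Y ⟶ W} (hf : IsFpqcCov f)
    (hg : IsFpqcCov g) : IsFpqcCov (f ≫ g) := by
  refine GrothendieckTopology.transitive _ hg _ ?_
  intro T h hh
  obtain ⟨W', t, _, ⟨⟩, ht⟩ := hh
  have h1 : Sieve.pullback t (Sieve.generate (Presieve.singleton f)) ∈ Scheme.fpqcTopology T :=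
    GrothendieckTopology.pullback_stable _ t hf
  refine GrothendieckTopology.superset_covering _ ?_ h1
  intro T' s hs
  obtain ⟨W'', s', _, ⟨⟩, hs'⟩ := hs
  refine ⟨_, s', f ≫ g, ⟨⟩, ?_⟩
  rw [← Category.assoc, hs', Category.assoc, ht]

variable {S : Scheme.{u}}

theorem IsFpqcCov.whiskerRight {A B : Over S} {i : A ⟶ B} (hi : IsFpqcCov i.left) (Z : Over S) :
    IsFpqcCov (i ▷ Z).left :=
  IsFpqcCov.of_isPullback (Groth.Agent.Helper18.GrpFppf.isPullback_left (isPullback_fst i Z)) hi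

theorem IsFpqcCov.whiskerLeft {A B : Over S} {i : A ⟶ B} (hi : IsFpqcCov i.left) (Z : Over S) :
    IsFpqcCov (Z ◁ i).left :=
  IsFpqcCov.of_isPullback (Groth.Agent.Helper18.GrpFppf.isPullback_left (isPullback_snd Z i)) hi

theorem IsFpqcCov.tensorHom {A B A' B' : Over S} {i : A ⟶ B} {j : A' ⟶ B'}
    (hi : IsFpqcCov i.left) (hj : IsFpqcCov j.left) : IsFpqcCov (i ⊗ₘ j).left := by
  rw [MonoidalCategory.tensorHom_def, Over.comp_left]
  exact (hi.whiskerRight A').comp (hj.whiskerLeft B)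

theorem IsFpqcCov.epi {A B : Over S} {i : A ⟶ B} (hi : IsFpqcCov i.left) : Epi i := by
  haveI := hi.effectiveEpi
  haveI : Epi i.left := inferInstance
  exact Over.epi_of_epi_left _

/-- quotient of a group by a normal subgroup for the fpqc topology is a group -/
theorem main (S : Scheme.{u}) (G G' G'' : Over S) [GrpObj G] [GrpObj G']
    (u : G' ⟶ G) [IsMonHom u] (p : G ⟶ G'')
    (hcov : (∃ (Z : Scheme.{u}) (q : Z ⟶ G''.left) (r : Z ⟶ G.left), r ≫ p.left = q ∧
      Surjective q ∧ Flat q ∧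
        ∀ V : G''.left.Opens, IsAffineOpen V →
          ∃ W : Z.Opens, IsCompact (W : Set Z) ∧ q.base '' (W : Set Z) = (V : Set G''.left)))
    (hsq : IsPullback ((G ◁ u) ≫ μ[G]) (fst G G') p p) (hN : AlgGrp.IsNormalHom u) :
    ∃ _ : GrpObj G'', IsMonHom p ∧
      ∀ m : G'' ⊗ G'' ⟶ G'', (p ⊗ₘ p) ≫ m = μ[G] ≫ p → m = μ[G''] := by
  obtain ⟨Z, q, r, hrq, hs, hf, hqc⟩ := hcov
  haveI := hs
  haveI := hf
  have hp : IsFpqcCov p.left := IsFpqcCov.of_factor q r p.left hrq hqc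
  have hpp : IsFpqcCov (p ⊗ₘ p).left := hp.tensorHom hp
  have hppp : IsFpqcCov ((p ⊗ₘ p) ⊗ₘ p).left := hpp.tensorHom hp
  haveI := hp.effectiveEpi
  haveI := hpp.effectiveEpi
  haveI := hp.epi
  haveI := hpp.epi
  haveI := hppp.epi
  obtain ⟨m, hm⟩ := Groth.Agent.Helper18.QuotGrp.exists_mul u hN p hsq.flip
  obtain ⟨j, hj⟩ := Groth.Agent.Helper18.QuotGrp.exists_inv u hN p hsq.flip
  refine ⟨Groth.Agent.Helper18.GrpOfEpi.grpObjOfEpi p m hm j hj, ?_, ?_⟩
  · letI := Groth.Agent.Helper18.GrpOfEpi.grpObjOfEpi p m hm j hj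
    exact { one_hom := rfl, mul_hom := hm.symm }
  · intro m' hm'
    show m' = m
    rw [← cancel_epi (p ⊗ₘ p), hm, hm']

end Groth.Agent.Helper18.FpqcCov
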