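import Mathlib
import Groth.Prelude
import Groth.Agent.Lib.Helper18.FpqcCov

set_option autoImplicit false
universe u
open CategoryTheory MonoidalCategory CartesianMonoidalCategory MonObj GrpObj AlgebraicGeometry Limits
open Groth.Agent.Helper28.AlgGrpShear

namespace Groth.Agent.Helper18.TorsorMap

open Groth.Agent.Helper18.FpqcCov AlgGrp.Action

variable {S : Scheme.{u}}

section Pseudo
variable {G X : Over S} [GrpObj G] (a : AlgGrp.Action G X)

/-- transitivity of a pseudo-torsor on points -/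
theorem exists_act_eq (h : IsIso (lift a.act (snd G X))) {T : Over S} (x y : T ⟶ X) :
    ∃ g : T ⟶ G, lift g x ≫ a.act = y := by
  haveI := h
  let w : T ⟶ G ⊗ X := lift y x ≫ inv (lift a.act (snd G X))
  have hw : w ≫ lift a.act (snd G X) = lift y x := by
    show (lift y x ≫ inv (lift a.act (snd G X))) ≫ lift a.act (snd G X) = lift y x
    rw [Category.assoc, IsIso.inv_hom_id, Category.comp_id]
  have h1 : w ≫ a.act = y := by
    have := congrArg (· ≫ fst X X) hw
    simpa using this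
  have h2 : w ≫ snd G X = x := by
    have := congrArg (· ≫ snd X X) hw
    simpa using this
  refine ⟨w ≫ fst G X, ?_⟩
  have e : lift (w ≫ fst G X) x = w := by
    apply CartesianMonoidalCategory.hom_ext
    · simp
    · simp [h2]
  rw [e, h1]

/-- freeness of a pseudo-torsor on points -/
theorem act_cancel (h : IsIso (lift a.act (snd G X))) {T : Over S} (g g' : T ⟶ G) (x : T ⟶ X)
    (hgg : lift g x ≫ a.act = lift g' x ≫ a.act) : g = g' := by
  haveI := h
  have e : lift g x ≫ lift a.act (snd G X) = lift g' x ≫ lift a.act (snd G X) := by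
    apply CartesianMonoidalCategory.hom_ext
    · simpa using hgg
    · simp
  have e2 : lift g x = lift g' x := (cancel_mono _).1 e
  have := congrArg (· ≫ fst G X) e2
  simpa using this

/-- a locally trivial `X` has covering structure map (in the sieve sense) -/
theorem isFpqcCov_hom (h : NonAbH1.IsLocallyTrivialFor Scheme.fpqcPrecoverage X) :
    IsFpqcCov X.hom := by
  obtain ⟨R, hR, hsec⟩ := h
  refine GrothendieckTopology.superset_covering _ ?_
    (Precoverage.generate_mem_toGrothendieck hR)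
  rw [Sieve.generate_le_iff]
  intro S' f hf
  obtain ⟨s, hs⟩ := hsec f hf
  exact ⟨_, s, X.hom, ⟨⟩, hs⟩

theorem IsFpqcCov.of_comp {A B C : Scheme.{u}} (f : A ⟶ B) (g : B ⟶ C)
    (h : IsFpqcCov (f ≫ g)) : IsFpqcCov g := by
  refine GrothendieckTopology.superset_covering _ ?_ h
  rw [Sieve.generate_le_iff]
  rintro _ _ ⟨⟩
  exact ⟨_, f, g, ⟨⟩, rfl⟩

theorem isFpqcCov_fst (h : NonAbH1.IsLocallyTrivialFor Scheme.fpqcPrecoverage X) (Y : Over S) :
    IsFpqcCov (fst Y X).left := by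
  have := isFpqcCov_hom h
  exact IsFpqcCov.of_isPullback (IsPullback.of_hasPullback Y.hom X.hom).flip this

end Pseudo


theorem comp_one' {H G : Over S} [GrpObj H] [GrpObj G] (i : H ⟶ G) [IsMonHom i] {T : Over S} :
    (1 : T ⟶ H) ≫ i = 1 :=
  map_one (IsMonHom.monoidHom i T)

theorem main14541 {X : Scheme.{u}}
    {J J' J'' : Over X} [GrpObj J] [GrpObj J'] [GrpObj J''] (u : J ⟶ J') [IsMonHom u]
    (v : J' ⟶ J'') [IsMonHom v] {P P' P'' : Over X}
    (a : AlgGrp.Action J P) (a' : AlgGrp.Action J' P') (a'' : AlgGrp.Action J'' P'')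
    (hP : NonAbH1.IsTorsorFor Scheme.fpqcPrecoverage a)
    (hP' : NonAbH1.IsTorsorFor Scheme.fpqcPrecoverage a')
    (q' : P ⟶ P') (hq' : a.act ≫ q' = lift (fst J P ≫ u) (snd J P ≫ q') ≫ a'.act)
    (q'' : P ⟶ P'') (hq'' : a.act ≫ q'' = lift (fst J P ≫ u ≫ v) (snd J P ≫ q'') ≫ a''.act) :
    ∃! r : P' ⟶ P'', a'.act ≫ r = lift (fst J' P' ≫ v) (snd J' P' ≫ r) ≫ a''.act ∧
      q' ≫ r = q'' := by
  have hq'pt : ∀ {T : Over X} (j : T ⟶ J) (p : T ⟶ P),
      (lift j p ≫ a.act) ≫ q' = lift (j ≫ u) (p ≫ q') ≫ a'.act := by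
    intro T j p
    rw [Category.assoc, hq', ← Category.assoc, comp_lift, lift_fst_assoc, lift_snd_assoc]
  have hq''pt : ∀ {T : Over X} (j : T ⟶ J) (p : T ⟶ P),
      (lift j p ≫ a.act) ≫ q'' = lift (j ≫ u ≫ v) (p ≫ q'') ≫ a''.act := by
    intro T j p
    rw [Category.assoc, hq'', ← Category.assoc, comp_lift, lift_fst_assoc, lift_snd_assoc]
  let m : J' ⊗ P ⟶ P' := lift (fst J' P) (snd J' P ≫ q') ≫ a'.act
  let f : J' ⊗ P ⟶ P'' := lift (fst J' P ≫ v) (snd J' P ≫ q'') ≫ a''.act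
  have hm : ∀ {T : Over X} (j : T ⟶ J') (p : T ⟶ P),
      lift j p ≫ m = lift j (p ≫ q') ≫ a'.act := by
    intro T j p
    show lift j p ≫ lift (fst J' P) (snd J' P ≫ q') ≫ a'.act = _
    rw [← Category.assoc, comp_lift, lift_fst, lift_snd_assoc]
  have hf : ∀ {T : Over X} (j : T ⟶ J') (p : T ⟶ P),
      lift j p ≫ f = lift (j ≫ v) (p ≫ q'') ≫ a''.act := by
    intro T j p
    show lift j p ≫ lift (fst J' P ≫ v) (snd J' P ≫ q'') ≫ a''.act = _
    rw [← Category.assoc, comp_lift, lift_fst_assoc, lift_snd_assoc]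
  -- m is a covering
  obtain ⟨g, hg⟩ := exists_act_eq a' hP'.1 (snd P' P ≫ q') (fst P' P)
  have hσ : lift g (snd P' P) ≫ m = fst P' P := by rw [hm, hg]
  have hcov : IsFpqcCov m.left := by
    refine IsFpqcCov.of_comp (lift g (snd P' P)).left m.left ?_
    rw [← Over.comp_left, hσ]
    exact isFpqcCov_fst hP.2 P'
  haveI := hcov.effectiveEpi
  haveI : Epi m := hcov.epi
  haveI : Epi (J' ◁ m) := (hcov.whiskerLeft J').epi
  -- descent
  have hB : ∀ (T : Over X) (g₁ g₂ : T ⟶ J' ⊗ P), g₁ ≫ m = g₂ ≫ m → g₁ ≫ f = g₂ ≫ f := by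
    intro T g₁ g₂ h12
    have e₁ : g₁ = lift (g₁ ≫ fst J' P) (g₁ ≫ snd J' P) := by
      apply CartesianMonoidalCategory.hom_ext <;> simp
    have e₂ : g₂ = lift (g₂ ≫ fst J' P) (g₂ ≫ snd J' P) := by
      apply CartesianMonoidalCategory.hom_ext <;> simp
    generalize g₁ ≫ fst J' P = j₁ at e₁
    generalize g₁ ≫ snd J' P = p₁ at e₁
    generalize g₂ ≫ fst J' P = j₂ at e₂
    generalize g₂ ≫ snd J' P = p₂ at e₂
    subst e₁ e₂
    obtain ⟨j, hj⟩ := exists_act_eq a hP.1 p₁ p₂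
    rw [hm, hm, ← hj, hq'pt, ← lift_mul_act] at h12
    have hj1 := act_cancel a' hP'.1 _ _ _ h12
    rw [hf, hf, ← hj, hq''pt, ← lift_mul_act, hj1,
      Groth.Agent.Helper18.QuotGrp.comp_mul', Category.assoc]
  obtain ⟨r, hr⟩ := Groth.Agent.Helper18.FlatEpi.exists_desc m f hB
  have huniq : ∀ r' : P' ⟶ P'',
      a'.act ≫ r' = lift (fst J' P' ≫ v) (snd J' P' ≫ r') ≫ a''.act → q' ≫ r' = q'' →
      m ≫ r' = f := by
    intro r' h1 h2
    apply hom_ext_lift₂
    intro T j p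
    rw [← Category.assoc, hm, Category.assoc, h1, ← Category.assoc, comp_lift, lift_fst_assoc,
      lift_snd_assoc, Category.assoc, h2, hf]
  refine ⟨r, ⟨?_, ?_⟩, ?_⟩
  · rw [← cancel_epi (J' ◁ m)]
    apply hom_ext_lift₂
    intro T j' w
    have ew : w = lift (w ≫ fst J' P) (w ≫ snd J' P) := by
      apply CartesianMonoidalCategory.hom_ext <;> simp
    generalize w ≫ fst J' P = j₁ at ew
    generalize w ≫ snd J' P = p at ew
    subst ew
    rw [lift_whiskerLeft_assoc, lift_whiskerLeft_assoc, hm, ← Category.assoc, ← lift_mul_act,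
      ← hm, Category.assoc, hr, hf, ← Category.assoc, comp_lift, lift_fst_assoc, lift_snd_assoc,
      ← hm, Category.assoc, hr, hf, ← lift_mul_act, Groth.Agent.Helper18.QuotGrp.comp_mul']
  · have e : q' = lift (1 : P ⟶ J') (𝟙 P) ≫ m := by
      rw [hm, Category.id_comp, lift_one_act]
    rw [e, Category.assoc, hr, hf, comp_one', Category.id_comp, lift_one_act]
  · rintro r' ⟨h1, h2⟩
    rw [← cancel_epi m, huniq r' h1 h2, hr]


theorem equivariant_iff {G X X' : Over S} [GrpObj G]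
    (a : AlgGrp.Action G X) (a' : AlgGrp.Action G X') (f : X ⟶ X') :
    AlgGrp.Action.IsEquivariant a a' f ↔
      a.act ≫ f = lift (fst G X ≫ 𝟙 G) (snd G X ≫ f) ≫ a'.act := by
  have e : (G ◁ f) = lift (fst G X ≫ 𝟙 G) (snd G X ≫ f) := by
    apply CartesianMonoidalCategory.hom_ext <;> simp
  unfold AlgGrp.Action.IsEquivariant
  rw [e]

theorem main18858 {S : Scheme.{u}} {G X X' : Over S} [GrpObj G]
    (a : AlgGrp.Action G X) (a' : AlgGrp.Action G X')
    (ha : NonAbH1.IsTorsorFor Scheme.fpqcPrecoverage a)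
    (ha' : NonAbH1.IsTorsorFor Scheme.fpqcPrecoverage a')
    (f : X ⟶ X') (hf : AlgGrp.Action.IsEquivariant a a' f) : IsIso f := by
  have hf' := (equivariant_iff a a' f).1 hf
  have hid : a.act ≫ 𝟙 X = lift (fst G X ≫ 𝟙 G ≫ 𝟙 G) (snd G X ≫ 𝟙 X) ≫ a.act := by
    rw [Category.comp_id, Category.comp_id, Category.comp_id, Category.comp_id, lift_fst_snd,
      Category.id_comp]
  have hf'' : a.act ≫ f = lift (fst G X ≫ 𝟙 G ≫ 𝟙 G) (snd G X ≫ f) ≫ a'.act := by
    rw [hf', Category.id_comp]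
  obtain ⟨r, ⟨hr1, hr2⟩, -⟩ := main14541 (𝟙 G) (𝟙 G) a a' a ha ha' f hf' (𝟙 X) hid
  obtain ⟨r', -, hr'⟩ := main14541 (𝟙 G) (𝟙 G) a a' a' ha ha' f hf' f hf''
  have h1 : r ≫ f = r' := by
    apply hr'
    refine ⟨?_, ?_⟩
    · rw [← Category.assoc, hr1, Category.assoc, hf', ← Category.assoc, ← Category.assoc]
      congr 1
      apply CartesianMonoidalCategory.hom_ext <;> simp
    · rw [← Category.assoc, hr2, Category.id_comp]
  have h2 : 𝟙 X' = r' := by
    apply hr'
    refine ⟨?_, Category.comp_id _⟩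
    rw [Category.comp_id, Category.comp_id, Category.comp_id, lift_fst_snd, Category.id_comp]
  exact ⟨r, hr2, by rw [h1, ← h2]⟩

end Groth.Agent.Helper18.TorsorMap
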