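import Mathlib
import Groth.Prelude
import Groth.Agent.Lib.Helper18.AssocBun2
import Groth.Agent.Lib.Helper18.TorsorMap0
import Groth.Agent.Lib.Helper21.DescProp
import Groth.Agent.Lib.Helper21.DescR

set_option autoImplicit false
set_option linter.style.haveILetI false
set_option linter.unusedSectionVars false
universe u
open CategoryTheory MonoidalCategory CartesianMonoidalCategory MonObj GrpObj AlgebraicGeometry Limits

namespace Groth.Agent.Helper18.AssocBun

open Desc Groth.Agent.Helper21.DescA Groth.Agent.Helper21.DescR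
  Groth.Agent.Helper18.FpqcCov Groth.Agent.Helper18.TorsorMap

variable {S : Scheme.{u}} {G X Y F : Over S} [GrpObj G] (a : AlgGrp.Action G X) (φ : X ⟶ Y)
  (hcart : IsPullback a.act (snd G X) φ φ) (b : AlgGrp.Action G F)

theorem exists_cone [IsAffineHom F.hom] {κ : Type u} {Z : κ → Scheme.{u}} (f : ∀ i, Z i ⟶ Y.left)
    (hf : Presieve.ofArrows Z f ∈ Scheme.fpqcPrecoverage Y.left) (s : ∀ i, Z i ⟶ X.left)
    (hs : ∀ i, s i ≫ φ.left = f i) : Nonempty (Cone (DD a φ hcart b)) := by
  have w : ∀ k, s k ≫ (fun _ : PUnit.{u + 1} => φ.left) PUnit.unit = f k ≫ 𝟙 Y.left := fun k => by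
    rw [Category.comp_id]; exact hs k
  have hA : ((pullDDFam (α := fun _ => PUnit.unit) (p := 𝟙 Y.left) (p' := s) w).obj
      (DD a φ hcart b)).IsEffective := by
    refine Groth.Agent.Helper21.DescProp.affine_isEffective f hf _ (fun i => ?_)
    change IsAffineHom (pullback.snd (fst X F).left (s i))
    have h1 : IsAffineHom (fst X F).left := by
      change IsAffineHom (pullback.fst X.hom F.hom)
      exact MorphismProperty.pullback_fst (P := @IsAffineHom) _ _ inferInstance
    exact MorphismProperty.pullback_snd (P := @IsAffineHom) _ _ h1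
  obtain ⟨c'⟩ := nonempty_cone_of_isEffective hA
  exact nonempty_cone_of_pull (f := fun _ : PUnit.{u + 1} => φ.left) (α := fun _ => PUnit.unit)
    (q := s) w hf (DD a φ hcart b) c'

variable (c : Cone (DD a φ hcart b))

/-- the quotient map on underlying schemes -/
noncomputable def piL : (X ⊗ F).left ⟶ c.U.left := c.π PUnit.unit

theorem isPullback_piL : IsPullback (fst X F).left (piL a φ hcart b c) φ.left c.U.hom :=
  c.isPullback PUnit.unit

/-- the associated bundle as a scheme over `S` -/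
noncomputable def W : Over S := Over.mk (c.U.hom ≫ Y.hom)

/-- the projection of the associated bundle to `Y` -/
noncomputable def rmap : W a φ hcart b c ⟶ Y := Over.homMk c.U.hom rfl

/-- the quotient map `X ⊗ F ⟶ W` -/
noncomputable def piO : X ⊗ F ⟶ W a φ hcart b c :=
  Over.homMk (piL a φ hcart b c) (by
    have h1 := (isPullback_piL a φ hcart b c).w
    change piL a φ hcart b c ≫ c.U.hom ≫ Y.hom = (X ⊗ F).hom
    rw [← Category.assoc, ← h1, Category.assoc, Over.w φ]
    exact Over.w (fst X F))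

theorem piO_rmap : piO a φ hcart b c ≫ rmap a φ hcart b c = fst X F ≫ φ := by
  apply Over.OverMorphism.ext
  exact (isPullback_piL a φ hcart b c).w.symm

theorem exists_lift {A : Over S} (p : A ⟶ X) (r : A ⟶ W a φ hcart b c)
    (h : p ≫ φ = r ≫ rmap a φ hcart b c) :
    ∃ m : A ⟶ X ⊗ F, m ≫ fst X F = p ∧ m ≫ piO a φ hcart b c = r := by
  have h0 : p.left ≫ φ.left = r.left ≫ c.U.hom := congrArg (fun k => k.left) h
  have hw : (isPullback_piL a φ hcart b c).lift p.left r.left h0 ≫ (X ⊗ F).hom = A.hom := by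
    rw [← Over.w (fst X F), ← Category.assoc, (isPullback_piL a φ hcart b c).lift_fst, Over.w]
  refine ⟨Over.homMk ((isPullback_piL a φ hcart b c).lift p.left r.left h0) hw, ?_, ?_⟩
  · apply Over.OverMorphism.ext
    exact (isPullback_piL a φ hcart b c).lift_fst p.left r.left h0
  · apply Over.OverMorphism.ext
    exact (isPullback_piL a φ hcart b c).lift_snd p.left r.left h0

theorem lift_unique {A : Over S} (m m' : A ⟶ X ⊗ F) (h1 : m ≫ fst X F = m' ≫ fst X F)
    (h2 : m ≫ piO a φ hcart b c = m' ≫ piO a φ hcart b c) : m = m' := by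
  apply Over.OverMorphism.ext
  refine (isPullback_piL a φ hcart b c).hom_ext ?_ ?_
  · exact congrArg (fun k => k.left) h1
  · exact congrArg (fun k => k.left) h2

theorem tw_piO {A : Over S} (m : A ⟶ X ⊗ F) (p₁ : A ⟶ X) (h : (m ≫ fst X F) ≫ φ = p₁ ≫ φ) :
    tw a φ hcart b m p₁ h ≫ piO a φ hcart b c = m ≫ piO a φ hcart b c := by
  apply Over.OverMorphism.ext
  have hx₀ : (m ≫ fst X F).left ≫ X.hom = A.hom := Over.w _
  have hx₁ : p₁.left ≫ X.hom = A.hom := Over.w _
  have hφ : (m ≫ fst X F).left ≫ φ.left = p₁.left ≫ φ.left := congrArg (fun k => k.left) h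
  let v : Lifts (Over.mk (fst X F).left) (m ≫ fst X F).left := ⟨m.left, rfl⟩
  have h1 := c.inv (i := PUnit.unit) (j := PUnit.unit) (m ≫ fst X F).left p₁.left hφ v
  rw [DD_φ_val a φ hcart b hx₀ hx₁ hφ v, phiFun_val] at h1
  have e1 : toOv hx₀ v = m := by
    apply Over.OverMorphism.ext
    rfl
  have e2 : (Over.homMk p₁.left hx₁ : A ⟶ X) = p₁ := by
    apply Over.OverMorphism.ext
    rfl
  have e3 := tw_congr a φ hcart b e1 e2 (phi_cond φ hx₀ hx₁ hφ v) h
  rw [e3] at h1
  exact h1

theorem eq_tw_of_piO {A : Over S} (m m' : A ⟶ X ⊗ F)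
    (h : m ≫ piO a φ hcart b c = m' ≫ piO a φ hcart b c) :
    ∃ hφ : (m ≫ fst X F) ≫ φ = (m' ≫ fst X F) ≫ φ,
      m' = tw a φ hcart b m (m' ≫ fst X F) hφ := by
  have hφ : (m ≫ fst X F) ≫ φ = (m' ≫ fst X F) ≫ φ := by
    rw [Category.assoc, Category.assoc, ← piO_rmap a φ hcart b c, ← Category.assoc, h,
      Category.assoc]
  refine ⟨hφ, ?_⟩
  apply lift_unique a φ hcart b c
  · rw [tw_fst]
  · rw [tw_piO, h]

theorem isFpqcCov_piO (hcov : IsFpqcCov φ.left) : IsFpqcCov (piO a φ hcart b c).left :=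
  IsFpqcCov.of_isPullback (isPullback_piL a φ hcart b c) hcov

end Groth.Agent.Helper18.AssocBun
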