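import Groth.Agent.Lib.Helper18.FppfDescHom
import Groth.Prelude.Def_QuotSh

/-!
# Descent of morphisms along locally split morphisms, for any subcanonical topology `QuotSh.J K S` (helper18)
-/

set_option autoImplicit false
set_option linter.unusedSectionVars false
set_option backward.isDefEq.respectTransparency false

universe u

open CategoryTheory CategoryTheory.Limits MonoidalCategory CartesianMonoidalCategory AlgebraicGeometry Opposite

namespace Groth.Agent.Helper18.DescHomK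

open Groth.Agent.Helper18.FppfDescHom

variable {S : Scheme.{u}} (K : Precoverage Scheme.{u})

theorem secSieve_mem_of_loc {E B : Over S} (π : E ⟶ B)
    (hloc : NonAbH1.IsLocallyTrivialFor K (Over.mk π.left : Over B.left)) :
    secSieve π ∈ QuotSh.J K S B := by
  obtain ⟨R, hR, hsec⟩ := hloc
  rw [GrothendieckTopology.mem_over_iff]
  refine (K.toGrothendieck).superset_covering ?_ (Precoverage.generate_mem_toGrothendieck hR)
  rintro Z c ⟨Y, a, b, hb, rfl⟩
  rw [Sieve.overEquiv_iff]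
  obtain ⟨s, hs⟩ := hsec b hb
  have hs' : s ≫ π.left = b := hs
  have hw : s ≫ E.hom = b ≫ B.hom := by
    rw [← Over.w π, ← Category.assoc, hs']
  refine ⟨Over.homMk (a ≫ s) (by simp [hw]), ?_⟩
  ext
  simp [hs']

/-- for `X : Over S` locally trivial over `S`, the map to the terminal object. -/
theorem secSieve_toUnit_mem {X : Over S} (hloc : NonAbH1.IsLocallyTrivialFor K X) :
    secSieve (toUnit X) ∈ QuotSh.J K S (𝟙_ (Over S)) := by
  apply secSieve_mem_of_loc K (toUnit X)
  obtain ⟨R, hR, hsec⟩ := hloc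
  refine ⟨R, hR, ?_⟩
  intro S' f hf
  obtain ⟨s, hs⟩ := hsec f hf
  refine ⟨s, ?_⟩
  have h1 : (toUnit X).left = X.hom := by
    have := Over.w (toUnit X)
    simpa using this
  change s ≫ (toUnit X).left = f
  rw [h1]
  exact hs

theorem secSieve_whiskerRight {E B : Over S} (π : E ⟶ B) (h : secSieve π ∈ QuotSh.J K S B) (G : Over S) :
    secSieve (π ▷ G) ∈ QuotSh.J K S (B ⊗ G) := by
  refine (QuotSh.J K S).superset_covering ?_ ((QuotSh.J K S).pullback_stable (fst B G) h)
  rintro V g ⟨s, hs⟩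
  refine ⟨lift s (g ≫ snd B G), ?_⟩
  rw [lift_whiskerRight, hs]
  apply CartesianMonoidalCategory.hom_ext <;> simp

theorem secSieve_whiskerLeft {E B : Over S} (π : E ⟶ B) (h : secSieve π ∈ QuotSh.J K S B) (G : Over S) :
    secSieve (G ◁ π) ∈ QuotSh.J K S (G ⊗ B) := by
  refine (QuotSh.J K S).superset_covering ?_ ((QuotSh.J K S).pullback_stable (snd G B) h)
  rintro V g ⟨s, hs⟩
  refine ⟨lift (g ≫ fst G B) s, ?_⟩
  rw [lift_whiskerLeft, hs]
  apply CartesianMonoidalCategory.hom_ext <;> simp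

theorem secSieve_tensorHom {E B E' B' : Over S} (π : E ⟶ B) (π' : E' ⟶ B')
    (h : secSieve π ∈ QuotSh.J K S B) (h' : secSieve π' ∈ QuotSh.J K S B') :
    secSieve (π ⊗ₘ π') ∈ QuotSh.J K S (B ⊗ B') := by
  refine (QuotSh.J K S).superset_covering ?_ ((QuotSh.J K S).intersection_covering
    ((QuotSh.J K S).pullback_stable (fst B B') h) ((QuotSh.J K S).pullback_stable (snd B B') h'))
  rintro V g ⟨⟨s, hs⟩, ⟨s', hs'⟩⟩
  refine ⟨lift s s', ?_⟩
  rw [lift_map, hs, hs']
  apply CartesianMonoidalCategory.hom_ext <;> simp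

/-- base change of a locally split morphism: for a cartesian square. -/
theorem secSieve_of_isPullback {E B E' B' : Over S} {π : E ⟶ B} {π' : E' ⟶ B'} {b : B' ⟶ B} {e : E' ⟶ E}
    (sq : IsPullback e π' π b) (h : secSieve π ∈ QuotSh.J K S B) : secSieve π' ∈ QuotSh.J K S B' := by
  refine (QuotSh.J K S).superset_covering ?_ ((QuotSh.J K S).pullback_stable b h)
  rintro V g ⟨s, hs⟩
  exact ⟨sq.lift s g hs, sq.lift_snd _ _ _⟩

theorem loc_of_secSieve_mem [K.IsStableUnderComposition] [K.IsStableUnderBaseChange] [K.HasIsos]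
    {E B : Over S} (π : E ⟶ B) (h : secSieve π ∈ QuotSh.J K S B) :
    NonAbH1.IsLocallyTrivialFor K (Over.mk π.left : Over B.left) := by
  rw [GrothendieckTopology.mem_over_iff, Precoverage.mem_toGrothendieck_iff_of_isStableUnderComposition] at h
  obtain ⟨R, hR, hle⟩ := h
  refine ⟨R, hR, ?_⟩
  intro S' f hf
  have h1 := hle _ _ hf
  rw [Sieve.overEquiv_iff] at h1
  obtain ⟨s, hs⟩ := h1
  refine ⟨s.left, ?_⟩
  have := congrArg (fun k => k.left) hs
  simpa using this

theorem loc_of_secSieve_toUnit_mem [K.IsStableUnderComposition] [K.IsStableUnderBaseChange] [K.HasIsos]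
    {X : Over S} (h : secSieve (toUnit X) ∈ QuotSh.J K S (𝟙_ (Over S))) :
    NonAbH1.IsLocallyTrivialFor K X := by
  obtain ⟨R, hR, hsec⟩ := loc_of_secSieve_mem K (toUnit X) h
  refine ⟨R, hR, ?_⟩
  intro S' f hf
  obtain ⟨s, hs⟩ := hsec f hf
  refine ⟨s, ?_⟩
  have h1 : (toUnit X).left = X.hom := by
    have := Over.w (toUnit X)
    simpa using this
  change s ≫ (toUnit X).left = f at hs
  rw [h1] at hs
  exact hs

section Desc

variable [(QuotSh.J K S).Subcanonical] {E B W : Over S} (π : E ⟶ B)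

theorem isSheafFor_secSieve (h : secSieve π ∈ QuotSh.J K S B) (W : Over S) :
    Presieve.IsSheafFor (yoneda.obj W) (secSieve π).arrows :=
  (GrothendieckTopology.Subcanonical.isSheaf_of_isRepresentable (J := QuotSh.J K S) (yoneda.obj W)) _ h

/-- `π` is an epimorphism for maps to schemes. -/
theorem epi_of_secSieve (h : secSieve π ∈ QuotSh.J K S B) (f f' : B ⟶ W) (hff : π ≫ f = π ≫ f') : f = f' := by
  have hs := (isSheafFor_secSieve K π h W).isSeparatedFor
  apply hs.ext
  rintro V g ⟨s, rfl⟩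
  change (s ≫ π) ≫ f = (s ≫ π) ≫ f'
  rw [Category.assoc, Category.assoc, hff]

/-- the family of local values -/
noncomputable def fam (c : E ⟶ W) : Presieve.FamilyOfElements (yoneda.obj W) (secSieve π).arrows :=
  fun _ _ hg => hg.choose ≫ c

theorem fam_eq (c : E ⟶ W)
    (hc : ∀ (V : Over S) (s s' : V ⟶ E), s ≫ π = s' ≫ π → s ≫ c = s' ≫ c)
    {V : Over S} (g : V ⟶ B) (hg : (secSieve π).arrows g) (s : V ⟶ E) (hs : s ≫ π = g) :
    fam π c g hg = s ≫ c :=
  hc _ _ _ (hg.choose_spec.trans hs.symm)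

theorem fam_compatible (c : E ⟶ W)
    (hc : ∀ (V : Over S) (s s' : V ⟶ E), s ≫ π = s' ≫ π → s ≫ c = s' ≫ c) : (fam π c).Compatible := by
  intro Y1 Y2 Z g1 g2 f1 f2 h1 h2 hcomm
  obtain ⟨s1, hs1⟩ := h1
  obtain ⟨s2, hs2⟩ := h2
  rw [fam_eq π c hc f1 _ s1 hs1, fam_eq π c hc f2 _ s2 hs2]
  change g1 ≫ s1 ≫ c = g2 ≫ s2 ≫ c
  rw [← Category.assoc, ← Category.assoc]
  apply hc
  rw [Category.assoc, Category.assoc, hs1, hs2, hcomm]

/-- descent of a morphism constant on the fibres of `π`. -/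
theorem desc_of_secSieve (h : secSieve π ∈ QuotSh.J K S B) (c : E ⟶ W)
    (hc : ∀ (V : Over S) (s s' : V ⟶ E), s ≫ π = s' ≫ π → s ≫ c = s' ≫ c) : ∃ f : B ⟶ W, π ≫ f = c := by
  have hsh := isSheafFor_secSieve K π h W
  refine ⟨hsh.amalgamate _ (fam_compatible π c hc), ?_⟩
  have := hsh.valid_glue (fam_compatible π c hc) π ⟨𝟙 E, Category.id_comp _⟩
  rw [fam_eq π c hc π _ (𝟙 E) (Category.id_comp _)] at this
  exact this

end Desc

end Groth.Agent.Helper18.DescHomK
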