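import Groth.Agent.Lib.Helper18.QSh
import Groth.Agent.Lib.Helper18.DescHomK
import Groth.Agent.Lib.Helper18.TorsComp
import Groth.Agent.Lib.Helper18.FpqcLocal
import Mathlib

/-!
# Quotient sheaves `U/R`: effectivity of equivalence relations, points (helper18)
-/

set_option autoImplicit false
set_option linter.unusedSectionVars false

universe u

open CategoryTheory CategoryTheory.Limits AlgebraicGeometry Opposite

noncomputable section

namespace Groth.Agent.Helper18.QSh

variable (K : Precoverage Scheme.{u}) {S : Scheme.{u}}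

section Eff

variable {K}
variable {R' U' : QuotSh.Sh K S} (s t : R' ⟶ U')

/-- The relation on sections of `U'` defined by `R'`. -/
def secRel (T : (Over S)ᵒᵖ) (a b : U'.obj.obj T) : Prop :=
  ∃ r : R'.obj.obj T, s.hom.app T r = a ∧ t.hom.app T r = b

theorem secRel_map {T T' : (Over S)ᵒᵖ} (f : T ⟶ T') {a b : U'.obj.obj T} (h : secRel s t T a b) :
    secRel s t T' (U'.obj.map f a) (U'.obj.map f b) := by
  obtain ⟨r, rfl, rfl⟩ := h
  exact ⟨R'.obj.map f r, NatTrans.naturality_apply s.hom f r, NatTrans.naturality_apply t.hom f r⟩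

/-- The presheaf quotient. -/
def quotPsh : (Over S)ᵒᵖ ⥤ Type (u + 1) where
  obj T := Quot (secRel s t T)
  map {T T'} f := TypeCat.ofHom (Quot.map (U'.obj.map f) (fun _ _ h => secRel_map s t f h))
  map_id T := by
    ext x
    induction x using Quot.ind with
    | mk a => simp [Quot.map]
  map_comp f g := by
    ext x
    induction x using Quot.ind with
    | mk a => simp [Quot.map]

/-- The projection to the presheaf quotient. -/
def toQuotPsh : U'.obj ⟶ quotPsh s t where
  app T := TypeCat.ofHom (fun a => Quot.mk _ a)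
  naturality _ _ f := by ext a; rfl

/-- The sheaf quotient (a model of it). -/
def quotShf : QuotSh.Sh K S := (presheafToSheaf (QuotSh.J K S) (Type (u + 1))).obj (quotPsh s t)

/-- The projection to the sheaf quotient. -/
def toQuotShf : U' ⟶ quotShf s t :=
  ⟨toQuotPsh s t ≫ toSheafify (QuotSh.J K S) (quotPsh s t)⟩

theorem toQuotShf_condition : s ≫ toQuotShf s t = t ≫ toQuotShf s t := by
  apply Sheaf.hom_ext
  change s.hom ≫ toQuotPsh s t ≫ toSheafify (QuotSh.J K S) (quotPsh s t) =
    t.hom ≫ toQuotPsh s t ≫ toSheafify (QuotSh.J K S) (quotPsh s t)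
  rw [← Category.assoc, ← Category.assoc]
  congr 1
  ext T r
  exact (Quot.sound ⟨r, rfl, rfl⟩ : Quot.mk (secRel s t T) (s.hom.app T r) =
    Quot.mk (secRel s t T) (t.hom.app T r))

/-- **Effectivity**: two sections of `U'` with the same image in the coequalizer are locally related. -/
theorem exists_local_rel (hpre : ∀ T, _root_.Equivalence (secRel s t T)) {T : Over S}
    (a b : U'.obj.obj (op T))
    (h : (coequalizer.π s t).hom.app (op T) a = (coequalizer.π s t).hom.app (op T) b) :
    ∃ Rv ∈ (QuotSh.J K S) T, ∀ ⦃T' : Over S⦄ (k : T' ⟶ T), Rv k →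
      secRel s t (op T') (U'.obj.map k.op a) (U'.obj.map k.op b) := by
  have e : toQuotShf s t = coequalizer.π s t ≫ coequalizer.desc (toQuotShf s t) (toQuotShf_condition s t) :=
    (coequalizer.π_desc _ _).symm
  have h' : (toQuotShf s t).hom.app (op T) a = (toQuotShf s t).hom.app (op T) b := by
    rw [e]
    exact congrArg ((coequalizer.desc (toQuotShf s t) (toQuotShf_condition s t)).hom.app (op T)) h
  have h2 : (toSheafify (QuotSh.J K S) (quotPsh s t)).app (op T) (Quot.mk _ a) =
      (toSheafify (QuotSh.J K S) (quotPsh s t)).app (op T) (Quot.mk _ b) := h'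
  have h3 := Presheaf.equalizerSieve_mem (QuotSh.J K S) (toSheafify (QuotSh.J K S) (quotPsh s t))
    (X := op T) (Quot.mk _ a) (Quot.mk _ b) h2
  refine ⟨_, h3, fun T' k hk => ?_⟩
  have hk' : Quot.mk (secRel s t (op T')) (U'.obj.map k.op a) =
      Quot.mk (secRel s t (op T')) (U'.obj.map k.op b) := hk
  exact (hpre (op T')).eqvGen_iff.1 (Quot.eqvGen_exact hk')

end Eff

section Pts

/-- the section of `h_U` over `T` attached to a morphism `T ⟶ U` -/
def secOf {T U : Over S} (a : T ⟶ U) : (QuotSh.rep K U).obj.obj (op T) := sec K (QuotSh.repMap K a)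

theorem secOf_comp {T U V : Over S} (a : T ⟶ U) (g : U ⟶ V) :
    (QuotSh.repMap K g).hom.app (op T) (secOf K a) = secOf K (a ≫ g) := by
  unfold secOf
  rw [repMap_comp, sec_comp]

theorem map_secOf {T T' U : Over S} (k : T' ⟶ T) (a : T ⟶ U) :
    (QuotSh.rep K U).obj.map k.op (secOf K a) = secOf K (k ≫ a) := by
  unfold secOf
  rw [repMap_comp, sec_repMap]

theorem secOf_eq {T U : Over S} (a : T ⟶ U) :
    secOf K a = (toSheafify (QuotSh.J K S) (uliftYoneda.{u + 1}.obj U)).app (op T) ⟨a⟩ := by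
  unfold secOf sec
  have e := toSheafify_naturality (QuotSh.J K S) (uliftYoneda.{u + 1}.map a)
  have h1 : toSheafify (QuotSh.J K S) (uliftYoneda.{u + 1}.obj T) ≫ (QuotSh.repMap K a).hom =
      uliftYoneda.{u + 1}.map a ≫ toSheafify (QuotSh.J K S) (uliftYoneda.{u + 1}.obj U) := e.symm
  refine (congrArg uliftYonedaEquiv.{u + 1} h1).trans ?_
  refine (uliftYonedaEquiv_comp.{u + 1} (uliftYoneda.{u + 1}.map a)
    (toSheafify (QuotSh.J K S) (uliftYoneda.{u + 1}.obj U))).trans ?_
  exact congrArg ((toSheafify (QuotSh.J K S) (uliftYoneda.{u + 1}.obj U)).app (op T))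
    (uliftYonedaEquiv_uliftYoneda_map.{u + 1} a)

end Pts

end Groth.Agent.Helper18.QSh

namespace Groth.Agent.Helper18.QSh

variable (K : Precoverage Scheme.{u}) {S : Scheme.{u}}

section Subcan

variable [(QuotSh.J K S).Subcanonical]

theorem secOf_bijective (T U : Over S) :
    Function.Bijective (secOf K : (T ⟶ U) → (QuotSh.rep K U).obj.obj (op T)) := by
  have hP : Presheaf.IsSheaf (QuotSh.J K S) (uliftYoneda.{u + 1}.obj U) :=
    ((QuotSh.J K S).uliftYoneda.{u + 1}.obj U).property
  haveI := isIso_toSheafify (QuotSh.J K S) hP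
  haveI : IsIso ((toSheafify (QuotSh.J K S) (uliftYoneda.{u + 1}.obj U)).app (op T)) := inferInstance
  have hb := (isIso_iff_bijective ((toSheafify (QuotSh.J K S) (uliftYoneda.{u + 1}.obj U)).app (op T))).1
    inferInstance
  have : (secOf K : (T ⟶ U) → (QuotSh.rep K U).obj.obj (op T)) =
      (fun x => (toSheafify (QuotSh.J K S) (uliftYoneda.{u + 1}.obj U)).app (op T) x) ∘
        (fun a => (⟨a⟩ : ULift.{u + 1} (T ⟶ U))) := by
    funext a
    exact secOf_eq K a
  rw [this]
  exact hb.comp ⟨fun a b h => congrArg ULift.down h, fun x => ⟨x.down, rfl⟩⟩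

theorem secOf_injective {T U : Over S} {a b : T ⟶ U} (h : secOf K a = secOf K b) : a = b :=
  (secOf_bijective K T U).1 h

theorem exists_secOf {T U : Over S} (x : (QuotSh.rep K U).obj.obj (op T)) : ∃ a : T ⟶ U, secOf K a = x :=
  (secOf_bijective K T U).2 x

theorem repMap_injective {T U : Over S} {a b : T ⟶ U} (h : QuotSh.repMap K a = QuotSh.repMap K b) : a = b :=
  secOf_injective K (congrArg (sec K) h)

theorem exists_repMap {T U : Over S} (σ : QuotSh.rep K T ⟶ QuotSh.rep K U) : ∃ a : T ⟶ U, QuotSh.repMap K a = σ := by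
  obtain ⟨a, ha⟩ := exists_secOf K (sec K σ)
  exact ⟨a, sec_injective K _ _ ha⟩

end Subcan

end Groth.Agent.Helper18.QSh

namespace Groth.Agent.Helper18.QSh

open Groth.Agent.Helper18.FppfDescHom

variable (K : Precoverage Scheme.{u}) {S : Scheme.{u}}

/-- a morphism with local sections induces an epimorphism of sheaves -/
theorem epi_repMap_of_secSieve {U M : Over S} (q : U ⟶ M) (h : secSieve q ∈ QuotSh.J K S M) :
    Epi (QuotSh.repMap K q) := by
  refine ⟨fun {F} σ σ' hσ => sec_injective K _ _ ?_⟩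
  have h1 : F.obj.map q.op (sec K σ) = F.obj.map q.op (sec K σ') := by
    rw [← sec_repMap, ← sec_repMap, hσ]
  have hY : Presieve.IsSheaf (QuotSh.J K S) F.obj := (isSheaf_iff_isSheaf_of_type _ _).1 F.property
  refine (hY _ h).isSeparatedFor.ext ?_
  rintro V g ⟨c, rfl⟩
  have e1 : F.obj.map (c ≫ q).op (sec K σ) = F.obj.map c.op (F.obj.map q.op (sec K σ)) := by
    rw [op_comp, Functor.map_comp_apply]
  have e2 : F.obj.map (c ≫ q).op (sec K σ') = F.obj.map c.op (F.obj.map q.op (sec K σ')) := by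
    rw [op_comp, Functor.map_comp_apply]
  rw [e1, e2, h1]

section Subcan

variable [(QuotSh.J K S).Subcanonical]

/-- a morphism inducing an epimorphism of sheaves has local sections -/
theorem secSieve_of_epi_repMap {U M : Over S} (q : U ⟶ M) [Epi (QuotSh.repMap K q)] :
    secSieve q ∈ QuotSh.J K S M := by
  haveI : Sheaf.IsLocallySurjective (QuotSh.repMap K q) := (Sheaf.isLocallySurjective_iff_epi _).2 inferInstance
  have h := Presheaf.imageSieve_mem (QuotSh.J K S) (QuotSh.repMap K q).hom (secOf K (𝟙 M))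
  refine (QuotSh.J K S).superset_covering ?_ h
  rintro V g ⟨x, hx⟩
  obtain ⟨c, rfl⟩ := exists_secOf K x
  refine ⟨c, secOf_injective K ?_⟩
  have h2 : (QuotSh.repMap K q).hom.app (op V) (secOf K c) = secOf K (c ≫ q) := secOf_comp K c q
  have h3 : (QuotSh.rep K M).obj.map g.op (secOf K (𝟙 M)) = secOf K (g ≫ 𝟙 M) := map_secOf K g (𝟙 M)
  rw [Category.comp_id] at h3
  exact h2.symm.trans (hx.trans h3)

end Subcan

end Groth.Agent.Helper18.QSh

namespace Groth.Agent.Helper18.QSh

open Groth.Agent.Helper18.FppfDescHom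

variable (K : Precoverage Scheme.{u}) {S : Scheme.{u}}

section Rel

variable {C : Type*} [Category C] {R U : C} (s t : R ⟶ U)

/-- the relation on `T`-points of `U` defined by `R` -/
def relM (T : C) (a b : T ⟶ U) : Prop := ∃ r : T ⟶ R, r ≫ s = a ∧ r ≫ t = b

theorem relM_equivalence [h : IsEquivalenceRelation s t] (T : C) : _root_.Equivalence (relM s t T) := by
  obtain ⟨e⟩ := h.nonempty_equivalenceRelation
  refine ⟨fun a => ⟨a ≫ e.r, ?_, ?_⟩, ?_, ?_⟩
  · rw [Category.assoc, e.reflexivity₁, Category.comp_id]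
  · rw [Category.assoc, e.reflexivity₂, Category.comp_id]
  · rintro a b ⟨r, rfl, rfl⟩
    exact ⟨r ≫ e.s, by rw [Category.assoc, e.symmetry₁], by rw [Category.assoc, e.symmetry₂]⟩
  · rintro a b c ⟨r₁, rfl, hr₁⟩ ⟨r₂, hr₂, rfl⟩
    -- cone over (t, s): fst ≫ t = snd ≫ s
    have hc : r₁ ≫ t = r₂ ≫ s := hr₁.trans hr₂.symm
    refine ⟨PullbackCone.IsLimit.lift e.isLimit r₁ r₂ hc ≫ e.t, ?_, ?_⟩
    · rw [Category.assoc, e.transitivity₁, ← Category.assoc, PullbackCone.IsLimit.lift_fst]
    · rw [Category.assoc, e.transitivity₂, ← Category.assoc, PullbackCone.IsLimit.lift_snd]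

theorem relM_unique [h : IsEquivalenceRelation s t] {T : C} (r r' : T ⟶ R) (h1 : r ≫ s = r' ≫ s)
    (h2 : r ≫ t = r' ≫ t) : r = r' := by
  obtain ⟨e⟩ := h.nonempty_equivalenceRelation
  exact e.toReflexiveRelation.toJointlyMono₂.right_cancellation r r' h1 h2

end Rel

section Subcan

variable [(QuotSh.J K S).Subcanonical] {R U : Over S} (s t : R ⟶ U)

theorem secRel_iff {T : Over S} (a b : T ⟶ U) :
    secRel (QuotSh.repMap K s) (QuotSh.repMap K t) (op T) (secOf K a) (secOf K b) ↔ relM s t T a b := by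
  constructor
  · rintro ⟨x, h1, h2⟩
    obtain ⟨r, rfl⟩ := exists_secOf K x
    refine ⟨r, secOf_injective K ?_, secOf_injective K ?_⟩
    · exact (secOf_comp K r s).symm.trans h1
    · exact (secOf_comp K r t).symm.trans h2
  · rintro ⟨r, rfl, rfl⟩
    exact ⟨secOf K r, secOf_comp K r s, secOf_comp K r t⟩

theorem secRel_equivalence' (hE : ∀ T, _root_.Equivalence (relM s t T)) (T : (Over S)ᵒᵖ) :
    _root_.Equivalence (secRel (QuotSh.repMap K s) (QuotSh.repMap K t) T) := by
  obtain ⟨T⟩ := T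
  have hE := hE T
  refine ⟨fun x => ?_, fun {x y} h => ?_, fun {x y z} h1 h2 => ?_⟩
  · obtain ⟨a, rfl⟩ := exists_secOf K x
    exact (secRel_iff K s t a a).2 (hE.refl a)
  · obtain ⟨a, rfl⟩ := exists_secOf K x
    obtain ⟨b, rfl⟩ := exists_secOf K y
    exact (secRel_iff K s t b a).2 (hE.symm ((secRel_iff K s t a b).1 h))
  · obtain ⟨a, rfl⟩ := exists_secOf K x
    obtain ⟨b, rfl⟩ := exists_secOf K y
    obtain ⟨c, rfl⟩ := exists_secOf K z
    exact (secRel_iff K s t a c).2 (hE.trans ((secRel_iff K s t a b).1 h1) ((secRel_iff K s t b c).1 h2))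

/-- **Effectivity** (pre-equivalence relations): two points of `U` with the same image in `U/R` are
locally `R`-related. -/
theorem exists_local_relM' (hE : ∀ T, _root_.Equivalence (relM s t T)) {T : Over S} (a b : T ⟶ U)
    (h : QuotSh.repMap K a ≫ QuotSh.quotπ K s t = QuotSh.repMap K b ≫ QuotSh.quotπ K s t) :
    ∃ Rv ∈ (QuotSh.J K S) T, ∀ ⦃T' : Over S⦄ (k : T' ⟶ T), Rv k → relM s t T' (k ≫ a) (k ≫ b) := by
  have h1 : (QuotSh.quotπ K s t).hom.app (op T) (secOf K a) = (QuotSh.quotπ K s t).hom.app (op T) (secOf K b) := by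
    have := congrArg (sec K) h
    rwa [sec_comp, sec_comp] at this
  obtain ⟨Rv, hRv, hl⟩ := exists_local_rel (QuotSh.repMap K s) (QuotSh.repMap K t) (secRel_equivalence' K s t hE)
    (secOf K a) (secOf K b) h1
  refine ⟨Rv, hRv, fun T' k hk => ?_⟩
  have := hl k hk
  rw [map_secOf, map_secOf] at this
  exact (secRel_iff K s t _ _).1 this

/-- **Effectivity**: two points of `U` with the same image in `U/R` are locally `R`-related. -/
theorem exists_local_relM [IsEquivalenceRelation s t] {T : Over S} (a b : T ⟶ U)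
    (h : QuotSh.repMap K a ≫ QuotSh.quotπ K s t = QuotSh.repMap K b ≫ QuotSh.quotπ K s t) :
    ∃ Rv ∈ (QuotSh.J K S) T, ∀ ⦃T' : Over S⦄ (k : T' ⟶ T), Rv k → relM s t T' (k ≫ a) (k ≫ b) :=
  exists_local_relM' K s t (relM_equivalence s t) a b h

/-- gluing of the local relations -/
theorem exists_relM_of_local [IsEquivalenceRelation s t] {T : Over S} (a b : T ⟶ U) (Rv : Sieve T)
    (hRv : Rv ∈ (QuotSh.J K S) T)
    (hl : ∀ ⦃T' : Over S⦄ (k : T' ⟶ T), Rv k → relM s t T' (k ≫ a) (k ≫ b)) : relM s t T a b := by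
  have hR : Presieve.IsSheafFor (yoneda.obj R) Rv.arrows :=
    (GrothendieckTopology.Subcanonical.isSheaf_of_isRepresentable (J := QuotSh.J K S) (yoneda.obj R)) _ hRv
  have hU : Presieve.IsSheafFor (yoneda.obj U) Rv.arrows :=
    (GrothendieckTopology.Subcanonical.isSheaf_of_isRepresentable (J := QuotSh.J K S) (yoneda.obj U)) _ hRv
  let x : Presieve.FamilyOfElements (yoneda.obj R) Rv.arrows := fun T' k hk => (hl k hk).choose
  have hx : x.Compatible := by
    intro Y₁ Y₂ Z g₁ g₂ f₁ f₂ h₁ h₂ hc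
    change g₁ ≫ x f₁ h₁ = g₂ ≫ x f₂ h₂
    apply relM_unique s t
    · rw [Category.assoc, Category.assoc, (hl f₁ h₁).choose_spec.1, (hl f₂ h₂).choose_spec.1,
        ← Category.assoc, ← Category.assoc, hc]
    · rw [Category.assoc, Category.assoc, (hl f₁ h₁).choose_spec.2, (hl f₂ h₂).choose_spec.2,
        ← Category.assoc, ← Category.assoc, hc]
  have hr : ∀ ⦃T' : Over S⦄ (k : T' ⟶ T) (hk : Rv k), k ≫ hR.amalgamate x hx = x k hk :=
    fun T' k hk => hR.valid_glue hx k hk
  refine ⟨hR.amalgamate x hx, ?_, ?_⟩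
  · refine hU.isSeparatedFor.ext fun T' k hk => ?_
    change k ≫ hR.amalgamate x hx ≫ s = k ≫ a
    rw [← Category.assoc, hr k hk]
    exact (hl k hk).choose_spec.1
  · refine hU.isSeparatedFor.ext fun T' k hk => ?_
    change k ≫ hR.amalgamate x hx ≫ t = k ≫ b
    rw [← Category.assoc, hr k hk]
    exact (hl k hk).choose_spec.2

/-- the kernel pair of a quotient is the relation -/
theorem isKernelPair_of_isQuotient [IsEquivalenceRelation s t] {M : Over S} (q : U ⟶ M)
    (hq : QuotSh.IsQuotient K s t q) : IsKernelPair q s t := by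
  obtain ⟨w, hiso⟩ := hq
  refine Groth.Agent.Helper18.TorsComp.isPullback_of_points s t q q w ?_ ?_
  · intro T a b hab
    have h1 : QuotSh.repMap K a ≫ QuotSh.quotπ K s t = QuotSh.repMap K b ≫ QuotSh.quotπ K s t := by
      rw [← cancel_mono (QuotSh.quotDesc K q w), Category.assoc, Category.assoc, quotπ_quotDesc,
        ← repMap_comp, ← repMap_comp, hab]
    obtain ⟨Rv, hRv, hl⟩ := exists_local_relM K s t a b h1
    exact exists_relM_of_local K s t a b Rv hRv hl
  · intro T m m' h1 h2
    exact relM_unique s t m m' h1 h2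

theorem epi_repMap_of_isQuotient {M : Over S} (q : U ⟶ M)
    (hq : QuotSh.IsQuotient K s t q) : Epi (QuotSh.repMap K q) := by
  obtain ⟨w, hiso⟩ := hq
  rw [← quotπ_quotDesc K q w]
  exact epi_comp _ _

end Subcan

end Groth.Agent.Helper18.QSh

namespace Groth.Agent.Helper18.QSh

open Groth.Agent.Helper18.FppfDescHom

variable (K : Precoverage Scheme.{u}) {S : Scheme.{u}}

theorem etale_le_fpqc : Scheme.etalePrecoverage.{u} ≤ Scheme.fpqcPrecoverage :=
  le_trans Scheme.etalePrecoverage_le_proetalePrecoverage Scheme.proetalePrecoverage_le_fpqcPrecoverage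

instance subcanonical_etale : (QuotSh.J Scheme.etalePrecoverage.{u} S).Subcanonical := by
  haveI : (Scheme.etalePrecoverage.{u}.toGrothendieck).Subcanonical :=
    .of_le (K := Scheme.fpqcTopology.{u}) (Precoverage.toGrothendieck_mono etale_le_fpqc)
  exact GrothendieckTopology.subcanonical_over _ S

instance subcanonical_fppf : (QuotSh.J Scheme.fppfPrecoverage.{u} S).Subcanonical :=
  GrothendieckTopology.subcanonical_over _ S

instance subcanonical_fpqc : (QuotSh.J Scheme.fpqcPrecoverage.{u} S).Subcanonical :=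
  GrothendieckTopology.subcanonical_over _ S

theorem loc_of_singleton {U M : Over S} (q : U ⟶ M) (h : Presieve.singleton q.left ∈ K M.left) :
    NonAbH1.IsLocallyTrivialFor K (Over.mk q.left : Over M.left) := by
  refine ⟨_, h, ?_⟩
  rintro S' f ⟨⟩
  exact ⟨𝟙 _, Category.id_comp _⟩

theorem secSieve_mem_of_singleton {U M : Over S} (q : U ⟶ M) (h : Presieve.singleton q.left ∈ K M.left) :
    secSieve q ∈ QuotSh.J K S M :=
  Groth.Agent.Helper18.DescHomK.secSieve_mem_of_loc K q (loc_of_singleton K q h)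

/-- base change of a self-pullback projection along a section -/
theorem prop_pullback_of_sq (P : MorphismProperty Scheme.{u}) [P.IsStableUnderBaseChange]
    {E B Z S' : Scheme.{u}} {π : E ⟶ B} {a b : Z ⟶ E} (sq : IsPullback a b π π) (hb : P b)
    (g : S' ⟶ B) (s : S' ⟶ E) (hs : s ≫ π = g) : P (pullback.snd π g) := by
  subst hs
  have big := IsPullback.of_hasPullback π (s ≫ π)
  have left := IsPullback.of_right' big sq
  exact P.of_isPullback left hb

/-- descent of a property from a projection of the kernel pair to the morphism -/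
theorem prop_of_isKernelPair (P : MorphismProperty Scheme.{u}) [P.IsStableUnderBaseChange]
    [IsZariskiLocalAtTarget P] [P.DescendsAlong (@Surjective ⊓ @Flat ⊓ @QuasiCompact)]
    (hK : K ≤ Scheme.fpqcPrecoverage) {R U M : Over S} {s t : R ⟶ U} {q : U ⟶ M}
    (hloc : NonAbH1.IsLocallyTrivialFor K (Over.mk q.left : Over M.left))
    (sq : IsPullback s t q q) (ht : P t.left) : P q.left := by
  obtain ⟨Rc, hR, hsec⟩ := hloc
  haveI := Groth.Agent.Helper18.FpqcDesc.isLocalAtTarget_fpqc P
  refine MorphismProperty.IsLocalAtTarget.of_forall_pullbackSnd (P := P) (K := Scheme.fpqcPrecoverage) (hK _ hR) ?_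
  intro V g _ hg
  obtain ⟨c, hc⟩ := hsec g hg
  exact prop_pullback_of_sq P (sq.map (Over.forget S)) ht g c hc

/-- a kernel pair with a covering quotient map gives a quotient -/
theorem isQuotient_of_isKernelPair {R U M : Over S} {s t : R ⟶ U} {q : U ⟶ M}
    (sq : IsKernelPair q s t) (h : secSieve q ∈ QuotSh.J K S M) : QuotSh.IsQuotient K s t q :=
  isQuotient_of_epi K s t q sq.w t s sq.flip (𝟙 R) (Category.id_comp _) (Category.id_comp _)
    (epi_repMap_of_secSieve K q h) inferInstance

end Groth.Agent.Helper18.QSh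

namespace Groth.Agent.Helper18.QSh

open Groth.Agent.Helper18.FppfDescHom

variable (K : Precoverage Scheme.{u}) {S : Scheme.{u}} {R U M : Over S} (s t : R ⟶ U)

/-- criterion for a quotient: local sections and local relatedness -/
theorem isQuotient_of_local (q : U ⟶ M) (w : s ≫ q = t ≫ q) (hsec : secSieve q ∈ QuotSh.J K S M)
    (hrel : ∀ (T : Over S) (a b : T ⟶ U), a ≫ q = b ≫ q →
      ∃ Rv ∈ (QuotSh.J K S) T, ∀ ⦃T' : Over S⦄ (k : T' ⟶ T), Rv k → relM s t T' (k ≫ a) (k ≫ b)) :
    QuotSh.IsQuotient K s t q := by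
  have hP := IsPullback.of_hasPullback q q
  refine isQuotient_of_epi K s t q w (pullback.fst q q) (pullback.snd q q) hP (pullback.lift t s w.symm)
    (pullback.lift_fst _ _ _) (pullback.lift_snd _ _ _) (epi_repMap_of_secSieve K q hsec)
    (epi_repMap_of_secSieve K _ ?_)
  obtain ⟨Rv, hRv, hl⟩ := hrel _ (pullback.snd q q) (pullback.fst q q) pullback.condition.symm
  refine (QuotSh.J K S).superset_covering ?_ hRv
  intro T' k hk
  obtain ⟨r, hr1, hr2⟩ := hl k hk
  refine ⟨r, ?_⟩
  apply pullback.hom_ext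
  · rw [Category.assoc, pullback.lift_fst, hr2]
  · rw [Category.assoc, pullback.lift_snd, hr1]

section Subcan

variable [(QuotSh.J K S).Subcanonical]

theorem local_of_isQuotient (hE : ∀ T, _root_.Equivalence (relM s t T)) (q : U ⟶ M)
    (hq : QuotSh.IsQuotient K s t q) (T : Over S) (a b : T ⟶ U) (hab : a ≫ q = b ≫ q) :
    ∃ Rv ∈ (QuotSh.J K S) T, ∀ ⦃T' : Over S⦄ (k : T' ⟶ T), Rv k → relM s t T' (k ≫ a) (k ≫ b) := by
  obtain ⟨w, hiso⟩ := hq
  have h1 : QuotSh.repMap K a ≫ QuotSh.quotπ K s t = QuotSh.repMap K b ≫ QuotSh.quotπ K s t := by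
    rw [← cancel_mono (QuotSh.quotDesc K q w), Category.assoc, Category.assoc, quotπ_quotDesc,
      ← repMap_comp, ← repMap_comp, hab]
  exact exists_local_relM' K s t hE a b h1

theorem secSieve_of_isQuotient (q : U ⟶ M) (hq : QuotSh.IsQuotient K s t q) : secSieve q ∈ QuotSh.J K S M := by
  haveI := epi_repMap_of_isQuotient K s t q hq
  exact secSieve_of_epi_repMap K q

/-- a quotient is a coequalizer in schemes over `S` -/
theorem exists_desc_of_isQuotient (q : U ⟶ M) (hq : QuotSh.IsQuotient K s t q) {Z : Over S} (ψ : U ⟶ Z)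
    (hψ : s ≫ ψ = t ≫ ψ) : ∃ χ : M ⟶ Z, q ≫ χ = ψ := by
  obtain ⟨w, hiso⟩ := hq
  have h1 : QuotSh.repMap K s ≫ QuotSh.repMap K ψ = QuotSh.repMap K t ≫ QuotSh.repMap K ψ := by
    rw [← repMap_comp, ← repMap_comp, hψ]
  let d : QuotSh.quot K s t ⟶ QuotSh.rep K Z := coequalizer.desc (QuotSh.repMap K ψ) h1
  have hd : QuotSh.quotπ K s t ≫ d = QuotSh.repMap K ψ := coequalizer.π_desc _ _
  obtain ⟨χ, hχ⟩ := exists_repMap K (inv (QuotSh.quotDesc K q w) ≫ d)
  refine ⟨χ, repMap_injective K ?_⟩
  rw [repMap_comp, hχ, ← quotπ_quotDesc K q w, Category.assoc, IsIso.hom_inv_id_assoc, hd]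

theorem desc_unique_of_isQuotient (q : U ⟶ M) (hq : QuotSh.IsQuotient K s t q) {Z : Over S} (χ χ' : M ⟶ Z)
    (h : q ≫ χ = q ≫ χ') : χ = χ' :=
  Groth.Agent.Helper18.DescHomK.epi_of_secSieve K q (secSieve_of_isQuotient K s t q hq) χ χ' h

end Subcan

end Groth.Agent.Helper18.QSh
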