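import Mathlib
import Groth.Prelude
import Groth.Agent.Lib.Helper18.AssocBun3
import Groth.Agent.Lib.Helper18.TorsComp
import Groth.Agent.Lib.Helper18.GeomQuot
import Groth.Agent.Lib.Helper18.QSh2
import Groth.Agent.Lib.Helper18.DescHomK

set_option autoImplicit false
set_option linter.style.haveILetI false
set_option linter.unusedSectionVars false
universe u
open CategoryTheory MonoidalCategory CartesianMonoidalCategory MonObj GrpObj AlgebraicGeometry Limits

namespace Groth.Agent.Helper18.AssocBun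

open Desc Groth.Agent.Helper21.DescA Groth.Agent.Helper21.DescR
  Groth.Agent.Helper18.FpqcCov Groth.Agent.Helper18.TorsorMap

variable {S : Scheme.{u}} {G X Y F : Over S} [GrpObj G] (a : AlgGrp.Action G X) (φ : X ⟶ Y)
  (hcart : IsPullback a.act (snd G X) φ φ) (b : AlgGrp.Action G F)
  (c : Cone (DD a φ hcart b))

theorem act_piO {A : Over S} (g : A ⟶ G) (m : A ⟶ X ⊗ F) :
    (lift g m ≫ (a.prod b).act) ≫ piO a φ hcart b c = m ≫ piO a φ hcart b c := by
  have h : (m ≫ fst X F) ≫ φ = (lift g (m ≫ fst X F) ≫ a.act) ≫ φ :=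
    (act_phi a φ hcart g _).symm
  have e : lift g m ≫ (a.prod b).act =
      tw a φ hcart b m (lift g (m ≫ fst X F) ≫ a.act) h := by
    rw [tw_eq_act]
    congr 2
    exact (gg_act a φ hcart g (m ≫ fst X F)).symm
  rw [e, tw_piO]

theorem inv_piO : (a.prod b).act ≫ piO a φ hcart b c = snd G (X ⊗ F) ≫ piO a φ hcart b c := by
  apply AlgGrp.Action.hom_ext_lift₂
  intro T g m
  rw [← Category.assoc, act_piO, ← Category.assoc, lift_snd]

theorem isPullback_act :
    IsPullback (a.prod b).act (snd G (X ⊗ F)) (piO a φ hcart b c) (piO a φ hcart b c) := by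
  refine Groth.Agent.Helper18.TorsComp.isPullback_of_points _ _ _ _ (inv_piO a φ hcart b c) ?_ ?_
  · intro T x y hxy
    obtain ⟨hφ, hx⟩ := eq_tw_of_piO a φ hcart b c y x hxy.symm
    refine ⟨lift (gg a φ hcart (x ≫ fst X F) (y ≫ fst X F) hφ.symm) y, ?_, lift_snd _ _⟩
    rw [← tw_eq_act a φ hcart b y (x ≫ fst X F) hφ]
    exact hx.symm
  · intro T m m' h1 h2
    have hm : m = lift (m ≫ fst G (X ⊗ F)) (m ≫ snd G (X ⊗ F)) := by
      rw [← comp_lift, lift_fst_snd, Category.comp_id]
    have hm' : m' = lift (m' ≫ fst G (X ⊗ F)) (m' ≫ snd G (X ⊗ F)) := by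
      rw [← comp_lift, lift_fst_snd, Category.comp_id]
    have h3 : m ≫ fst G (X ⊗ F) = m' ≫ fst G (X ⊗ F) := by
      have e1 : lift (m ≫ fst G (X ⊗ F)) ((m ≫ snd G (X ⊗ F)) ≫ fst X F) ≫ a.act =
          lift (m' ≫ fst G (X ⊗ F)) ((m ≫ snd G (X ⊗ F)) ≫ fst X F) ≫ a.act := by
        have h1' : (m ≫ (a.prod b).act) ≫ fst X F = (m' ≫ (a.prod b).act) ≫ fst X F := by
          rw [h1]
        rw [hm, hm', lift_prod_act', lift_prod_act', lift_fst, lift_fst] at h1'
        rw [← h2] at h1'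
        exact h1'
      rw [gg_unique a φ hcart _ _ (act_phi a φ hcart _ _) _ e1]
      exact (gg_act a φ hcart _ _)
    rw [hm, hm', h3, h2]

theorem isLocallyTrivialFor_piO
    (hloc : NonAbH1.IsLocallyTrivialFor Scheme.fpqcPrecoverage (Over.mk φ.left : Over Y.left)) :
    NonAbH1.IsLocallyTrivialFor Scheme.fpqcPrecoverage
      (Over.mk (piO a φ hcart b c).left : Over (W a φ hcart b c).left) := by
  have h1 := NonAbH1.isLocallyTrivialFor_bc (f := c.U.hom) Scheme.fpqcPrecoverage hloc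
  obtain ⟨R, hR, hsec⟩ := h1
  refine ⟨R, hR, fun S' f hf => ?_⟩
  obtain ⟨s, hs⟩ := hsec f hf
  have hs' : s ≫ pullback.snd φ.left c.U.hom = f := hs
  refine ⟨s ≫ (isPullback_piL a φ hcart b c).isoPullback.inv, ?_⟩
  change (s ≫ (isPullback_piL a φ hcart b c).isoPullback.inv) ≫ piL a φ hcart b c = f
  rw [Category.assoc, IsPullback.isoPullback_inv_snd, hs']

theorem isAffineHom_piO [IsAffineHom φ.left] : IsAffineHom (piO a φ hcart b c).left :=
  MorphismProperty.of_isPullback (P := @IsAffineHom) (isPullback_piL a φ hcart b c) inferInstance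

end Groth.Agent.Helper18.AssocBun
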