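import Mathlib
import Groth.Prelude
import Groth.Agent.Lib.Helper18.AssocBun4

set_option autoImplicit false
set_option linter.style.haveILetI false
set_option linter.unusedSectionVars false
universe u
open CategoryTheory MonoidalCategory CartesianMonoidalCategory MonObj GrpObj AlgebraicGeometry Limits

namespace Groth.Agent.Helper18.AssocBun

open Desc Groth.Agent.Helper21.DescA Groth.Agent.Helper21.DescR
  Groth.Agent.Helper18.FpqcCov Groth.Agent.Helper18.TorsorMap

variable {S : Scheme.{u}} {G X Y F : Over S} [GrpObj G] (a : AlgGrp.Action G X) (φ : X ⟶ Y)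
  (hcart : IsPullback a.act (snd G X) φ φ) (b : AlgGrp.Action G F)
  (c : Cone (DD a φ hcart b))

theorem isGeomQuot_piO
    (hloc : NonAbH1.IsLocallyTrivialFor Scheme.fpqcPrecoverage (Over.mk φ.left : Over Y.left)) :
    GIT.IsGeomQuot (a.prod b) (piO a φ hcart b c) := by
  have hsec := Groth.Agent.Helper18.DescHomK.secSieve_mem_of_loc Scheme.fpqcPrecoverage
    (piO a φ hcart b c) (isLocallyTrivialFor_piO a φ hcart b c hloc)
  have hq : QuotSh.IsQuotient Scheme.fpqcPrecoverage (a.prod b).act (snd G (X ⊗ F))
      (piO a φ hcart b c) :=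
    Groth.Agent.Helper18.QSh.isQuotient_of_isKernelPair Scheme.fpqcPrecoverage
      (isPullback_act a φ hcart b c) hsec
  exact Groth.Agent.Helper18.GeomQuot.isGeomQuot_of_isQuotient Scheme.fpqcPrecoverage
    (a.prod b) (piO a φ hcart b c) le_rfl hq

end Groth.Agent.Helper18.AssocBun
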