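import Mathlib
import Groth.Prelude
import Groth.Agent.Lib.Helper18.FpqcLocal
import Groth.Agent.Lib.Helper15.AlgSpDescent
import Groth.Agent.Lib.Helper21.AffDesc

set_option autoImplicit false
universe u
open CategoryTheory MonoidalCategory CartesianMonoidalCategory MonObj GrpObj AlgebraicGeometry Limits
open MorphismProperty

namespace Groth.Agent.Helper18.FpqcTorsor

open Groth.Agent.Helper18.FpqcDesc

variable {S : Scheme.{u}}

/-- for a pseudo-torsor with a section over `g : S' ⟶ S`, the base change `X ×_S S' ⟶ S'`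
inherits the properties of `G ⟶ S` -/
theorem prop_pullback_of_section (P : MorphismProperty Scheme.{u}) [P.IsStableUnderBaseChange]
    (G X : Over S) [GrpObj G] (a : AlgGrp.Action G X) (hps : IsIso (lift a.act (snd G X)))
    (hG : P G.hom) {S' : Scheme.{u}} (g : S' ⟶ S) (s : S' ⟶ X.left) (hs : s ≫ X.hom = g) :
    P (pullback.snd X.hom g) := by
  have h1 : P (snd G X).left := by
    show P (pullback.snd G.hom X.hom)
    exact P.pullback_snd _ _ hG
  have h2 : P (snd X X).left := by
    haveI := hps
    have e : snd X X = inv (lift a.act (snd G X)) ≫ snd G X := by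
      rw [IsIso.eq_inv_comp, lift_snd]
    rw [e, Over.comp_left]
    haveI : IsIso (inv (lift a.act (snd G X))).left :=
      inferInstanceAs (IsIso ((CategoryTheory.Over.forget _).map (inv (lift a.act (snd G X)))))
    exact (P.cancel_left_of_respectsIso _ _).2 h1
  have h2' : P (pullback.snd X.hom X.hom) := h2
  subst hs
  have big := IsPullback.of_hasPullback X.hom (s ≫ X.hom)
  have t := IsPullback.of_hasPullback X.hom X.hom
  have left := IsPullback.of_right' big t
  exact P.of_isPullback left h2'

/-- fpqc-local properties of a torsor from those of the group -/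
theorem prop_of_isTorsorFor (P : MorphismProperty Scheme.{u}) [P.IsStableUnderBaseChange]
    [IsZariskiLocalAtTarget P] [P.DescendsAlong (@Surjective ⊓ @Flat ⊓ @QuasiCompact)]
    (G X : Over S) [GrpObj G] (a : AlgGrp.Action G X)
    (h : NonAbH1.IsTorsorFor Scheme.fpqcPrecoverage a) (hG : P G.hom) : P X.hom := by
  obtain ⟨hps, R, hR, hsec⟩ := h
  haveI := isLocalAtTarget_fpqc P
  refine IsLocalAtTarget.of_forall_pullbackSnd (P := P) (K := Scheme.fpqcPrecoverage) hR ?_
  intro U g _ hg
  obtain ⟨s, hs⟩ := hsec g hg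
  exact prop_pullback_of_section P G X a hps hG g s hs

theorem surjective_hom_of_monObj (G : Over S) [MonObj G] : Surjective G.hom := by
  refine ⟨fun y => ⟨η[G].left y, ?_⟩⟩
  have h : η[G].left ≫ G.hom = 𝟙 _ := Over.w η[G]
  rw [← Scheme.Hom.comp_apply, h]
  rfl

set_option backward.isDefEq.respectTransparency.types false in
theorem main6003 (G X : Over S) [GrpObj G] [Flat G.hom] [QuasiCompact G.hom]
    (a : AlgGrp.Action G X) :
    NonAbH1.IsTorsorFor Scheme.fpqcPrecoverage a ↔
      (NonAbH1.IsPseudoTorsorSch a ∧ Surjective X.hom ∧ Flat X.hom ∧ QuasiCompact X.hom) := by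
  constructor
  · intro h
    refine ⟨h.1, ?_, ?_, ?_⟩
    · exact prop_of_isTorsorFor @Surjective G X a h (surjective_hom_of_monObj G)
    · exact prop_of_isTorsorFor @Flat G X a h inferInstance
    · exact prop_of_isTorsorFor @QuasiCompact G X a h inferInstance
  · rintro ⟨hps, hs, hf, hq⟩
    haveI := hs
    haveI := hf
    haveI := hq
    refine ⟨hps, Presieve.singleton X.hom, X.hom.singleton_mem_fpqcPrecoverage, ?_⟩
    rintro S' f ⟨⟩
    exact ⟨𝟙 _, Category.id_comp _⟩

set_option backward.isDefEq.respectTransparency.types false in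
theorem main6004 (G X : Over S) [GrpObj G] [IsAffineHom G.hom] [Flat G.hom]
    (a : AlgGrp.Action G X) (h : NonAbH1.IsTorsorFor Scheme.fpqcPrecoverage a) :
    IsAffineHom X.hom ∧ Flat X.hom := by
  haveI := Groth.Agent.Helper21.AffDesc.affine.{u}
  exact ⟨prop_of_isTorsorFor @IsAffineHom G X a h inferInstance,
    prop_of_isTorsorFor @Flat G X a h inferInstance⟩

end Groth.Agent.Helper18.FpqcTorsor
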