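import Mathlib
import Groth.Prelude

set_option autoImplicit false
set_option linter.style.haveILetI false
universe u
open CategoryTheory AlgebraicGeometry Limits

namespace Groth.Agent.Helper18.PushTorsor

/-- An fpqc covering presieve contains a `u`-small fpqc covering family. -/
theorem exists_small_family {S : Scheme.{u}} (R : Presieve S)
    (hR : R ∈ Scheme.fpqcPrecoverage S) :
    ∃ (ι : Type u) (Y : ι → Scheme.{u}) (f : ∀ i, Y i ⟶ S),
      Presieve.ofArrows Y f ∈ Scheme.fpqcPrecoverage S ∧ ∀ i, R (f i) := by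
  have h1 : R ∈ Scheme.qcPrecoverage S := hR.1
  have h2 : R ∈ Scheme.precoverage @Flat S := hR.2
  rw [Scheme.qcPrecoverage, PreZeroHypercoverFamily.mem_precoverage_iff] at h1
  obtain ⟨E, hE, rfl⟩ := h1
  haveI : QuasiCompactCover E := hE
  have h2' := (Scheme.ofArrows_mem_precoverage_iff _).mp h2
  refine ⟨(QuasiCompactCover.ulift E).I₀, (QuasiCompactCover.ulift E).X,
    (QuasiCompactCover.ulift E).f, ⟨?_, ?_⟩, fun i => ?_⟩
  · exact (Scheme.presieve₀_mem_qcPrecoverage_iff (E := QuasiCompactCover.ulift E)).mpr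
      inferInstance
  · rw [Scheme.ofArrows_mem_precoverage_iff]
    refine ⟨fun x => ?_, fun i => h2'.2 _⟩
    obtain ⟨_, ⟨O, hO, rfl⟩, hxO, -⟩ :=
      S.isBasis_affineOpens.exists_subset_of_mem_open (Set.mem_univ x) isOpen_univ
    obtain ⟨s, -, V, -, hV⟩ :=
      QuasiCompactCover.isCompactOpenCovered_of_isAffineOpen (𝒰 := QuasiCompactCover.ulift E) hO
    have hx : x ∈ ⋃ (i) (h : i ∈ s), ((QuasiCompactCover.ulift E).f i) '' (V i h) := by
      rw [hV]; exact hxO
    simp only [Set.mem_iUnion] at hx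
    obtain ⟨i, hi, y, -, hy⟩ := hx
    exact ⟨i, y, hy⟩
  · exact ⟨_⟩

end Groth.Agent.Helper18.PushTorsor
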