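import Mathlib
import Groth.Prelude
import Groth.Agent.Lib.Helper18.AssocBun5
import Groth.Agent.Lib.Helper18.FpqcTorsor
import Groth.Agent.Lib.Helper18.PushTorsor0

set_option autoImplicit false
set_option linter.style.haveILetI false
set_option linter.unusedSectionVars false
universe u
open CategoryTheory MonoidalCategory CartesianMonoidalCategory MonObj GrpObj AlgebraicGeometry Limits
open MorphismProperty

namespace Groth.Agent.Helper18.AssocBun

open Desc Groth.Agent.Helper21.DescA Groth.Agent.Helper21.DescR
  Groth.Agent.Helper18.FpqcCov Groth.Agent.Helper18.TorsorMap Groth.Agent.Helper18.FpqcDesc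

variable {S : Scheme.{u}} {G X Y F : Over S} [GrpObj G] (a : AlgGrp.Action G X) (φ : X ⟶ Y)
  (hcart : IsPullback a.act (snd G X) φ φ) (b : AlgGrp.Action G F)

include hcart in
/-- fpqc-local properties of the structure map of a torsor `φ : X ⟶ Y` (over a base `S`) from
those of the group -/
theorem prop_of_torsor (P : MorphismProperty Scheme.{u}) [P.IsStableUnderBaseChange]
    [IsZariskiLocalAtTarget P] [P.DescendsAlong (@Surjective ⊓ @Flat ⊓ @QuasiCompact)]
    (hloc : NonAbH1.IsLocallyTrivialFor Scheme.fpqcPrecoverage (Over.mk φ.left : Over Y.left))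
    (hG : P G.hom) : P φ.left := by
  obtain ⟨R, hR, hsec⟩ := hloc
  haveI := isLocalAtTarget_fpqc P
  refine IsLocalAtTarget.of_forall_pullbackSnd (P := P) (K := Scheme.fpqcPrecoverage) hR ?_
  intro U g _ hg
  obtain ⟨s, hs⟩ := hsec g hg
  have hs' : s ≫ φ.left = g := hs
  subst hs'
  have h1 : P (snd G X).left := by
    show P (pullback.snd G.hom X.hom)
    exact P.pullback_snd _ _ hG
  have t : IsPullback a.act.left (snd G X).left φ.left φ.left := hcart.map (Over.forget S)
  have big := IsPullback.of_hasPullback φ.left (s ≫ φ.left)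
  have left := IsPullback.of_right' big t
  exact P.of_isPullback left h1

theorem exists_assocBun [IsAffineHom F.hom]
    (hloc : NonAbH1.IsLocallyTrivialFor Scheme.fpqcPrecoverage (Over.mk φ.left : Over Y.left)) :
    Nonempty (Cone (DD a φ hcart b)) := by
  obtain ⟨R, hR, hsec⟩ := hloc
  obtain ⟨κ, Z, f, hf, hRf⟩ := Groth.Agent.Helper18.PushTorsor.exists_small_family R hR
  choose s hs using fun i => hsec (f i) (hRf i)
  exact exists_cone a φ hcart b f hf s hs

end Groth.Agent.Helper18.AssocBun
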