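import Mathlib
import Groth.Agent.Lib.Helper18.SymAlg9

set_option autoImplicit false
set_option linter.style.haveILetI false
universe u
open HomogeneousLocalization TensorProduct GradedFunLike

/-!
# Degree-zero localization commutes with base change

For a graded `A`-algebra `S = ⊕ Sₙ` (with `A → S₀`), an `A`-algebra `A'` and `S' = S ⊗_A A'` with
its induced grading, `S_(f) ⊗_A A' ≅ S'_(f)` for homogeneous `f`.
-/

noncomputable section

namespace Groth.Agent.Helper18.AwayBC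

section Basic

variable {A S σ : Type u} [CommRing A] [CommRing S] [Algebra A S] [SetLike σ S]
  [AddSubgroupClass σ S] (𝒜 : ℕ → σ) [GradedRing 𝒜]
  (h0 : ∀ a, algebraMap A S a ∈ 𝒜 0) {d : ℕ} {f : S} (hf : f ∈ 𝒜 d)

/-- the structure map into degree zero -/
def toZero : A →+* 𝒜 0 where
  toFun a := ⟨algebraMap A S a, h0 a⟩
  map_one' := Subtype.ext (map_one _)
  map_mul' a b := Subtype.ext (map_mul _ a b)
  map_zero' := Subtype.ext (map_zero _)
  map_add' a b := Subtype.ext (map_add _ a b)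

/-- the structure map `A → S_(f)` -/
def toAway (f : S) : A →+* Away 𝒜 f :=
  (fromZeroRingHom 𝒜 (Submonoid.powers f)).comp (toZero 𝒜 h0)

theorem val_toAway (f : S) (a : A) :
    (toAway 𝒜 h0 f a).val = Localization.mk (algebraMap A S a) 1 := rfl

/-- the `A`-algebra structure of `S_(f)` -/
@[reducible] def algAway (f : S) : Algebra A (Away 𝒜 f) := (toAway 𝒜 h0 f).toAlgebra

theorem mk_eq_iff_val {n m : ℕ} (x y : S) (hx : x ∈ 𝒜 (n • d)) (hy : y ∈ 𝒜 (m • d)) :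
    Away.mk 𝒜 hf n x hx = Away.mk 𝒜 hf m y hy ↔
      Localization.mk x (⟨f ^ n, n, rfl⟩ : Submonoid.powers f) =
        Localization.mk y (⟨f ^ m, m, rfl⟩ : Submonoid.powers f) := by
  rw [← (HomogeneousLocalization.val_injective (𝒜 := 𝒜) (Submonoid.powers f)).eq_iff,
    Away.val_mk, Away.val_mk]

theorem proj_mem (n : ℕ) (s : S) : GradedRing.proj 𝒜 n s ∈ 𝒜 n := SetLike.coe_mem _

/-- `s ↦ (s)_{N d} / f^N` -/
def lamFun (N : ℕ) (s : S) : Away 𝒜 f :=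
  Away.mk 𝒜 hf N (GradedRing.proj 𝒜 (N • d) s) (proj_mem 𝒜 _ s)

theorem val_lamFun (N : ℕ) (s : S) :
    (lamFun 𝒜 hf N s).val =
      Localization.mk (GradedRing.proj 𝒜 (N • d) s) (⟨f ^ N, N, rfl⟩ : Submonoid.powers f) :=
  Away.val_mk _ _ _ _ _

theorem lamFun_add (N : ℕ) (s t : S) :
    lamFun 𝒜 hf N (s + t) = lamFun 𝒜 hf N s + lamFun 𝒜 hf N t := by
  apply HomogeneousLocalization.val_injective
  rw [HomogeneousLocalization.val_add, val_lamFun, val_lamFun, val_lamFun, map_add,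
    Localization.add_mk_self]

include h0 in
theorem proj_algebraMap_mul (n : ℕ) (a : A) (s : S) :
    GradedRing.proj 𝒜 n (algebraMap A S a * s) = algebraMap A S a * GradedRing.proj 𝒜 n s :=
  DirectSum.coe_decompose_mul_of_left_mem_zero 𝒜 (h0 a)

theorem lamFun_smul (N : ℕ) (a : A) (s : S) :
    lamFun 𝒜 hf N (a • s) = toAway 𝒜 h0 f a * lamFun 𝒜 hf N s := by
  apply HomogeneousLocalization.val_injective
  have e : a • s = algebraMap A S a * s := Algebra.smul_def a s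
  rw [HomogeneousLocalization.val_mul, val_lamFun, val_lamFun, val_toAway, e,
    proj_algebraMap_mul 𝒜 h0, Localization.mk_mul, one_mul]

theorem lamFun_of_mem (N : ℕ) (s : S) (hs : s ∈ 𝒜 (N • d)) :
    lamFun 𝒜 hf N s = Away.mk 𝒜 hf N s hs := by
  apply HomogeneousLocalization.val_injective
  rw [val_lamFun, Away.val_mk]
  congr 1
  exact DirectSum.decompose_of_mem_same 𝒜 hs

theorem lamFun_proj (N : ℕ) (s : S) :
    lamFun 𝒜 hf N (GradedRing.proj 𝒜 (N • d) s) = lamFun 𝒜 hf N s := by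
  apply HomogeneousLocalization.val_injective
  rw [val_lamFun, val_lamFun]
  congr 1
  exact DirectSum.decompose_of_mem_same 𝒜 (SetLike.coe_mem _)

theorem lamFun_pow_mul (N m : ℕ) (s : S) :
    lamFun 𝒜 hf (m + N) (f ^ m * s) = lamFun 𝒜 hf N s := by
  apply HomogeneousLocalization.val_injective
  rw [val_lamFun, val_lamFun]
  have hfm : f ^ m ∈ 𝒜 (m • d) := SetLike.pow_mem_graded m hf
  have h1 : GradedRing.proj 𝒜 ((m + N) • d) (f ^ m * s) =
      f ^ m * GradedRing.proj 𝒜 (N • d) s := by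
    rw [add_smul]
    exact DirectSum.coe_decompose_mul_add_of_left_mem 𝒜 hfm
  rw [h1, Localization.mk_eq_mk_iff, Localization.r_iff_exists]
  refine ⟨1, ?_⟩
  simp only [OneMemClass.coe_one, one_mul]
  rw [pow_add]
  ring

end Basic


section Main

variable {A A' S S' σ τ : Type u} [CommRing A] [CommRing A'] [CommRing S] [CommRing S']
  [Algebra A S] [Algebra A A'] [Algebra A' S'] [Algebra S S'] [Algebra A S']
  [IsScalarTower A S S'] [IsScalarTower A A' S']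
  [SetLike σ S] [AddSubgroupClass σ S] (𝒜 : ℕ → σ) [GradedRing 𝒜]
  [SetLike τ S'] [AddSubgroupClass τ S'] (𝒜' : ℕ → τ) [GradedRing 𝒜']
  (ψ : 𝒜 →+*ᵍ 𝒜') (hψ : ∀ s, ψ s = algebraMap S S' s)
  (h0 : ∀ a, algebraMap A S a ∈ 𝒜 0) (h0' : ∀ a', algebraMap A' S' a' ∈ 𝒜' 0)
  {d : ℕ} {f : S} (hf : f ∈ 𝒜 d)
  [Algebra A (Away 𝒜 f)] (hB : ∀ a, algebraMap A (Away 𝒜 f) a = toAway 𝒜 h0 f a)
  [Algebra A' (Away 𝒜' (ψ f))]
  (hB' : ∀ a', algebraMap A' (Away 𝒜' (ψ f)) a' = toAway 𝒜' h0' (ψ f) a')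
  [Algebra A (Away 𝒜' (ψ f))] [IsScalarTower A A' (Away 𝒜' (ψ f))]

/-- `s ↦ (s)_{N d} / f^N` as an `A`-linear map -/
def lam (N : ℕ) : S →ₗ[A] Away 𝒜 f where
  toFun := lamFun 𝒜 hf N
  map_add' := lamFun_add 𝒜 hf N
  map_smul' a s := by
    rw [lamFun_smul 𝒜 h0 hf, RingHom.id_apply, Algebra.smul_def, hB]

/-- `y ↦ (y)_{N d} / (ψ f)^N` as an `A`-linear map -/
def lam' (N : ℕ) : S' →ₗ[A] Away 𝒜' (ψ f) where
  toFun := lamFun 𝒜' (map_mem ψ hf) N
  map_add' := lamFun_add 𝒜' (map_mem ψ hf) N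
  map_smul' a y := by
    have e1 : a • y = (algebraMap A A' a) • y := (algebraMap_smul A' a y).symm
    have e2 : a • lamFun 𝒜' (map_mem ψ hf) N y =
        (algebraMap A A' a) • lamFun 𝒜' (map_mem ψ hf) N y := (algebraMap_smul A' a _).symm
    rw [RingHom.id_apply, e1, e2, lamFun_smul 𝒜' h0' (map_mem ψ hf), Algebra.smul_def, hB']

omit [Algebra A (Away 𝒜 f)] in
include hf in
theorem toAway_eq_mk (a : A) :
    toAway 𝒜 h0 f a = Away.mk 𝒜 hf 0 (algebraMap A S a) (by simpa using h0 a) := by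
  apply HomogeneousLocalization.val_injective
  rw [val_toAway, Away.val_mk]
  simp [Localization.mk_eq_mk_iff, Localization.r_iff_exists]

include hψ hB hB' hf in
theorem awayMap_algebraMap (a : A) :
    Away.map ψ f (algebraMap A (Away 𝒜 f) a) = algebraMap A (Away 𝒜' (ψ f)) a := by
  rw [IsScalarTower.algebraMap_apply A A' (Away 𝒜' (ψ f)), hB, hB',
    toAway_eq_mk 𝒜 h0 hf, Away.map_mk, toAway_eq_mk 𝒜' h0' (map_mem ψ hf)]
  apply HomogeneousLocalization.val_injective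
  rw [Away.val_mk, Away.val_mk]
  congr 1
  rw [hψ (algebraMap A S a), ← IsScalarTower.algebraMap_apply,
    IsScalarTower.algebraMap_apply A A' S']


/-- `Away.map ψ f` as an `A`-algebra homomorphism -/
def awayMapAlg : Away 𝒜 f →ₐ[A] Away 𝒜' (ψ f) :=
  { Away.map ψ f with commutes' := awayMap_algebraMap 𝒜 𝒜' ψ hψ h0 h0' hf hB hB' }

theorem awayMapAlg_apply (b : Away 𝒜 f) :
    awayMapAlg 𝒜 𝒜' ψ hψ h0 h0' hf hB hB' b = Away.map ψ f b := rfl

/-- the comparison map `S ⊗_A A' → S'` -/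
def Gam : S ⊗[A] A' →ₐ[A] S' :=
  Algebra.TensorProduct.productMap (IsScalarTower.toAlgHom A S S') (IsScalarTower.toAlgHom A A' S')

theorem Gam_tmul (s : S) (a' : A') :
    Gam (A := A) (A' := A') (S := S) (S' := S') (s ⊗ₜ a') =
      algebraMap S S' s * algebraMap A' S' a' := by
  simp [Gam]

/-- the comparison map `S_(f) ⊗_A A' → S'_(ψ f)` -/
def Tht : Away 𝒜 f ⊗[A] A' →ₐ[A] Away 𝒜' (ψ f) :=
  Algebra.TensorProduct.productMap (awayMapAlg 𝒜 𝒜' ψ hψ h0 h0' hf hB hB')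
    (IsScalarTower.toAlgHom A A' (Away 𝒜' (ψ f)))

theorem Tht_tmul (b : Away 𝒜 f) (a' : A') :
    Tht 𝒜 𝒜' ψ hψ h0 h0' hf hB hB' (b ⊗ₜ a') =
      Away.map ψ f b * algebraMap A' (Away 𝒜' (ψ f)) a' := by
  simp [Tht, awayMapAlg_apply]

omit [Algebra A (Away 𝒜 f)] [Algebra S S'] in
theorem awayMap_lamFun (N : ℕ) (s : S) :
    Away.map ψ f (lamFun 𝒜 hf N s) = lamFun 𝒜' (map_mem ψ hf) N (ψ s) := by
  rw [lamFun, Away.map_mk, lamFun]
  congr 1
  exact ψ.map_directSumDecompose 𝒜 𝒜'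

include hψ in
/-- Identity 1 -/
theorem Tht_lam (N : ℕ) (τ : S ⊗[A] A') :
    Tht 𝒜 𝒜' ψ hψ h0 h0' hf hB hB' ((lam 𝒜 h0 hf hB N).rTensor A' τ) =
      lam' (A := A) 𝒜 𝒜' ψ h0' hf hB' N (Gam τ) := by
  induction τ using TensorProduct.induction_on with
  | zero => simp
  | add x y hx hy => rw [map_add, map_add, map_add, map_add, hx, hy]
  | tmul s a' =>
    rw [LinearMap.rTensor_tmul, Tht_tmul, Gam_tmul]
    change Away.map ψ f (lamFun 𝒜 hf N s) * _ = lamFun 𝒜' (map_mem ψ hf) N _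
    have e : algebraMap S S' s * algebraMap A' S' a' = a' • algebraMap S S' s := by
      rw [Algebra.smul_def, mul_comm]
    rw [e, lamFun_smul 𝒜' h0' (map_mem ψ hf), awayMap_lamFun, hψ s, hB', mul_comm]


/-- the projection to degree `n` as an `A`-linear map -/
def projL (n : ℕ) : S →ₗ[A] S where
  toFun := GradedRing.proj 𝒜 n
  map_add' := map_add _
  map_smul' a s := by
    have e : a • s = algebraMap A S a * s := Algebra.smul_def a s
    rw [e, proj_algebraMap_mul 𝒜 h0, RingHom.id_apply, Algebra.smul_def]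

include hψ h0' in
omit [Algebra A (Away 𝒜 f)] [Algebra A' (Away 𝒜' (ψ f))] [Algebra A (Away 𝒜' (ψ f))]
  [IsScalarTower A A' (Away 𝒜' (ψ f))] in
/-- Identity 3 -/
theorem Gam_projL (n : ℕ) (τ : S ⊗[A] A') :
    Gam ((projL 𝒜 h0 n).rTensor A' τ) = GradedRing.proj 𝒜' n (Gam (A := A) τ) := by
  induction τ using TensorProduct.induction_on with
  | zero => simp
  | add x y hx hy => rw [map_add, map_add, map_add, map_add, hx, hy]
  | tmul s a' =>
    rw [LinearMap.rTensor_tmul, Gam_tmul, Gam_tmul]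
    change algebraMap S S' (GradedRing.proj 𝒜 n s) * _ = _
    rw [mul_comm (algebraMap S S' s), proj_algebraMap_mul 𝒜' h0', ← hψ, ← hψ, mul_comm]
    congr 1
    exact ψ.map_directSumDecompose 𝒜 𝒜'

/-- Identity 4 -/
theorem lam_projL (N : ℕ) (τ : S ⊗[A] A') :
    (lam 𝒜 h0 hf hB N).rTensor A' ((projL 𝒜 h0 (N • d)).rTensor A' τ) =
      (lam 𝒜 h0 hf hB N).rTensor A' τ := by
  rw [← LinearMap.rTensor_comp_apply]
  congr 2
  exact LinearMap.ext fun s => lamFun_proj 𝒜 hf N s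

/-- Identity 5 -/
theorem lam_pow_mul (N m : ℕ) (τ : S ⊗[A] A') :
    (lam 𝒜 h0 hf hB (m + N)).rTensor A' (((f ^ m) ⊗ₜ[A] (1 : A')) * τ) =
      (lam 𝒜 h0 hf hB N).rTensor A' τ := by
  induction τ using TensorProduct.induction_on with
  | zero => simp
  | add x y hx hy => rw [mul_add, map_add, map_add, hx, hy]
  | tmul s a' =>
    rw [Algebra.TensorProduct.tmul_mul_tmul, one_mul, LinearMap.rTensor_tmul,
      LinearMap.rTensor_tmul]
    congr 1
    exact lamFun_pow_mul 𝒜 hf N m s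

/-- Claim A: every element of `S_(f) ⊗ A'` comes from `S ⊗ A'` via some `lam N`. -/
theorem exists_lam (t : Away 𝒜 f ⊗[A] A') :
    ∃ (N : ℕ) (τ : S ⊗[A] A'), t = (lam 𝒜 h0 hf hB N).rTensor A' τ := by
  induction t using TensorProduct.induction_on with
  | zero => exact ⟨0, 0, by simp⟩
  | tmul b a' =>
    obtain ⟨N, s, hs, rfl⟩ := Away.mk_surjective 𝒜 hf b
    refine ⟨N, s ⊗ₜ a', ?_⟩
    rw [LinearMap.rTensor_tmul]
    congr 1
    exact (lamFun_of_mem 𝒜 hf N s hs).symm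
  | add x y hx hy =>
    obtain ⟨N₁, τ₁, rfl⟩ := hx
    obtain ⟨N₂, τ₂, rfl⟩ := hy
    refine ⟨N₂ + N₁, ((f ^ N₂) ⊗ₜ[A] (1 : A')) * τ₁ + ((f ^ N₁) ⊗ₜ[A] (1 : A')) * τ₂, ?_⟩
    rw [map_add, lam_pow_mul]
    congr 1
    have e : N₂ + N₁ = N₁ + N₂ := add_comm _ _
    rw [e, lam_pow_mul]

include hψ in
theorem surjective_Tht (hΓ : Function.Surjective (Gam (A := A) (A' := A') (S := S) (S' := S'))) :
    Function.Surjective (Tht 𝒜 𝒜' ψ hψ h0 h0' hf hB hB') := by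
  intro b'
  obtain ⟨N, y, hy, rfl⟩ := Away.mk_surjective 𝒜' (map_mem ψ hf) b'
  obtain ⟨τ, rfl⟩ := hΓ y
  refine ⟨(lam 𝒜 h0 hf hB N).rTensor A' τ, ?_⟩
  rw [Tht_lam]
  exact lamFun_of_mem 𝒜' (map_mem ψ hf) N _ hy

include hψ in
theorem injective_Tht (hΓ : Function.Injective (Gam (A := A) (A' := A') (S := S) (S' := S'))) :
    Function.Injective (Tht 𝒜 𝒜' ψ hψ h0 h0' hf hB hB') := by
  rw [injective_iff_map_eq_zero]
  intro t ht
  obtain ⟨N, τ, rfl⟩ := exists_lam 𝒜 h0 hf hB t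
  rw [← lam_projL] at ht ⊢
  set τ' := (projL 𝒜 h0 (N • d)).rTensor A' τ with hτ'
  have hmem : Gam (A := A) τ' ∈ 𝒜' (N • d) := by
    rw [hτ', Gam_projL 𝒜 𝒜' ψ hψ h0 h0']
    exact proj_mem 𝒜' _ _
  rw [Tht_lam] at ht
  have ht' : lamFun 𝒜' (map_mem ψ hf) N (Gam (A := A) τ') = 0 := ht
  rw [lamFun_of_mem 𝒜' (map_mem ψ hf) N _ hmem] at ht'
  obtain ⟨l, hl⟩ := (Groth.Agent.Helper18.SymAlg.away_mk_eq_zero_iff (map_mem ψ hf) N _ hmem).mp ht'
  have hz : ((f ^ l) ⊗ₜ[A] (1 : A')) * τ' = 0 := by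
    apply hΓ
    rw [map_mul, Gam_tmul, map_one, mul_one, map_zero, map_pow, ← hψ]
    exact hl
  rw [← lam_pow_mul 𝒜 h0 hf hB N l, hz, map_zero]

include hψ in
theorem bijective_Tht (hΓ : Function.Bijective (Gam (A := A) (A' := A') (S := S) (S' := S'))) :
    Function.Bijective (Tht 𝒜 𝒜' ψ hψ h0 h0' hf hB hB') :=
  ⟨injective_Tht 𝒜 𝒜' ψ hψ h0 h0' hf hB hB' hΓ.1, surjective_Tht 𝒜 𝒜' ψ hψ h0 h0' hf hB hB' hΓ.2⟩


include hψ h0 h0' in
omit [Algebra A (Away 𝒜 f)] [Algebra A' (Away 𝒜' (ψ f))] [Algebra A (Away 𝒜' (ψ f))]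
  [IsScalarTower A A' (Away 𝒜' (ψ f))] in
/-- if `S ⊗ A' → S'` is surjective, a homogeneous element of degree `e` outside an ideal `I`
forces some `ψ s`, `s ∈ S_e`, outside `I`. -/
theorem exists_not_mem_of_surjective
    (hΓ : Function.Surjective (Gam (A := A) (A' := A') (S := S) (S' := S')))
    (I : Ideal S') {e : ℕ} {x' : S'} (hx' : x' ∈ 𝒜' e) (hxI : x' ∉ I) :
    ∃ s ∈ 𝒜 e, ψ s ∉ I := by
  by_contra hcon
  push Not at hcon
  apply hxI
  obtain ⟨τ, rfl⟩ := hΓ x'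
  have h1 : Gam (A := A) τ = GradedRing.proj 𝒜' e (Gam (A := A) τ) :=
    (DirectSum.decompose_of_mem_same 𝒜' hx').symm
  rw [h1, ← Gam_projL 𝒜 𝒜' ψ hψ h0 h0']
  clear h1 hx' hxI
  induction τ using TensorProduct.induction_on with
  | zero => simp
  | add x y hx hy => rw [map_add, map_add]; exact I.add_mem hx hy
  | tmul s a' =>
    rw [LinearMap.rTensor_tmul, Gam_tmul]
    apply I.mul_mem_right
    rw [← hψ]
    exact hcon _ (proj_mem 𝒜 e s)

end Main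

section Cat

open CategoryTheory CategoryTheory.Limits

/-- The structure map `A → S_(f)` for a ring homomorphism `σ : A → S` landing in degree zero. -/
def toAwayHom {A S σ' : Type u} [CommRing A] [CommRing S] (σ : A →+* S)
    [SetLike σ' S] [AddSubgroupClass σ' S] (𝒜 : ℕ → σ')
    [GradedRing 𝒜] (h0 : ∀ a, σ a ∈ 𝒜 0) (f : S) : A →+* Away 𝒜 f :=
  letI := σ.toAlgebra
  toAway 𝒜 h0 f

theorem isPushout_away {R R' S S' : CommRingCat.{u}} (φ : R ⟶ R') (σ : R ⟶ S) (σ' : R' ⟶ S')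
    (υ : S ⟶ S') (hpo : IsPushout φ σ σ' υ) {σ₁ σ₂ : Type u}
    [SetLike σ₁ S] [AddSubgroupClass σ₁ S] [SetLike σ₂ S'] [AddSubgroupClass σ₂ S']
    (𝒜 : ℕ → σ₁) [GradedRing 𝒜] (𝒜' : ℕ → σ₂) [GradedRing 𝒜']
    (ψ : 𝒜 →+*ᵍ 𝒜') (hψ : ∀ s, ψ s = υ.hom s)
    (h0 : ∀ a, σ.hom a ∈ 𝒜 0) (h0' : ∀ a', σ'.hom a' ∈ 𝒜' 0) {d : ℕ} {f : S} (hf : f ∈ 𝒜 d) :
    IsPushout (CommRingCat.ofHom (toAwayHom σ.hom 𝒜 h0 f)) φ
      (CommRingCat.ofHom (Away.map ψ f)) (CommRingCat.ofHom (toAwayHom σ'.hom 𝒜' h0' (ψ f))) := by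
  letI := φ.hom.toAlgebra
  letI := σ.hom.toAlgebra
  letI := σ'.hom.toAlgebra
  letI := υ.hom.toAlgebra
  letI : Algebra R S' := (φ ≫ σ').hom.toAlgebra
  haveI : IsScalarTower R R' S' := .of_algebraMap_eq' rfl
  haveI : IsScalarTower R S S' := .of_algebraMap_eq' (congrArg CommRingCat.Hom.hom hpo.w)
  have hP : Algebra.IsPushout R R' S S' := CommRingCat.isPushout_iff_isPushout.mp hpo
  have hP' : Algebra.IsPushout R S R' S' := hP.symm
  have hΓ : Function.Bijective (Gam (A := R) (A' := R') (S := S) (S' := S')) := by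
    have e : ⇑(Gam (A := R) (A' := R') (S := S) (S' := S')) =
        ⇑(Algebra.IsPushout.equiv R S R' S') := by
      funext x
      induction x using TensorProduct.induction_on with
      | zero => simp
      | add x y hx hy => rw [map_add, map_add, hx, hy]
      | tmul s a' => rw [Gam_tmul, Algebra.IsPushout.equiv_tmul]
    rw [e]
    exact (Algebra.IsPushout.equiv R S R' S').bijective
  letI : Algebra R (Away 𝒜 f) := (toAway 𝒜 h0 f).toAlgebra
  letI : Algebra R' (Away 𝒜' (ψ f)) := (toAway 𝒜' h0' (ψ f)).toAlgebra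
  letI : Algebra R (Away 𝒜' (ψ f)) := ((toAway 𝒜' h0' (ψ f)).comp φ.hom).toAlgebra
  haveI : IsScalarTower R R' (Away 𝒜' (ψ f)) := .of_algebraMap_eq' rfl
  have hbij := bijective_Tht 𝒜 𝒜' ψ hψ h0 h0' hf (fun _ => rfl) (fun _ => rfl) hΓ
  let θ : Away 𝒜 f ⊗[R] R' ≃+* Away 𝒜' (ψ f) :=
    RingEquiv.ofBijective (Tht 𝒜 𝒜' ψ hψ h0 h0' hf (fun _ => rfl) (fun _ => rfl)) hbij
  refine (CommRingCat.isPushout_tensorProduct R (Away 𝒜 f) R').of_iso (Iso.refl _) (Iso.refl _)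
    (Iso.refl _) θ.toCommRingCatIso ?_ ?_ ?_ ?_
  · rfl
  · rfl
  · refine CommRingCat.hom_ext (RingHom.ext fun b => ?_)
    change Tht 𝒜 𝒜' ψ hψ h0 h0' hf (fun _ => rfl) (fun _ => rfl) (b ⊗ₜ 1) = Away.map ψ f b
    rw [Tht_tmul, map_one, mul_one]
  · refine CommRingCat.hom_ext (RingHom.ext fun a' => ?_)
    change Tht 𝒜 𝒜' ψ hψ h0 h0' hf (fun _ => rfl) (fun _ => rfl) (1 ⊗ₜ a') = _
    rw [Tht_tmul, map_one, one_mul]
    rfl


theorem exists_not_mem_of_isPushout {R R' S S' : CommRingCat.{u}} (φ : R ⟶ R') (σ : R ⟶ S)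
    (σ' : R' ⟶ S') (υ : S ⟶ S') (hpo : IsPushout φ σ σ' υ) {σ₁ σ₂ : Type u}
    [SetLike σ₁ S] [AddSubgroupClass σ₁ S] [SetLike σ₂ S'] [AddSubgroupClass σ₂ S']
    (𝒜 : ℕ → σ₁) [GradedRing 𝒜] (𝒜' : ℕ → σ₂) [GradedRing 𝒜']
    (ψ : 𝒜 →+*ᵍ 𝒜') (hψ : ∀ s, ψ s = υ.hom s)
    (h0 : ∀ a, σ.hom a ∈ 𝒜 0) (h0' : ∀ a', σ'.hom a' ∈ 𝒜' 0)
    (I : Ideal S') {e : ℕ} {x' : S'} (hx' : x' ∈ 𝒜' e) (hxI : x' ∉ I) :
    ∃ s ∈ 𝒜 e, ψ s ∉ I := by
  letI := φ.hom.toAlgebra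
  letI := σ.hom.toAlgebra
  letI := σ'.hom.toAlgebra
  letI := υ.hom.toAlgebra
  letI : Algebra R S' := (φ ≫ σ').hom.toAlgebra
  haveI : IsScalarTower R R' S' := .of_algebraMap_eq' rfl
  haveI : IsScalarTower R S S' := .of_algebraMap_eq' (congrArg CommRingCat.Hom.hom hpo.w)
  have hP : Algebra.IsPushout R R' S S' := CommRingCat.isPushout_iff_isPushout.mp hpo
  have hP' : Algebra.IsPushout R S R' S' := hP.symm
  have hΓ : Function.Surjective (Gam (A := R) (A' := R') (S := S) (S' := S')) := by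
    have e : ⇑(Gam (A := R) (A' := R') (S := S) (S' := S')) =
        ⇑(Algebra.IsPushout.equiv R S R' S') := by
      funext x
      induction x using TensorProduct.induction_on with
      | zero => simp
      | add x y hx hy => rw [map_add, map_add, hx, hy]
      | tmul s a' => rw [Gam_tmul, Algebra.IsPushout.equiv_tmul]
    rw [e]
    exact (Algebra.IsPushout.equiv R S R' S').surjective
  exact exists_not_mem_of_surjective 𝒜 𝒜' ψ hψ h0 h0' hΓ I hx' hxI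

end Cat

end Groth.Agent.Helper18.AwayBC
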