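import Groth.Prelude.Def_EtGlue
import Groth.Agent.Lib.Helper3.BL3
import Mathlib

set_option autoImplicit false
universe u
open TensorProduct

namespace Groth.Agent.Helper18.BLFinite

variable {R R' : Type u} [CommRing R] [CommRing R'] [Algebra R R'] {f : R}
  (A : Type u) [CommRing A] [Algebra R A]

/-- base change of the quotient condition -/
theorem quotPowBijective_baseChange (hq : EtGlue.QuotPowBijective R R' f) :
    EtGlue.QuotPowBijective A (A ⊗[R] R') (algebraMap R A f) := by
  intro n hn
  have hmap : Ideal.map (algebraMap A (A ⊗[R] R')) (Ideal.span {algebraMap R A f ^ n})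
      = Ideal.span {(algebraMap A (A ⊗[R] R')) (algebraMap R A f ^ n)} := by
    rw [Ideal.map_span, Set.image_singleton]
  have hsmul : ∀ y : A ⊗[R] R', (algebraMap A (A ⊗[R] R')) (algebraMap R A f ^ n) * y = f ^ n • y := by
    intro y
    rw [← map_pow, ← IsScalarTower.algebraMap_apply, ← Algebra.smul_def]
  constructor
  · rw [injective_iff_map_eq_zero]
    intro a ha
    obtain ⟨a, rfl⟩ := Ideal.Quotient.mk_surjective a
    rw [Ideal.quotientMap_mk, Ideal.Quotient.eq_zero_iff_mem, hmap, Ideal.mem_span_singleton'] at ha
    obtain ⟨y, hy⟩ := ha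
    rw [mul_comm, hsmul] at hy
    -- transport to R' ⊗ A
    have h1 : (1 : R') ⊗ₜ[R] a = f ^ n • (TensorProduct.comm R A R' y) := by
      rw [← map_smul, hy]
      simp [Algebra.TensorProduct.algebraMap_apply]
    obtain ⟨a₀, ha₀⟩ := Groth.Agent.Helper3.BL.dvd_of_tmul_dvd hq n a _ h1
    rw [Ideal.Quotient.eq_zero_iff_mem, Ideal.mem_span_singleton']
    refine ⟨a₀, ?_⟩
    rw [ha₀, Algebra.smul_def, map_pow, mul_comm]
  · intro x
    obtain ⟨x, rfl⟩ := Ideal.Quotient.mk_surjective x
    obtain ⟨a, y, hxy⟩ := Groth.Agent.Helper3.BL.tensor_decomp A hq n (TensorProduct.comm R A R' x)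
    refine ⟨Ideal.Quotient.mk _ a, ?_⟩
    rw [Ideal.quotientMap_mk, Ideal.Quotient.eq, hmap, Ideal.mem_span_singleton']
    refine ⟨-(TensorProduct.comm R A R').symm y, ?_⟩
    rw [mul_comm, hsmul]
    have h2 := congrArg (TensorProduct.comm R A R').symm hxy
    rw [LinearEquiv.symm_apply_apply, map_add, map_smul] at h2
    rw [h2]
    simp [Algebra.TensorProduct.algebraMap_apply]

end Groth.Agent.Helper18.BLFinite

namespace Groth.Agent.Helper18.BLFinite

variable {R R' : Type u} [CommRing R] [CommRing R'] [Algebra R R'] {f : R}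
  {A B : Type u} [CommRing A] [Algebra R A] [CommRing B] [Algebra R B]

/-- transfer of finiteness for the tensor product -/
theorem finite_tensor_of_map_finite (φ : A →ₐ[R] B)
    (hψ : (Algebra.TensorProduct.map (AlgHom.id R R') φ).toRingHom.Finite) :
    letI := φ.toRingHom.toAlgebra
    Module.Finite (A ⊗[R] R') ((A ⊗[R] R') ⊗[A] B) := by
  letI algAB : Algebra A B := φ.toRingHom.toAlgebra
  haveI : IsScalarTower R A B := IsScalarTower.of_algebraMap_eq' φ.comp_algebraMap.symm
  have hφ : ∀ a : A, algebraMap A B a = φ a := fun _ => rfl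
  -- module structure of R' ⊗ A on R' ⊗ B
  letI algψ : Algebra (R' ⊗[R] A) (R' ⊗[R] B) :=
    (Algebra.TensorProduct.map (AlgHom.id R R') φ).toRingHom.toAlgebra
  have hfin : Module.Finite (R' ⊗[R] A) (R' ⊗[R] B) := hψ
  have hsm : ∀ (x : R' ⊗[R] A) (t : R' ⊗[R] B),
      x • t = Algebra.TensorProduct.map (AlgHom.id R R') φ x * t := fun _ _ => rfl
  -- the map
  let g0 : R' ⊗[R] B →ₗ[R] (A ⊗[R] R') ⊗[A] B :=
    TensorProduct.lift
      { toFun := fun r' =>
          { toFun := fun b => ((1 : A) ⊗ₜ[R] r') ⊗ₜ[A] b
            map_add' := fun b b' => TensorProduct.tmul_add _ _ _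
            map_smul' := fun c b => by
              simp only [RingHom.id_apply]
              rw [TensorProduct.tmul_smul] }
        map_add' := fun r' s' => by
          ext b
          simp only [LinearMap.coe_mk, AddHom.coe_mk, LinearMap.add_apply]
          rw [TensorProduct.tmul_add, TensorProduct.add_tmul]
        map_smul' := fun c r' => by
          ext b
          simp only [LinearMap.coe_mk, AddHom.coe_mk, LinearMap.smul_apply, RingHom.id_apply]
          rw [TensorProduct.tmul_smul]
          exact (TensorProduct.smul_tmul' c ((1 : A) ⊗ₜ[R] r') b).symm }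
  have hg0 : ∀ (r' : R') (b : B), g0 (r' ⊗ₜ[R] b) = ((1 : A) ⊗ₜ[R] r') ⊗ₜ[A] b := fun _ _ => rfl
  let σ : (R' ⊗[R] A) →+* (A ⊗[R] R') := (Algebra.TensorProduct.comm R R' A).toRingEquiv.toRingHom
  have hσ : ∀ (r' : R') (a : A), σ (r' ⊗ₜ[R] a) = a ⊗ₜ[R] r' := fun _ _ => rfl
  haveI : RingHomSurjective σ := ⟨(Algebra.TensorProduct.comm R R' A).surjective⟩
  have hsemi : ∀ (x : R' ⊗[R] A) (t : R' ⊗[R] B), g0 (x • t) = σ x • g0 t := by
    intro x t
    induction x using TensorProduct.induction_on with
    | zero => simp
    | add x y hx hy => rw [add_smul, map_add, hx, hy, map_add, add_smul]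
    | tmul r' a =>
      induction t using TensorProduct.induction_on with
      | zero => simp
      | add t t' ht ht' => rw [smul_add, map_add, ht, ht', map_add, smul_add]
      | tmul s' b =>
        rw [hsm, Algebra.TensorProduct.map_tmul, Algebra.TensorProduct.tmul_mul_tmul, hg0, hg0, hσ,
          TensorProduct.smul_tmul', smul_eq_mul, Algebra.TensorProduct.tmul_mul_tmul, mul_one]
        simp only [AlgHom.coe_id, id_eq]
        rw [← hφ, ← Algebra.smul_def, TensorProduct.tmul_smul, TensorProduct.smul_tmul',
          TensorProduct.smul_tmul', smul_eq_mul, mul_one]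
  let g : R' ⊗[R] B →ₛₗ[σ] (A ⊗[R] R') ⊗[A] B :=
    { toFun := g0
      map_add' := g0.map_add
      map_smul' := hsemi }
  have hsurj : Function.Surjective g := by
    intro z
    induction z using TensorProduct.induction_on with
    | zero => exact ⟨0, map_zero _⟩
    | add z w hz hw =>
      obtain ⟨x, rfl⟩ := hz
      obtain ⟨y, rfl⟩ := hw
      exact ⟨x + y, map_add _ _ _⟩
    | tmul x b =>
      induction x using TensorProduct.induction_on with
      | zero => exact ⟨0, by simp⟩
      | add x y hx hy =>
        obtain ⟨x', hx'⟩ := hx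
        obtain ⟨y', hy'⟩ := hy
        exact ⟨x' + y', by rw [map_add, hx', hy', TensorProduct.add_tmul]⟩
      | tmul a r' =>
        refine ⟨r' ⊗ₜ[R] (a • b), ?_⟩
        change g0 _ = _
        rw [hg0, TensorProduct.tmul_smul, TensorProduct.smul_tmul', TensorProduct.smul_tmul',
          smul_eq_mul, mul_one]
  exact Module.Finite.of_surjective g hsurj

end Groth.Agent.Helper18.BLFinite

namespace Groth.Agent.Helper18.BLFinite

variable {A B : Type u} [CommRing A] [CommRing B]

theorem finite_localizedModule_of_awayMap_finite (φ : A →+* B) (a : A)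
    (h : (Localization.awayMap φ a).Finite) :
    letI := φ.toAlgebra
    Module.Finite (Localization.Away a) (LocalizedModule (Submonoid.powers a) B) := by
  letI algAB : Algebra A B := φ.toAlgebra
  haveI : IsScalarTower A B (Localization.Away (φ a)) := inferInstance
  have hsub : Algebra.algebraMapSubmonoid B (Submonoid.powers a) = Submonoid.powers (φ a) :=
    Submonoid.map_powers _ _
  haveI : IsLocalization (Algebra.algebraMapSubmonoid B (Submonoid.powers a))
      (Localization.Away (φ a)) := by
    rw [hsub]; infer_instance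
  haveI hloc : IsLocalizedModule (Submonoid.powers a)
      (IsScalarTower.toAlgHom A B (Localization.Away (φ a))).toLinearMap :=
    isLocalizedModule_iff_isLocalization.mpr inferInstance
  let e : LocalizedModule (Submonoid.powers a) B ≃ₗ[A] Localization.Away (φ a) :=
    IsLocalizedModule.iso (Submonoid.powers a)
      (IsScalarTower.toAlgHom A B (Localization.Away (φ a))).toLinearMap
  letI algf : Algebra (Localization.Away a) (Localization.Away (φ a)) :=
    (Localization.awayMap φ a).toAlgebra
  haveI : IsScalarTower A (Localization.Away a) (Localization.Away (φ a)) := by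
    apply IsScalarTower.of_algebraMap_eq'
    change (algebraMap B (Localization.Away (φ a))).comp φ
      = (Localization.awayMap φ a).comp (algebraMap A (Localization.Away a))
    simp only [Localization.awayMap, IsLocalization.Away.map]
    rw [IsLocalization.map_comp]
  haveI hfin : Module.Finite (Localization.Away a) (Localization.Away (φ a)) := h
  exact Module.Finite.of_surjective
    (e.symm.toLinearMap.extendScalarsOfIsLocalization (Submonoid.powers a) (Localization.Away a))
    e.symm.surjective

end Groth.Agent.Helper18.BLFinite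

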