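import Groth.Agent.Lib.Helper18.DescHomK
import Groth.Agent.Lib.Helper18.QSh2
import Groth.Agent.Lib.Helper18.GeomQuot
import Groth.Agent.Lib.Helper18.TorsComp
import Groth.Agent.Lib.Helper15.AlgSpDescent
import Groth.Prelude.Def_ChGrp

/-!
# Balanced products: points calculus and fixed points (helper18)
-/

set_option autoImplicit false
set_option linter.unusedSectionVars false

universe u

open CategoryTheory CategoryTheory.Limits MonoidalCategory CartesianMonoidalCategory MonObj GrpObj AlgebraicGeometry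

namespace Groth.Agent.Helper18.BalFix

open Groth.Agent.Helper18.FppfDescHom

section API

variable {S : Scheme.{u}} {Q G X Y : Over S} [GrpObj Q] [GrpObj G] {K : Precoverage Scheme.{u}}
  {i : G ⟶ Q} [IsMonHom i] {a : AlgGrp.Action G X} {aY : AlgGrp.Action Q Y} {j : Q ⊗ X ⟶ Y}

theorem j_equiv (hY : ChGrp.IsBalProd K i a aY j) {T : Over S} (q' q : T ⟶ Q) (x : T ⟶ X) :
    lift (q' * q) x ≫ j = lift q' (lift q x ≫ j) ≫ aY.act := by
  have h1 := hY.1
  have h2 : lift q' (lift q x) ≫ ((NonAbH1.trivialAction Q).prod (AlgGrp.Action.trivial Q X)).act ≫ j =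
      lift q' (lift q x) ≫ (Q ◁ j) ≫ aY.act := by rw [h1]
  rw [← Category.assoc, AlgGrp.Action.lift_prod_act, AlgGrp.Action.lift_trivial_act, ← Category.assoc,
    lift_whiskerLeft] at h2
  rw [← h2]
  congr 2

theorem j_inv (hY : ChGrp.IsBalProd K i a aY j) {T : Over S} (g : T ⟶ G) (q : T ⟶ Q) (x : T ⟶ X) :
    lift (q * (g ≫ i)⁻¹) (lift g x ≫ a.act) ≫ j = lift q x ≫ j := by
  have h1 := hY.2.1.w
  have h2 := congrArg (fun k => lift g (lift q x) ≫ k) h1
  simp only [← Category.assoc, lift_snd] at h2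
  rw [ChGrp.lift_twist_act] at h2
  exact h2

theorem j_rel (hY : ChGrp.IsBalProd K i a aY j) {T : Over S} (q₁ q₂ : T ⟶ Q) (x₁ x₂ : T ⟶ X)
    (h : lift q₁ x₁ ≫ j = lift q₂ x₂ ≫ j) :
    ∃ g : T ⟶ G, q₁ = q₂ * (g ≫ i)⁻¹ ∧ x₁ = lift g x₂ ≫ a.act := by
  obtain ⟨l, hl1, hl2⟩ : ∃ l : T ⟶ G ⊗ (Q ⊗ X), l ≫ (ChGrp.twist i a).act = lift q₁ x₁ ∧
      l ≫ snd G (Q ⊗ X) = lift q₂ x₂ :=
    ⟨hY.2.1.lift _ _ h, hY.2.1.lift_fst _ _ h, hY.2.1.lift_snd _ _ h⟩
  have hl : l = lift (l ≫ fst _ _) (lift q₂ x₂) := by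
    apply CartesianMonoidalCategory.hom_ext
    · simp
    · simp [hl2]
  rw [hl, ChGrp.lift_twist_act] at hl1
  refine ⟨l ≫ fst _ _, ?_, ?_⟩
  · have := congrArg (fun k => k ≫ fst Q X) hl1
    simpa using this.symm
  · have := congrArg (fun k => k ≫ snd Q X) hl1
    simpa using this.symm

theorem j_sec (hY : ChGrp.IsBalProd K i a aY j) : secSieve j ∈ QuotSh.J K S Y :=
  DescHomK.secSieve_mem_of_loc K j hY.2.2

end API


section Sheaf

variable {S : Scheme.{u}} (K : Precoverage Scheme.{u}) [(QuotSh.J K S).Subcanonical]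

/-- representables are separated -/
theorem rep_sep {T W : Over S} (R : Sieve T) (hR : R ∈ QuotSh.J K S T) (f f' : T ⟶ W)
    (h : ∀ ⦃V : Over S⦄ (t : V ⟶ T), R t → t ≫ f = t ≫ f') : f = f' := by
  have hs := ((GrothendieckTopology.Subcanonical.isSheaf_of_isRepresentable (J := QuotSh.J K S)
    (yoneda.obj W)) R hR).isSeparatedFor
  exact hs.ext fun V t ht => h t ht

/-- a point which locally lifts along a monomorphism lifts -/
theorem rep_glue_mono {T Y' Y : Over S} (m : Y' ⟶ Y) [Mono m] (y : T ⟶ Y) (R : Sieve T)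
    (hR : R ∈ QuotSh.J K S T)
    (h : ∀ ⦃V : Over S⦄ (t : V ⟶ T), R t → ∃ y' : V ⟶ Y', y' ≫ m = t ≫ y) : ∃ y' : T ⟶ Y', y' ≫ m = y := by
  have hsh := (GrothendieckTopology.Subcanonical.isSheaf_of_isRepresentable (J := QuotSh.J K S)
    (yoneda.obj Y')) R hR
  choose f hf using h
  let x : Presieve.FamilyOfElements (yoneda.obj Y') R.arrows := fun V t ht => f t ht
  have hx : x.Compatible := by
    intro V₁ V₂ W g₁ g₂ t₁ t₂ h₁ h₂ e
    change g₁ ≫ f t₁ h₁ = g₂ ≫ f t₂ h₂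
    rw [← cancel_mono m, Category.assoc, Category.assoc, hf, hf, ← Category.assoc, ← Category.assoc, e]
  refine ⟨hsh.amalgamate x hx, ?_⟩
  refine rep_sep K R hR _ _ fun V t ht => ?_
  have h1 : t ≫ hsh.amalgamate x hx = f t ht := hsh.valid_glue hx t ht
  rw [← Category.assoc, h1, hf]

end Sheaf


section Fix

variable {S : Scheme.{u}} {Q G X Xh Y Y' : Over S} [GrpObj Q] [GrpObj G]
  (K : Precoverage Scheme.{u}) [(QuotSh.J K S).Subcanonical]
  (i : G ⟶ Q) [IsMonHom i] [Mono i] (h : 𝟙_ (Over S) ⟶ G)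
  (hcent : ∀ (T : Over S) (q : T ⟶ Q), q * (toUnit T ≫ h ≫ i) = (toUnit T ≫ h ≫ i) * q)
  (a : AlgGrp.Action G X) (incl : Xh ⟶ X) [Mono incl]
  (hXh : ∀ (T : Over S) (x : T ⟶ X), (∃ y : T ⟶ Xh, y ≫ incl = x) ↔ lift (toUnit T ≫ h) x ≫ a.act = x)
  (aXh : AlgGrp.Action G Xh) (hincl : AlgGrp.Action.IsEquivariant aXh a incl)
  (aY : AlgGrp.Action Q Y) (j : Q ⊗ X ⟶ Y) (hY : ChGrp.IsBalProd K i a aY j)
  (aY' : AlgGrp.Action Q Y') (j' : Q ⊗ Xh ⟶ Y') (hY' : ChGrp.IsBalProd K i aXh aY' j')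
  (m : Y' ⟶ Y) (hm : j' ≫ m = (Q ◁ incl) ≫ j)

include hincl in
theorem incl_act {T : Over S} (g : T ⟶ G) (x : T ⟶ Xh) :
    (lift g x ≫ aXh.act) ≫ incl = lift g (x ≫ incl) ≫ a.act := by
  have h1 : aXh.act ≫ incl = (G ◁ incl) ≫ a.act := hincl
  rw [Category.assoc, h1, ← Category.assoc, lift_whiskerLeft]

include hm in
theorem jm {T : Over S} (q : T ⟶ Q) (x : T ⟶ Xh) :
    (lift q x ≫ j') ≫ m = lift q (x ≫ incl) ≫ j := by
  rw [Category.assoc, hm, ← Category.assoc, lift_whiskerLeft]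

include hcent hY in
/-- `h • j(q, x) = j(q, h • x)` -/
theorem h_act_j {T : Over S} (q : T ⟶ Q) (x : T ⟶ X) :
    lift (toUnit T ≫ h ≫ i) (lift q x ≫ j) ≫ aY.act = lift q (lift (toUnit T ≫ h) x ≫ a.act) ≫ j := by
  rw [← j_equiv hY, ← hcent]
  have h1 := j_inv hY (toUnit T ≫ h) (q * (toUnit T ≫ h ≫ i)) x
  rw [← h1]
  congr 2
  rw [Category.assoc, mul_inv_cancel_right]

theorem h_act_nat {T V : Over S} (t : V ⟶ T) (y : T ⟶ Y) :
    t ≫ lift (toUnit T ≫ h ≫ i) y ≫ aY.act = lift (toUnit V ≫ h ≫ i) (t ≫ y) ≫ aY.act := by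
  rw [← Category.assoc, comp_lift]
  congr 2
  rw [← Category.assoc]
  congr 1
  exact toUnit_unique _ _

include hincl hm hY hY' in
theorem mono_m : Mono m := by
  refine ⟨fun {T} y₁ y₂ h12 => ?_⟩
  have hR : (secSieve j').pullback y₁ ⊓ (secSieve j').pullback y₂ ∈ QuotSh.J K S T :=
    (QuotSh.J K S).intersection_covering ((QuotSh.J K S).pullback_stable y₁ (j_sec hY'))
      ((QuotSh.J K S).pullback_stable y₂ (j_sec hY'))
  refine rep_sep K _ hR _ _ ?_
  rintro V t ⟨⟨s₁, hs₁⟩, ⟨s₂, hs₂⟩⟩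
  have e₁ : s₁ = lift (s₁ ≫ fst Q Xh) (s₁ ≫ snd Q Xh) := by
    apply CartesianMonoidalCategory.hom_ext <;> simp
  have e₂ : s₂ = lift (s₂ ≫ fst Q Xh) (s₂ ≫ snd Q Xh) := by
    apply CartesianMonoidalCategory.hom_ext <;> simp
  have hrel : lift (s₁ ≫ fst Q Xh) ((s₁ ≫ snd Q Xh) ≫ incl) ≫ j =
      lift (s₂ ≫ fst Q Xh) ((s₂ ≫ snd Q Xh) ≫ incl) ≫ j := by
    rw [← jm incl j j' m hm, ← jm incl j j' m hm, ← e₁, ← e₂, hs₁, hs₂, Category.assoc, Category.assoc, h12]
  obtain ⟨g, hg1, hg2⟩ := j_rel hY _ _ _ _ hrel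
  rw [← incl_act a incl aXh hincl, cancel_mono] at hg2
  rw [← hs₁, ← hs₂, e₁, e₂, hg1, hg2]
  exact j_inv hY' g _ _


include hcent hXh hm hY hY' in
theorem fixed_of_factors {T : Over S} (y : T ⟶ Y) (y' : T ⟶ Y') (hy : y' ≫ m = y) :
    lift (toUnit T ≫ h ≫ i) y ≫ aY.act = y := by
  have hR : (secSieve j').pullback y' ∈ QuotSh.J K S T := (QuotSh.J K S).pullback_stable y' (j_sec hY')
  refine rep_sep K _ hR _ _ ?_
  rintro V t ⟨s, hs⟩
  have e : s = lift (s ≫ fst Q Xh) (s ≫ snd Q Xh) := by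
    apply CartesianMonoidalCategory.hom_ext <;> simp
  have hty : t ≫ y = lift (s ≫ fst Q Xh) ((s ≫ snd Q Xh) ≫ incl) ≫ j := by
    rw [← jm incl j j' m hm, ← e, hs, Category.assoc, hy]
  rw [h_act_nat, hty, h_act_j K i h hcent a aY j hY]
  congr 2
  exact (hXh V _).mp ⟨_, rfl⟩

include hcent hXh hincl hm hY hY' in
theorem factors_of_fixed {T : Over S} (y : T ⟶ Y) (hy : lift (toUnit T ≫ h ≫ i) y ≫ aY.act = y) :
    ∃ y' : T ⟶ Y', y' ≫ m = y := by
  haveI := mono_m K i a incl aXh hincl aY j hY aY' j' hY' m hm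
  have hR : (secSieve j).pullback y ∈ QuotSh.J K S T := (QuotSh.J K S).pullback_stable y (j_sec hY)
  refine rep_glue_mono K m y _ hR ?_
  rintro V t ⟨s, hs⟩
  have e : s = lift (s ≫ fst Q X) (s ≫ snd Q X) := by
    apply CartesianMonoidalCategory.hom_ext <;> simp
  have hs' : lift (s ≫ fst Q X) (s ≫ snd Q X) ≫ j = t ≫ y := by rw [← e, hs]
  have h1 : lift (toUnit V ≫ h ≫ i) (t ≫ y) ≫ aY.act = t ≫ y := by
    rw [← h_act_nat, hy]
  rw [← hs', h_act_j K i h hcent a aY j hY] at h1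
  obtain ⟨g, hg1, hg2⟩ := j_rel hY _ _ _ _ h1
  have hgi : g ≫ i = 1 := by
    have := hg1
    rw [left_eq_mul, inv_eq_one] at this
    exact this
  have hg : g = 1 := by
    rw [← cancel_mono i, hgi, MonObj.one_comp]
  rw [hg, AlgGrp.Action.lift_one_act] at hg2
  obtain ⟨x₀, hx₀⟩ := (hXh V _).mpr hg2
  refine ⟨lift (s ≫ fst Q X) x₀ ≫ j', ?_⟩
  rw [jm incl j j' m hm, hx₀, hs']


include hcent hXh hincl hm hY hY' in
theorem isPullback_jm : IsPullback (Q ◁ incl) j' j m := by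
  haveI := mono_m K i a incl aXh hincl aY j hY aY' j' hY' m hm
  refine TorsComp.isPullback_of_points _ _ _ _ hm.symm ?_ ?_
  · intro T p y' hp
    have e : p = lift (p ≫ fst Q X) (p ≫ snd Q X) := by
      apply CartesianMonoidalCategory.hom_ext <;> simp
    have hfix : lift (toUnit T ≫ h ≫ i) (p ≫ j) ≫ aY.act = p ≫ j := by
      rw [hp]
      exact fixed_of_factors K i h hcent a incl hXh aXh aY j hY aY' j' hY' m hm (y' ≫ m) y' rfl
    rw [e, h_act_j K i h hcent a aY j hY] at hfix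
    obtain ⟨g, hg1, hg2⟩ := j_rel hY _ _ _ _ hfix
    have hgi : g ≫ i = 1 := by
      have := hg1
      rw [left_eq_mul, inv_eq_one] at this
      exact this
    have hg : g = 1 := by
      rw [← cancel_mono i, hgi, MonObj.one_comp]
    rw [hg, AlgGrp.Action.lift_one_act] at hg2
    obtain ⟨x₀, hx₀⟩ := (hXh T _).mpr hg2
    refine ⟨lift (p ≫ fst Q X) x₀, ?_, ?_⟩
    · rw [lift_whiskerLeft, hx₀, ← e]
    · rw [← cancel_mono m, jm incl j j' m hm, hx₀, ← e, hp]
  · intro T p p' h1 _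
    haveI : Mono (Q ◁ incl) := by
      refine ⟨fun {Z} u v huv => ?_⟩
      apply CartesianMonoidalCategory.hom_ext
      · have := congrArg (fun k => k ≫ fst Q X) huv
        simpa using this
      · have := congrArg (fun k => k ≫ snd Q X) huv
        simp only [Category.assoc, whiskerLeft_snd] at this
        rw [← Category.assoc, ← Category.assoc, cancel_mono] at this
        exact this
    exact (cancel_mono (Q ◁ incl)).mp h1

theorem isPullback_whiskerLeft_snd : IsPullback (Q ◁ incl) (snd Q Xh) (snd Q X) incl := by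
  refine TorsComp.isPullback_of_points _ _ _ _ (whiskerLeft_snd _ _) ?_ ?_
  · intro T p x₀ hp
    refine ⟨lift (p ≫ fst Q X) x₀, ?_, lift_snd _ _⟩
    rw [lift_whiskerLeft, ← hp]
    apply CartesianMonoidalCategory.hom_ext <;> simp
  · intro T p p' h1 h2
    apply CartesianMonoidalCategory.hom_ext
    · have := congrArg (fun k => k ≫ fst Q X) h1
      simpa using this
    · exact h2

end Fix

section Desc

variable {S : Scheme.{u}} (K : Precoverage Scheme.{u})

/-- a property local for the fpqc topology descends along a cartesian square whose base has local sections -/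
theorem prop_of_sq_loc (P : MorphismProperty Scheme.{u}) [P.IsStableUnderBaseChange]
    [IsZariskiLocalAtTarget P] [P.DescendsAlong (@Surjective ⊓ @Flat ⊓ @QuasiCompact)]
    (hK : K ≤ Scheme.fpqcPrecoverage) {A B Y' Y : Over S} {f : A ⟶ B} {j' : A ⟶ Y'} {j : B ⟶ Y} {m : Y' ⟶ Y}
    (sq : IsPullback f j' j m) (hloc : NonAbH1.IsLocallyTrivialFor K (Over.mk j.left : Over Y.left))
    (hf : P f.left) : P m.left := by
  obtain ⟨Rc, hR, hsec⟩ := hloc
  haveI := Groth.Agent.Helper18.FpqcDesc.isLocalAtTarget_fpqc P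
  refine MorphismProperty.IsLocalAtTarget.of_forall_pullbackSnd (P := P) (K := Scheme.fpqcPrecoverage) (hK _ hR) ?_
  intro V g _ hg
  obtain ⟨c, hc⟩ := hsec g hg
  have hc' : c ≫ j.left = g := hc
  have sqL : IsPullback f.left j'.left j.left m.left := sq.map (Over.forget S)
  have big := IsPullback.of_hasPullback f.left c
  have pasted := big.paste_horiz sqL.flip
  rw [hc'] at pasted
  have h1 : P (pullback.snd f.left c) := P.pullback_snd _ _ hf
  have h2 : pasted.isoPullback.hom ≫ pullback.snd m.left g = pullback.snd f.left c :=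
    pasted.isoPullback_hom_snd
  rw [← h2] at h1
  exact (P.cancel_left_of_respectsIso _ _).mp h1

end Desc

end Groth.Agent.Helper18.BalFix
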