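import Groth.Agent.Lib.Helper18.CentralExt
import Groth.Agent.Lib.Helper18.DescHomK
import Groth.Agent.Lib.Helper18.QSh2

/-!
# A morphism of rigidified bitorsors between extensions is a homomorphism (helper18)
-/

set_option autoImplicit false
set_option linter.unusedSectionVars false

universe u

open CategoryTheory CategoryTheory.Limits MonoidalCategory CartesianMonoidalCategory MonObj GrpObj AlgebraicGeometry

namespace Groth.Agent.Helper18.BitorsHom

open Groth.Agent.Helper18.FppfDescHom Groth.Agent.Helper18.CentralExt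

/-- pure group theory: the defect of multiplicativity is invariant under right translation -/
theorem defect_invariant {Γ : Type*} [Group Γ] (fxy fx fy a a' b : Γ) (h : a * fy = fy * a') :
    (fxy * a' * b) * ((fx * a) * (fy * b))⁻¹ = fxy * (fx * fy)⁻¹ := by
  have e : (fx * a) * (fy * b) = (fx * fy) * (a' * b) := by
    calc (fx * a) * (fy * b) = fx * (a * fy) * b := by group
      _ = fx * (fy * a') * b := by rw [h]
      _ = (fx * fy) * (a' * b) := by group
  rw [e]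
  group

variable {S : Scheme.{u}} {P G E E' : Over S} [GrpObj P] [GrpObj G] [GrpObj E] [GrpObj E']

theorem isMonHom_of_bitorsor (K : Precoverage Scheme.{u}) [(QuotSh.J K S).Subcanonical]
    (u : G ⟶ E) (v : E ⟶ P) [IsMonHom u] [IsMonHom v]
    (huv : u ≫ v = 1) (hpb : IsPullback (fst E G) ((E ◁ u) ≫ μ[E]) v v)
    (hloc : secSieve v ∈ QuotSh.J K S P)
    (u' : G ⟶ E') (v' : E' ⟶ P) [IsMonHom u'] [IsMonHom v']
    (huv' : u' ≫ v' = 1) (hpb' : IsPullback (fst E' G) ((E' ◁ u') ≫ μ[E']) v' v')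
    (hPP : ∀ c : P ⊗ P ⟶ G, lift (𝟙 P) (toUnit P ≫ η[P]) ≫ c = 1 → lift (toUnit P ≫ η[P]) (𝟙 P) ≫ c = 1 → c = 1)
    (f : E ⟶ E') (hv : f ≫ v' = v) (h1 : η[E] ≫ f = η[E'])
    (hl : ∀ (T : Over S) (g : T ⟶ G) (x : T ⟶ E), ((g ≫ u) * x) ≫ f = (g ≫ u') * (x ≫ f))
    (hr : ∀ (T : Over S) (g : T ⟶ G) (x : T ⟶ E), (x * (g ≫ u)) ≫ f = (x ≫ f) * (g ≫ u')) :
    IsMonHom f := by
  -- the defect
  let δ : ∀ {T : Over S}, (T ⟶ E) → (T ⟶ E) → (T ⟶ E') :=
    fun x y => ((x * y) ≫ f) * ((x ≫ f) * (y ≫ f))⁻¹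
  have hδdef : ∀ {T : Over S} (x y : T ⟶ E), δ x y = ((x * y) ≫ f) * ((x ≫ f) * (y ≫ f))⁻¹ :=
    fun x y => rfl
  have hδnat : ∀ {T V : Over S} (s : V ⟶ T) (x y : T ⟶ E), s ≫ δ x y = δ (s ≫ x) (s ≫ y) := by
    intro T V s x y
    rw [hδdef, hδdef, MonObj.comp_mul, GrpObj.comp_inv, MonObj.comp_mul, ← Category.assoc s (x * y) f,
      MonObj.comp_mul]
    simp only [Category.assoc]
  have hδv : ∀ {T : Over S} (x y : T ⟶ E), δ x y ≫ v' = 1 := by
    intro T x y
    rw [hδdef, MonObj.mul_comp _ _ v', GrpObj.inv_comp _ v', MonObj.mul_comp _ _ v', Category.assoc,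
      Category.assoc, Category.assoc, hv, MonObj.mul_comp _ _ v]
    group
  have hδd : ∀ {T : Over S} (x y : T ⟶ E), ∃ d : T ⟶ G, d ≫ u' = δ x y := by
    intro T x y
    obtain ⟨d, hd⟩ := exists_diff u' v' hpb' (1 : T ⟶ E') (δ x y) (by rw [hδv, MonObj.one_comp])
    exact ⟨d, by rw [← hd, _root_.one_mul]⟩
  -- invariance
  have hinv : ∀ {T : Over S} (x y : T ⟶ E) (g h : T ⟶ G),
      δ (x * (g ≫ u)) (y * (h ≫ u)) = δ x y := by
    intro T x y g h
    obtain ⟨g', hg'⟩ := exists_diff u v hpb y ((g ≫ u) * y) (by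
      rw [MonObj.mul_comp, comp_u_v u v huv, _root_.one_mul])
    have hcomm : (g ≫ u') * (y ≫ f) = (y ≫ f) * (g' ≫ u') := by
      rw [← hl, ← hr, hg']
    have e1 : (x * (g ≫ u)) * (y * (h ≫ u)) = ((x * y) * (g' ≫ u)) * (h ≫ u) := by
      calc (x * (g ≫ u)) * (y * (h ≫ u)) = x * ((g ≫ u) * y) * (h ≫ u) := by group
        _ = x * (y * (g' ≫ u)) * (h ≫ u) := by rw [hg']
        _ = ((x * y) * (g' ≫ u)) * (h ≫ u) := by group
    rw [hδdef, hδdef, e1, hr, hr, hr, hr]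
    exact defect_invariant _ _ _ _ _ _ hcomm
  -- the defect as a map to G
  obtain ⟨d, hd⟩ := hδd (fst E E) (snd E E)
  have hdconst : ∀ (V : Over S) (s s' : V ⟶ E ⊗ E), s ≫ (v ⊗ₘ v) = s' ≫ (v ⊗ₘ v) → s ≫ d = s' ≫ d := by
    intro V s s' hss
    have hx : (s ≫ fst E E) ≫ v = (s' ≫ fst E E) ≫ v := by
      have := congrArg (fun k => k ≫ fst P P) hss
      simpa using this
    have hy : (s ≫ snd E E) ≫ v = (s' ≫ snd E E) ≫ v := by
      have := congrArg (fun k => k ≫ snd P P) hss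
      simpa using this
    obtain ⟨g, hg⟩ := exists_diff u v hpb _ _ hx
    obtain ⟨h, hh⟩ := exists_diff u v hpb _ _ hy
    apply u_inj u' v' hpb'
    rw [Category.assoc, Category.assoc, hd, hδnat, hδnat, ← hg, ← hh, hinv]
  obtain ⟨c, hc⟩ := DescHomK.desc_of_secSieve K (v ⊗ₘ v) (DescHomK.secSieve_tensorHom K v v hloc hloc) d hdconst
  have hone : ∀ {T : Over S}, ((1 : T ⟶ G) ≫ u') = 1 := fun {T} => MonObj.one_comp u'
  have hf1 : ∀ {T : Over S}, (1 : T ⟶ E) ≫ f = 1 := by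
    intro T
    rw [Hom.one_def, Category.assoc, h1, ← Hom.one_def]
  have hδ1 : ∀ {T : Over S} (x : T ⟶ E), δ x 1 = 1 := by
    intro T x
    rw [hδdef, _root_.mul_one, hf1, _root_.mul_one, mul_inv_cancel]
  have hδ2 : ∀ {T : Over S} (x : T ⟶ E), δ 1 x = 1 := by
    intro T x
    rw [hδdef, _root_.one_mul, hf1, _root_.one_mul, mul_inv_cancel]
  have hc1 : lift (𝟙 P) (toUnit P ≫ η[P]) ≫ c = 1 := by
    apply DescHomK.epi_of_secSieve K v hloc
    rw [MonObj.comp_one]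
    have e1 : v ≫ lift (𝟙 P) (toUnit P ≫ η[P]) = lift (𝟙 E) (1 : E ⟶ E) ≫ (v ⊗ₘ v) := by
      apply CartesianMonoidalCategory.hom_ext
      · simp
      · simp only [Category.assoc, lift_snd, lift_map]
        rw [MonObj.one_comp]
        rw [← Category.assoc, toUnit_unique (v ≫ toUnit P) (toUnit E)]
        rfl
    rw [← Category.assoc, e1, Category.assoc, hc]
    apply u_inj u' v' hpb'
    rw [Category.assoc, hd, hδnat, lift_fst, lift_snd, hδ1, hone]
  have hc2 : lift (toUnit P ≫ η[P]) (𝟙 P) ≫ c = 1 := by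
    apply DescHomK.epi_of_secSieve K v hloc
    rw [MonObj.comp_one]
    have e1 : v ≫ lift (toUnit P ≫ η[P]) (𝟙 P) = lift (1 : E ⟶ E) (𝟙 E) ≫ (v ⊗ₘ v) := by
      apply CartesianMonoidalCategory.hom_ext
      · simp only [Category.assoc, lift_fst, lift_map]
        rw [MonObj.one_comp]
        rw [← Category.assoc, toUnit_unique (v ≫ toUnit P) (toUnit E)]
        rfl
      · simp
    rw [← Category.assoc, e1, Category.assoc, hc]
    apply u_inj u' v' hpb'
    rw [Category.assoc, hd, hδnat, lift_fst, lift_snd, hδ2, hone]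
  have hcone := hPP c hc1 hc2
  have hdone : d = 1 := by rw [← hc, hcone, MonObj.comp_one]
  have hfin : δ (fst E E) (snd E E) = 1 := by rw [← hd, hdone, hone]
  refine ⟨h1, ?_⟩
  have h2 : (fst E E * snd E E) ≫ f = (fst E E ≫ f) * (snd E E ≫ f) := by
    have := hfin
    rw [hδdef, mul_inv_eq_one] at this
    exact this
  have h3 : fst E E * snd E E = μ[E] := by
    rw [Hom.mul_def, lift_fst_snd, Category.id_comp]
  have h4 : (fst E E ≫ f) * (snd E E ≫ f) = (f ⊗ₘ f) ≫ μ[E'] := by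
    rw [Hom.mul_def]
    congr 1
  rw [← h3, h2, h4]

end Groth.Agent.Helper18.BitorsHom
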