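import Mathlib
import Groth.Prelude.Def_BlowUp2
import Groth.Prelude.Def_SGA1
import Groth.Agent.S14768
import Groth.Agent.S14769
import Groth.Agent.S14770
import Groth.Agent.Lib.Helper6.IdealComap

/-!
# An open of a blow-up whose composite to the base is universally submersive is everything
(helper18)
-/

set_option autoImplicit false
set_option linter.style.haveILetI false
universe u
open CategoryTheory CategoryTheory.Limits AlgebraicGeometry

namespace Groth.Agent.Helper18.BlowOpen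

/-- a surjective morphism between spectra of domains that are local rings preserves the generic
point -/
theorem map_generic {V V' : Type u} [CommRing V] [IsDomain V] [CommRing V'] [IsDomain V']
    (β : Spec (CommRingCat.of V') ⟶ Spec (CommRingCat.of V)) [Surjective β] :
    β (⟨⊥, Ideal.isPrime_bot⟩ : PrimeSpectrum V') = (⟨⊥, Ideal.isPrime_bot⟩ : PrimeSpectrum V) := by
  obtain ⟨q', hq'⟩ := β.surjective (⟨⊥, Ideal.isPrime_bot⟩ : PrimeSpectrum V)
  have h1 : (⟨⊥, Ideal.isPrime_bot⟩ : PrimeSpectrum V') ⤳ (q' : PrimeSpectrum V') :=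
    (PrimeSpectrum.le_iff_specializes _ _).1 bot_le
  have h2 := h1.map β.continuous
  rw [hq'] at h2
  have h3 : (⟨⊥, Ideal.isPrime_bot⟩ : PrimeSpectrum V) ⤳
      (β (⟨⊥, Ideal.isPrime_bot⟩ : PrimeSpectrum V') : PrimeSpectrum V) :=
    (PrimeSpectrum.le_iff_specializes _ _).1 bot_le
  exact (h2.antisymm h3).eq

theorem map_closed {V V' : Type u} [CommRing V] [IsLocalRing V] [CommRing V'] [IsLocalRing V']
    (β : Spec (CommRingCat.of V') ⟶ Spec (CommRingCat.of V)) [Surjective β] :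
    β (IsLocalRing.closedPoint V') = IsLocalRing.closedPoint V := by
  obtain ⟨q', hq'⟩ := β.surjective (IsLocalRing.closedPoint V)
  have h1 : (q' : PrimeSpectrum V') ⤳ IsLocalRing.closedPoint V' :=
    IsLocalRing.specializes_closedPoint _
  have h2 := h1.map β.continuous
  rw [hq'] at h2
  have h3 : (β (IsLocalRing.closedPoint V') : PrimeSpectrum V) ⤳ IsLocalRing.closedPoint V :=
    IsLocalRing.specializes_closedPoint _
  exact (h3.antisymm h2).eq

/-- every point of an affine scheme chart generizes to a point where a given nonzerodivisor does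
not vanish -/
theorem exists_generization {X' : Scheme.{u}} (W : X'.Opens) (hW : IsAffineOpen W)
    (f₀ : Γ(X', W)) (hf₀ : f₀ ∈ nonZeroDivisors Γ(X', W)) (x' : X') (hx' : x' ∈ W) :
    ∃ ξ' : X', ξ' ⤳ x' ∧ ξ' ∈ X'.basicOpen f₀ := by
  let p : PrimeSpectrum Γ(X', W) := hW.primeIdealOf ⟨x', hx'⟩
  obtain ⟨p₀, hp₀, hp₀p⟩ := Ideal.exists_minimalPrimes_le (J := p.asIdeal) bot_le
  haveI : p₀.IsPrime := hp₀.1.1
  have hf₀p : f₀ ∉ p₀ := fun h =>
    Set.disjoint_left.mp (Ideal.disjoint_nonZeroDivisors_of_mem_minimalPrimes hp₀) h hf₀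
  let q : PrimeSpectrum Γ(X', W) := ⟨p₀, inferInstance⟩
  refine ⟨hW.fromSpec q, ?_, ?_⟩
  · have h1 : q ⤳ p := (PrimeSpectrum.le_iff_specializes q p).1 hp₀p
    have h2 := h1.map hW.fromSpec.continuous
    have h3 : hW.fromSpec p = x' := hW.fromSpec_primeIdealOf ⟨x', hx'⟩
    rw [h3] at h2
    exact h2
  · have h1 : q ∈ (hW.fromSpec ⁻¹ᵁ X'.basicOpen f₀ : (Spec Γ(X', W)).Opens) := by
      rw [hW.fromSpec_preimage_basicOpen]
      exact hf₀p
    exact h1

theorem main {X X' : Scheme.{u}} [IsNoetherian X] (𝓘 : X.IdealSheafData) (b : X' ⟶ X)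
    [LocallyOfFiniteType b] [QuasiCompact b] (hb : BlowUp.IsBlowUp b 𝓘) (U : X'.Opens)
    (hU : SGA1.UnivSubmersive (U.ι ≫ b)) : U = ⊤ := by
  rw [eq_top_iff]
  intro x' _
  haveI : IsLocallyNoetherian X' := LocallyOfFiniteType.isLocallyNoetherian b
  haveI : QuasiCompact (U.ι ≫ b) := inferInstance
  obtain ⟨W, hx'W, f₀, hf₀, hW⟩ := hb.1 x'
  obtain ⟨ξ', hξ', hξ'f⟩ := exists_generization W.1 W.2 f₀ hf₀ x' hx'W
  obtain ⟨V, _, _, _, g₁, hg₁c, hg₁g⟩ := Groth.Agent.S14768.exists_valuationRing_of_specializes hξ'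
  have hsub : Subtr.UnivSSubtrusive (U.ι ≫ b) := (Groth.Agent.S14770.result (U.ι ≫ b)).mp hU
  obtain ⟨V', _, _, _, a, β, hβ, hcomm⟩ :=
    (Groth.Agent.S14769.result (U.ι ≫ b)).mp hsub V (g₁ ≫ b)
  haveI := hβ
  let h₁ : Spec (CommRingCat.of V') ⟶ X' := a ≫ U.ι
  let h₂ : Spec (CommRingCat.of V') ⟶ X' := β ≫ g₁
  have hh₁ : h₁ ≫ b = β ≫ g₁ ≫ b := by
    simp only [h₁, Category.assoc]; exact hcomm
  have hh₂ : h₂ ≫ b = β ≫ g₁ ≫ b := by simp only [h₂, Category.assoc]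
  have hc : h₂ (IsLocalRing.closedPoint V') = x' := by
    simp only [h₂]
    rw [Scheme.Hom.comp_apply, map_closed β, hg₁c]
  have hg : h₂ (⟨⊥, Ideal.isPrime_bot⟩ : PrimeSpectrum V') = ξ' := by
    simp only [h₂]
    rw [Scheme.Hom.comp_apply, map_generic β, hg₁g]
  -- the whole spectrum maps into `W`
  have e : (⊤ : (Spec (CommRingCat.of V')).Opens) ≤ h₂ ⁻¹ᵁ W.1 := by
    have h1 : IsLocalRing.closedPoint V' ∈ (h₂ ⁻¹ᵁ W.1 : (Spec (CommRingCat.of V')).Opens) := by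
      change h₂ (IsLocalRing.closedPoint V') ∈ W.1
      rw [hc]; exact hx'W
    have h2 := (IsLocalRing.closedPoint_mem_iff (R := V') (h₂ ⁻¹ᵁ W.1)).mp h1
    rw [h2]
    exact le_refl _
  have hideal := Groth.Agent.Helper6.IdealComap.ideal_comap h₂ (𝓘.comap b)
    ⟨⊤, isAffineOpen_top _⟩ W e
  rw [hW, Ideal.map_span, Set.image_singleton] at hideal
  have hne : (h₂.appLE W.1 ⊤ e).hom f₀ ≠ 0 := by
    intro h0
    have h1 := Scheme.basicOpen_appLE h₂ ⊤ W.1 e f₀
    rw [show (h₂.appLE W.1 ⊤ e) f₀ = 0 from h0, Scheme.basicOpen_zero] at h1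
    have h2 : (⟨⊥, Ideal.isPrime_bot⟩ : PrimeSpectrum V') ∈
        ((⊤ : (Spec (CommRingCat.of V')).Opens) ⊓ h₂ ⁻¹ᵁ X'.basicOpen f₀ :
          (Spec (CommRingCat.of V')).Opens) := by
      refine ⟨trivial, ?_⟩
      change h₂ (⟨⊥, Ideal.isPrime_bot⟩ : PrimeSpectrum V') ∈ X'.basicOpen f₀
      rw [hg]; exact hξ'f
    rw [← h1] at h2
    exact h2
  have hEff : BlowUp.IsEffCartierIdeal (𝓘.comap (β ≫ g₁ ≫ b)) := by
    have h1 : 𝓘.comap (β ≫ g₁ ≫ b) = (𝓘.comap b).comap h₂ := by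
      rw [← Scheme.IdealSheafData.comap_comp]
      simp only [h₂, Category.assoc]
    rw [h1]
    intro z
    refine ⟨⟨⊤, isAffineOpen_top _⟩, trivial, (h₂.appLE W.1 ⊤ e).hom f₀, ?_, hideal⟩
    exact mem_nonZeroDivisors_of_ne_zero hne
  obtain ⟨h, -, huniq⟩ := hb.2 _ (β ≫ g₁ ≫ b) hEff
  have h12 : h₁ = h₂ := (huniq h₁ hh₁).trans (huniq h₂ hh₂).symm
  have hx : x' = h₁ (IsLocalRing.closedPoint V') := by rw [h12, hc]
  rw [hx]
  simp only [h₁]
  rw [Scheme.Hom.comp_apply]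
  exact (a (IsLocalRing.closedPoint V')).2

end Groth.Agent.Helper18.BlowOpen
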