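import Groth.Agent.Lib.Helper18.FppfDescHom

/-!
# Extensions by a commutative group with no bi-pointed maps are central (helper18)
-/

set_option autoImplicit false
set_option linter.unusedSectionVars false

universe u

open CategoryTheory CategoryTheory.Limits MonoidalCategory CartesianMonoidalCategory MonObj GrpObj AlgebraicGeometry

namespace Groth.Agent.Helper18.CentralExt

open Groth.Agent.Helper18.FppfDescHom

variable {S : Scheme.{u}} {P G E : Over S} [GrpObj P] [GrpObj G] [GrpObj E]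
variable (u : G ⟶ E) (v : E ⟶ P) [IsMonHom u] [IsMonHom v]

section Basic
variable (huv : u ≫ v = 1) (hpb : IsPullback (fst E G) ((E ◁ u) ≫ μ[E]) v v)

theorem lift_trans {T : Over S} (x : T ⟶ E) (d : T ⟶ G) :
    lift x d ≫ (E ◁ u) ≫ μ[E] = x * (d ≫ u) := by
  rw [lift_whiskerLeft_assoc, Hom.mul_def]

include hpb in
theorem exists_diff {T : Over S} (x x' : T ⟶ E) (h : x ≫ v = x' ≫ v) : ∃ d : T ⟶ G, x * (d ≫ u) = x' := by
  refine ⟨hpb.lift x x' h ≫ snd E G, ?_⟩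
  have h1 : hpb.lift x x' h ≫ fst E G = x := hpb.lift_fst _ _ _
  have h2 : hpb.lift x x' h ≫ (E ◁ u) ≫ μ[E] = x' := hpb.lift_snd _ _ _
  have h3 : hpb.lift x x' h = lift x (hpb.lift x x' h ≫ snd E G) := by
    apply CartesianMonoidalCategory.hom_ext <;> simp [h1]
  rw [← lift_trans, ← h3, h2]

include hpb in
theorem u_inj {T : Over S} (d d' : T ⟶ G) (h : d ≫ u = d' ≫ u) : d = d' := by
  have e : lift (1 : T ⟶ E) d = lift (1 : T ⟶ E) d' := by
    apply hpb.hom_ext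
    · simp
    · rw [lift_trans, lift_trans, h]
  have := congrArg (fun k => k ≫ snd E G) e
  simpa using this

include huv in
theorem comp_u_v {T : Over S} (d : T ⟶ G) : (d ≫ u) ≫ v = 1 := by
  rw [Category.assoc, huv, MonObj.comp_one]

end Basic

section Comm

variable (huv : u ≫ v = 1) (hpb : IsPullback (fst E G) ((E ◁ u) ≫ μ[E]) v v)

/-- `(x, g) ↦ x u(g) x⁻¹ u(g)⁻¹` -/
noncomputable def ymap : E ⊗ G ⟶ E := fst E G * (snd E G ≫ u) * (fst E G)⁻¹ * (snd E G ≫ u)⁻¹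

theorem lift_ymap {T : Over S} (x : T ⟶ E) (g : T ⟶ G) :
    lift x g ≫ ymap u = x * (g ≫ u) * x⁻¹ * (g ≫ u)⁻¹ := by
  simp [ymap, MonObj.comp_mul, GrpObj.comp_inv]

include huv in
theorem ymap_v : ymap u ≫ v = 1 := by
  rw [ymap, MonObj.mul_comp, MonObj.mul_comp, MonObj.mul_comp, GrpObj.inv_comp, GrpObj.inv_comp,
    comp_u_v u v huv]
  group

include huv hpb in
theorem exists_cmap : ∃ c : E ⊗ G ⟶ G, c ≫ u = ymap u := by
  obtain ⟨c, hc⟩ := exists_diff u v hpb (1 : E ⊗ G ⟶ E) (ymap u) (by rw [MonObj.one_comp, ymap_v u v huv])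
  exact ⟨c, by rw [← hc, _root_.one_mul]⟩

include huv hpb in
theorem central [IsCommMonObj G] (hloc : secSieve v ∈ AlgSp.J S P)
    (hPG : ∀ f : P ⊗ G ⟶ G, lift (𝟙 P) (toUnit P ≫ η[G]) ≫ f = 1 → lift (toUnit G ≫ η[P]) (𝟙 G) ≫ f = 1 → f = 1)
    (T : Over S) (g : T ⟶ G) (x : T ⟶ E) : (g ≫ u) * x = x * (g ≫ u) := by
  obtain ⟨c, hc⟩ := exists_cmap u v huv hpb
  have hcpt : ∀ {T : Over S} (x : T ⟶ E) (g : T ⟶ G), (lift x g ≫ c) ≫ u = x * (g ≫ u) * x⁻¹ * (g ≫ u)⁻¹ := by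
    intro T x g
    rw [Category.assoc, hc, lift_ymap]
  -- kernel pair condition
  have hker : ∀ (V : Over S) (s s' : V ⟶ E ⊗ G), s ≫ (v ▷ G) = s' ≫ (v ▷ G) → s ≫ c = s' ≫ c := by
    intro V s s' hss
    have hs : s = lift (s ≫ fst E G) (s ≫ snd E G) := by
      apply CartesianMonoidalCategory.hom_ext <;> simp
    have hs' : s' = lift (s' ≫ fst E G) (s' ≫ snd E G) := by
      apply CartesianMonoidalCategory.hom_ext <;> simp
    have h1 : (s ≫ fst E G) ≫ v = (s' ≫ fst E G) ≫ v := by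
      have := congrArg (fun k => k ≫ fst P G) hss
      simpa using this
    have h2 : s ≫ snd E G = s' ≫ snd E G := by
      have := congrArg (fun k => k ≫ snd P G) hss
      simpa using this
    obtain ⟨d, hd⟩ := exists_diff u v hpb _ _ h1
    apply u_inj u v hpb
    rw [hs, hs', hcpt, hcpt, ← hd, ← h2]
    set x := s ≫ fst E G
    set g := s ≫ snd E G
    have hcomm : (d ≫ u) * (g ≫ u) = (g ≫ u) * (d ≫ u) := by
      rw [← MonObj.mul_comp, ← MonObj.mul_comp, mul_comm]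
    have h3 : (d ≫ u) * (g ≫ u) * (d ≫ u)⁻¹ = g ≫ u := by
      rw [hcomm, mul_inv_cancel_right]
    have h4 : x * (d ≫ u) * (g ≫ u) * (x * (d ≫ u))⁻¹ * (g ≫ u)⁻¹ =
        x * ((d ≫ u) * (g ≫ u) * (d ≫ u)⁻¹) * x⁻¹ * (g ≫ u)⁻¹ := by group
    rw [h4, h3]
  obtain ⟨f, hf⟩ := desc_of_secSieve (v ▷ G) (secSieve_whiskerRight v hloc G) c hker
  have hone : ∀ {T : Over S}, ((1 : T ⟶ G) ≫ u) = 1 := fun {T} => MonObj.one_comp u
  have hf1 : f = 1 := by
    apply hPG
    · apply epi_of_secSieve v hloc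
      have e1 : v ≫ lift (𝟙 P) (toUnit P ≫ η[G]) = lift (𝟙 E) (1 : E ⟶ G) ≫ (v ▷ G) := by
        apply CartesianMonoidalCategory.hom_ext
        · simp
        · simp only [Category.assoc, lift_snd, lift_whiskerRight, Hom.one_def]
          rw [← Category.assoc, toUnit_unique (v ≫ toUnit P) (toUnit E)]
      rw [← Category.assoc, e1, Category.assoc, hf, MonObj.comp_one]
      apply u_inj u v hpb
      rw [hcpt, hone]
      group
    · have e2 : lift (toUnit G ≫ η[P]) (𝟙 G) = lift (1 : G ⟶ E) (𝟙 G) ≫ (v ▷ G) := by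
        apply CartesianMonoidalCategory.hom_ext
        · simp only [lift_fst, Category.assoc, whiskerRight_fst, lift_fst_assoc, Hom.one_def, IsMonHom.one_hom]
        · simp
      rw [e2, Category.assoc, hf]
      apply u_inj u v hpb
      rw [hcpt, hone]
      group
  have hc1 : c = 1 := by rw [← hf, hf1, MonObj.comp_one]
  have h5 := hcpt x g
  rw [hc1, MonObj.comp_one, hone] at h5
  have h6 : x * (g ≫ u) * x⁻¹ * (g ≫ u)⁻¹ = 1 := h5.symm
  have h7 : x * (g ≫ u) * x⁻¹ = g ≫ u := by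
    rw [mul_inv_eq_one] at h6
    exact h6
  calc (g ≫ u) * x = (x * (g ≫ u) * x⁻¹) * x := by rw [h7]
    _ = x * (g ≫ u) := by group

theorem comm_central {Γ : Type*} [Group Γ] (x y a b : Γ) (ha : ∀ z, a * z = z * a) (hb : ∀ z, b * z = z * b) :
    (x * a) * (y * b) * (x * a)⁻¹ * (y * b)⁻¹ = x * y * x⁻¹ * y⁻¹ := by
  have h1 : a * (y * b) * a⁻¹ = y * b := by rw [ha, mul_inv_cancel_right]
  have h2 : b * x⁻¹ = x⁻¹ * b := hb _
  calc (x * a) * (y * b) * (x * a)⁻¹ * (y * b)⁻¹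
      = x * (a * (y * b) * a⁻¹) * x⁻¹ * (y * b)⁻¹ := by group
    _ = x * (y * b) * x⁻¹ * (y * b)⁻¹ := by rw [h1]
    _ = x * y * (b * x⁻¹) * b⁻¹ * y⁻¹ := by group
    _ = x * y * (x⁻¹ * b) * b⁻¹ * y⁻¹ := by rw [h2]
    _ = x * y * x⁻¹ * y⁻¹ := by group

/-- `(x, y) ↦ x y x⁻¹ y⁻¹` -/
noncomputable def kmap : E ⊗ E ⟶ E := fst E E * snd E E * (fst E E)⁻¹ * (snd E E)⁻¹

theorem lift_kmap {T : Over S} (x y : T ⟶ E) :
    lift x y ≫ kmap (E := E) = x * y * x⁻¹ * y⁻¹ := by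
  simp [kmap, MonObj.comp_mul, GrpObj.comp_inv]

theorem kmap_v [IsCommMonObj P] : kmap (E := E) ≫ v = 1 := by
  rw [kmap, MonObj.mul_comp, MonObj.mul_comp, MonObj.mul_comp, GrpObj.inv_comp, GrpObj.inv_comp]
  rw [mul_comm (fst E E ≫ v) (snd E E ≫ v)]
  group

include huv hpb in
theorem comm_of_central [IsCommMonObj P] (hloc : secSieve v ∈ AlgSp.J S P)
    (hcen : ∀ (T : Over S) (g : T ⟶ G) (x : T ⟶ E), (g ≫ u) * x = x * (g ≫ u))
    (hPP : ∀ f : P ⊗ P ⟶ G, lift (𝟙 P) (toUnit P ≫ η[P]) ≫ f = 1 → lift (toUnit P ≫ η[P]) (𝟙 P) ≫ f = 1 → f = 1) :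
    IsCommMonObj E := by
  obtain ⟨k, hk⟩ := exists_diff u v hpb (1 : E ⊗ E ⟶ E) (kmap (E := E)) (by rw [MonObj.one_comp, kmap_v v])
  rw [_root_.one_mul] at hk
  have hkpt : ∀ {T : Over S} (x y : T ⟶ E), (lift x y ≫ k) ≫ u = x * y * x⁻¹ * y⁻¹ := by
    intro T x y
    rw [Category.assoc, hk, lift_kmap]
  have hker : ∀ (V : Over S) (s s' : V ⟶ E ⊗ E), s ≫ (v ⊗ₘ v) = s' ≫ (v ⊗ₘ v) → s ≫ k = s' ≫ k := by
    intro V s s' hss
    have hs : s = lift (s ≫ fst E E) (s ≫ snd E E) := by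
      apply CartesianMonoidalCategory.hom_ext <;> simp
    have hs' : s' = lift (s' ≫ fst E E) (s' ≫ snd E E) := by
      apply CartesianMonoidalCategory.hom_ext <;> simp
    have h1 : (s ≫ fst E E) ≫ v = (s' ≫ fst E E) ≫ v := by
      have := congrArg (fun k => k ≫ fst P P) hss
      simpa using this
    have h2 : (s ≫ snd E E) ≫ v = (s' ≫ snd E E) ≫ v := by
      have := congrArg (fun k => k ≫ snd P P) hss
      simpa using this
    obtain ⟨d, hd⟩ := exists_diff u v hpb _ _ h1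
    obtain ⟨e, he⟩ := exists_diff u v hpb _ _ h2
    apply u_inj u v hpb
    rw [hs, hs', hkpt, hkpt, ← hd, ← he]
    exact (comm_central _ _ _ _ (fun z => hcen _ d z) (fun z => hcen _ e z)).symm
  obtain ⟨f, hf⟩ := desc_of_secSieve (v ⊗ₘ v) (secSieve_tensorHom v v hloc hloc) k hker
  have hone : ∀ {T : Over S}, ((1 : T ⟶ G) ≫ u) = 1 := fun {T} => MonObj.one_comp u
  have hf1 : f = 1 := by
    apply hPP
    · apply epi_of_secSieve v hloc
      have e1 : v ≫ lift (𝟙 P) (toUnit P ≫ η[P]) = lift (𝟙 E) (1 : E ⟶ E) ≫ (v ⊗ₘ v) := by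
        apply CartesianMonoidalCategory.hom_ext
        · simp
        · simp only [Category.assoc, lift_snd, lift_map, Hom.one_def, IsMonHom.one_hom]
          rw [← Category.assoc, toUnit_unique (v ≫ toUnit P) (toUnit E)]
      rw [← Category.assoc, e1, Category.assoc, hf, MonObj.comp_one]
      apply u_inj u v hpb
      rw [hkpt, hone]
      group
    · apply epi_of_secSieve v hloc
      have e1 : v ≫ lift (toUnit P ≫ η[P]) (𝟙 P) = lift (1 : E ⟶ E) (𝟙 E) ≫ (v ⊗ₘ v) := by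
        apply CartesianMonoidalCategory.hom_ext
        · simp only [Category.assoc, lift_fst, lift_map, Hom.one_def, IsMonHom.one_hom]
          rw [← Category.assoc, toUnit_unique (v ≫ toUnit P) (toUnit E)]
        · simp
      rw [← Category.assoc, e1, Category.assoc, hf, MonObj.comp_one]
      apply u_inj u v hpb
      rw [hkpt, hone]
      group
  have hk1 : k = 1 := by rw [← hf, hf1, MonObj.comp_one]
  rw [isCommMonObj_iff_isMulCommutative]
  intro T
  refine ⟨⟨fun x y => ?_⟩⟩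
  have h5 := hkpt x y
  rw [hk1, MonObj.comp_one, hone] at h5
  have h6 : x * y * x⁻¹ * y⁻¹ = 1 := h5.symm
  rw [mul_inv_eq_one, mul_inv_eq_iff_eq_mul] at h6
  exact h6

end Comm

end Groth.Agent.Helper18.CentralExt
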