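import Mathlib

/-!
# A predicate on ring maps cut out by ideals locally is cut out by an ideal (helper18)
-/

set_option autoImplicit false
universe u

noncomputable section

namespace Groth.Agent.Helper18.LocalIdeal

/-- an element vanishing in all localizations at a family spanning the unit ideal is zero -/
theorem eq_zero_of_localization_away {A : Type u} [CommRing A] (t : Finset A)
    (ht : Ideal.span (t : Set A) = ⊤) (x : A)
    (h : ∀ g ∈ t, algebraMap A (Localization.Away g) x = 0) : x = 0 := by
  have h' : ∀ g : t, ∃ n : ℕ, (g : A) ^ n * x = 0 := by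
    intro g
    have := (IsLocalization.map_eq_zero_iff (Submonoid.powers (g : A))
      (Localization.Away (g : A)) x).mp (h g g.2)
    obtain ⟨⟨_, n, rfl⟩, hm⟩ := this
    exact ⟨n, hm⟩
  choose n hn using h'
  let N := Finset.univ.sup n
  have hN : ∀ g ∈ t, g ^ N * x = 0 := by
    intro g hg
    have hle : n ⟨g, hg⟩ ≤ N := Finset.le_sup (Finset.mem_univ (⟨g, hg⟩ : t))
    obtain ⟨d, hd⟩ := Nat.exists_eq_add_of_le hle
    have := hn ⟨g, hg⟩
    rw [hd, pow_add, mul_comm (g ^ n ⟨g, hg⟩), mul_assoc, this, mul_zero]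
  let K : Ideal A := LinearMap.ker (LinearMap.toSpanSingleton A A x)
  have hK : ∀ a : A, a ∈ K ↔ a * x = 0 := by
    intro a
    simp [K, LinearMap.mem_ker, LinearMap.toSpanSingleton_apply]
  have hspan := Ideal.span_pow_eq_top (t : Set A) ht N
  have hle : Ideal.span ((fun x : A => x ^ N) '' (t : Set A)) ≤ K := by
    rw [Ideal.span_le]
    rintro _ ⟨g, hg, rfl⟩
    exact (hK _).mpr (hN g hg)
  rw [hspan] at hle
  have := (hK 1).mp (hle trivial)
  rwa [one_mul] at this

variable {R : Type u} [CommRing R]

/-- a ring map inverting `f` factors through `Localization.Away f` -/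
theorem exists_lift_away {B : Type u} [CommRing B] (f : R) (ρ : R →+* B) (h : IsUnit (ρ f)) :
    ∃ ρ' : Localization.Away f →+* B, ρ'.comp (algebraMap R (Localization.Away f)) = ρ :=
  ⟨IsLocalization.Away.lift f h, RingHom.ext fun r => IsLocalization.Away.lift_eq f h r⟩

/-- **local-to-global for ideals cutting out a predicate**. -/
theorem local_ideal (Φ : ∀ {A' : Type u} [CommRing A'], (R →+* A') → Prop)
    (ha : ∀ {A' A'' : Type u} [CommRing A'] [CommRing A''] (ψ : R →+* A') (χ : A' →+* A''),
      Φ ψ → Φ (χ.comp ψ))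
    (hb : ∀ {A' : Type u} [CommRing A'] (ψ : R →+* A') (t : Finset R),
      Ideal.span (t : Set R) = ⊤ →
      (∀ g ∈ t, Φ ((algebraMap A' (Localization.Away (ψ g))).comp ψ)) → Φ ψ)
    (s : Finset R) (hs : Ideal.span (s : Set R) = ⊤)
    (hc : ∀ f ∈ s, ∃ Jf : Ideal (Localization.Away f),
      ∀ {A' : Type u} [CommRing A'] (ψ' : Localization.Away f →+* A'),
        Φ (ψ'.comp (algebraMap R (Localization.Away f))) ↔ Jf ≤ RingHom.ker ψ') :
    ∃ J : Ideal R, ∀ {A' : Type u} [CommRing A'] (ψ : R →+* A'), Φ ψ ↔ J ≤ RingHom.ker ψ := by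
  classical
  -- choose the local ideals
  have hc' : ∀ f : s, ∃ Jf : Ideal (Localization.Away (f : R)),
      ∀ {A' : Type u} [CommRing A'] (ψ' : Localization.Away (f : R) →+* A'),
        Φ (ψ'.comp (algebraMap R (Localization.Away (f : R)))) ↔ Jf ≤ RingHom.ker ψ' :=
    fun f => hc f f.2
  choose Jloc hJloc using hc'
  -- the global ideal
  obtain ⟨J, hJmem⟩ : ∃ J : Ideal R, ∀ r : R, r ∈ J ↔
      ∀ (A' : Type u) [CommRing A'] (ψ : R →+* A'), Φ ψ → ψ r = 0 :=
    ⟨{ carrier := {r | ∀ (A' : Type u) [CommRing A'] (ψ : R →+* A'), Φ ψ → ψ r = 0}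
       add_mem' := by
        intro a b ha' hb' A' _ ψ hψ
        rw [map_add, ha' A' ψ hψ, hb' A' ψ hψ, add_zero]
       zero_mem' := by
        intro A' _ ψ _
        exact map_zero ψ
       smul_mem' := by
        intro c a ha' A' _ ψ hψ
        rw [smul_eq_mul, map_mul, ha' A' ψ hψ, mul_zero] }, fun r => Iff.rfl⟩
  -- every Φ-point kills the local ideals after localization
  have hkill : ∀ {A' : Type u} [CommRing A'] (ψ : R →+* A') (_ : Φ ψ) (g : s) (r : R),
      algebraMap R (Localization.Away (g : R)) r ∈ Jloc g →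
      algebraMap A' (Localization.Away (ψ g)) (ψ r) = 0 := by
    intro A' _ ψ hψ g r hr
    have hunit : IsUnit (((algebraMap A' (Localization.Away (ψ g))).comp ψ) (g : R)) := by
      rw [RingHom.comp_apply]
      exact IsLocalization.Away.algebraMap_isUnit (ψ g)
    obtain ⟨ψg, hψg⟩ := exists_lift_away (g : R) _ hunit
    have h1 : Φ (ψg.comp (algebraMap R (Localization.Away (g : R)))) := by
      rw [hψg]
      exact ha ψ _ hψ
    have h2 := (hJloc g ψg).mp h1 hr
    rw [RingHom.mem_ker] at h2
    have := congrArg (fun φ => φ r) hψg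
    simp only [RingHom.comp_apply] at this
    rw [← this]
    exact h2
  -- key: elements of the local ideals come from `J` up to a power of `f`
  have key : ∀ (f : s) (t : Localization.Away (f : R)), t ∈ Jloc f →
      ∃ j ∈ J, ∃ n : ℕ, algebraMap R (Localization.Away (f : R)) j =
        algebraMap R (Localization.Away (f : R)) (f : R) ^ n * t := by
    intro f t ht
    obtain ⟨⟨t₀, ⟨_, n, rfl⟩⟩, ht₀⟩ := IsLocalization.surj (Submonoid.powers (f : R)) t
    dsimp only at ht₀
    -- for each g find an exponent
    have hexp : ∀ g : s, ∃ m : ℕ,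
        algebraMap R (Localization.Away (g : R)) ((f : R) ^ m * t₀) ∈ Jloc g := by
      intro g
      let Cg := Localization.Away (g : R) ⧸ Jloc g
      let πg : R →+* Cg := (Ideal.Quotient.mk (Jloc g)).comp (algebraMap R _)
      have hπg : Φ πg := (hJloc g (Ideal.Quotient.mk (Jloc g))).mpr (by rw [Ideal.mk_ker])
      let D := Localization.Away (πg (f : R))
      let ρ : R →+* D := (algebraMap Cg D).comp πg
      have hρ : Φ ρ := ha πg _ hπg
      have hunit : IsUnit (ρ (f : R)) := by
        change IsUnit (algebraMap Cg D (πg (f : R)))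
        exact IsLocalization.Away.algebraMap_isUnit (πg (f : R))
      obtain ⟨ρ', hρ'⟩ := exists_lift_away (f : R) ρ hunit
      have h1 : Φ (ρ'.comp (algebraMap R (Localization.Away (f : R)))) := by
        rw [hρ']
        exact hρ
      have h2 := (hJloc f ρ').mp h1 ht
      rw [RingHom.mem_ker] at h2
      have h3 : ρ t₀ = 0 := by
        have e : ρ t₀ = ρ' (algebraMap R _ t₀) := by
          have := congrArg (fun φ => φ t₀) hρ'
          simp only [RingHom.comp_apply] at this
          exact this.symm
        rw [e, ← ht₀, map_mul, h2, zero_mul]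
      have h4 : algebraMap Cg D (πg t₀) = 0 := h3
      obtain ⟨⟨_, m, rfl⟩, hm⟩ :=
        (IsLocalization.map_eq_zero_iff (Submonoid.powers (πg (f : R))) D (πg t₀)).mp h4
      dsimp only at hm
      refine ⟨m, ?_⟩
      have h5 : πg ((f : R) ^ m * t₀) = 0 := by
        rw [map_mul, map_pow]
        exact hm
      exact Ideal.Quotient.eq_zero_iff_mem.mp h5
    choose m hm using hexp
    let M := Finset.univ.sup m
    have hM : ∀ g : s, algebraMap R (Localization.Away (g : R)) ((f : R) ^ M * t₀) ∈ Jloc g := by
      intro g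
      have hle : m g ≤ M := Finset.le_sup (Finset.mem_univ g)
      obtain ⟨d, hd⟩ := Nat.exists_eq_add_of_le hle
      have e : (f : R) ^ M * t₀ = (f : R) ^ d * ((f : R) ^ m g * t₀) := by
        rw [hd, pow_add]
        ring
      rw [e, map_mul]
      exact Ideal.mul_mem_left _ _ (hm g)
    refine ⟨(f : R) ^ M * t₀, ?_, M + n, ?_⟩
    · rw [hJmem]
      intro A' _ ψ hψ
      refine eq_zero_of_localization_away (s.image ψ) ?_ _ ?_
      · have := Ideal.map_span ψ (s : Set R)
        rw [hs, Ideal.map_top] at this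
        rw [Finset.coe_image]
        exact this.symm
      · intro g' hg'
        obtain ⟨g, hg, rfl⟩ := Finset.mem_image.mp hg'
        exact hkill ψ hψ ⟨g, hg⟩ _ (hM ⟨g, hg⟩)
    · rw [map_mul, map_pow, ← ht₀, pow_add, map_pow]
      ring
  refine ⟨J, ?_⟩
  intro A' _ ψ
  constructor
  · intro hψ r hr
    exact (hJmem r).mp hr A' ψ hψ
  · intro hle
    -- it suffices to treat the universal point
    have huniv : Φ (Ideal.Quotient.mk J) := by
      refine hb _ s hs ?_
      intro g hg
      let E := Localization.Away ((Ideal.Quotient.mk J) g)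
      let σ : R →+* E := (algebraMap (R ⧸ J) E).comp (Ideal.Quotient.mk J)
      have hunit : IsUnit (σ g) := by
        change IsUnit (algebraMap (R ⧸ J) E ((Ideal.Quotient.mk J) g))
        exact IsLocalization.Away.algebraMap_isUnit _
      obtain ⟨σ', hσ'⟩ := exists_lift_away g σ hunit
      change Φ σ
      rw [← hσ']
      refine (hJloc ⟨g, hg⟩ σ').mpr ?_
      intro t ht
      rw [RingHom.mem_ker]
      obtain ⟨j, hj, n, hjn⟩ := key ⟨g, hg⟩ t ht
      have h1 : σ' (algebraMap R _ j) = 0 := by
        have := congrArg (fun φ => φ j) hσ'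
        simp only [RingHom.comp_apply] at this
        rw [this]
        change algebraMap (R ⧸ J) E ((Ideal.Quotient.mk J) j) = 0
        rw [Ideal.Quotient.eq_zero_iff_mem.mpr hj, map_zero]
      rw [hjn, map_mul, map_pow] at h1
      have h2 : IsUnit (σ' (algebraMap R (Localization.Away g) g)) := by
        have := congrArg (fun φ => φ g) hσ'
        simp only [RingHom.comp_apply] at this
        rw [this]
        exact hunit
      exact (IsUnit.mul_right_eq_zero (h2.pow n)).mp h1
    have hle' : ∀ a ∈ J, ψ a = 0 := fun a ha' => (RingHom.mem_ker).mp (hle ha')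
    have e : ψ = (Ideal.Quotient.lift J ψ hle').comp (Ideal.Quotient.mk J) := by
      ext r
      rw [RingHom.comp_apply, Ideal.Quotient.lift_mk]
    rw [e]
    exact ha _ _ huniv

end Groth.Agent.Helper18.LocalIdeal
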