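import Mathlib
import Groth.Agent.Lib.Helper18.ClosedFun
import Groth.Agent.Lib.Helper18.LocalIdeal

/-!
# Closed subfunctors: it suffices to find the ideals locally (helper18)
-/

set_option autoImplicit false
universe u

open CategoryTheory AlgebraicGeometry TopologicalSpace Opposite

noncomputable section

namespace Groth.Agent.Helper18.ClosedFun

variable {X : Scheme.{u}} (F : ∀ {T : Scheme.{u}}, (T ⟶ X) → Prop)

/-- `F` is cut out by an ideal on the affine open `U` -/
def Good (U : X.affineOpens) : Prop :=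
  ∃ J : Ideal Γ(X, U), ∀ (A' : CommRingCat.{u}) (ψ : Γ(X, U) ⟶ A'),
    F (Spec.map ψ ≫ U.2.fromSpec) ↔ J ≤ RingHom.ker ψ.hom

theorem good_basicOpen {U : X.affineOpens} (hU : Good F U) (f : Γ(X, U)) :
    Good F (X.affineBasicOpen f) := by
  obtain ⟨J, hJ⟩ := hU
  set V := X.affineBasicOpen f with hV
  set r : Γ(X, U) ⟶ Γ(X, V) := X.presheaf.map (homOfLE <| X.basicOpen_le f).op with hr
  have hrs : Spec.map r ≫ U.2.fromSpec = V.2.fromSpec := U.2.map_fromSpec V.2 _
  refine ⟨J.map r.hom, ?_⟩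
  intro A' ψ
  rw [← hrs, ← Category.assoc, ← Spec.map_comp, hJ, Ideal.map_le_iff_le_comap]
  rfl

theorem good_of_local
    (h1 : ∀ {T T' : Scheme.{u}} (t : T' ⟶ T) (x : T ⟶ X), F x → F (t ≫ x))
    (h2 : ∀ {T : Scheme.{u}} (x : T ⟶ X) (𝒰 : Scheme.OpenCover.{u} T), (∀ i, F (𝒰.f i ≫ x)) → F x)
    (U : X.affineOpens) (s : Finset Γ(X, U)) (hs : Ideal.span (s : Set Γ(X, U)) = ⊤)
    (hg : ∀ f ∈ s, Good F (X.affineBasicOpen f)) : Good F U := by
  suffices hloc : ∃ J : Ideal Γ(X, U), ∀ {A' : Type u} [CommRing A'] (ψ : Γ(X, U) →+* A'),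
      F (Spec.map (CommRingCat.ofHom ψ) ≫ U.2.fromSpec) ↔ J ≤ RingHom.ker ψ by
    obtain ⟨J, hJ⟩ := hloc
    exact ⟨J, fun A' ψ => hJ ψ.hom⟩
  refine LocalIdeal.local_ideal (R := Γ(X, U))
    (fun {A'} _ ψ => F (Spec.map (CommRingCat.ofHom ψ) ≫ U.2.fromSpec)) ?_ ?_ s hs ?_
  · -- (a)
    intro A' A'' _ _ ψ χ hψ
    have : Spec.map (CommRingCat.ofHom (χ.comp ψ)) =
        Spec.map (CommRingCat.ofHom χ) ≫ Spec.map (CommRingCat.ofHom ψ) := by
      rw [← Spec.map_comp]
      rfl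
    rw [this, Category.assoc]
    exact h1 _ _ hψ
  · -- (b)
    intro A' _ ψ t ht h
    have hspan : Ideal.span (Set.range (fun g : t => ψ (g : Γ(X, U)))) = ⊤ := by
      have := Ideal.map_span ψ (t : Set Γ(X, U))
      rw [ht, Ideal.map_top] at this
      rw [this]
      congr 1
      ext a
      constructor
      · rintro ⟨g, rfl⟩
        exact ⟨g, g.2, rfl⟩
      · rintro ⟨g, hg', rfl⟩
        exact ⟨⟨g, hg'⟩, rfl⟩
    let 𝒰 : Scheme.OpenCover.{u} (Spec (CommRingCat.of A')) :=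
      (Scheme.affineOpenCoverOfSpanRangeEqTop (R := CommRingCat.of A')
        (fun g : t => ψ (g : Γ(X, U))) hspan).openCover
    refine h2 _ 𝒰 ?_
    intro (i : t)
    have hi := h i i.2
    have e : 𝒰.f i ≫ Spec.map (CommRingCat.ofHom ψ) ≫ U.2.fromSpec =
        Spec.map (CommRingCat.ofHom
          ((algebraMap A' (Localization.Away (ψ (i : Γ(X, U))))).comp ψ)) ≫ U.2.fromSpec := by
      rw [← Category.assoc]
      congr 1
      change Spec.map (CommRingCat.ofHom (algebraMap A' (Localization.Away (ψ (i : Γ(X, U)))))) ≫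
        Spec.map (CommRingCat.ofHom ψ) = _
      rw [← Spec.map_comp]
      rfl
    rw [e]
    exact hi
  · -- (c)
    intro f hf
    obtain ⟨J', hJ'⟩ := hg f hf
    let V := X.affineBasicOpen f
    let r : Γ(X, U) ⟶ Γ(X, V) := X.presheaf.map (homOfLE <| X.basicOpen_le f).op
    have hrs : Spec.map r ≫ U.2.fromSpec = V.2.fromSpec := U.2.map_fromSpec V.2 _
    haveI : IsLocalization.Away f Γ(X, X.basicOpen f) := U.2.isLocalization_basicOpen f
    let e : Localization.Away f ≃ₐ[Γ(X, U)] Γ(X, X.basicOpen f) :=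
      IsLocalization.algEquiv (Submonoid.powers f) _ _
    have he : ∀ a : Γ(X, U), e (algebraMap _ _ a) = r.hom a := fun a => e.commutes a
    refine ⟨J'.comap e.toRingEquiv.toRingHom, ?_⟩
    intro A' _ ψ'
    -- ψ' = (ψ' ∘ e.symm) ∘ e
    let ψ'' : Γ(X, V) ⟶ CommRingCat.of A' :=
      CommRingCat.ofHom (ψ'.comp e.symm.toRingEquiv.toRingHom)
    have h3 : Spec.map (CommRingCat.ofHom (ψ'.comp (algebraMap Γ(X, U) (Localization.Away f)))) ≫
        U.2.fromSpec = Spec.map ψ'' ≫ V.2.fromSpec := by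
      rw [← hrs, ← Category.assoc, ← Spec.map_comp]
      congr 2
      ext a
      change ψ' (algebraMap _ _ a) = ψ' (e.symm (r.hom a))
      rw [← he, AlgEquiv.symm_apply_apply]
    rw [h3]
    refine (hJ' _ ψ'').trans ?_
    constructor
    · intro h t ht
      rw [RingHom.mem_ker]
      have := h ht
      rw [RingHom.mem_ker] at this
      change ψ' (e.symm (e t)) = 0 at this
      rwa [AlgEquiv.symm_apply_apply] at this
    · intro h t ht
      rw [RingHom.mem_ker]
      have : e.symm t ∈ Ideal.comap e.toRingEquiv.toRingHom J' := by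
        change e (e.symm t) ∈ J'
        rwa [AlgEquiv.apply_symm_apply]
      have := h this
      rw [RingHom.mem_ker] at this
      exact this

/-- **closed subfunctors, local form**: enough to find the cutting ideals on affine opens covering
`X` -/
theorem exists_idealSheaf_of_local
    (h1 : ∀ {T T' : Scheme.{u}} (t : T' ⟶ T) (x : T ⟶ X), F x → F (t ≫ x))
    (h2 : ∀ {T : Scheme.{u}} (x : T ⟶ X) (𝒰 : Scheme.OpenCover.{u} T), (∀ i, F (𝒰.f i ≫ x)) → F x)
    (h3 : ∀ x : X, ∃ U : X.affineOpens, x ∈ U.1 ∧ Good F U) :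
    ∃ 𝒥 : X.IdealSheafData, F 𝒥.subschemeι ∧
      ∀ {T : Scheme.{u}} (x : T ⟶ X), F x → 𝒥 ≤ x.ker := by
  refine exists_idealSheaf F h1 h2 ?_
  intro W
  -- every point of `W` has a good basic open neighbourhood in `W`
  have hpt : ∀ x : X, x ∈ W.1 → ∃ f : Γ(X, W), x ∈ X.basicOpen f ∧ Good F (X.affineBasicOpen f) := by
    intro x hxW
    obtain ⟨U, hxU, hU⟩ := h3 x
    obtain ⟨h, hh1, hh2⟩ := U.2.exists_basicOpen_le (V := W.1) ⟨x, hxW⟩ hxU
    have hU₁ : Good F (X.affineBasicOpen h) := good_basicOpen F hU h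
    obtain ⟨f, hf1, hf2⟩ := W.2.exists_basicOpen_le (V := X.basicOpen h) ⟨x, hh2⟩ hxW
    refine ⟨f, hf2, ?_⟩
    -- `D_W(f)` is a basic open of `D_U(h)`
    let U₁ := X.affineBasicOpen h
    let f' : Γ(X, U₁) := (X.presheaf.map (homOfLE hh1).op).hom f
    have hfe : X.affineBasicOpen f' = X.affineBasicOpen f := by
      apply Subtype.ext
      change X.basicOpen f' = X.basicOpen f
      have := X.basicOpen_res (U := W.1) (V := U₁.1) f (homOfLE hh1).op
      exact this.trans (inf_eq_right.mpr hf1)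
    rw [← hfe]
    exact good_basicOpen F hU₁ f'
  -- the good elements span the unit ideal
  let S : Set Γ(X, W) := {f | Good F (X.affineBasicOpen f)}
  have hS : Ideal.span S = ⊤ := by
    rw [← W.2.self_le_iSup_basicOpen_iff]
    intro x hx
    obtain ⟨f, hxf, hf⟩ := hpt x hx
    exact Opens.mem_iSup.mpr ⟨⟨f, hf⟩, hxf⟩
  obtain ⟨s, hsS, hs⟩ := (Ideal.span_eq_top_iff_finite S).mp hS
  exact good_of_local F h1 h2 W s hs (fun f hf => hsS hf)

end Groth.Agent.Helper18.ClosedFun
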