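import Mathlib
import Groth.Agent.Lib.Helper18.ClosedFun2

/-!
# Closed subfunctors cut out by finitely generated ideals are of finite presentation (helper18)
-/

set_option autoImplicit false
universe u

open CategoryTheory AlgebraicGeometry TopologicalSpace Opposite CategoryTheory.Limits

noncomputable section

namespace Groth.Agent.Helper18.ClosedFun

variable {X : Scheme.{u}} (F : ∀ {T : Scheme.{u}}, (T ⟶ X) → Prop)

/-- `F` is cut out by a finitely generated ideal on the affine open `U` -/
def GoodFG (U : X.affineOpens) : Prop :=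
  ∃ J : Ideal Γ(X, U), J.FG ∧ ∀ (A' : CommRingCat.{u}) (ψ : Γ(X, U) ⟶ A'),
    F (Spec.map ψ ≫ U.2.fromSpec) ↔ J ≤ RingHom.ker ψ.hom

theorem GoodFG.good {U : X.affineOpens} (h : GoodFG F U) : Good F U := by
  obtain ⟨J, -, hJ⟩ := h
  exact ⟨J, hJ⟩

/-- factoring through `Spec (R/I) → Spec R` -/
theorem exists_fac_SpecMap_mk_iff {R A' : CommRingCat.{u}} (I : Ideal R) (ψ : R ⟶ A') :
    (∃ l : Spec A' ⟶ Spec (CommRingCat.of (R ⧸ I)),
      l ≫ Spec.map (CommRingCat.ofHom (Ideal.Quotient.mk I)) = Spec.map ψ) ↔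
      I ≤ RingHom.ker ψ.hom := by
  constructor
  · rintro ⟨l, hl⟩
    obtain ⟨χ, rfl⟩ := Spec.map_surjective l
    rw [← Spec.map_comp] at hl
    have := Spec.map_injective hl
    intro a ha
    rw [RingHom.mem_ker, ← this]
    change χ.hom (Ideal.Quotient.mk I a) = 0
    rw [Ideal.Quotient.eq_zero_iff_mem.mpr ha, map_zero]
  · intro h
    refine ⟨Spec.map (CommRingCat.ofHom (Ideal.Quotient.lift I ψ.hom (fun a ha => h ha))), ?_⟩
    rw [← Spec.map_comp]
    congr 1

theorem lfp_of_goodFG {Z : Scheme.{u}} (j : Z ⟶ X) [IsClosedImmersion j]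
    (hj : ∀ {T : Scheme.{u}} (x : T ⟶ X), F x ↔ ∃ z : T ⟶ Z, z ≫ j = x)
    (h3 : ∀ x : X, ∃ U : X.affineOpens, x ∈ U.1 ∧ GoodFG F U) :
    LocallyOfFinitePresentation j := by
  choose U hxU J hJfg hJ using h3
  let 𝒰 : X.OpenCover := Scheme.Cover.mkOfCovers X (fun x => Spec Γ(X, (U x).1))
    (fun x => (U x).2.fromSpec) (fun x => by
      have : x ∈ Set.range (U x).2.fromSpec.base := by
        rw [(U x).2.range_fromSpec]
        exact hxU x
      obtain ⟨y, hy⟩ := this
      exact ⟨x, y, hy⟩) (fun x => inferInstanceAs (IsOpenImmersion (U x).2.fromSpec))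
  apply IsZariskiLocalAtTarget.of_openCover (P := @LocallyOfFinitePresentation) 𝒰
  intro (x : X)
  change LocallyOfFinitePresentation (pullback.snd j (U x).2.fromSpec)
  obtain ⟨I, e, he⟩ := IsClosedImmersion.Spec_iff.mp
    (inferInstance : IsClosedImmersion (pullback.snd j (U x).2.fromSpec))
  -- the two ideals agree
  have hiff : ∀ (A' : CommRingCat.{u}) (ψ : Γ(X, (U x).1) ⟶ A'),
      I ≤ RingHom.ker ψ.hom ↔ J x ≤ RingHom.ker ψ.hom := by
    intro A' ψ
    refine Iff.trans ?_ (hJ x A' ψ)
    refine Iff.trans ?_ (hj _).symm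
    rw [← exists_fac_SpecMap_mk_iff]
    constructor
    · rintro ⟨l, hl⟩
      refine ⟨l ≫ e.inv ≫ pullback.fst j (U x).2.fromSpec, ?_⟩
      rw [Category.assoc, Category.assoc, pullback.condition, he, ← hl]
      simp
    · rintro ⟨z, hz⟩
      refine ⟨pullback.lift z (Spec.map ψ) hz ≫ e.hom, ?_⟩
      rw [Category.assoc, ← he, pullback.lift_snd]
  have hI : I = J x := by
    apply le_antisymm
    · have := (hiff (CommRingCat.of (Γ(X, (U x).1) ⧸ J x))
        (CommRingCat.ofHom (Ideal.Quotient.mk (J x)))).mpr (by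
          intro a ha
          rw [RingHom.mem_ker]
          exact Ideal.Quotient.eq_zero_iff_mem.mpr ha)
      intro a ha
      have h1 := this ha
      rw [RingHom.mem_ker] at h1
      exact Ideal.Quotient.eq_zero_iff_mem.mp h1
    · have := (hiff (CommRingCat.of (Γ(X, (U x).1) ⧸ I))
        (CommRingCat.ofHom (Ideal.Quotient.mk I))).mp (by
          intro a ha
          rw [RingHom.mem_ker]
          exact Ideal.Quotient.eq_zero_iff_mem.mpr ha)
      intro a ha
      have h1 := this ha
      rw [RingHom.mem_ker] at h1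
      exact Ideal.Quotient.eq_zero_iff_mem.mp h1
  rw [he]
  have : LocallyOfFinitePresentation
      (Spec.map (CommRingCat.ofHom (Ideal.Quotient.mk I))) := by
    rw [LocallyOfFinitePresentation.SpecMap_iff]
    refine RingHom.FinitePresentation.of_surjective _ Ideal.Quotient.mk_surjective ?_
    change (RingHom.ker (Ideal.Quotient.mk I)).FG
    rw [Ideal.mk_ker, hI]
    exact hJfg x
  infer_instance

end Groth.Agent.Helper18.ClosedFun
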