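import Mathlib
import Groth.Agent.Lib.Helper18.FixedLoc

/-!
# Affine objects over a general base, lying over an affine open (helper18)

`TS ι B` is `Spec B` over `S` through a monomorphism `ι : Spec R ⟶ S`.
-/

set_option autoImplicit false
set_option linter.unusedSectionVars false
set_option linter.style.haveILetI false
universe u

open CategoryTheory AlgebraicGeometry TopologicalSpace Opposite TensorProduct
open MonoidalCategory CartesianMonoidalCategory CategoryTheory.Limits

noncomputable section

namespace Groth.Agent.Helper18.RelBase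

section Pb

variable {C : Type*} [Category C] {X Y W Z : C} (f : X ⟶ W) (g : Y ⟶ W) (i : W ⟶ Z) [Mono i]
  [HasPullback f g] [HasPullback (f ≫ i) (g ≫ i)]

/-- the pullback over `W` is the pullback over `Z` when `W ⟶ Z` is mono -/
def pbIso : pullback (f ≫ i) (g ≫ i) ≅ pullback f g where
  hom := pullback.lift (pullback.fst _ _) (pullback.snd _ _) (by
    rw [← cancel_mono i, Category.assoc, Category.assoc, pullback.condition])
  inv := pullback.lift (pullback.fst f g) (pullback.snd f g) (by
    rw [pullback.condition_assoc])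
  hom_inv_id := by
    apply pullback.hom_ext
    · rw [Category.assoc, pullback.lift_fst, pullback.lift_fst, Category.id_comp]
    · rw [Category.assoc, pullback.lift_snd, pullback.lift_snd, Category.id_comp]
  inv_hom_id := by
    apply pullback.hom_ext
    · rw [Category.assoc, pullback.lift_fst, pullback.lift_fst, Category.id_comp]
    · rw [Category.assoc, pullback.lift_snd, pullback.lift_snd, Category.id_comp]

theorem pbIso_inv_fst : (pbIso f g i).inv ≫ pullback.fst _ _ = pullback.fst f g :=
  pullback.lift_fst _ _ _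

theorem pbIso_inv_snd : (pbIso f g i).inv ≫ pullback.snd _ _ = pullback.snd f g :=
  pullback.lift_snd _ _ _

end Pb

section TS

variable {S : Scheme.{u}} {R : Type u} [CommRing R] (ι : Spec (CommRingCat.of R) ⟶ S)

/-- `Spec B` over `S` through `ι : Spec R ⟶ S` -/
def TS (B : Type u) [CommRing B] [Algebra R B] : Over S :=
  Over.mk (Spec.map (CommRingCat.ofHom (algebraMap R B)) ≫ ι)

variable {B B' B'' A A' : Type u} [CommRing B] [Algebra R B] [CommRing B'] [Algebra R B']
  [CommRing B''] [Algebra R B''] [CommRing A] [Algebra R A] [CommRing A'] [Algebra R A']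

theorem TS_hom : (TS ι B).hom = Spec.map (CommRingCat.ofHom (algebraMap R B)) ≫ ι := rfl

theorem TS_left : (TS ι B).left = Spec (CommRingCat.of B) := rfl

/-- `Spec` of an algebra map -/
def sp (θ : B →ₐ[R] B') : TS ι B' ⟶ TS ι B :=
  Over.homMk (Spec.map (CommRingCat.ofHom θ.toRingHom)) (by
    change Spec.map (CommRingCat.ofHom θ.toRingHom) ≫
      Spec.map (CommRingCat.ofHom (algebraMap R B)) ≫ ι =
      Spec.map (CommRingCat.ofHom (algebraMap R B')) ≫ ι
    rw [← Category.assoc, ← Spec.map_comp, ← CommRingCat.ofHom_comp]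
    congr 3
    exact θ.comp_algebraMap)

theorem sp_left (θ : B →ₐ[R] B') : (sp ι θ).left = Spec.map (CommRingCat.ofHom θ.toRingHom) := rfl

theorem sp_comp (θ : B →ₐ[R] B') (θ' : B' →ₐ[R] B'') : sp ι θ' ≫ sp ι θ = sp ι (θ'.comp θ) := by
  ext1
  change Spec.map (CommRingCat.ofHom θ'.toRingHom) ≫ Spec.map (CommRingCat.ofHom θ.toRingHom) =
    Spec.map (CommRingCat.ofHom (θ'.comp θ).toRingHom)
  rw [← Spec.map_comp, ← CommRingCat.ofHom_comp]
  rfl

theorem sp_injective : Function.Injective (sp ι : (B →ₐ[R] B') → (TS ι B' ⟶ TS ι B)) := by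
  intro θ θ' h
  have h1 : Spec.map (CommRingCat.ofHom θ.toRingHom) = Spec.map (CommRingCat.ofHom θ'.toRingHom) :=
    congrArg (fun f => f.left) h
  have h2 := Spec.map_injective h1
  apply AlgHom.coe_ringHom_injective
  exact congrArg (fun f => f.hom) h2

theorem sp_surjective [Mono ι] (x : TS ι B' ⟶ TS ι B) : ∃ θ : B →ₐ[R] B', sp ι θ = x := by
  have hw : x.left ≫ Spec.map (CommRingCat.ofHom (algebraMap R B)) =
      Spec.map (CommRingCat.ofHom (algebraMap R B')) := by
    rw [← cancel_mono ι, Category.assoc]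
    exact Over.w x
  refine ⟨⟨(Spec.preimage x.left).hom, ?_⟩, ?_⟩
  · suffices CommRingCat.ofHom (algebraMap R B) ≫ Spec.preimage x.left =
        CommRingCat.ofHom (algebraMap R B') from fun r ↦ congr($this r)
    apply Spec.map_injective
    rw [Spec.map_comp, Spec.map_preimage]
    exact hw
  · ext1
    change Spec.map (CommRingCat.ofHom (Spec.preimage x.left).hom) = x.left
    simp

variable (B A) in
theorem isIso_prodLift [Mono ι] :
    IsIso (lift (sp ι (Algebra.TensorProduct.includeLeft : B →ₐ[R] B ⊗[R] A))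
      (sp ι (Algebra.TensorProduct.includeRight : A →ₐ[R] B ⊗[R] A))) := by
  have hleft : (lift (sp ι (Algebra.TensorProduct.includeLeft : B →ₐ[R] B ⊗[R] A))
      (sp ι (Algebra.TensorProduct.includeRight : A →ₐ[R] B ⊗[R] A))).left =
      (pullbackSpecIso R B A).inv ≫ (pbIso _ _ ι).inv := by
    have h1 : ((pullbackSpecIso R B A).inv ≫
        (pbIso (Spec.map (CommRingCat.ofHom (algebraMap R B)))
          (Spec.map (CommRingCat.ofHom (algebraMap R A))) ι).inv) ≫
        pullback.fst (Spec.map (CommRingCat.ofHom (algebraMap R B)) ≫ ι)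
          (Spec.map (CommRingCat.ofHom (algebraMap R A)) ≫ ι) =
        Spec.map (CommRingCat.ofHom
          (Algebra.TensorProduct.includeLeft : B →ₐ[R] B ⊗[R] A).toRingHom) := by
      rw [Category.assoc, pbIso_inv_fst]
      exact pullbackSpecIso_inv_fst R B A
    have h2 : ((pullbackSpecIso R B A).inv ≫
        (pbIso (Spec.map (CommRingCat.ofHom (algebraMap R B)))
          (Spec.map (CommRingCat.ofHom (algebraMap R A))) ι).inv) ≫
        pullback.snd (Spec.map (CommRingCat.ofHom (algebraMap R B)) ≫ ι)
          (Spec.map (CommRingCat.ofHom (algebraMap R A)) ≫ ι) =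
        Spec.map (CommRingCat.ofHom
          (Algebra.TensorProduct.includeRight : A →ₐ[R] B ⊗[R] A).toRingHom) := by
      rw [Category.assoc, pbIso_inv_snd]
      exact pullbackSpecIso_inv_snd R B A
    rw [Over.lift_left]
    apply pullback.hom_ext
    · rw [pullback.lift_fst]
      exact h1.symm
    · rw [pullback.lift_snd]
      exact h2.symm
  have : IsIso ((Over.forget _).map
      (lift (sp ι (Algebra.TensorProduct.includeLeft : B →ₐ[R] B ⊗[R] A))
      (sp ι (Algebra.TensorProduct.includeRight : A →ₐ[R] B ⊗[R] A)))) := by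
    rw [Over.forget_map, hleft]
    exact IsIso.comp_isIso' (Iso.isIso_inv _) (Iso.isIso_inv _)
  exact isIso_of_reflects_iso _ (Over.forget _)

variable (B A) in
/-- `Spec (B ⊗ A) ≅ Spec B × Spec A` over `S` -/
def prodIso [Mono ι] : TS ι (B ⊗[R] A) ≅ TS ι B ⊗ TS ι A :=
  haveI := isIso_prodLift ι B A
  asIso (lift (sp ι (Algebra.TensorProduct.includeLeft : B →ₐ[R] B ⊗[R] A))
      (sp ι (Algebra.TensorProduct.includeRight : A →ₐ[R] B ⊗[R] A)))

theorem prodIso_hom_fst [Mono ι] : (prodIso ι B A).hom ≫ fst _ _ =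
    sp ι (Algebra.TensorProduct.includeLeft : B →ₐ[R] B ⊗[R] A) := by
  simp [prodIso]

theorem prodIso_hom_snd [Mono ι] : (prodIso ι B A).hom ≫ snd _ _ =
    sp ι (Algebra.TensorProduct.includeRight : A →ₐ[R] B ⊗[R] A) := by
  simp [prodIso]

theorem prodIso_whiskerLeft [Mono ι] (ψ : A →ₐ[R] A') :
    sp ι (Algebra.TensorProduct.map (AlgHom.id R B) ψ) ≫ (prodIso ι B A).hom =
      (prodIso ι B A').hom ≫ (TS ι B ◁ sp ι ψ) := by
  apply CartesianMonoidalCategory.hom_ext
  · rw [Category.assoc, prodIso_hom_fst, Category.assoc, whiskerLeft_fst, prodIso_hom_fst, sp_comp]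
    congr 1
    ext b
    simp
  · rw [Category.assoc, prodIso_hom_snd, Category.assoc, whiskerLeft_snd, ← Category.assoc,
      prodIso_hom_snd, sp_comp, sp_comp]
    congr 1

end TS

end Groth.Agent.Helper18.RelBase
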