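import Mathlib
import Groth.Agent.Lib.Helper18.RelBase
import Groth.Agent.Lib.Helper18.WeilRes
import Groth.Agent.Lib.Helper18.ClosedFun2

/-!
# Weil restriction of closed conditions along `Y × X → X` over a general base, `Y` locally free
(helper18)
-/

set_option autoImplicit false
set_option linter.unusedSectionVars false
set_option linter.style.haveILetI false
universe u

open CategoryTheory AlgebraicGeometry TopologicalSpace Opposite TensorProduct
open MonoidalCategory CartesianMonoidalCategory CategoryTheory.Limits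

noncomputable section

namespace Groth.Agent.Helper18.RelBase

open Groth.Agent.Helper18.WeilRes

/-! ### coefficient ideals over a ring -/

section CoeffIdeal

variable (R : Type u) [CommRing R] (B A : Type u) [CommRing B] [Algebra R B] [CommRing A]
  [Algebra R A]

/-- the coefficient of `f ∈ B ⊗ A` along a functional of `B` -/
def coeff (φ : B →ₗ[R] R) (f : B ⊗[R] A) : A := TensorProduct.lid R A (φ.rTensor A f)

variable {R B A}

theorem coeff_map {A' : Type u} [CommRing A'] [Algebra R A'] (ψ : A →ₐ[R] A') (φ : B →ₗ[R] R)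
    (f : B ⊗[R] A) :
    coeff R B A' φ (Algebra.TensorProduct.map (AlgHom.id R B) ψ f) = ψ (coeff R B A φ f) := by
  induction f using TensorProduct.induction_on with
  | zero => simp [coeff]
  | tmul b a => simp [coeff]
  | add x y hx hy =>
    have e1 : coeff R B A φ (x + y) = coeff R B A φ x + coeff R B A φ y := by simp [coeff]
    have e2 : coeff R B A' φ (Algebra.TensorProduct.map (AlgHom.id R B) ψ (x + y)) =
        coeff R B A' φ (Algebra.TensorProduct.map (AlgHom.id R B) ψ x) +
        coeff R B A' φ (Algebra.TensorProduct.map (AlgHom.id R B) ψ y) := by simp [coeff]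
    rw [e1, e2, hx, hy, map_add]

variable (R B A) in
/-- the ideal of coefficients of a subset of `B ⊗ A` -/
def coeffIdeal (I : Set (B ⊗[R] A)) : Ideal A :=
  Ideal.span {a | ∃ (φ : B →ₗ[R] R) (f : B ⊗[R] A), f ∈ I ∧ a = coeff R B A φ f}

theorem coeffIdeal_le_ker_iff [Module.Projective R B] (I : Set (B ⊗[R] A)) {A' : Type u}
    [CommRing A'] [Algebra R A'] (ψ : A →ₐ[R] A') :
    coeffIdeal R B A I ≤ RingHom.ker (ψ : A →+* A') ↔
      ∀ f ∈ I, Algebra.TensorProduct.map (AlgHom.id R B) ψ f = 0 := by
  classical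
  constructor
  · intro h f hf
    obtain ⟨s, hs⟩ := Module.projective_def'.mp (inferInstance : Module.Projective R B)
    let p : (B →₀ R) →ₗ[R] B := Finsupp.linearCombination R id
    let ℬ : Module.Basis B R (B →₀ R) := Finsupp.basisSingleOne
    set g := Algebra.TensorProduct.map (AlgHom.id R B) ψ f with hg
    have hinj : (p.rTensor A') ((s.rTensor A') g) = g := by
      rw [← LinearMap.rTensor_comp_apply]
      have : p ∘ₗ s = LinearMap.id := hs
      rw [this, LinearMap.rTensor_id_apply]
    rw [← hinj]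
    have hz : (s.rTensor A') g = 0 := by
      apply (TensorProduct.equivFinsuppOfBasisLeft (N := A') ℬ).injective
      ext i
      rw [TensorProduct.equivFinsuppOfBasisLeft_apply, map_zero, Finsupp.zero_apply,
        ← LinearMap.rTensor_comp_apply]
      have h1 := coeff_map ψ (ℬ.coord i ∘ₗ s) f
      have h2 : coeff R B A (ℬ.coord i ∘ₗ s) f ∈ coeffIdeal R B A I :=
        Ideal.subset_span ⟨ℬ.coord i ∘ₗ s, f, hf, rfl⟩
      have h3 := h h2
      rw [RingHom.mem_ker] at h3
      exact h1.trans h3
    rw [hz, map_zero]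
  · intro h
    refine Ideal.span_le.mpr ?_
    rintro a ⟨φ, f, hf, rfl⟩
    change ψ (coeff R B A φ f) = 0
    rw [← coeff_map, h f hf]
    simp [coeff]

end CoeffIdeal

/-! ### covers -/

section Cover

variable {S : Scheme.{u}} {X Y : Over S} (Pr : LPred X Y)

theorem isOpenImmersion_whiskerRight {Y' : Over S} (f : Y' ⟶ Y) [IsOpenImmersion f.left]
    (T : Over S) : IsOpenImmersion (f ▷ T).left := by
  rw [Over.whiskerRight_left]
  exact MorphismProperty.pullbackMap (P := @IsOpenImmersion) (inferInstance : IsOpenImmersion f.left)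
    (inferInstance : IsOpenImmersion (𝟙 T.left)) (Over.w f).symm (Category.id_comp _).symm

theorem range_whiskerRight {Y' : Over S} (f : Y' ⟶ Y) (T : Over S) :
    Set.range (f ▷ T).left.base = (fst Y T).left.base ⁻¹' Set.range f.left.base := by
  rw [Over.whiskerRight_left]
  have := Scheme.Pullback.range_map Y'.hom T.hom Y.hom T.hom f.left (𝟙 _) (𝟙 _) (by simp) (by simp)
  refine this.trans ?_
  have e : Set.range (𝟙 T.left : T.left ⟶ T.left).base = Set.univ := by
    ext z
    simp
  rw [e, Set.preimage_univ, Set.inter_univ]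
  rfl

theorem q_iff_cover' {I : Type u} (Yi : I → Over S) (ι : ∀ i, Yi i ⟶ Y)
    [∀ i, IsOpenImmersion (ι i).left] {T : Over S} (x : T ⟶ X)
    (hcov : ∀ w : (Y ⊗ T).left, ∃ i, (fst Y T).left.base w ∈ Set.range (ι i).left.base) :
    Q Pr x ↔ ∀ i, Q (Pr.pull (ι i)) x := by
  have key : ∀ i, Q (Pr.pull (ι i)) x ↔ Pr.P ((ι i ▷ T) ≫ (Y ◁ x)) := by
    intro i
    unfold Q LPred.pull
    dsimp only
    rw [whisker_exchange]
  constructor
  · intro h i
    rw [key]
    exact Pr.comp _ _ h
  · intro h
    unfold Q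
    haveI : ∀ i, IsOpenImmersion (ι i ▷ T).left := fun i => isOpenImmersion_whiskerRight (ι i) T
    refine Pr.loc _ (fun i => Yi i ⊗ T) (fun i => ι i ▷ T) ?_ ?_
    · intro w
      obtain ⟨i, hi⟩ := hcov w
      have : w ∈ Set.range (ι i ▷ T).left.base := by
        rw [range_whiskerRight]
        exact hi
      obtain ⟨z, hz⟩ := this
      exact ⟨i, z, hz⟩
    · intro i
      exact (key i).mp (h i)

end Cover

/-! ### the affine case -/

section Affine

variable {S : Scheme.{u}} {X : Over S} {R : Type u} [CommRing R]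
  (ι : Spec (CommRingCat.of R) ⟶ S) [Mono ι]
  {B A : Type u} [CommRing B] [Algebra R B] [CommRing A] [Algebra R A]

theorem affine_case [Module.Projective R B] (Pr : LPred X (TS ι B)) (u : TS ι A ⟶ X)
    (I : Set (B ⊗[R] A))
    (hI : ∀ (R' : Type u) [CommRing R'] [Algebra R R'] (θ : B ⊗[R] A →ₐ[R] R'),
      Pr.P (sp ι θ ≫ (prodIso ι B A).hom ≫ (TS ι B ◁ u)) ↔ ∀ f ∈ I, θ f = 0)
    (A' : Type u) [CommRing A'] [Algebra R A'] (ψ : A →ₐ[R] A') :
    Q Pr (sp ι ψ ≫ u) ↔ coeffIdeal R B A I ≤ RingHom.ker (ψ : A →+* A') := by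
  rw [coeffIdeal_le_ker_iff, ← hI]
  have e : sp ι (Algebra.TensorProduct.map (AlgHom.id R B) ψ) ≫ (prodIso ι B A).hom ≫
      (TS ι B ◁ u) = (prodIso ι B A').hom ≫ (TS ι B ◁ (sp ι ψ ≫ u)) := by
    rw [← Category.assoc, prodIso_whiskerLeft, Category.assoc,
      MonoidalCategory.whiskerLeft_comp]
  rw [e, Pr.iso]
  rfl

end Affine

end Groth.Agent.Helper18.RelBase
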