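import Mathlib
import Groth.Agent.Lib.Helper18.RelBase2

/-!
# Weil restriction of closed conditions over a general base: the main theorem (helper18)
-/

set_option autoImplicit false
set_option linter.unusedSectionVars false
set_option linter.style.haveILetI false
universe u

open CategoryTheory AlgebraicGeometry TopologicalSpace Opposite TensorProduct
open MonoidalCategory CartesianMonoidalCategory CategoryTheory.Limits

noncomputable section

namespace Groth.Agent.Helper18.RelBase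

open Groth.Agent.Helper18.WeilRes

variable {S : Scheme.{u}} {X Y : Over S}

/-- `Y` is covered, locally on `S`, by affine opens whose rings are projective over the base ring -/
def LocFree (Y : Over S) : Prop :=
  ∀ s : S, ∃ V : S.affineOpens, s ∈ V.1 ∧
    ∀ y : Y.left, Y.hom.base y ∈ V.1 →
      ∃ (W : Y.left.affineOpens) (h : W.1 ≤ Y.hom ⁻¹ᵁ V.1), y ∈ W.1 ∧
        @Module.Projective Γ(S, V) _ Γ(Y.left, W) _ (Y.hom.appLE V.1 W.1 h).hom.toAlgebra.toModule

variable (Pr : LPred X Y)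

/-- the local hypothesis: on affine pieces the condition is cut out by equations -/
def HypI : Prop :=
  ∀ (R : Type u) [CommRing R] (ι : Spec (CommRingCat.of R) ⟶ S) [IsOpenImmersion ι]
    (B : Type u) [CommRing B] [Algebra R B] (ιB : TS ι B ⟶ Y)
    (A : Type u) [CommRing A] [Algebra R A] (u : TS ι A ⟶ X) [IsOpenImmersion u.left],
    ∃ I : Set (B ⊗[R] A), ∀ (R' : Type u) [CommRing R'] [Algebra R R'] (θ : B ⊗[R] A →ₐ[R] R'),
      Pr.P (sp ι θ ≫ (prodIso ι B A).hom ≫ (TS ι B ◁ u) ≫ (ιB ▷ X)) ↔ ∀ f ∈ I, θ f = 0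

theorem good_of_HypI (h : HypI Pr) (V : S.affineOpens)
    (hV : ∀ y : Y.left, Y.hom.base y ∈ V.1 →
      ∃ (W : Y.left.affineOpens) (h : W.1 ≤ Y.hom ⁻¹ᵁ V.1), y ∈ W.1 ∧
        @Module.Projective Γ(S, V) _ Γ(Y.left, W) _ (Y.hom.appLE V.1 W.1 h).hom.toAlgebra.toModule)
    (U : X.left.affineOpens) (hUV : U.1 ≤ X.hom ⁻¹ᵁ V.1) :
    ClosedFun.Good (fun {T} x => QS Pr x) U := by
  let ι : Spec (CommRingCat.of Γ(S, V)) ⟶ S := V.2.fromSpec
  haveI : IsOpenImmersion ι := inferInstanceAs (IsOpenImmersion V.2.fromSpec)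
  letI algA : Algebra Γ(S, V) Γ(X.left, U) := (X.hom.appLE V.1 U.1 hUV).hom.toAlgebra
  have hA : Spec.map (CommRingCat.ofHom (algebraMap Γ(S, V) Γ(X.left, U))) ≫ ι =
      U.2.fromSpec ≫ X.hom := IsAffineOpen.SpecMap_appLE_fromSpec X.hom V.2 U.2 hUV
  let u : TS ι Γ(X.left, U) ⟶ X := Over.homMk U.2.fromSpec hA.symm
  haveI : IsOpenImmersion u.left := inferInstanceAs (IsOpenImmersion U.2.fromSpec)
  -- the cover of `Y` over `V`
  let Idx := {y : Y.left // Y.hom.base y ∈ V.1}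
  choose W hW hyW hfree using fun i : Idx => hV i.1 i.2
  letI algB : ∀ i : Idx, Algebra Γ(S, V) Γ(Y.left, W i) := fun i =>
    (Y.hom.appLE V.1 (W i).1 (hW i)).hom.toAlgebra
  haveI : ∀ i : Idx, Module.Projective Γ(S, V) Γ(Y.left, W i) := hfree
  have hB : ∀ i : Idx, Spec.map (CommRingCat.ofHom (algebraMap Γ(S, V) Γ(Y.left, W i))) ≫ ι =
      (W i).2.fromSpec ≫ Y.hom := fun i =>
    IsAffineOpen.SpecMap_appLE_fromSpec Y.hom V.2 (W i).2 (hW i)
  let ιY : ∀ i : Idx, TS ι Γ(Y.left, W i) ⟶ Y := fun i => Over.homMk (W i).2.fromSpec (hB i).symm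
  haveI : ∀ i, IsOpenImmersion (ιY i).left := fun i =>
    inferInstanceAs (IsOpenImmersion (W i).2.fromSpec)
  choose I hI using fun i : Idx => h Γ(S, V) ι Γ(Y.left, W i) (ιY i) Γ(X.left, U) u
  refine ⟨⨆ i, coeffIdeal Γ(S, V) Γ(Y.left, W i) Γ(X.left, U) (I i), ?_⟩
  intro A' ψ
  letI algA' : Algebra Γ(S, V) A' := (ψ.hom.comp (algebraMap Γ(S, V) Γ(X.left, U))).toAlgebra
  let ψ' : Γ(X.left, U) →ₐ[Γ(S, V)] A' := ⟨ψ.hom, fun r => rfl⟩
  have step1 : QS Pr (Spec.map ψ ≫ U.2.fromSpec) ↔ Q Pr (sp ι ψ' ≫ u) :=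
    qS_iff Pr (sp ι ψ' ≫ u)
  have hcov : ∀ w : (Y ⊗ TS ι A').left,
      ∃ i : Idx, (fst Y (TS ι A')).left.base w ∈ Set.range (ιY i).left.base := by
    intro w
    have hy : Y.hom.base ((fst Y (TS ι A')).left.base w) ∈ V.1 := by
      have e : (fst Y (TS ι A')).left ≫ Y.hom = (snd Y (TS ι A')).left ≫ (TS ι A').hom := by
        rw [Over.w, Over.w]
      have e' := congrArg (fun f => f.base w) e
      change Y.hom.base ((fst Y (TS ι A')).left.base w) =
        (TS ι A').hom.base ((snd Y (TS ι A')).left.base w) at e'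
      rw [e']
      have : (TS ι A').hom.base ((snd Y (TS ι A')).left.base w) ∈ Set.range ι.base := by
        rw [TS_hom]
        exact ⟨_, rfl⟩
      rw [V.2.range_fromSpec] at this
      exact this
    refine ⟨⟨_, hy⟩, ?_⟩
    have : Set.range (ιY ⟨_, hy⟩).left.base = (W ⟨_, hy⟩).1 := (W ⟨_, hy⟩).2.range_fromSpec
    rw [this]
    exact hyW ⟨_, hy⟩
  refine step1.trans ?_
  rw [q_iff_cover' Pr (fun i : Idx => TS ι Γ(Y.left, W i)) ιY (sp ι ψ' ≫ u) hcov,
    iSup_le_iff]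
  refine forall_congr' fun i => ?_
  refine affine_case ι (Pr.pull (ιY i)) u (I i) ?_ A' ψ'
  intro R' _ _ θ
  rw [← hI i R' θ]
  unfold LPred.pull
  dsimp only
  rw [Category.assoc, Category.assoc]

theorem closed_of_HypI (hY : LocFree Y) (h : HypI Pr) :
    ∃ (Z : Over S) (j : Z ⟶ X), IsClosedImmersion j.left ∧
      ∀ (T : Over S) (x : T ⟶ X), (∃ z : T ⟶ Z, z ≫ j = x) ↔ Q Pr x := by
  have h3 : ∀ x : X.left, ∃ U : X.left.affineOpens, x ∈ U.1 ∧
      ClosedFun.Good (fun {T} x => QS Pr x) U := by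
    intro x
    obtain ⟨V, hsV, hV⟩ := hY (X.hom.base x)
    obtain ⟨U, hU0, hxU, hUV⟩ := Opens.isBasis_iff_nbhd.mp (X.left.isBasis_affineOpens)
      (show x ∈ X.hom ⁻¹ᵁ V.1 from hsV)
    exact ⟨⟨U, hU0⟩, hxU, good_of_HypI Pr h V hV ⟨U, hU0⟩ hUV⟩
  obtain ⟨𝒥, hF, hle⟩ := ClosedFun.exists_idealSheaf_of_local (X := X.left)
    (fun {T} x => QS Pr x)
    (fun t x hx => qS_comp Pr t x hx) (fun x 𝒰 hx => qS_local Pr x 𝒰 hx) h3
  refine ⟨Over.mk (𝒥.subschemeι ≫ X.hom), Over.homMk 𝒥.subschemeι rfl, ?_, ?_⟩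
  · exact inferInstanceAs (IsClosedImmersion 𝒥.subschemeι)
  · intro T x
    constructor
    · rintro ⟨z, rfl⟩
      exact Q.comp Pr z hF
    · intro hx
      have hx' : QS Pr x.left := (qS_iff Pr x).mpr hx
      have hk := hle x.left hx'
      let z' := IsClosedImmersion.lift 𝒥.subschemeι x.left (by
        rw [Scheme.IdealSheafData.ker_subschemeι]
        exact hk)
      have hz' : z' ≫ 𝒥.subschemeι = x.left := IsClosedImmersion.lift_fac _ _ _
      refine ⟨Over.homMk z' ?_, ?_⟩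
      · change z' ≫ 𝒥.subschemeι ≫ X.hom = T.hom
        rw [← Category.assoc, hz', Over.w]
      · ext1
        exact hz'

end Groth.Agent.Helper18.RelBase
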