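import Mathlib
import Groth.Agent.Lib.Helper18.RelBase3
import Groth.Agent.Lib.Helper18.WeilRes2

/-!
# Weil restriction of closed conditions over a general base: factoring through a closed immersion
(helper18)
-/

set_option autoImplicit false
set_option linter.unusedSectionVars false
set_option linter.style.haveILetI false
universe u

open CategoryTheory AlgebraicGeometry TopologicalSpace Opposite TensorProduct
open MonoidalCategory CartesianMonoidalCategory CategoryTheory.Limits

noncomputable section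

namespace Groth.Agent.Helper18.RelBase

open Groth.Agent.Helper18.WeilRes

variable {S : Scheme.{u}}

theorem hI_closed {R : Type u} [CommRing R] (ι : Spec (CommRingCat.of R) ⟶ S)
    {E : Over S} {R₀ : Type u} [CommRing R₀] [Algebra R R₀]
    (e : E ⟶ TS ι R₀) [IsClosedImmersion e.left] :
    ∃ I : Set R₀, ∀ (R' : Type u) [CommRing R'] [Algebra R R'] (θ : R₀ →ₐ[R] R'),
      (∃ l : TS ι R' ⟶ E, l ≫ e = sp ι θ) ↔ ∀ f ∈ I, θ f = 0 := by
  haveI : IsAffine (TS ι R₀).left := inferInstanceAs (IsAffine (Spec (CommRingCat.of R₀)))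
  let φ : R₀ →+* Γ(E.left, ⊤) :=
    ((Scheme.ΓSpecIso (CommRingCat.of R₀)).inv ≫ e.left.appTop).hom
  refine ⟨{f | φ f = 0}, ?_⟩
  intro R' _ _ θ
  haveI : IsAffine (TS ι R').left := inferInstanceAs (IsAffine (Spec (CommRingCat.of R')))
  have hnat : ∀ f : R₀, (sp ι θ).left.appTop.hom
      ((Scheme.ΓSpecIso (CommRingCat.of R₀)).inv.hom f) =
      (Scheme.ΓSpecIso (CommRingCat.of R')).inv.hom (θ f) := by
    intro f
    have := Scheme.ΓSpecIso_inv_naturality (CommRingCat.ofHom θ.toRingHom)
    exact (congrArg (fun g => g.hom f) this).symm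
  constructor
  · rintro ⟨l, hl⟩ f hf
    have hl' := congrArg (fun g => g.left.appTop) hl
    simp only [Over.comp_left, Scheme.Hom.comp_appTop] at hl'
    have h1 : (Scheme.ΓSpecIso (CommRingCat.of R')).inv.hom (θ f) = 0 := by
      refine (hnat f).symm.trans ?_
      have h2 := congrArg (fun g => g.hom ((Scheme.ΓSpecIso (CommRingCat.of R₀)).inv.hom f)) hl'
      refine h2.symm.trans ?_
      change (l.left.appTop).hom (φ f) = 0
      rw [hf, map_zero]
    have h3 := congrArg (Scheme.ΓSpecIso (CommRingCat.of R')).hom.hom h1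
    rw [map_zero] at h3
    rw [← h3]
    exact (congrArg (fun g => g.hom (θ f)) (Scheme.ΓSpecIso (CommRingCat.of R')).inv_hom_id).symm
  · intro h
    haveI : QuasiCompact (sp ι θ).left := by
      change QuasiCompact (Spec.map (CommRingCat.ofHom θ.toRingHom))
      infer_instance
    have hle : e.left.ker ≤ (sp ι θ).left.ker := by
      apply Scheme.IdealSheafData.le_of_isAffine
      rw [Scheme.Hom.ker_apply, Scheme.Hom.ker_apply]
      intro g hg
      rw [RingHom.mem_ker] at hg ⊢
      have hg' : g = (Scheme.ΓSpecIso (CommRingCat.of R₀)).inv.hom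
          ((Scheme.ΓSpecIso (CommRingCat.of R₀)).hom.hom g) :=
        (congrArg (fun e => e.hom g) (Scheme.ΓSpecIso (CommRingCat.of R₀)).hom_inv_id).symm
      have hf : (Scheme.ΓSpecIso (CommRingCat.of R₀)).hom.hom g ∈ {f | φ f = 0} := by
        change e.left.appTop.hom
          ((Scheme.ΓSpecIso (CommRingCat.of R₀)).inv.hom
            ((Scheme.ΓSpecIso (CommRingCat.of R₀)).hom.hom g)) = 0
        refine Eq.trans ?_ hg
        exact congrArg _ hg'.symm
      have h0 := h _ hf
      change (sp ι θ).left.appTop.hom g = 0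
      refine (congrArg _ hg').trans ?_
      refine (hnat _).trans ?_
      rw [h0]
      exact map_zero _
    let l' : (TS ι R').left ⟶ E.left :=
      IsClosedImmersion.lift e.left (sp ι θ).left hle
    have hl' : l' ≫ e.left = (sp ι θ).left :=
      IsClosedImmersion.lift_fac _ _ _
    refine ⟨Over.homMk l' ?_, ?_⟩
    · rw [← Over.w e, ← Category.assoc, hl']
      exact Over.w (sp ι θ)
    · ext1
      exact hl'

variable {X Y W D : Over S}

theorem hypI_factPred (c : Y ⊗ X ⟶ W) (y : D ⟶ W) [IsClosedImmersion y.left] :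
    HypI (factPred c y) := by
  intro R _ ι _ B _ _ ιB A _ _ u _
  let q : TS ι (B ⊗[R] A) ⟶ W := ((prodIso ι B A).hom ≫ (TS ι B ◁ u) ≫ (ιB ▷ X)) ≫ c
  let E : Over S :=
    Over.mk (pullback.snd y.left q.left ≫ (TS ι (B ⊗[R] A)).hom)
  let e : E ⟶ TS ι (B ⊗[R] A) := Over.homMk (pullback.snd y.left q.left) rfl
  haveI : IsClosedImmersion e.left :=
    inferInstanceAs (IsClosedImmersion (pullback.snd y.left q.left))
  obtain ⟨I, hI⟩ := hI_closed ι e
  refine ⟨I, ?_⟩
  intro R' _ _ θ
  rw [← hI R' θ]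
  change (∃ w, w ≫ y = (sp ι θ ≫ (prodIso ι B A).hom ≫ (TS ι B ◁ u) ≫ (ιB ▷ X)) ≫ c) ↔ _
  constructor
  · rintro ⟨w, hw⟩
    have hw' : w.left ≫ y.left = (sp ι θ).left ≫ q.left := by
      have := congrArg (fun g => g.left) hw
      simpa [q] using this
    refine ⟨Over.homMk (pullback.lift w.left (sp ι θ).left hw') ?_, ?_⟩
    · change pullback.lift w.left (sp ι θ).left hw' ≫ pullback.snd y.left q.left ≫ _ = _
      rw [pullback.lift_snd_assoc]
      exact Over.w (sp ι θ)
    · ext1
      exact pullback.lift_snd _ _ _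
  · rintro ⟨l, hl⟩
    have hl' : l.left ≫ pullback.snd y.left q.left = (sp ι θ).left := congrArg (fun g => g.left) hl
    refine ⟨Over.homMk (l.left ≫ pullback.fst y.left q.left) ?_, ?_⟩
    · rw [Category.assoc, ← Over.w y, pullback.condition_assoc, Over.w, ← Category.assoc, hl']
      exact Over.w (sp ι θ)
    · ext1
      change (l.left ≫ pullback.fst y.left q.left) ≫ y.left = _
      rw [Category.assoc, pullback.condition, ← Category.assoc, hl']
      simp [q]

/-- **Weil restriction of a closed condition, general base**: for `Y` locally free over `S`, the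
points `x` of `X` such that `(Y ◁ x) ≫ c` factors through the closed immersion `y` form a closed
subscheme of `X`. -/
theorem wr_closed (hY : LocFree Y) (c : Y ⊗ X ⟶ W) (y : D ⟶ W) [IsClosedImmersion y.left] :
    ∃ (Z : Over S) (j : Z ⟶ X), IsClosedImmersion j.left ∧
      ∀ (T : Over S) (x : T ⟶ X), (∃ z : T ⟶ Z, z ≫ j = x) ↔
        ∃ w : Y ⊗ T ⟶ D, w ≫ y = (Y ◁ x) ≫ c :=
  closed_of_HypI (factPred c y) hY (hypI_factPred c y)

/-- Yoneda form -/
theorem pts_closed (hY : LocFree Y) (c : Y ⊗ X ⟶ W) (y : D ⟶ W) [IsClosedImmersion y.left] :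
    ∃ (Z : Over S) (j : Z ⟶ X), IsClosedImmersion j.left ∧
      ∀ (T : Over S) (g : T ⟶ X), (∃ z : T ⟶ Z, z ≫ j = g) ↔
        ∀ (T' : Over S) (s : T' ⟶ T) (x : T' ⟶ Y),
          ∃ x' : T' ⟶ D, lift x (s ≫ g) ≫ c = x' ≫ y := by
  obtain ⟨Z, j, hj, h⟩ := wr_closed hY c y
  refine ⟨Z, j, hj, ?_⟩
  intro T g
  rw [h]
  constructor
  · rintro ⟨w, hw⟩ T' s x
    refine ⟨lift x s ≫ w, ?_⟩
    rw [Category.assoc, hw, ← Category.assoc]
    congr 1
    apply CartesianMonoidalCategory.hom_ext <;> simp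
  · intro h'
    obtain ⟨x', hx'⟩ := h' (Y ⊗ T) (snd Y T) (fst Y T)
    refine ⟨x', ?_⟩
    rw [← hx']
    congr 1

end Groth.Agent.Helper18.RelBase
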