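import Mathlib
import Groth.Agent.Lib.Helper18.RelBase4
import Groth.Agent.Lib.Helper18.GrpSchT

/-!
# Fixed points and centralizers over a general base (helper18)
-/

set_option autoImplicit false
set_option linter.unusedSectionVars false
set_option linter.style.haveILetI false
universe u

open CategoryTheory AlgebraicGeometry TopologicalSpace Opposite TensorProduct
open MonoidalCategory CartesianMonoidalCategory CategoryTheory.Limits

noncomputable section

namespace Groth.Agent.Helper18.RelBase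

variable {S : Scheme.{u}}

/-- an affine `S`-scheme whose ring is locally free over the base is `LocFree` -/
theorem locFree_of_affine_free (G : Over S) [IsAffineHom G.hom]
    (hfree : ∀ s : S, ∃ U : S.affineOpens, s ∈ (U : S.Opens) ∧
      @Module.Free Γ(S, U) Γ(G.left, G.hom ⁻¹ᵁ U) _ _ (G.hom.app U).hom.toAlgebra.toModule) :
    LocFree G := by
  intro s
  obtain ⟨U, hsU, hU⟩ := hfree s
  refine ⟨U, hsU, ?_⟩
  intro y hy
  refine ⟨⟨G.hom ⁻¹ᵁ U.1, U.2.preimage G.hom⟩, le_rfl, hy, ?_⟩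
  have e : G.hom.appLE U.1 (G.hom ⁻¹ᵁ U.1) le_rfl = G.hom.app U.1 :=
    (Scheme.Hom.app_eq_appLE G.hom).symm
  rw [e]
  letI := (G.hom.app U.1).hom.toAlgebra
  haveI : Module.Free Γ(S, U) Γ(G.left, G.hom ⁻¹ᵁ U) := hU
  exact Module.Projective.of_free

/-- a finite flat finitely presented `S`-scheme is `LocFree` -/
theorem locFree_of_finite_flat_fp (Y : Over S) [IsFinite Y.hom] [Flat Y.hom]
    [LocallyOfFinitePresentation Y.hom] : LocFree Y := by
  intro s
  obtain ⟨U, hU0, hsU, -⟩ := Opens.isBasis_iff_nbhd.mp S.isBasis_affineOpens (Opens.mem_top s)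
  refine ⟨⟨U, hU0⟩, hsU, ?_⟩
  intro y hy
  have hW : IsAffineOpen (Y.hom ⁻¹ᵁ U) := hU0.preimage Y.hom
  refine ⟨⟨Y.hom ⁻¹ᵁ U, hW⟩, le_rfl, hy, ?_⟩
  letI := (Y.hom.appLE U (Y.hom ⁻¹ᵁ U) le_rfl).hom.toAlgebra
  haveI h1 : Module.Finite Γ(S, U) Γ(Y.left, Y.hom ⁻¹ᵁ U) := by
    have := Scheme.Hom.finite_app Y.hom U hU0
    rw [Scheme.Hom.app_eq_appLE] at this
    exact this
  haveI h2 : Module.Flat Γ(S, U) Γ(Y.left, Y.hom ⁻¹ᵁ U) :=
    Scheme.Hom.flat_appLE Y.hom hU0 hW le_rfl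
  haveI h3 : Algebra.FinitePresentation Γ(S, U) Γ(Y.left, Y.hom ⁻¹ᵁ U) :=
    Scheme.Hom.finitePresentation_appLE Y.hom hU0 hW le_rfl
  haveI := Module.FinitePresentation.of_finite_of_finitePresentation (R := Γ(S, U))
    (S := Γ(Y.left, Y.hom ⁻¹ᵁ U))
  exact Module.Flat.projective_of_finitePresentation

/-- fixed points of `a : G ⊗ Y ⟶ Y` with `G` locally free and `Y` separated form a closed
subscheme -/
theorem fixed_closed {G Y : Over S} (hG : LocFree G) [IsSeparated Y.hom] (a : G ⊗ Y ⟶ Y) :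
    ∃ (Z : Over S) (i : Z ⟶ Y), IsClosedImmersion i.left ∧
      ∀ (T : Over S) (y : T ⟶ Y), (∃ z : T ⟶ Z, z ≫ i = y) ↔
        ∀ (T' : Over S) (t : T' ⟶ T) (g : T' ⟶ G), lift g (t ≫ y) ≫ a = t ≫ y := by
  haveI : IsClosedImmersion (lift (𝟙 Y) (𝟙 Y)).left := by
    rw [Over.lift_left]
    exact inferInstanceAs (IsClosedImmersion (pullback.diagonal Y.hom))
  obtain ⟨Z, i, hi, h⟩ := pts_closed hG (lift a (snd G Y)) (lift (𝟙 Y) (𝟙 Y))
  refine ⟨Z, i, hi, ?_⟩
  intro T y
  rw [h]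
  refine forall_congr' fun T' => forall_congr' fun t => forall_congr' fun g => ?_
  constructor
  · rintro ⟨x', hx'⟩
    have h1 := congrArg (fun f => f ≫ fst Y Y) hx'
    have h2 := congrArg (fun f => f ≫ snd Y Y) hx'
    simp only [Category.assoc, lift_fst, lift_snd, Category.comp_id] at h1 h2
    rw [h1, ← h2]
  · intro hx
    refine ⟨t ≫ y, ?_⟩
    apply CartesianMonoidalCategory.hom_ext
    · simp only [Category.assoc, lift_fst, Category.comp_id]
      exact hx
    · simp only [Category.assoc, lift_snd, Category.comp_id]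

section Grp

open MonObj GrpObj

variable {G : Over S} [GrpObj G]

/-- the transporter of a locally free `Y'` into a closed `Y` is closed -/
theorem transp_closed {Y Y' : Over S} (hY' : LocFree Y') (y : Y ⟶ G)
    [IsClosedImmersion y.left] (y' : Y' ⟶ G) :
    ∃ (T : Over S) (t : T ⟶ G), IsClosedImmersion t.left ∧
      ∀ (S' : Over S) (g : S' ⟶ G), (∃ z : S' ⟶ T, z ≫ t = g) ↔
        ∀ (S'' : Over S) (s : S'' ⟶ S') (x : S'' ⟶ Y'),
          ∃ x' : S'' ⟶ Y, (s ≫ g) * (x ≫ y') * (s ≫ g)⁻¹ = x' ≫ y := by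
  obtain ⟨T, t, ht, h⟩ := pts_closed hY' (snd Y' G * (fst Y' G ≫ y') * (snd Y' G)⁻¹) y
  refine ⟨T, t, ht, ?_⟩
  intro S' g
  rw [h]
  refine forall_congr' fun S'' => forall_congr' fun s => forall_congr' fun x => ?_
  simp only [MonObj.comp_mul, GrpObj.comp_inv, lift_snd, lift_fst_assoc]

/-- the centralizer of a locally free `Y` in a separated group is closed -/
theorem centralizer_closed {Y : Over S} (hY : LocFree Y) [IsSeparated G.hom] (y : Y ⟶ G) :
    ∃ (C : Over S) (c : C ⟶ G), IsClosedImmersion c.left ∧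
      ∀ (T : Over S) (g : T ⟶ G), (∃ z : T ⟶ C, z ≫ c = g) ↔
        ∀ (T' : Over S) (s : T' ⟶ T) (x : T' ⟶ Y),
          (s ≫ g) * (x ≫ y) = (x ≫ y) * (s ≫ g) := by
  haveI : IsClosedImmersion η[G].left :=
    (Groth.Agent.Helper18.GrpSchOm.isSeparated_iff G).mp inferInstance
  obtain ⟨C, c, hc, h⟩ := pts_closed hY
    (snd Y G * (fst Y G ≫ y) * (snd Y G)⁻¹ * (fst Y G ≫ y)⁻¹) η[G]
  refine ⟨C, c, hc, ?_⟩
  intro T g
  rw [h]
  refine forall_congr' fun T' => forall_congr' fun s => forall_congr' fun x => ?_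
  simp only [MonObj.comp_mul, GrpObj.comp_inv, lift_snd, lift_fst_assoc]
  constructor
  · rintro ⟨x', hx'⟩
    have : x' ≫ η[G] = (1 : T' ⟶ G) := by
      rw [Hom.one_def, toUnit_unique x' (toUnit _)]
    rw [this, mul_inv_eq_one, mul_inv_eq_iff_eq_mul] at hx'
    exact hx'
  · intro hx
    refine ⟨toUnit _, ?_⟩
    rw [← Hom.one_def, mul_inv_eq_one, mul_inv_eq_iff_eq_mul]
    exact hx

end Grp

end Groth.Agent.Helper18.RelBase
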