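import Mathlib
import Groth.Agent.Lib.Helper18.RelBase5
import Groth.Agent.Lib.Helper18.ClosedFun3
import Groth.Agent.Lib.Helper7.FinPres

/-!
# Finite presentation of the closed subschemes cut out by coefficient ideals (helper18)
-/

set_option autoImplicit false
set_option linter.unusedSectionVars false
set_option linter.style.haveILetI false
universe u

open CategoryTheory AlgebraicGeometry TopologicalSpace Opposite TensorProduct
open MonoidalCategory CartesianMonoidalCategory CategoryTheory.Limits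

noncomputable section

namespace Groth.Agent.Helper18.RelBase

open Groth.Agent.Helper18.WeilRes

/-! ### coefficient ideals of finite sets are finitely generated -/

section CoeffFG

variable {R : Type u} [CommRing R] {B A : Type u} [CommRing B] [Algebra R B] [CommRing A]
  [Algebra R A]

theorem coeffIdeal_mono {I I' : Set (B ⊗[R] A)} (h : I ⊆ I') :
    coeffIdeal R B A I ≤ coeffIdeal R B A I' := by
  refine Ideal.span_mono ?_
  rintro a ⟨φ, f, hf, rfl⟩
  exact ⟨φ, f, h hf, rfl⟩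

theorem coeffIdeal_singleton_fg [Module.Projective R B] (f : B ⊗[R] A) :
    (coeffIdeal R B A {f}).FG := by
  classical
  obtain ⟨s, hs⟩ := Module.projective_def'.mp (inferInstance : Module.Projective R B)
  let p : (B →₀ R) →ₗ[R] B := Finsupp.linearCombination R id
  let ℬ : Module.Basis B R (B →₀ R) := Finsupp.basisSingleOne
  let c : B →₀ A := TensorProduct.equivFinsuppOfBasisLeft (N := A) ℬ ((s.rTensor A) f)
  have hc : ∀ i, c i = coeff R B A (ℬ.coord i ∘ₗ s) f := by
    intro i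
    change TensorProduct.equivFinsuppOfBasisLeft (N := A) ℬ ((s.rTensor A) f) i = _
    rw [TensorProduct.equivFinsuppOfBasisLeft_apply, ← LinearMap.rTensor_comp_apply]
    rfl
  let J : Ideal A := Ideal.span ((c.support.image c : Finset A) : Set A)
  have hJ : coeffIdeal R B A {f} = J := by
    apply le_antisymm
    · -- use the quotient by `J`
      have key := (coeffIdeal_le_ker_iff (R := R) (B := B) (A := A) {f}
        (Ideal.Quotient.mkₐ R J)).mpr ?_
      · intro a ha
        have := key ha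
        rw [RingHom.mem_ker] at this
        exact Ideal.Quotient.eq_zero_iff_mem.mp this
      · intro f' hf'
        rw [Set.mem_singleton_iff] at hf'
        subst hf'
        set ψ := Ideal.Quotient.mkₐ R J
        set g := Algebra.TensorProduct.map (AlgHom.id R B) ψ f' with hg
        have hinj : (p.rTensor (A ⧸ J)) ((s.rTensor (A ⧸ J)) g) = g := by
          rw [← LinearMap.rTensor_comp_apply]
          have : p ∘ₗ s = LinearMap.id := hs
          rw [this, LinearMap.rTensor_id_apply]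
        rw [← hinj]
        have hz : (s.rTensor (A ⧸ J)) g = 0 := by
          apply (TensorProduct.equivFinsuppOfBasisLeft (N := A ⧸ J) ℬ).injective
          ext i
          rw [TensorProduct.equivFinsuppOfBasisLeft_apply, map_zero, Finsupp.zero_apply,
            ← LinearMap.rTensor_comp_apply]
          have h1 := coeff_map ψ (ℬ.coord i ∘ₗ s) f'
          refine h1.trans ?_
          rw [← hc i]
          change Ideal.Quotient.mk J (c i) = 0
          rw [Ideal.Quotient.eq_zero_iff_mem]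
          by_cases hi : i ∈ c.support
          · exact Ideal.subset_span (Finset.mem_coe.mpr (Finset.mem_image_of_mem c hi))
          · rw [Finsupp.notMem_support_iff.mp hi]
            exact Ideal.zero_mem _
        rw [hz, map_zero]
    · refine Ideal.span_le.mpr ?_
      intro a ha
      obtain ⟨i, -, rfl⟩ := Finset.mem_image.mp (Finset.mem_coe.mp ha)
      rw [hc i]
      exact Ideal.subset_span ⟨ℬ.coord i ∘ₗ s, f, rfl, rfl⟩
  rw [hJ]
  exact ⟨c.support.image c, rfl⟩

theorem coeffIdeal_fg_of_finite [Module.Projective R B] (I : Set (B ⊗[R] A)) (hI : I.Finite) :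
    (coeffIdeal R B A I).FG := by
  have e : coeffIdeal R B A I = ⨆ f ∈ hI.toFinset, coeffIdeal R B A {f} := by
    apply le_antisymm
    · refine Ideal.span_le.mpr ?_
      rintro a ⟨φ, f, hf, rfl⟩
      have h1 : coeff R B A φ f ∈ coeffIdeal R B A {f} :=
        Ideal.subset_span ⟨φ, f, rfl, rfl⟩
      have h2 : coeffIdeal R B A {f} ≤ ⨆ f ∈ hI.toFinset, coeffIdeal R B A {f} :=
        le_iSup₂_of_le f (hI.mem_toFinset.mpr hf) le_rfl
      exact h2 h1
    · refine iSup₂_le ?_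
      intro f hf
      exact coeffIdeal_mono (Set.singleton_subset_iff.mpr (hI.mem_toFinset.mp hf))
  rw [e]
  exact Submodule.fg_biSup _ _ (fun f _ => coeffIdeal_singleton_fg f)

end CoeffFG

/-! ### the finitely presented version of the main theorem -/

section Main

variable {S : Scheme.{u}} {X Y : Over S}

/-- `Y` is covered, locally on `S`, by finitely many affine opens whose rings are projective over
the base ring -/
def LocFreeFin (Y : Over S) : Prop :=
  ∀ s : S, ∃ V : S.affineOpens, s ∈ V.1 ∧ ∃ (Idx : Type u) (_ : Finite Idx)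
    (W : Idx → Y.left.affineOpens) (h : ∀ i, (W i).1 ≤ Y.hom ⁻¹ᵁ V.1),
    (∀ y : Y.left, Y.hom.base y ∈ V.1 → ∃ i, y ∈ (W i).1) ∧
      ∀ i, @Module.Projective Γ(S, V) _ Γ(Y.left, W i) _
        (Y.hom.appLE V.1 (W i).1 (h i)).hom.toAlgebra.toModule

theorem LocFreeFin.locFree (h : LocFreeFin Y) : LocFree Y := by
  intro s
  obtain ⟨V, hsV, Idx, _, W, hW, hcov, hfree⟩ := h s
  refine ⟨V, hsV, ?_⟩
  intro y hy
  obtain ⟨i, hi⟩ := hcov y hy
  exact ⟨W i, hW i, hi, hfree i⟩

variable (Pr : LPred X Y)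

/-- the local hypothesis with finitely many equations -/
def HypIFG : Prop :=
  ∀ (R : Type u) [CommRing R] (ι : Spec (CommRingCat.of R) ⟶ S) [IsOpenImmersion ι]
    (B : Type u) [CommRing B] [Algebra R B] (ιB : TS ι B ⟶ Y)
    (A : Type u) [CommRing A] [Algebra R A] (u : TS ι A ⟶ X) [IsOpenImmersion u.left],
    ∃ I : Set (B ⊗[R] A), I.Finite ∧
      ∀ (R' : Type u) [CommRing R'] [Algebra R R'] (θ : B ⊗[R] A →ₐ[R] R'),
      Pr.P (sp ι θ ≫ (prodIso ι B A).hom ≫ (TS ι B ◁ u) ≫ (ιB ▷ X)) ↔ ∀ f ∈ I, θ f = 0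

theorem HypIFG.hypI (h : HypIFG Pr) : HypI Pr := by
  intro R _ ι _ B _ _ ιB A _ _ u _
  obtain ⟨I, -, hI⟩ := h R ι B ιB A u
  exact ⟨I, hI⟩

theorem goodFG_of_HypIFG (h : HypIFG Pr) (V : S.affineOpens)
    (Idx : Type u) [Finite Idx] (W : Idx → Y.left.affineOpens)
    (hW : ∀ i, (W i).1 ≤ Y.hom ⁻¹ᵁ V.1)
    (hcovW : ∀ y : Y.left, Y.hom.base y ∈ V.1 → ∃ i, y ∈ (W i).1)
    (hfree : ∀ i, @Module.Projective Γ(S, V) _ Γ(Y.left, W i) _
        (Y.hom.appLE V.1 (W i).1 (hW i)).hom.toAlgebra.toModule)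
    (U : X.left.affineOpens) (hUV : U.1 ≤ X.hom ⁻¹ᵁ V.1) :
    ClosedFun.GoodFG (fun {T} x => QS Pr x) U := by
  let ι : Spec (CommRingCat.of Γ(S, V)) ⟶ S := V.2.fromSpec
  haveI : IsOpenImmersion ι := inferInstanceAs (IsOpenImmersion V.2.fromSpec)
  letI algA : Algebra Γ(S, V) Γ(X.left, U) := (X.hom.appLE V.1 U.1 hUV).hom.toAlgebra
  have hA : Spec.map (CommRingCat.ofHom (algebraMap Γ(S, V) Γ(X.left, U))) ≫ ι =
      U.2.fromSpec ≫ X.hom := IsAffineOpen.SpecMap_appLE_fromSpec X.hom V.2 U.2 hUV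
  let u : TS ι Γ(X.left, U) ⟶ X := Over.homMk U.2.fromSpec hA.symm
  haveI : IsOpenImmersion u.left := inferInstanceAs (IsOpenImmersion U.2.fromSpec)
  letI algB : ∀ i : Idx, Algebra Γ(S, V) Γ(Y.left, W i) := fun i =>
    (Y.hom.appLE V.1 (W i).1 (hW i)).hom.toAlgebra
  haveI : ∀ i : Idx, Module.Projective Γ(S, V) Γ(Y.left, W i) := hfree
  have hB : ∀ i : Idx, Spec.map (CommRingCat.ofHom (algebraMap Γ(S, V) Γ(Y.left, W i))) ≫ ι =
      (W i).2.fromSpec ≫ Y.hom := fun i =>
    IsAffineOpen.SpecMap_appLE_fromSpec Y.hom V.2 (W i).2 (hW i)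
  let ιY : ∀ i : Idx, TS ι Γ(Y.left, W i) ⟶ Y := fun i => Over.homMk (W i).2.fromSpec (hB i).symm
  haveI : ∀ i, IsOpenImmersion (ιY i).left := fun i =>
    inferInstanceAs (IsOpenImmersion (W i).2.fromSpec)
  choose I hIfin hI using fun i : Idx => h Γ(S, V) ι Γ(Y.left, W i) (ιY i) Γ(X.left, U) u
  refine ⟨⨆ i, coeffIdeal Γ(S, V) Γ(Y.left, W i) Γ(X.left, U) (I i), ?_, ?_⟩
  · exact Submodule.fg_iSup _ (fun i => coeffIdeal_fg_of_finite (I i) (hIfin i))
  intro A' ψ
  letI algA' : Algebra Γ(S, V) A' := (ψ.hom.comp (algebraMap Γ(S, V) Γ(X.left, U))).toAlgebra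
  let ψ' : Γ(X.left, U) →ₐ[Γ(S, V)] A' := ⟨ψ.hom, fun r => rfl⟩
  have step1 : QS Pr (Spec.map ψ ≫ U.2.fromSpec) ↔ Q Pr (sp ι ψ' ≫ u) :=
    qS_iff Pr (sp ι ψ' ≫ u)
  have hcov : ∀ w : (Y ⊗ TS ι A').left,
      ∃ i : Idx, (fst Y (TS ι A')).left.base w ∈ Set.range (ιY i).left.base := by
    intro w
    have hy : Y.hom.base ((fst Y (TS ι A')).left.base w) ∈ V.1 := by
      have e : (fst Y (TS ι A')).left ≫ Y.hom = (snd Y (TS ι A')).left ≫ (TS ι A').hom := by
        rw [Over.w, Over.w]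
      have e' := congrArg (fun f => f.base w) e
      change Y.hom.base ((fst Y (TS ι A')).left.base w) =
        (TS ι A').hom.base ((snd Y (TS ι A')).left.base w) at e'
      rw [e']
      have : (TS ι A').hom.base ((snd Y (TS ι A')).left.base w) ∈ Set.range ι.base := by
        rw [TS_hom]
        exact ⟨_, rfl⟩
      rw [V.2.range_fromSpec] at this
      exact this
    obtain ⟨i, hi⟩ := hcovW _ hy
    refine ⟨i, ?_⟩
    have : Set.range (ιY i).left.base = (W i).1 := (W i).2.range_fromSpec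
    rw [this]
    exact hi
  refine step1.trans ?_
  rw [q_iff_cover' Pr (fun i : Idx => TS ι Γ(Y.left, W i)) ιY (sp ι ψ' ≫ u) hcov,
    iSup_le_iff]
  refine forall_congr' fun i => ?_
  refine affine_case ι (Pr.pull (ιY i)) u (I i) ?_ A' ψ'
  intro R' _ _ θ
  rw [← hI i R' θ]
  unfold LPred.pull
  dsimp only
  rw [Category.assoc, Category.assoc]

theorem closed_of_HypIFG (hY : LocFreeFin Y) (h : HypIFG Pr) :
    ∃ (Z : Over S) (j : Z ⟶ X), IsClosedImmersion j.left ∧
      LocallyOfFinitePresentation j.left ∧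
      ∀ (T : Over S) (x : T ⟶ X), (∃ z : T ⟶ Z, z ≫ j = x) ↔ Q Pr x := by
  obtain ⟨Z, j, hj, hrep⟩ := closed_of_HypI Pr hY.locFree h.hypI
  refine ⟨Z, j, hj, ?_, hrep⟩
  refine ClosedFun.lfp_of_goodFG (X := X.left) (fun {T} x => QS Pr x) j.left ?_ ?_
  · intro T x
    have h1 := hrep (Over.mk (x ≫ X.hom)) (Over.homMk x rfl)
    have h2 : QS Pr x ↔ Q Pr (Over.homMk x rfl : Over.mk (x ≫ X.hom) ⟶ X) :=
      qS_iff Pr (Over.homMk x rfl : Over.mk (x ≫ X.hom) ⟶ X)
    rw [h2, ← h1]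
    constructor
    · rintro ⟨z, hz⟩
      exact ⟨z.left, congrArg (fun f => f.left) hz⟩
    · rintro ⟨z, hz⟩
      refine ⟨Over.homMk z ?_, ?_⟩
      · change z ≫ Z.hom = x ≫ X.hom
        rw [← hz, Category.assoc, Over.w]
      · ext1
        exact hz
  · intro x
    obtain ⟨V, hsV, Idx, _, W, hW, hcov, hfree⟩ := hY (X.hom.base x)
    obtain ⟨U, hU0, hxU, hUV⟩ := Opens.isBasis_iff_nbhd.mp (X.left.isBasis_affineOpens)
      (show x ∈ X.hom ⁻¹ᵁ V.1 from hsV)
    exact ⟨⟨U, hU0⟩, hxU, goodFG_of_HypIFG Pr h V Idx W hW hcov hfree ⟨U, hU0⟩ hUV⟩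

end Main

/-! ### factoring through a finitely presented closed immersion -/

section Fact

variable {S : Scheme.{u}}

theorem hI_closed_fg {R : Type u} [CommRing R] (ι : Spec (CommRingCat.of R) ⟶ S)
    {E : Over S} {R₀ : Type u} [CommRing R₀] [Algebra R R₀]
    (e : E ⟶ TS ι R₀) [IsClosedImmersion e.left] [LocallyOfFinitePresentation e.left] :
    ∃ I : Set R₀, I.Finite ∧ ∀ (R' : Type u) [CommRing R'] [Algebra R R'] (θ : R₀ →ₐ[R] R'),
      (∃ l : TS ι R' ⟶ E, l ≫ e = sp ι θ) ↔ ∀ f ∈ I, θ f = 0 := by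
  let el : E.left ⟶ Spec (CommRingCat.of R₀) := e.left
  have hel : e.left = el := rfl
  haveI hcl : IsClosedImmersion el := inferInstanceAs (IsClosedImmersion e.left)
  haveI hlfp : LocallyOfFinitePresentation el :=
    inferInstanceAs (LocallyOfFinitePresentation e.left)
  obtain ⟨I', e', he'⟩ := IsClosedImmersion.Spec_iff.mp hcl
  have hfp : LocallyOfFinitePresentation
      (Spec.map (CommRingCat.ofHom (Ideal.Quotient.mk I'))) := by
    have : Spec.map (CommRingCat.ofHom (Ideal.Quotient.mk I')) = e'.inv ≫ el := by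
      rw [he', Iso.inv_hom_id_assoc]
    rw [this]
    infer_instance
  rw [LocallyOfFinitePresentation.SpecMap_iff] at hfp
  have hfg : I'.FG := by
    haveI : Algebra.FinitePresentation R₀ (R₀ ⧸ I') := hfp
    have := Algebra.FinitePresentation.ker_fG_of_surjective (Ideal.Quotient.mkₐ R₀ I')
      Ideal.Quotient.mk_surjective
    have h2 : RingHom.ker (Ideal.Quotient.mkₐ R₀ I').toRingHom = I' := Ideal.mk_ker
    rwa [h2] at this
  obtain ⟨s, hs⟩ := hfg
  refine ⟨(s : Set R₀), s.finite_toSet, ?_⟩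
  intro R' _ _ θ
  have h1 : (∃ l : TS ι R' ⟶ E, l ≫ e = sp ι θ) ↔
      ∃ l' : Spec (CommRingCat.of R') ⟶ Spec (CommRingCat.of (R₀ ⧸ I')),
        l' ≫ Spec.map (CommRingCat.ofHom (Ideal.Quotient.mk I')) =
          Spec.map (CommRingCat.ofHom θ.toRingHom) := by
    constructor
    · rintro ⟨l, hl⟩
      refine ⟨l.left ≫ e'.hom, ?_⟩
      rw [Category.assoc, ← he', ← hel]
      exact congrArg (fun f => f.left) hl
    · rintro ⟨l', hl'⟩
      have hl'' : (l' ≫ e'.inv) ≫ el = Spec.map (CommRingCat.ofHom θ.toRingHom) := by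
        rw [he', Category.assoc, Iso.inv_hom_id_assoc, hl']
      have hE : E.hom = el ≫ (TS ι R₀).hom := (Over.w e).symm
      have hw : (l' ≫ e'.inv) ≫ E.hom = (TS ι R').hom := by
        rw [hE, ← Category.assoc, hl'']
        exact Over.w (sp ι θ)
      refine ⟨Over.homMk (U := TS ι R') (l' ≫ e'.inv) hw, ?_⟩
      ext1
      exact hl''
  rw [h1, ClosedFun.exists_fac_SpecMap_mk_iff (R := CommRingCat.of R₀) I'
    (CommRingCat.ofHom θ.toRingHom), ← hs, Ideal.span_le]
  constructor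
  · intro h f hf
    have := h hf
    rwa [SetLike.mem_coe, RingHom.mem_ker] at this
  · intro h f hf
    rw [SetLike.mem_coe, RingHom.mem_ker]
    exact h f hf

variable {X Y W D : Over S}

theorem hypIFG_factPred (c : Y ⊗ X ⟶ W) (y : D ⟶ W) [IsClosedImmersion y.left]
    [LocallyOfFinitePresentation y.left] :
    HypIFG (factPred c y) := by
  intro R _ ι _ B _ _ ιB A _ _ u _
  let q : TS ι (B ⊗[R] A) ⟶ W := ((prodIso ι B A).hom ≫ (TS ι B ◁ u) ≫ (ιB ▷ X)) ≫ c
  let E : Over S :=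
    Over.mk (pullback.snd y.left q.left ≫ (TS ι (B ⊗[R] A)).hom)
  let e : E ⟶ TS ι (B ⊗[R] A) := Over.homMk (pullback.snd y.left q.left) rfl
  haveI : IsClosedImmersion e.left :=
    inferInstanceAs (IsClosedImmersion (pullback.snd y.left q.left))
  haveI : LocallyOfFinitePresentation e.left :=
    inferInstanceAs (LocallyOfFinitePresentation (pullback.snd y.left q.left))
  obtain ⟨I, hIfin, hI⟩ := hI_closed_fg ι e
  refine ⟨I, hIfin, ?_⟩
  intro R' _ _ θ
  rw [← hI R' θ]
  change (∃ w, w ≫ y = (sp ι θ ≫ (prodIso ι B A).hom ≫ (TS ι B ◁ u) ≫ (ιB ▷ X)) ≫ c) ↔ _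
  constructor
  · rintro ⟨w, hw⟩
    have hw' : w.left ≫ y.left = (sp ι θ).left ≫ q.left := by
      have := congrArg (fun g => g.left) hw
      simpa [q] using this
    refine ⟨Over.homMk (pullback.lift w.left (sp ι θ).left hw') ?_, ?_⟩
    · change pullback.lift w.left (sp ι θ).left hw' ≫ pullback.snd y.left q.left ≫ _ = _
      rw [pullback.lift_snd_assoc]
      exact Over.w (sp ι θ)
    · ext1
      exact pullback.lift_snd _ _ _
  · rintro ⟨l, hl⟩
    have hl' : l.left ≫ pullback.snd y.left q.left = (sp ι θ).left := congrArg (fun g => g.left) hl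
    refine ⟨Over.homMk (l.left ≫ pullback.fst y.left q.left) ?_, ?_⟩
    · rw [Category.assoc, ← Over.w y, pullback.condition_assoc, Over.w, ← Category.assoc, hl']
      exact Over.w (sp ι θ)
    · ext1
      change (l.left ≫ pullback.fst y.left q.left) ≫ y.left = _
      rw [Category.assoc, pullback.condition, ← Category.assoc, hl']
      simp [q]

/-- Weil restriction of a finitely presented closed condition -/
theorem wr_closed_fp (hY : LocFreeFin Y) (c : Y ⊗ X ⟶ W) (y : D ⟶ W) [IsClosedImmersion y.left]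
    [LocallyOfFinitePresentation y.left] :
    ∃ (Z : Over S) (j : Z ⟶ X), IsClosedImmersion j.left ∧ LocallyOfFinitePresentation j.left ∧
      ∀ (T : Over S) (x : T ⟶ X), (∃ z : T ⟶ Z, z ≫ j = x) ↔
        ∃ w : Y ⊗ T ⟶ D, w ≫ y = (Y ◁ x) ≫ c :=
  closed_of_HypIFG (factPred c y) hY (hypIFG_factPred c y)

/-- Yoneda form -/
theorem pts_closed_fp (hY : LocFreeFin Y) (c : Y ⊗ X ⟶ W) (y : D ⟶ W) [IsClosedImmersion y.left]
    [LocallyOfFinitePresentation y.left] :
    ∃ (Z : Over S) (j : Z ⟶ X), IsClosedImmersion j.left ∧ LocallyOfFinitePresentation j.left ∧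
      ∀ (T : Over S) (g : T ⟶ X), (∃ z : T ⟶ Z, z ≫ j = g) ↔
        ∀ (T' : Over S) (s : T' ⟶ T) (x : T' ⟶ Y),
          ∃ x' : T' ⟶ D, lift x (s ≫ g) ≫ c = x' ≫ y := by
  obtain ⟨Z, j, hj, hfp, h⟩ := wr_closed_fp hY c y
  refine ⟨Z, j, hj, hfp, ?_⟩
  intro T g
  rw [h]
  constructor
  · rintro ⟨w, hw⟩ T' s x
    refine ⟨lift x s ≫ w, ?_⟩
    rw [Category.assoc, hw, ← Category.assoc]
    congr 1
    apply CartesianMonoidalCategory.hom_ext <;> simp
  · intro h'
    obtain ⟨x', hx'⟩ := h' (Y ⊗ T) (snd Y T) (fst Y T)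
    refine ⟨x', ?_⟩
    rw [← hx']
    congr 1

/-- a finite flat finitely presented `S`-scheme is `LocFreeFin` -/
theorem locFreeFin_of_finite_flat_fp (Y : Over S) [IsFinite Y.hom] [Flat Y.hom]
    [LocallyOfFinitePresentation Y.hom] : LocFreeFin Y := by
  intro s
  obtain ⟨U, hU0, hsU, -⟩ := Opens.isBasis_iff_nbhd.mp S.isBasis_affineOpens (Opens.mem_top s)
  have hW : IsAffineOpen (Y.hom ⁻¹ᵁ U) := hU0.preimage Y.hom
  refine ⟨⟨U, hU0⟩, hsU, PUnit.{u+1}, inferInstance, fun _ => ⟨Y.hom ⁻¹ᵁ U, hW⟩,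
    fun _ => le_rfl, fun y hy => ⟨PUnit.unit, hy⟩, ?_⟩
  intro _
  letI := (Y.hom.appLE U (Y.hom ⁻¹ᵁ U) le_rfl).hom.toAlgebra
  haveI h1 : Module.Finite Γ(S, U) Γ(Y.left, Y.hom ⁻¹ᵁ U) := by
    have := Scheme.Hom.finite_app Y.hom U hU0
    rw [Scheme.Hom.app_eq_appLE] at this
    exact this
  haveI h2 : Module.Flat Γ(S, U) Γ(Y.left, Y.hom ⁻¹ᵁ U) :=
    Scheme.Hom.flat_appLE Y.hom hU0 hW le_rfl
  haveI h3 : Algebra.FinitePresentation Γ(S, U) Γ(Y.left, Y.hom ⁻¹ᵁ U) :=
    Scheme.Hom.finitePresentation_appLE Y.hom hU0 hW le_rfl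
  haveI := Module.FinitePresentation.of_finite_of_finitePresentation (R := Γ(S, U))
    (S := Γ(Y.left, Y.hom ⁻¹ᵁ U))
  exact Module.Flat.projective_of_finitePresentation

end Fact

end Groth.Agent.Helper18.RelBase
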