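import Mathlib
import Groth.Agent.Lib.Helper18.FieldEssFree

/-!
# Universally projective charts give essentially free projections (helper18)
-/

set_option autoImplicit false
set_option linter.unusedSectionVars false
set_option linter.style.haveILetI false
universe u

open CategoryTheory AlgebraicGeometry TopologicalSpace Opposite TensorProduct
open MonoidalCategory CartesianMonoidalCategory CategoryTheory.Limits

noncomputable section

namespace Groth.Agent.Helper18.EssFree

variable {S₀ : Scheme.{u}}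

/-- `Y → S₀` has affine open charts which stay affine with projective coordinate ring after every
base change to an affine scheme -/
def UnivProjCharts (Y : Over S₀) : Prop :=
  ∀ y : Y.left, ∃ (C : Scheme.{u}) (a : C ⟶ Y.left), IsOpenImmersion a ∧ y ∈ Set.range a.base ∧
    ∀ (T : Scheme.{u}) [IsAffine T] (t : T ⟶ S₀),
      IsAffine (pullback (a ≫ Y.hom) t) ∧
      (letI := (pullback.snd (a ≫ Y.hom) t).appTop.hom.toAlgebra
       Module.Projective Γ(T, ⊤) Γ(pullback (a ≫ Y.hom) t, ⊤))

theorem projective_of_iso {P Q T : Scheme.{u}} (ε : Q ≅ P) (v : Q ⟶ T) (w : P ⟶ T)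
    (h : ε.hom ≫ w = v)
    (hP : letI := w.appTop.hom.toAlgebra; Module.Projective Γ(T, ⊤) Γ(P, ⊤)) :
    letI := v.appTop.hom.toAlgebra; Module.Projective Γ(T, ⊤) Γ(Q, ⊤) := by
  haveI : IsIso ε.hom.appTop := by
    rw [← Scheme.Γ_map_op]
    haveI : IsIso ε.hom.op := inferInstance
    exact Functor.map_isIso Scheme.Γ ε.hom.op
  refine projective_of_ringEquiv w.appTop.hom v.appTop.hom
    (asIso ε.hom.appTop).commRingCatIsoToRingEquiv ?_ hP
  intro r
  have h1 : v.appTop = w.appTop ≫ ε.hom.appTop := by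
    rw [← h, Scheme.Hom.comp_appTop]
  rw [h1]
  rfl

variable (Y X : Over S₀)

/-- the comparison iso, with the type of its source written with `(snd Y X).left` -/
def cmpIso {T : Scheme.{u}} (q : T ⟶ X.left) :
    pullback (snd Y X).left q ≅ pullback Y.hom (q ≫ X.hom) :=
  pullbackLeftPullbackSndIso Y.hom X.hom q

/-- the chart of `Y ×_{S₀} T` given by a chart of `Y` -/
def chartMap' {T C : Scheme.{u}} (q : T ⟶ X.left) (a : C ⟶ Y.left) :
    pullback (a ≫ Y.hom) (q ≫ X.hom) ⟶ pullback (snd Y X).left q :=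
  pullback.map (a ≫ Y.hom) (q ≫ X.hom) Y.hom (q ≫ X.hom) a (𝟙 _) (𝟙 _) (by simp) (by simp) ≫
    (pullbackLeftPullbackSndIso Y.hom X.hom q).inv

instance {T C : Scheme.{u}} (q : T ⟶ X.left) (a : C ⟶ Y.left)
    [IsOpenImmersion a] : IsOpenImmersion (chartMap' Y X q a) := by
  dsimp only [chartMap']
  infer_instance

theorem chartMap'_snd {T C : Scheme.{u}} (q : T ⟶ X.left) (a : C ⟶ Y.left) :
    chartMap' Y X q a ≫ pullback.snd (snd Y X).left q = pullback.snd _ _ := by
  dsimp only [chartMap']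
  rw [Category.assoc]
  have h := pullbackLeftPullbackSndIso_inv_snd_snd Y.hom X.hom q
  change _ ≫ (pullbackLeftPullbackSndIso Y.hom X.hom q).inv ≫
    pullback.snd (pullback.snd Y.hom X.hom) q = _
  rw [h, pullback.lift_snd, Category.comp_id]

theorem mem_range_chartMap' {T C : Scheme.{u}} (q : T ⟶ X.left) (a : C ⟶ Y.left)
    (z : ↥(pullback (snd Y X).left q))
    (hz : (pullback.fst Y.hom (q ≫ X.hom)).base
      ((cmpIso Y X q).hom.base z) ∈ Set.range a.base) :
    z ∈ Set.range (chartMap' Y X q a).base := by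
  have hr := Scheme.Pullback.range_map (a ≫ Y.hom) (q ≫ X.hom) Y.hom (q ≫ X.hom) a (𝟙 _) (𝟙 _)
    (by simp) (by simp)
  have hmem : (cmpIso Y X q).hom.base z ∈
      Set.range (pullback.map (a ≫ Y.hom) (q ≫ X.hom) Y.hom (q ≫ X.hom) a (𝟙 _) (𝟙 _)
        (by simp) (by simp)).base := by
    rw [hr]
    refine ⟨hz, ?_⟩
    exact ⟨_, rfl⟩
  obtain ⟨w, hw⟩ := hmem
  refine ⟨w, ?_⟩
  change (pullback.map (a ≫ Y.hom) (q ≫ X.hom) Y.hom (q ≫ X.hom) a (𝟙 _) (𝟙 _) (by simp) (by simp) ≫
    (cmpIso Y X q).inv).base w = z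
  rw [Scheme.Hom.comp_base, TopCat.comp_app, hw, ← TopCat.comp_app, ← Scheme.Hom.comp_base,
    Iso.hom_inv_id]
  rfl

/-- **Universally projective charts give an essentially free projection.** -/
theorem essFreeHypFam_snd_of_charts [QuasiCompact Y.hom] (h : UnivProjCharts Y) :
    EssFreeHypFam (snd Y X).left True := by
  intro x
  obtain ⟨U, hU, hxU, -⟩ := exists_affine_nbhd (⊤ : X.left.Opens) x trivial
  haveI : IsAffine (U : Scheme.{u}) := hU
  refine ⟨U, hxU, hU, PUnit.{u + 1}, inferInstance, fun _ => (U : Scheme.{u}),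
    fun _ => inferInstance, fun _ => 𝟙 _, fun _ => inferInstance,
    fun u => ⟨PUnit.unit, u, rfl⟩, ?_, ?_⟩
  · intro _ z
    let q : (U : Scheme.{u}) ⟶ X.left := 𝟙 _ ≫ U.ι
    obtain ⟨C, a, ha, hy, hT⟩ := h ((pullback.fst Y.hom (q ≫ X.hom)).base
      ((cmpIso Y X q).hom.base z))
    haveI := ha
    obtain ⟨haff, hproj⟩ := hT (U : Scheme.{u}) (q ≫ X.hom)
    haveI := haff
    refine ⟨(chartMap' Y X q a).opensRange, mem_range_chartMap' Y X q a z hy, ?_, ?_⟩
    · exact isAffineOpen_opensRange (chartMap' Y X q a)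
    · refine projective_of_iso (chartMap' Y X q a).isoOpensRange.symm _ _ ?_ hproj
      rw [Iso.symm_hom, ← chartMap'_snd, ← Category.assoc, Scheme.Hom.isoOpensRange_inv_comp]
  · intro _ _
    let q : (U : Scheme.{u}) ⟶ X.left := 𝟙 _ ≫ U.ι
    haveI : QuasiCompact (snd Y X).left :=
      inferInstanceAs (QuasiCompact (pullback.snd Y.hom X.hom))
    haveI : QuasiCompact (pullback.snd (snd Y X).left q) := inferInstance
    exact QuasiCompact.compactSpace_of_compactSpace (pullback.snd (snd Y X).left q)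

end Groth.Agent.Helper18.EssFree
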