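import Mathlib

set_option autoImplicit false
set_option linter.style.haveILetI false
set_option linter.unusedSectionVars false
universe u
open CategoryTheory CategoryTheory.Limits AlgebraicGeometry TopologicalSpace Opposite

namespace Groth.Agent.Helper18.ClStab

/-- the topological step -/
theorem step_top {T T' P Q : Type*} [TopologicalSpace T] [TopologicalSpace T'] [TopologicalSpace P]
    [TopologicalSpace Q] (a : T' → T) (π : T → P) (m : T → Q) (hm : Continuous m)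
    (ha : Continuous a) (hopen : IsOpenMap (π ∘ a)) (Z : Set P) (W : Set Q) (hW : IsClosed W)
    (H0 : ∀ p' : T', π (a p') ∈ Z → m (a p') ∈ W) :
    ∀ p' : T', π (a p') ∈ closure Z → m (a p') ∈ W := by
  intro p' hp'
  by_contra hcon
  let O : Set T' := (m ∘ a) ⁻¹' Wᶜ
  have hO : IsOpen O := hW.isOpen_compl.preimage (hm.comp ha)
  have hpO : p' ∈ O := hcon
  have h1 : IsOpen ((π ∘ a) '' O) := hopen O hO
  have h2 : π (a p') ∈ (π ∘ a) '' O := ⟨p', hpO, rfl⟩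
  obtain ⟨_, ⟨q', hq'O, rfl⟩, hq'Z⟩ := mem_closure_iff.1 hp' _ h1 h2
  exact hq'O (H0 q' hq'Z)

variable {T P₁ P₂ Q V R₁ R₂ : Scheme.{u}} (π₁ : T ⟶ P₁) (π₂ : T ⟶ P₂) (q₁ : P₁ ⟶ V) (q₂ : P₂ ⟶ V)
  (hT : IsPullback π₁ π₂ q₁ q₂) (m : T ⟶ Q) (j₁ : R₁ ⟶ P₁) (j₂ : R₂ ⟶ P₂)
  (hV : ∀ (Y : Scheme.{u}) (g : Y ⟶ V), UniversallyOpen g)

include hT hV in
/-- closures of images are stable under a "composition" map when the base is a point. -/
theorem main (W : Set Q) (hW : IsClosed W)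
    (H0 : ∀ p : T, π₁ p ∈ Set.range j₁ → π₂ p ∈ Set.range j₂ → m p ∈ W) :
    ∀ p : T, π₁ p ∈ closure (Set.range j₁) → π₂ p ∈ closure (Set.range j₂) → m p ∈ W := by
  -- step A
  have hA : ∀ p : T, π₁ p ∈ Set.range j₁ → π₂ p ∈ closure (Set.range j₂) → m p ∈ W := by
    intro p hp1 hp2
    have hpb : IsPullback (pullback.snd j₁ π₁ ≫ π₂) (pullback.fst j₁ π₁) q₂ (j₁ ≫ q₁) :=
      (IsPullback.of_hasPullback j₁ π₁).flip.paste_horiz hT.flip
    haveI : UniversallyOpen (j₁ ≫ q₁) := hV _ _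
    haveI : UniversallyOpen (pullback.snd j₁ π₁ ≫ π₂) :=
      MorphismProperty.of_isPullback (P := @UniversallyOpen) hpb.flip inferInstance
    have hp1' : p ∈ Set.range (pullback.snd j₁ π₁) := by
      rw [Scheme.Pullback.range_snd]; exact hp1
    obtain ⟨p', rfl⟩ := hp1'
    refine step_top (pullback.snd j₁ π₁) π₂ m m.continuous (pullback.snd j₁ π₁).continuous
      ?_ (Set.range j₂) W hW ?_ p' hp2
    · exact (pullback.snd j₁ π₁ ≫ π₂).isOpenMap
    · intro q' hq'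
      refine H0 _ ?_ hq'
      have : pullback.snd j₁ π₁ q' ∈ Set.range (pullback.snd j₁ π₁) := ⟨q', rfl⟩
      rw [Scheme.Pullback.range_snd] at this
      exact this
  -- step B
  intro p hp1 hp2
  let Zc : Closeds P₂ := ⟨closure (Set.range j₂), isClosed_closure⟩
  let I := Scheme.IdealSheafData.vanishingIdeal Zc
  have hι : Set.range I.subschemeι = closure (Set.range j₂) := by
    rw [I.range_subschemeι]
    exact Scheme.IdealSheafData.coe_support_vanishingIdeal Zc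
  have hpb : IsPullback (pullback.fst π₂ I.subschemeι ≫ π₁) (pullback.snd π₂ I.subschemeι) q₁
      (I.subschemeι ≫ q₂) :=
    (IsPullback.of_hasPullback π₂ I.subschemeι).paste_horiz hT
  haveI : UniversallyOpen (I.subschemeι ≫ q₂) := hV _ _
  haveI : UniversallyOpen (pullback.fst π₂ I.subschemeι ≫ π₁) :=
    MorphismProperty.of_isPullback (P := @UniversallyOpen) hpb.flip inferInstance
  have hp2' : p ∈ Set.range (pullback.fst π₂ I.subschemeι) := by
    rw [Scheme.Pullback.range_fst, hι]; exact hp2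
  obtain ⟨p', rfl⟩ := hp2'
  refine step_top (pullback.fst π₂ I.subschemeι) π₁ m m.continuous
    (pullback.fst π₂ I.subschemeι).continuous ?_ (Set.range j₁) W hW ?_ p' hp1
  · exact (pullback.fst π₂ I.subschemeι ≫ π₁).isOpenMap
  · intro q' hq'
    refine hA _ hq' ?_
    have : pullback.fst π₂ I.subschemeι q' ∈ Set.range (pullback.fst π₂ I.subschemeι) := ⟨q', rfl⟩
    rw [Scheme.Pullback.range_fst, hι] at this
    exact this

omit hT hV in
/-- a point over `p`, `r₁`, `r₂` simultaneously. -/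
theorem exists_double (p : T) (r₁ : R₁) (r₂ : R₂) (h₁ : π₁ p = j₁ r₁) (h₂ : π₂ p = j₂ r₂) :
    ∃ (T₂ : Scheme.{u}) (ρ₁ : T₂ ⟶ R₁) (ρ₂ : T₂ ⟶ R₂) (τ : T₂ ⟶ T) (p₂ : T₂),
      ρ₁ ≫ j₁ = τ ≫ π₁ ∧ ρ₂ ≫ j₂ = τ ≫ π₂ ∧ τ p₂ = p := by
  obtain ⟨p₁, hp₁a, hp₁b⟩ := Scheme.Pullback.exists_preimage_pullback (f := j₁) (g := π₁) r₁ p h₁.symm
  have h3 : (pullback.snd j₁ π₁ ≫ π₂) p₁ = j₂ r₂ := by
    rw [Scheme.Hom.comp_apply, hp₁b, h₂]
  obtain ⟨p₂, hp₂a, hp₂b⟩ := Scheme.Pullback.exists_preimage_pullback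
    (f := pullback.snd j₁ π₁ ≫ π₂) (g := j₂) p₁ r₂ h3
  refine ⟨pullback (pullback.snd j₁ π₁ ≫ π₂) j₂,
    pullback.fst (pullback.snd j₁ π₁ ≫ π₂) j₂ ≫ pullback.fst j₁ π₁,
    pullback.snd (pullback.snd j₁ π₁ ≫ π₂) j₂,
    pullback.fst (pullback.snd j₁ π₁ ≫ π₂) j₂ ≫ pullback.snd j₁ π₁, p₂, ?_, ?_, ?_⟩
  · rw [Category.assoc, Category.assoc, pullback.condition]
  · rw [Category.assoc, ← pullback.condition]
  · rw [Scheme.Hom.comp_apply, hp₂a, hp₁b]

end Groth.Agent.Helper18.ClStab
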