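import Mathlib

set_option autoImplicit false
universe u
open scoped TensorProduct

namespace Groth.Agent.Helper18.RatPtsRed

/-- an algebra with jointly injective `k`-points has reduced base changes -/
theorem isReduced_tensor_of_jointly_injective {k : Type u} [Field k] {A : Type u} [CommRing A]
    [Algebra k A] {I : Type*} (φ : I → (A →ₐ[k] k))
    (hφ : ∀ a : A, (∀ t, φ t a = 0) → a = 0)
    (K : Type u) [Field K] [Algebra k K] : IsReduced (A ⊗[k] K) := by
  classical
  have hkK : IsReduced (k ⊗[k] K) :=
    isReduced_of_injective (Algebra.TensorProduct.lid k K).toAlgHom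
      (Algebra.TensorProduct.lid k K).injective
  have key : ∀ x : A ⊗[k] K,
      (∀ t, (Algebra.TensorProduct.map (φ t) (AlgHom.id k K)) x = 0) → x = 0 := by
    intro x hx
    let 𝒞 := Module.Basis.ofVectorSpace k K
    obtain ⟨c, rfl⟩ := TensorProduct.eq_repr_basis_right 𝒞 x
    have hc : ∀ i, c i = 0 := by
      intro i
      apply hφ
      intro t
      have h1 := hx t
      rw [Finsupp.sum, map_sum] at h1
      simp only [Algebra.TensorProduct.map_tmul, AlgHom.coe_id, id_eq] at h1
      have h2 : (c.mapRange (φ t) (map_zero _)).sum (fun i m => m ⊗ₜ[k] 𝒞 i) = 0 := by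
        rw [Finsupp.sum_mapRange_index (fun i => by simp)]
        exact h1
      have h3 := TensorProduct.sum_tmul_basis_right_eq_zero 𝒞 _ h2
      have := congrArg (fun b => b i) h3
      simpa using this
    have : c = 0 := by
      ext i
      exact hc i
    rw [this]
    simp
  constructor
  intro x hx
  apply key
  intro t
  exact (hx.map (Algebra.TensorProduct.map (φ t) (AlgHom.id k K))).eq_zero

end Groth.Agent.Helper18.RatPtsRed
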