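import Groth.Agent.Lib.Helper18.GeomRedGen2
import Groth.Agent.Lib.Helper18.RatPtsRed

/-!
# A reduced scheme with a dense set of rational points is geometrically reduced (helper18)
-/

set_option autoImplicit false
universe u
open CategoryTheory CategoryTheory.Limits AlgebraicGeometry
open scoped TensorProduct

namespace Groth.Agent.Helper18.GeomRedPts

open Groth.Agent.Helper18.GeomRedGen

variable {k : Type u} [Field k] {X : Scheme.{u}} (f : X ⟶ Spec (CommRingCat.of k))

/-- from rings back to schemes -/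
theorem isReduced_bc_of_ring [IsAffine X] (K : Type u) [Field K] [Algebra k K]
    (hring : letI : Algebra k Γ(X, ⊤) := (tg f).toAlgebra; _root_.IsReduced (Γ(X, ⊤) ⊗[k] K)) :
    IsReduced (FBase.bc f K) := by
  letI : Algebra k Γ(X, ⊤) := (tg f).toAlgebra
  have h1 : IsReduced (pullback (Spec.map (CommRingCat.ofHom (algebraMap k Γ(X, ⊤))))
      (Spec.map (CommRingCat.ofHom (algebraMap k K)))) :=
    (Groth.Agent.Helper16.BCRed.isReduced_pullback_Spec_iff Γ(X, ⊤) K).mpr
      (Groth.Agent.Helper18.StalkBC.isReduced_comm hring)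
  have h2 : Spec.map (CommRingCat.ofHom (algebraMap k Γ(X, ⊤))) = X.isoSpec.inv ≫ f :=
    (isoSpec_inv_comp f).symm
  rw [h2] at h1
  let e : pullback f (Spec.map (CommRingCat.ofHom (algebraMap k K))) ⟶
      pullback (X.isoSpec.inv ≫ f) (Spec.map (CommRingCat.ofHom (algebraMap k K))) :=
    pullback.map _ _ _ _ X.isoSpec.hom (𝟙 _) (𝟙 _) (by simp) (by simp)
  haveI : IsIso e := by dsimp only [e]; infer_instance
  haveI : IsOpenImmersion e := inferInstance
  haveI := h1
  show IsReduced (pullback f (Spec.map (CommRingCat.ofHom (algebraMap k K))))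
  exact isReduced_of_isOpenImmersion e

/-- the `k`-algebra map to `k` attached to a rational point -/
noncomputable def evalAt [IsAffine X] (s : Spec (CommRingCat.of k) ⟶ X) (hs : s ≫ f = 𝟙 _) :
    letI : Algebra k Γ(X, ⊤) := (tg f).toAlgebra; Γ(X, ⊤) →ₐ[k] k :=
  letI : Algebra k Γ(X, ⊤) := (tg f).toAlgebra
  { ((Scheme.ΓSpecIso (CommRingCat.of k)).hom.hom.comp s.appTop.hom) with
    commutes' := by
      intro c
      show (Scheme.ΓSpecIso (CommRingCat.of k)).hom.hom (s.appTop.hom (f.appTop.hom
        ((Scheme.ΓSpecIso (CommRingCat.of k)).inv.hom c))) = c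
      have h1 : f.appTop ≫ s.appTop = 𝟙 _ := by
        rw [← Scheme.Hom.comp_appTop, hs]
        rfl
      have h2 : s.appTop.hom (f.appTop.hom ((Scheme.ΓSpecIso (CommRingCat.of k)).inv.hom c))
          = (Scheme.ΓSpecIso (CommRingCat.of k)).inv.hom c := by
        rw [← CommRingCat.comp_apply, h1]
        rfl
      rw [h2, ← CommRingCat.comp_apply, Iso.inv_hom_id]
      rfl }

/-- affine case -/
theorem isReduced_bc_of_isAffine [IsAffine X] [IsReduced X] (D : Set X) (hD : Dense D)
    (hrat : ∀ x ∈ D, ∃ s : Spec (CommRingCat.of k) ⟶ X, s ≫ f = 𝟙 _ ∧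
      s (IsLocalRing.closedPoint k : PrimeSpectrum k) = x)
    (K : Type u) [Field K] [Algebra k K] : IsReduced (FBase.bc f K) := by
  letI : Algebra k Γ(X, ⊤) := (tg f).toAlgebra
  haveI : _root_.IsReduced Γ(X, ⊤) := inferInstance
  apply isReduced_bc_of_ring f K
  choose s hs hsx using hrat
  let φ : D → (Γ(X, ⊤) →ₐ[k] k) := fun x => evalAt f (s x.1 x.2) (hs x.1 x.2)
  refine Groth.Agent.Helper18.RatPtsRed.isReduced_tensor_of_jointly_injective φ ?_ K
  intro a ha
  -- the basic open of `a` misses `D`
  have hmiss : ∀ x ∈ D, x ∉ X.basicOpen a := by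
    intro x hx hxa
    have h0 : (s x hx).appTop.hom a = 0 := by
      have := ha ⟨x, hx⟩
      have h1 : (Scheme.ΓSpecIso (CommRingCat.of k)).hom.hom ((s x hx).appTop.hom a) = 0 := this
      have h2 := congrArg (Scheme.ΓSpecIso (CommRingCat.of k)).inv.hom h1
      rw [← CommRingCat.comp_apply, Iso.hom_inv_id, map_zero] at h2
      exact h2
    have h3 : (IsLocalRing.closedPoint k : PrimeSpectrum k) ∈
        (s x hx) ⁻¹ᵁ (X.basicOpen a) := by
      show (s x hx) (IsLocalRing.closedPoint k : PrimeSpectrum k) ∈ X.basicOpen a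
      rw [hsx x hx]
      exact hxa
    rw [Scheme.preimage_basicOpen_top, h0, Scheme.basicOpen_zero] at h3
    exact h3
  have hempty : X.basicOpen a = ⊥ := by
    by_contra hne
    have hne' : ((X.basicOpen a : X.Opens) : Set X).Nonempty := by
      rw [Set.nonempty_iff_ne_empty]
      intro h
      apply hne
      ext1
      simpa using h
    obtain ⟨x, hxa, hxD⟩ := hD.inter_open_nonempty _ (X.basicOpen a).2 hne'
    exact hmiss x hxD hxa
  exact (basicOpen_eq_bot_iff a).mp hempty

/-- general case -/
theorem isReduced_bc_of_dense [IsReduced X] (D : Set X) (hD : Dense D)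
    (hrat : ∀ x ∈ D, ∃ s : Spec (CommRingCat.of k) ⟶ X, s ≫ f = 𝟙 _ ∧
      s (IsLocalRing.closedPoint k : PrimeSpectrum k) = x)
    (K : Type u) [Field K] [Algebra k K] : IsReduced (FBase.bc f K) := by
  let 𝒲 := Scheme.Pullback.openCoverOfLeft X.affineCover f
    (Spec.map (CommRingCat.ofHom (algebraMap k K)))
  have key : ∀ i : X.affineCover.I₀, IsReduced (FBase.bc (X.affineCover.f i ≫ f) K) := by
    intro i
    haveI : IsReduced (X.affineCover.X i) := isReduced_of_isOpenImmersion (X.affineCover.f i)
    refine isReduced_bc_of_isAffine (X.affineCover.f i ≫ f) ((X.affineCover.f i) ⁻¹' D) ?_ ?_ K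
    · exact hD.preimage (X.affineCover.f i).isOpenEmbedding.isOpenMap
    · intro y hy
      obtain ⟨s, hs, hsx⟩ := hrat _ hy
      have hr : Set.range s ⊆ Set.range (X.affineCover.f i) := by
        rintro _ ⟨p, rfl⟩
        have : p = (IsLocalRing.closedPoint k : PrimeSpectrum k) := Subsingleton.elim _ _
        rw [this, hsx]
        exact ⟨y, rfl⟩
      refine ⟨IsOpenImmersion.lift (X.affineCover.f i) s hr, ?_, ?_⟩
      · rw [← Category.assoc, IsOpenImmersion.lift_fac, hs]
      · apply (X.affineCover.f i).isOpenEmbedding.injective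
        show (IsOpenImmersion.lift (X.affineCover.f i) s hr ≫ X.affineCover.f i)
          (IsLocalRing.closedPoint k : PrimeSpectrum k) = _
        rw [IsOpenImmersion.lift_fac, hsx]
  haveI : ∀ i, IsReduced (𝒲.X i) := fun i => key i
  exact IsReduced.of_openCover _ 𝒲

/-- a reduced scheme with a dense set of rational points is geometrically reduced -/
theorem geometricallyReduced_of_dense_ratPts [IsReduced X] (D : Set X) (hD : Dense D)
    (hrat : ∀ x ∈ D, ∃ s : Spec (CommRingCat.of k) ⟶ X, s ≫ f = 𝟙 _ ∧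
      s (IsLocalRing.closedPoint k : PrimeSpectrum k) = x) : GeometricallyReduced f := by
  refine ⟨?_⟩
  intro K _ y Z fst snd hpb
  letI : Algebra k K := (Spec.preimage y).hom.toAlgebra
  have hy : y = Spec.map (CommRingCat.ofHom (algebraMap k K)) := (Spec.map_preimage y).symm
  have hred : IsReduced (FBase.bc f K) := isReduced_bc_of_dense f D hD hrat K
  rw [hy] at hpb
  haveI : IsReduced (pullback f (Spec.map (CommRingCat.ofHom (algebraMap k K)))) := hred
  exact isReduced_of_isOpenImmersion hpb.isoPullback.hom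

end Groth.Agent.Helper18.GeomRedPts
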