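import Mathlib
import Groth.Prelude.Def_Grpd
import Groth.Agent.Lib.Helper18.GrpdOm
import Groth.Agent.Lib.Helper18.ClStab

set_option autoImplicit false
set_option linter.style.haveILetI false
set_option linter.unusedSectionVars false
universe u
open CategoryTheory CategoryTheory.Limits AlgebraicGeometry TopologicalSpace Opposite

namespace Groth.Agent.Helper18.GrpdCl

open Grpd Groth.Agent.Helper18.GrpdOm Groth.Agent.Helper18.ClStab

theorem univOpen_of_field {V : Scheme.{u}} (k : Type u) [Field k] (eU : V ≅ Spec (CommRingCat.of k))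
    (Y : Scheme.{u}) (g : Y ⟶ V) : UniversallyOpen g := by
  haveI : UniversallyOpen (g ≫ eU.hom) := inferInstance
  exact (MorphismProperty.cancel_right_of_respectsIso @UniversallyOpen g eU.hom).1 inferInstance

section One

variable {S : Scheme.{u}} (G : GroupoidScheme S)

theorem j_fst : G.j ≫ pullback.fst G.pU G.pU = G.t := pullback.lift_fst _ _ _
theorem j_snd : G.j ≫ pullback.snd G.pU G.pU = G.s := pullback.lift_snd _ _ _

theorem S7463 (k : Type u) [Field k] (eU : G.U ≅ Spec (CommRingCat.of k))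
    (pr02 : pullback (pullback.snd G.pU G.pU) (pullback.fst G.pU G.pU) ⟶ pullback G.pU G.pU)
    (h0 : pr02 ≫ pullback.fst G.pU G.pU =
      pullback.fst (pullback.snd G.pU G.pU) (pullback.fst G.pU G.pU) ≫ pullback.fst G.pU G.pU)
    (h1 : pr02 ≫ pullback.snd G.pU G.pU =
      pullback.snd (pullback.snd G.pU G.pU) (pullback.fst G.pU G.pU) ≫ pullback.snd G.pU G.pU)
    (p : ↑(pullback (pullback.snd G.pU G.pU) (pullback.fst G.pU G.pU)))
    (h₁ : pullback.fst (pullback.snd G.pU G.pU) (pullback.fst G.pU G.pU) p ∈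
      closure (Set.range ⇑G.j))
    (h₂ : pullback.snd (pullback.snd G.pU G.pU) (pullback.fst G.pU G.pU) p ∈
      closure (Set.range ⇑G.j)) : pr02 p ∈ closure (Set.range ⇑G.j) := by
  refine main _ _ _ _ (IsPullback.of_hasPullback (pullback.snd G.pU G.pU) (pullback.fst G.pU G.pU))
    pr02 G.j G.j (univOpen_of_field k eU) _ isClosed_closure ?_ p h₁ h₂
  rintro p ⟨r₁, hr₁⟩ ⟨r₂, hr₂⟩
  apply subset_closure
  obtain ⟨T₂, ρ₁, ρ₂, τ, p₂, e1, e2, rfl⟩ := exists_double
    (pullback.fst (pullback.snd G.pU G.pU) (pullback.fst G.pU G.pU))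
    (pullback.snd (pullback.snd G.pU G.pU) (pullback.fst G.pU G.pU)) G.j G.j p r₁ r₂ hr₁.symm hr₂.symm
  have hst : ρ₁ ≫ G.s = ρ₂ ≫ G.t := by
    rw [← j_snd, ← j_fst, reassoc_of% e1, reassoc_of% e2, pullback.condition]
  have key : cmp G ρ₁ ρ₂ hst ≫ G.j = τ ≫ pr02 := by
    apply pullback.hom_ext
    · rw [Category.assoc, j_fst, cmp_t, Category.assoc, h0, ← j_fst, reassoc_of% e1]
    · rw [Category.assoc, j_snd, cmp_s, Category.assoc, h1, ← j_snd, reassoc_of% e2]
  refine ⟨cmp G ρ₁ ρ₂ hst p₂, ?_⟩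
  have := congr($(key) p₂)
  rw [Scheme.Hom.comp_apply, Scheme.Hom.comp_apply] at this
  exact this

end One

section Two

variable {S : Scheme.{u}} (G₁ G₂ : GroupoidScheme S) (f : GroupoidScheme.Hom G₁ G₂) [IsIso f.fU]

theorem S7462 (k : Type u) [Field k] (eU : G₂.U ≅ Spec (CommRingCat.of k))
    (p : ↑(pullback G₂.s G₂.t))
    (h₁ : pullback.fst G₂.s G₂.t p ∈ closure (Set.range ⇑f.fR))
    (h₂ : pullback.snd G₂.s G₂.t p ∈ closure (Set.range ⇑f.fR)) :
    G₂.c p ∈ closure (Set.range ⇑f.fR) := by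
  refine main _ _ _ _ (IsPullback.of_hasPullback G₂.s G₂.t)
    G₂.c f.fR f.fR (univOpen_of_field k eU) _ isClosed_closure ?_ p h₁ h₂
  rintro p ⟨r₁, hr₁⟩ ⟨r₂, hr₂⟩
  apply subset_closure
  obtain ⟨T₂, ρ₁, ρ₂, τ, p₂, e1, e2, rfl⟩ := exists_double
    (pullback.fst G₂.s G₂.t) (pullback.snd G₂.s G₂.t) f.fR f.fR p r₁ r₂ hr₁.symm hr₂.symm
  have hst : ρ₁ ≫ G₁.s = ρ₂ ≫ G₁.t := by
    rw [← cancel_mono f.fU, Category.assoc, Category.assoc, ← f.comm_s, ← f.comm_t,
      reassoc_of% e1, reassoc_of% e2, pullback.condition]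
  have key : cmp G₁ ρ₁ ρ₂ hst ≫ f.fR = τ ≫ G₂.c := by
    have h := f.comm_c ρ₁ ρ₂ hst
    refine h.trans ?_
    congr 1
    apply pullback.hom_ext
    · rw [pullback.lift_fst, e1]
    · rw [pullback.lift_snd, e2]
  refine ⟨cmp G₁ ρ₁ ρ₂ hst p₂, ?_⟩
  have := congr($(key) p₂)
  rw [Scheme.Hom.comp_apply, Scheme.Hom.comp_apply] at this
  exact this

end Two

end Groth.Agent.Helper18.GrpdCl
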