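import Mathlib
import Groth.Prelude.Def_Grpd
import Groth.Agent.Lib.Helper18.GrpdHom
import Groth.Agent.Lib.Helper18.GrpdCl

set_option autoImplicit false
set_option linter.style.haveILetI false
set_option linter.unusedSectionVars false
set_option maxRecDepth 8000
universe u
open CategoryTheory CategoryTheory.Limits AlgebraicGeometry TopologicalSpace Opposite

namespace Groth.Agent.Helper18.GrpdLC

open Grpd Groth.Agent.Helper18.GrpdOm Groth.Agent.Helper18.GrpdRank Groth.Agent.Helper18.GrpdHom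
  Groth.Agent.Helper18.ClStab Groth.Agent.Helper18.GrpdCl

variable {S : Scheme.{u}} {G₁ G₂ : GroupoidScheme S} (a : GroupoidScheme.Hom G₁ G₂) [IsIso a.fU]

/-- the image is stable under composition -/
theorem range_comp (p : ↑(pullback G₂.s G₂.t))
    (h₁ : pullback.fst G₂.s G₂.t p ∈ Set.range ⇑a.fR)
    (h₂ : pullback.snd G₂.s G₂.t p ∈ Set.range ⇑a.fR) : G₂.c p ∈ Set.range ⇑a.fR := by
  obtain ⟨r₁, hr₁⟩ := h₁
  obtain ⟨r₂, hr₂⟩ := h₂
  obtain ⟨T₂, ρ₁, ρ₂, τ, p₂, e1, e2, rfl⟩ := exists_double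
    (pullback.fst G₂.s G₂.t) (pullback.snd G₂.s G₂.t) a.fR a.fR p r₁ r₂ hr₁.symm hr₂.symm
  have hst : ρ₁ ≫ G₁.s = ρ₂ ≫ G₁.t := by
    rw [← cancel_mono a.fU, Category.assoc, Category.assoc, ← a.comm_s, ← a.comm_t,
      reassoc_of% e1, reassoc_of% e2, pullback.condition]
  have key : cmp G₁ ρ₁ ρ₂ hst ≫ a.fR = τ ≫ G₂.c := by
    have h := a.comm_c ρ₁ ρ₂ hst
    refine h.trans ?_
    congr 1
    apply pullback.hom_ext
    · rw [pullback.lift_fst, e1]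
    · rw [pullback.lift_snd, e2]
  refine ⟨cmp G₁ ρ₁ ρ₂ hst p₂, ?_⟩
  have := congr($(key) p₂)
  rw [Scheme.Hom.comp_apply, Scheme.Hom.comp_apply] at this
  exact this

omit [IsIso a.fU] in
theorem range_i (w : G₂.R) (hw : w ∈ Set.range ⇑a.fR) : G₂.i w ∈ Set.range ⇑a.fR := by
  obtain ⟨r, rfl⟩ := hw
  refine ⟨G₁.i r, ?_⟩
  have := congr($(comm_i a) r)
  rw [Scheme.Hom.comp_apply, Scheme.Hom.comp_apply] at this
  exact this

theorem range_e (u : G₂.U) : G₂.e u ∈ Set.range ⇑a.fR := by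
  obtain ⟨u', rfl⟩ := (a.fU.homeomorph).surjective u
  refine ⟨G₁.e u', ?_⟩
  have := congr($(comm_e a) u')
  rw [Scheme.Hom.comp_apply, Scheme.Hom.comp_apply] at this
  exact this

omit [IsIso a.fU] in
theorem closure_i (z : G₂.R) (hz : z ∈ closure (Set.range ⇑a.fR)) :
    G₂.i z ∈ closure (Set.range ⇑a.fR) := by
  have h1 : G₂.i '' (closure (Set.range ⇑a.fR)) ⊆ closure (G₂.i '' (Set.range ⇑a.fR)) :=
    image_closure_subset_closure_image G₂.i.continuous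
  have h2 : G₂.i '' (Set.range ⇑a.fR) ⊆ Set.range ⇑a.fR := by
    rintro _ ⟨w, hw, rfl⟩
    exact range_i a w hw
  exact closure_mono h2 (h1 ⟨z, hz, rfl⟩)

section Translate

variable (G : GroupoidScheme S)

/-- if `l = x⁻¹ ∘ u` then `x = u ∘ l⁻¹` -/
theorem cmp_inv_cancel {T : Scheme.{u}} (x w : T ⟶ G.R) (h : x ≫ G.t = w ≫ G.t) :
    cmp G w (cmp G (x ≫ G.i) w (by rw [Category.assoc, G.i_s, h]) ≫ G.i)
      (by rw [Category.assoc, G.i_t, cmp_s]) = x := by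
  have hA : (x ≫ G.i) ≫ G.s = w ≫ G.t := by rw [Category.assoc, G.i_s, h]
  have hB : x ≫ G.s = (x ≫ G.i) ≫ G.t := by rw [Category.assoc, G.i_t]
  -- cmp x l = w
  have hl_t : cmp G (x ≫ G.i) w hA ≫ G.t = x ≫ G.s := by rw [cmp_t, Category.assoc, G.i_t]
  have hC : x ≫ G.s = cmp G (x ≫ G.i) w hA ≫ G.t := hl_t.symm
  have h1 : cmp G x (cmp G (x ≫ G.i) w hA) hC = w := by
    refine (cmp_assoc G x (x ≫ G.i) w hB hA).symm.trans ?_
    have h2 := cmp_i G x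
    have h3 : x ≫ G.t ≫ G.e = w ≫ G.t ≫ G.e := by rw [← Category.assoc, h, Category.assoc]
    refine (cmp_congr G _ (h2.trans h3) rfl).trans ?_
    exact e_cmp G w
  -- cmp w (l⁻¹) = cmp (cmp x l) l⁻¹ = x
  have hD : cmp G (x ≫ G.i) w hA ≫ G.s = (cmp G (x ≫ G.i) w hA ≫ G.i) ≫ G.t := by
    rw [Category.assoc _ G.i G.t, G.i_t]
  refine (cmp_congr G _ h1.symm rfl).trans ?_
  refine (cmp_assoc G x (cmp G (x ≫ G.i) w hA) (cmp G (x ≫ G.i) w hA ≫ G.i) hC hD).trans ?_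
  have h4 := cmp_i G (cmp G (x ≫ G.i) w hA)
  have h5 : cmp G (x ≫ G.i) w hA ≫ G.t ≫ G.e = x ≫ G.s ≫ G.e := by
    rw [← Category.assoc, hl_t, Category.assoc]
  refine (cmp_congr G _ rfl (h4.trans h5)).trans ?_
  exact cmp_e G x

variable {K : Scheme.{u}} (ζ : K ⟶ G.R)

/-- `(u, x) ↦ (ζ(x)⁻¹, u)` -/
noncomputable def J : pullback G.t (ζ ≫ G.t) ⟶ pullback G.s G.t :=
  pullback.lift (pullback.snd G.t (ζ ≫ G.t) ≫ ζ ≫ G.i) (pullback.fst G.t (ζ ≫ G.t))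
    (by rw [Category.assoc, Category.assoc, G.i_s, pullback.condition])

/-- `(u, x) ↦ ζ(x)⁻¹ ∘ u` -/
noncomputable def lam : pullback G.t (ζ ≫ G.t) ⟶ G.R := J G ζ ≫ G.c

theorem lam_eq : lam G ζ = cmp G (pullback.snd G.t (ζ ≫ G.t) ≫ ζ ≫ G.i) (pullback.fst G.t (ζ ≫ G.t))
    (by rw [Category.assoc, Category.assoc, G.i_s, pullback.condition]) := rfl

/-- the tautological point -/
noncomputable def ztil : K ⟶ pullback G.t (ζ ≫ G.t) :=
  pullback.lift ζ (𝟙 K) (by rw [Category.id_comp])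

theorem ztil_fst : ztil G ζ ≫ pullback.fst G.t (ζ ≫ G.t) = ζ := pullback.lift_fst _ _ _
theorem ztil_snd : ztil G ζ ≫ pullback.snd G.t (ζ ≫ G.t) = 𝟙 K := pullback.lift_snd _ _ _

theorem ztil_lam : ztil G ζ ≫ lam G ζ = ζ ≫ G.s ≫ G.e := by
  rw [lam_eq, precomp_cmp]
  have h1 : ztil G ζ ≫ pullback.snd G.t (ζ ≫ G.t) ≫ ζ ≫ G.i = ζ ≫ G.i := by
    rw [reassoc_of% ztil_snd G ζ]
  refine (cmp_congr G _ h1 (ztil_fst G ζ)).trans ?_
  exact i_cmp G ζ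

/-- the key algebraic identity -/
theorem exists_lift_of_point {T : Scheme.{u}} (q : T ⟶ pullback G.t (ζ ≫ G.t)) :
    ∃ P : T ⟶ pullback G.s G.t, P ≫ pullback.fst G.s G.t = q ≫ pullback.fst G.t (ζ ≫ G.t) ∧
      P ≫ pullback.snd G.s G.t = (q ≫ lam G ζ) ≫ G.i ∧
      P ≫ G.c = q ≫ pullback.snd G.t (ζ ≫ G.t) ≫ ζ := by
  have hx : (q ≫ pullback.snd G.t (ζ ≫ G.t) ≫ ζ) ≫ G.t = (q ≫ pullback.fst G.t (ζ ≫ G.t)) ≫ G.t := by
    simp only [Category.assoc]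
    rw [pullback.condition]
  have hl : q ≫ lam G ζ = cmp G ((q ≫ pullback.snd G.t (ζ ≫ G.t) ≫ ζ) ≫ G.i)
      (q ≫ pullback.fst G.t (ζ ≫ G.t)) (by rw [Category.assoc, G.i_s, hx]) := by
    rw [lam_eq, precomp_cmp]
    exact cmp_congr G _ (by simp only [Category.assoc]) rfl
  have key := cmp_inv_cancel G (q ≫ pullback.snd G.t (ζ ≫ G.t) ≫ ζ)
    (q ≫ pullback.fst G.t (ζ ≫ G.t)) hx
  refine ⟨pullback.lift (q ≫ pullback.fst G.t (ζ ≫ G.t)) ((q ≫ lam G ζ) ≫ G.i)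
    (by rw [Category.assoc _ G.i G.t, G.i_t, hl, cmp_s]), pullback.lift_fst _ _ _,
    pullback.lift_snd _ _ _, ?_⟩
  refine Eq.trans ?_ key
  exact cmp_congr G _ rfl (by rw [hl])

end Translate

theorem main (k : Type u) [Field k] (eU : G₂.U ≅ Spec (CommRingCat.of k))
    (hlc : IsLocallyClosed (Set.range ⇑a.fR)) : IsClosed (Set.range ⇑a.fR) := by
  rw [← closure_subset_iff_isClosed]
  intro z hz
  have hO : IsOpen (coborder (Set.range ⇑a.fR)) := hlc.isOpen_coborder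
  have hOW : coborder (Set.range ⇑a.fR) ∩ closure (Set.range ⇑a.fR) = Set.range ⇑a.fR :=
    coborder_inter_closure
  let ζ : Spec (CommRingCat.of (G₂.R.residueField z)) ⟶ G₂.R := G₂.R.fromSpecResidueField z
  have hζ : ∀ pt : Spec (CommRingCat.of (G₂.R.residueField z)), ζ pt = z :=
    fun pt => Scheme.fromSpecResidueField_apply z pt
  haveI : UniversallyOpen (ζ ≫ G₂.t) := univOpen_of_field k eU _ _
  haveI : UniversallyOpen (pullback.fst G₂.t (ζ ≫ G₂.t)) :=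
    MorphismProperty.of_isPullback (P := @UniversallyOpen)
      (IsPullback.of_hasPullback G₂.t (ζ ≫ G₂.t)).flip inferInstance
  have hopen : IsOpenMap (pullback.fst G₂.t (ζ ≫ G₂.t)) :=
    (pullback.fst G₂.t (ζ ≫ G₂.t)).isOpenMap
  obtain ⟨pt₀⟩ : Nonempty (Spec (CommRingCat.of (G₂.R.residueField z))) :=
    ⟨IsLocalRing.closedPoint _⟩
  -- the tautological point
  have h1 : pullback.fst G₂.t (ζ ≫ G₂.t) (ztil G₂ ζ pt₀) = z := by
    rw [← Scheme.Hom.comp_apply, ztil_fst]; exact hζ pt₀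
  have h2 : lam G₂ ζ (ztil G₂ ζ pt₀) ∈ Set.range ⇑a.fR := by
    rw [← Scheme.Hom.comp_apply, ztil_lam, Scheme.Hom.comp_apply, Scheme.Hom.comp_apply]
    exact range_e a _
  have h3 : ztil G₂ ζ pt₀ ∈ closure (pullback.fst G₂.t (ζ ≫ G₂.t) ⁻¹' Set.range ⇑a.fR) := by
    rw [← hopen.preimage_closure_eq_closure_preimage (pullback.fst G₂.t (ζ ≫ G₂.t)).continuous]
    change pullback.fst G₂.t (ζ ≫ G₂.t) (ztil G₂ ζ pt₀) ∈ closure (Set.range ⇑a.fR)
    rw [h1]; exact hz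
  have hN : IsOpen (lam G₂ ζ ⁻¹' coborder (Set.range ⇑a.fR)) :=
    hO.preimage (lam G₂ ζ).continuous
  have hzN : ztil G₂ ζ pt₀ ∈ lam G₂ ζ ⁻¹' coborder (Set.range ⇑a.fR) :=
    subset_coborder h2
  obtain ⟨q, hqN, hqW⟩ := mem_closure_iff.1 h3 _ hN hzN
  -- `λ q ∈ W`
  have hlZ : lam G₂ ζ q ∈ closure (Set.range ⇑a.fR) := by
    change G₂.c (J G₂ ζ q) ∈ closure (Set.range ⇑a.fR)
    apply Groth.Agent.Helper18.GrpdCl.S7462 G₁ G₂ a k eU
    · rw [← Scheme.Hom.comp_apply]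
      have : J G₂ ζ ≫ pullback.fst G₂.s G₂.t = pullback.snd G₂.t (ζ ≫ G₂.t) ≫ ζ ≫ G₂.i :=
        pullback.lift_fst _ _ _
      rw [this, Scheme.Hom.comp_apply, Scheme.Hom.comp_apply, hζ]
      exact closure_i a z hz
    · rw [← Scheme.Hom.comp_apply]
      have : J G₂ ζ ≫ pullback.snd G₂.s G₂.t = pullback.fst G₂.t (ζ ≫ G₂.t) :=
        pullback.lift_snd _ _ _
      rw [this]
      exact subset_closure hqW
  have hlW : lam G₂ ζ q ∈ Set.range ⇑a.fR := by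
    rw [← hOW]; exact ⟨hqN, hlZ⟩
  -- conclude
  let F := pullback G₂.t (ζ ≫ G₂.t)
  let ιq : Spec (CommRingCat.of (F.residueField q)) ⟶ F := F.fromSpecResidueField q
  have hιq : ∀ pt : Spec (CommRingCat.of (F.residueField q)), ιq pt = q :=
    fun pt => Scheme.fromSpecResidueField_apply q pt
  obtain ⟨P, hP1, hP2, hP3⟩ := exists_lift_of_point G₂ ζ ιq
  obtain ⟨pt₁⟩ : Nonempty (Spec (CommRingCat.of (F.residueField q))) :=
    ⟨IsLocalRing.closedPoint _⟩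
  have k1 : pullback.fst G₂.s G₂.t (P pt₁) ∈ Set.range ⇑a.fR := by
    rw [← Scheme.Hom.comp_apply, hP1, Scheme.Hom.comp_apply, hιq]
    exact hqW
  have k2 : pullback.snd G₂.s G₂.t (P pt₁) ∈ Set.range ⇑a.fR := by
    rw [← Scheme.Hom.comp_apply, hP2, Scheme.Hom.comp_apply, Scheme.Hom.comp_apply, hιq]
    exact range_i a _ hlW
  have k3 : G₂.c (P pt₁) = z := by
    rw [← Scheme.Hom.comp_apply, hP3, Scheme.Hom.comp_apply, Scheme.Hom.comp_apply, hζ]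
  rw [← k3]
  exact range_comp a _ k1 k2

end Groth.Agent.Helper18.GrpdLC
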