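import Mathlib
import Groth.Prelude.Def_Grpd
import Groth.Agent.Lib.Helper18.GrpdImg

set_option autoImplicit false
set_option linter.style.haveILetI false
set_option linter.unusedSectionVars false
set_option maxRecDepth 8000
universe u
open CategoryTheory CategoryTheory.Limits AlgebraicGeometry TopologicalSpace Opposite

/-!
# The pair groupoid `(U, U ×_S U)` and the morphism `j` to it
-/

namespace Groth.Agent.Helper18.GrpdPair

open Grpd Groth.Agent.Helper18.GrpdOm Groth.Agent.Helper18.GrpdSub Groth.Agent.Helper18.GrpdHom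
  Groth.Agent.Helper18.GrpdImg

variable {S : Scheme.{u}}

section Pair

variable {U : Scheme.{u}} (pU : U ⟶ S)

theorem pair_cond : (pullback.fst (pullback.snd pU pU) (pullback.fst pU pU) ≫ pullback.fst pU pU) ≫ pU =
    (pullback.snd (pullback.snd pU pU) (pullback.fst pU pU) ≫ pullback.snd pU pU) ≫ pU := by
  rw [Category.assoc, Category.assoc, pullback.condition, ← Category.assoc,
    pullback.condition (f := pullback.snd pU pU), Category.assoc, pullback.condition]

/-- the pair groupoid on `U` over `S` -/
noncomputable def pair : GroupoidScheme S where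
  U := U
  R := pullback pU pU
  pU := pU
  pR := pullback.fst pU pU ≫ pU
  s := pullback.snd pU pU
  t := pullback.fst pU pU
  e := pullback.lift (𝟙 U) (𝟙 U) rfl
  i := pullback.lift (pullback.snd pU pU) (pullback.fst pU pU) pullback.condition.symm
  c := pullback.lift (pullback.fst _ _ ≫ pullback.fst pU pU) (pullback.snd _ _ ≫ pullback.snd pU pU)
    (pair_cond pU)
  s_over := pullback.condition.symm
  t_over := rfl
  comp_s := by
    intro T α β h
    rw [Category.assoc, pullback.lift_snd, ← Category.assoc, pullback.lift_snd]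
  comp_t := by
    intro T α β h
    rw [Category.assoc, pullback.lift_fst, ← Category.assoc, pullback.lift_fst]
  assoc := by
    intro T α β γ h₁ h₂
    apply pullback.hom_ext
    · simp only [Category.assoc, pullback.lift_fst, pullback.lift_fst_assoc]
    · simp only [Category.assoc, pullback.lift_snd, pullback.lift_snd_assoc]
  e_s := pullback.lift_snd _ _ _
  e_t := pullback.lift_fst _ _ _
  comp_e := by
    intro T α
    apply pullback.hom_ext
    · simp only [Category.assoc, pullback.lift_fst, pullback.lift_fst_assoc]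
    · simp only [Category.assoc, pullback.lift_snd, pullback.lift_snd_assoc, Category.comp_id]
  e_comp := by
    intro T α
    apply pullback.hom_ext
    · simp only [Category.assoc, pullback.lift_fst, pullback.lift_fst_assoc, Category.comp_id]
    · simp only [Category.assoc, pullback.lift_snd, pullback.lift_snd_assoc]
  i_s := pullback.lift_snd _ _ _
  i_t := pullback.lift_fst _ _ _
  comp_i := by
    intro T α
    apply pullback.hom_ext
    · simp only [Category.assoc, pullback.lift_fst, pullback.lift_fst_assoc, Category.comp_id]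
    · simp only [Category.assoc, pullback.lift_snd, pullback.lift_snd_assoc, Category.comp_id]
  i_comp := by
    intro T α
    apply pullback.hom_ext
    · simp only [Category.assoc, pullback.lift_fst, pullback.lift_fst_assoc, Category.comp_id]
    · simp only [Category.assoc, pullback.lift_snd, pullback.lift_snd_assoc, Category.comp_id]

end Pair

variable (G : GroupoidScheme S)

/-- `j` as a morphism of groupoids to the pair groupoid -/
noncomputable def jHom : GroupoidScheme.Hom G (pair G.pU) where
  fU := 𝟙 _
  fR := G.j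
  fU_over := Category.id_comp _
  comm_s := by
    show G.j ≫ pullback.snd G.pU G.pU = G.s ≫ 𝟙 _
    rw [Category.comp_id]; exact pullback.lift_snd _ _ _
  comm_t := by
    show G.j ≫ pullback.fst G.pU G.pU = G.t ≫ 𝟙 _
    rw [Category.comp_id]; exact pullback.lift_fst _ _ _
  comm_c := by
    intro T α β h
    apply pullback.hom_ext
    · have h1 : G.j ≫ pullback.fst G.pU G.pU = G.t := pullback.lift_fst _ _ _
      refine Eq.trans ?_ ((pair G.pU).comp_t (α ≫ G.j) (β ≫ G.j) _).symm
      show ((pullback.lift α β h ≫ G.c) ≫ G.j) ≫ pullback.fst G.pU G.pU =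
        (α ≫ G.j) ≫ pullback.fst G.pU G.pU
      rw [Category.assoc (pullback.lift α β h ≫ G.c), Category.assoc α, h1, G.comp_t]
    · have h1 : G.j ≫ pullback.snd G.pU G.pU = G.s := pullback.lift_snd _ _ _
      refine Eq.trans ?_ ((pair G.pU).comp_s (α ≫ G.j) (β ≫ G.j) _).symm
      show ((pullback.lift α β h ≫ G.c) ≫ G.j) ≫ pullback.snd G.pU G.pU =
        (β ≫ G.j) ≫ pullback.snd G.pU G.pU
      rw [Category.assoc (pullback.lift α β h ≫ G.c), Category.assoc β, h1, G.comp_s]

theorem pullback_map_id {X Y Z : Scheme.{u}} (f : X ⟶ Z) (g : Y ⟶ Z)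
    (h1 : f ≫ 𝟙 Z = 𝟙 X ≫ f) (h2 : g ≫ 𝟙 Z = 𝟙 Y ≫ g) :
    pullback.map f g f g (𝟙 X) (𝟙 Y) (𝟙 Z) h1 h2 = 𝟙 _ := by
  apply pullback.hom_ext
  · rw [pullback.lift_fst, Category.comp_id, Category.id_comp]
  · rw [pullback.lift_snd, Category.comp_id, Category.id_comp]

theorem isAffine_pullback_of_field (k : Type u) [Field k] {U : Scheme.{u}}
    (eU : U ≅ Spec (CommRingCat.of k)) (pU : U ⟶ S) : IsAffine (pullback pU pU) := by
  haveI : IsAffine U := IsAffine.of_isIso eU.hom
  haveI : Subsingleton (Spec (CommRingCat.of k)) :=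
    inferInstanceAs (Subsingleton (PrimeSpectrum k))
  haveI : Subsingleton U := eU.hom.homeomorph.injective.subsingleton
  let x₀ : U := eU.inv (IsLocalRing.closedPoint k)
  obtain ⟨_, ⟨V₀, hV, rfl⟩, hxV, -⟩ := S.isBasis_affineOpens.exists_subset_of_mem_open
    (Set.mem_univ (pU x₀)) isOpen_univ
  let V : S.Opens := V₀
  have hVa : IsAffineOpen V := hV
  haveI : IsAffine (V : Scheme.{u}) := hVa
  have hr : Set.range pU ⊆ Set.range V.ι := by
    rintro _ ⟨x, rfl⟩
    rw [Scheme.Opens.range_ι, Subsingleton.elim x x₀]
    exact hxV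
  let pU' : U ⟶ V := IsOpenImmersion.lift V.ι pU hr
  have hfac : pU' ≫ V.ι = pU := IsOpenImmersion.lift_fac _ _ _
  have hP : IsPullback (pullback.fst pU' pU') (pullback.snd pU' pU') pU pU := by
    have := isPullback_comp_mono (IsPullback.of_hasPullback pU' pU') V.ι
    rw [hfac] at this
    exact this
  exact IsAffine.of_isIso hP.isoPullback.inv

theorem main (k : Type u) [Field k] (eU : G.U ≅ Spec (CommRingCat.of k)) [CompactSpace G.R] :
    ∃ (G' : GroupoidScheme S) (φ : GroupoidScheme.Hom G G'), IsIso φ.fU ∧ IsClosedImmersion G'.j ∧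
      G'.j.ker = (G.j ≫ pullback.map G.pU G.pU G'.pU G'.pU φ.fU φ.fU (𝟙 S)
        ((Category.comp_id _).trans φ.fU_over.symm)
        ((Category.comp_id _).trans φ.fU_over.symm)).ker := by
  haveI : IsAffine (pullback G.pU G.pU) := isAffine_pullback_of_field k eU G.pU
  haveI : QuasiCompact G.j := (quasiCompact_iff_compactSpace G.j).mpr inferInstance
  haveI : QuasiCompact (jHom G).fR := ‹QuasiCompact G.j›
  haveI : IsIso (jHom G).fU := inferInstanceAs (IsIso (𝟙 G.U))
  obtain ⟨D, q, hqm, hcl, hker⟩ := main' (jHom G) k eU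
  have hj : (sub D).j = D.m := by
    apply pullback.hom_ext
    · exact (pullback.lift_fst _ _ _)
    · exact (pullback.lift_snd _ _ _)
  refine ⟨sub D, coresHom (jHom G) D q hqm, ?_, ?_, ?_⟩
  · show IsIso (𝟙 G.U)
    infer_instance
  · rw [hj]; exact hcl
  · refine Eq.trans (show Scheme.Hom.ker (sub D).j = Scheme.Hom.ker G.j from ?_) ?_
    · rw [hj]; exact hker
    congr 1
    refine (Category.comp_id _).symm.trans ?_
    congr 1
    exact (pullback_map_id G.pU G.pU _ _).symm

end Groth.Agent.Helper18.GrpdPair
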