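import Mathlib
import Groth.Prelude.Def_Grpd
import Groth.Agent.Lib.Helper18.GrpdPair
import Groth.Agent.Lib.Helper18.GrpdLC
import Groth.Agent.Lib.Helper18.RedLift

set_option autoImplicit false
set_option linter.style.haveILetI false
set_option linter.unusedSectionVars false
set_option maxRecDepth 8000
universe u
open CategoryTheory CategoryTheory.Limits AlgebraicGeometry TopologicalSpace Opposite

/-!
# The reduced groupoid on the closure of the image of a morphism of groupoids on a perfect field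
-/

namespace Groth.Agent.Helper18.GrpdRed

open Grpd Groth.Agent.Helper18.GrpdOm Groth.Agent.Helper18.GrpdSub Groth.Agent.Helper18.GrpdHom
  Groth.Agent.Helper18.GrpdImg Groth.Agent.Helper18.GrpdPair Groth.Agent.Helper18.GrpdCl
  Groth.Agent.Helper18.RedLift

/-- The reduced induced closed subscheme structure is reduced. -/
theorem isReduced_vanishingIdeal_subscheme {X : Scheme.{u}} (Z : TopologicalSpace.Closeds X) :
    IsReduced (Scheme.IdealSheafData.vanishingIdeal Z).subscheme := by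
  set I := Scheme.IdealSheafData.vanishingIdeal Z
  rw [IsReduced.iff_of_openCover (X := I.subscheme) I.subschemeCover.openCover]
  intro (U : X.affineOpens)
  have h3 : (I.ideal U).IsRadical := by
    rw [Scheme.IdealSheafData.vanishingIdeal_ideal]
    exact PrimeSpectrum.isRadical_vanishingIdeal _
  have h2 : _root_.IsReduced (Γ(X, U) ⧸ I.ideal U) := (Ideal.isRadical_iff_quotient_reduced _).mp h3
  exact (affine_isReduced_iff (.of (Γ(X, U) ⧸ I.ideal U))).mpr h2

theorem range_subschemeι_vanishingIdeal {X : Scheme.{u}} (Z : TopologicalSpace.Closeds X) :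
    Set.range (Scheme.IdealSheafData.vanishingIdeal Z).subschemeι = (Z : Set X) := by
  rw [Scheme.IdealSheafData.range_subschemeι, Scheme.IdealSheafData.coe_support_vanishingIdeal]

theorem denseRange_of_isPullback {P X Y T : Scheme.{u}} {pX : P ⟶ X} {pY : P ⟶ Y} {f : X ⟶ T}
    {g : Y ⟶ T} (H : IsPullback pX pY f g) (hf : DenseRange f) (hg : IsOpenMap g) :
    DenseRange pY := by
  have h1 : Set.range pY = g ⁻¹' Set.range f := by
    have h2 : pY = H.isoPullback.hom ≫ pullback.snd f g := (H.isoPullback_hom_snd).symm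
    have h3 : Set.range H.isoPullback.hom = Set.univ :=
      Set.range_eq_univ.mpr H.isoPullback.hom.homeomorph.surjective
    rw [h2, Scheme.Hom.comp_base, TopCat.coe_comp, Set.range_comp, h3, Set.image_univ,
      Scheme.Pullback.range_snd]
  show Dense (Set.range pY)
  rw [h1]
  exact hf.preimage hg

/-- `q × q` has dense range -/
theorem denseRange_prodMap {A Z U : Scheme.{u}} (q : A ⟶ Z) (σ τ : Z ⟶ U) (hq : DenseRange q)
    (hopen : ∀ {Y : Scheme.{u}} (g : Y ⟶ U), UniversallyOpen g)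
    (qq : pullback (q ≫ σ) (q ≫ τ) ⟶ pullback σ τ)
    (h1 : qq ≫ pullback.fst σ τ = pullback.fst _ _ ≫ q)
    (h2 : qq ≫ pullback.snd σ τ = pullback.snd _ _ ≫ q) : DenseRange qq := by
  let qq₁ : pullback (q ≫ σ) (q ≫ τ) ⟶ pullback σ (q ≫ τ) :=
    pullback.lift (pullback.fst _ _ ≫ q) (pullback.snd _ _)
      (by rw [Category.assoc]; exact pullback.condition)
  let qq₂ : pullback σ (q ≫ τ) ⟶ pullback σ τ :=
    pullback.lift (pullback.fst _ _) (pullback.snd _ _ ≫ q)
      (by rw [Category.assoc]; exact pullback.condition)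
  have hqq : qq = qq₁ ≫ qq₂ := by
    apply pullback.hom_ext
    · rw [h1, Category.assoc, pullback.lift_fst, pullback.lift_fst]
    · rw [h2, Category.assoc, pullback.lift_snd, ← Category.assoc, pullback.lift_snd]
  have P1 : IsPullback qq₁ (pullback.fst (q ≫ σ) (q ≫ τ)) (pullback.fst σ (q ≫ τ)) q := by
    have ht : IsPullback (pullback.snd σ (q ≫ τ)) (pullback.fst σ (q ≫ τ)) (q ≫ τ) σ :=
      (IsPullback.of_hasPullback _ _).flip
    have hs : IsPullback (qq₁ ≫ pullback.snd σ (q ≫ τ)) (pullback.fst (q ≫ σ) (q ≫ τ))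
        (q ≫ τ) (q ≫ σ) := by
      have e1 : qq₁ ≫ pullback.snd σ (q ≫ τ) = pullback.snd (q ≫ σ) (q ≫ τ) :=
        pullback.lift_snd _ _ _
      rw [e1]
      exact (IsPullback.of_hasPullback _ _).flip
    exact IsPullback.of_right hs (pullback.lift_fst _ _ _) ht
  have P2 : IsPullback qq₂ (pullback.snd σ (q ≫ τ)) (pullback.snd σ τ) q := by
    have ht : IsPullback (pullback.fst σ τ) (pullback.snd σ τ) σ τ := IsPullback.of_hasPullback _ _
    have hs : IsPullback (qq₂ ≫ pullback.fst σ τ) (pullback.snd σ (q ≫ τ)) σ (q ≫ τ) := by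
      have e1 : qq₂ ≫ pullback.fst σ τ = pullback.fst σ (q ≫ τ) := pullback.lift_fst _ _ _
      rw [e1]
      exact IsPullback.of_hasPullback _ _
    exact IsPullback.of_right hs (pullback.lift_snd _ _ _) ht
  haveI : UniversallyOpen (q ≫ τ) := hopen _
  haveI : UniversallyOpen σ := hopen _
  have o1 : IsOpenMap (pullback.fst σ (q ≫ τ)) := (pullback.fst σ (q ≫ τ)).isOpenMap
  have o2 : IsOpenMap (pullback.snd σ τ) := (pullback.snd σ τ).isOpenMap
  have d1 : DenseRange qq₁ := denseRange_of_isPullback P1.flip hq o1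
  have d2 : DenseRange qq₂ := denseRange_of_isPullback P2.flip hq o2
  rw [hqq]
  exact d2.comp d1 qq₂.continuous

section Main

variable {S : Scheme.{u}} {G₁ G₂ : GroupoidScheme S} (a : GroupoidScheme.Hom G₁ G₂)

theorem mainRed' [IsIso a.fU] (k : Type u) [Field k] [PerfectField k]
    (eU : G₂.U ≅ Spec (CommRingCat.of k)) :
    ∃ D : SubData G₂, IsReduced D.Z ∧ IsClosedImmersion D.m ∧
      Set.range D.m = closure (Set.range a.fR) := by
  let C : Closeds G₂.R := ⟨closure (Set.range a.fR), isClosed_closure⟩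
  let I := Scheme.IdealSheafData.vanishingIdeal C
  let m : I.subscheme ⟶ G₂.R := I.subschemeι
  haveI hZred : IsReduced I.subscheme := isReduced_vanishingIdeal_subscheme C
  have hrm : Set.range m = closure (Set.range a.fR) := range_subschemeι_vanishingIdeal C
  haveI hmcl : IsClosedImmersion m := inferInstanceAs (IsClosedImmersion I.subschemeι)
  have hopen : ∀ {Y : Scheme.{u}} (g : Y ⟶ G₂.U), UniversallyOpen g :=
    fun g => univOpen_of_field k eU _ g
  -- e'
  haveI : IsReduced G₂.U := isReduced_of_isOpenImmersion eU.hom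
  obtain ⟨e', he⟩ := exists_lift_of_isReduced m G₂.e (by
    rintro _ ⟨u, rfl⟩
    rw [hrm]
    exact subset_closure (GrpdLC.range_e a u))
  -- i'
  obtain ⟨i', hi⟩ := exists_lift_of_isReduced m (m ≫ G₂.i) (by
    rintro _ ⟨z, rfl⟩
    rw [hrm, Scheme.Hom.comp_apply]
    apply GrpdLC.closure_i a
    rw [← hrm]
    exact ⟨z, rfl⟩)
  -- c'
  have hw : (pullback.fst (m ≫ G₂.s) (m ≫ G₂.t) ≫ m) ≫ G₂.s =
      (pullback.snd (m ≫ G₂.s) (m ≫ G₂.t) ≫ m) ≫ G₂.t := by
    rw [Category.assoc, Category.assoc]; exact pullback.condition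
  let w : pullback (m ≫ G₂.s) (m ≫ G₂.t) ⟶ G₂.R :=
    cmp G₂ (pullback.fst _ _ ≫ m) (pullback.snd _ _ ≫ m) hw
  haveI : IsReduced (pullback (m ≫ G₂.s) (m ≫ G₂.t)) := by
    have hP : IsPullback (pullback.fst (m ≫ G₂.s) (m ≫ G₂.t)) (pullback.snd (m ≫ G₂.s) (m ≫ G₂.t))
        ((m ≫ G₂.s) ≫ eU.hom) ((m ≫ G₂.t) ≫ eU.hom) :=
      isPullback_comp_mono (IsPullback.of_hasPullback _ _) eU.hom
    haveI := Groth.Agent.Helper18.RedProd.isReduced_pullback k ((m ≫ G₂.s) ≫ eU.hom)
      ((m ≫ G₂.t) ≫ eU.hom)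
    exact isReduced_of_isOpenImmersion hP.isoPullback.hom
  -- the reduction of `R₁`
  let I₁ := Scheme.IdealSheafData.vanishingIdeal (⊤ : Closeds G₁.R)
  let ρ : I₁.subscheme ⟶ G₁.R := I₁.subschemeι
  haveI : IsReduced I₁.subscheme := isReduced_vanishingIdeal_subscheme _
  have hρ : Set.range ρ = Set.univ := by
    have := range_subschemeι_vanishingIdeal (⊤ : Closeds G₁.R)
    rw [this]; rfl
  obtain ⟨q, hq⟩ := exists_lift_of_isReduced m (ρ ≫ a.fR) (by
    rintro _ ⟨z, rfl⟩
    rw [hrm, Scheme.Hom.comp_apply]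
    exact subset_closure ⟨_, rfl⟩)
  have hqd : DenseRange q := by
    show Dense (Set.range q)
    rw [dense_iff_closure_eq, m.isEmbedding.closure_eq_preimage_closure_image,
      ← Set.range_comp]
    have h1 : (m : I.subscheme → G₂.R) ∘ q = a.fR ∘ ρ := by
      funext z
      have := congrArg (fun (φ : I₁.subscheme ⟶ G₂.R) => φ z) hq
      simp only [Scheme.Hom.comp_apply] at this
      exact this
    rw [h1, Set.range_comp, hρ, Set.image_univ, ← hrm]
    ext z
    simp
  let qq : pullback (q ≫ m ≫ G₂.s) (q ≫ m ≫ G₂.t) ⟶ pullback (m ≫ G₂.s) (m ≫ G₂.t) :=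
    pullback.map _ _ _ _ q q (𝟙 _) (by rw [Category.comp_id]) (by rw [Category.comp_id])
  have hqq1 : qq ≫ pullback.fst _ _ = pullback.fst _ _ ≫ q := pullback.lift_fst _ _ _
  have hqq2 : qq ≫ pullback.snd _ _ = pullback.snd _ _ ≫ q := pullback.lift_snd _ _ _
  have hqqd : DenseRange qq := denseRange_prodMap q (m ≫ G₂.s) (m ≫ G₂.t) hqd hopen qq hqq1 hqq2
  have hst : (pullback.fst (q ≫ m ≫ G₂.s) (q ≫ m ≫ G₂.t) ≫ ρ) ≫ G₁.s =
      (pullback.snd (q ≫ m ≫ G₂.s) (q ≫ m ≫ G₂.t) ≫ ρ) ≫ G₁.t := by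
    rw [← cancel_mono a.fU]
    simp only [Category.assoc]
    rw [← a.comm_s, ← a.comm_t, ← Category.assoc ρ, ← Category.assoc ρ, ← hq]
    simp only [Category.assoc]
    exact pullback.condition
  have hqw : qq ≫ w = cmp G₁ (pullback.fst _ _ ≫ ρ) (pullback.snd _ _ ≫ ρ) hst ≫ a.fR := by
    refine (precomp_cmp G₂ qq _ _ hw).trans ?_
    rw [comm_cmp a]
    refine cmp_congr G₂ _ ?_ ?_
    · exact ((Category.assoc _ _ _).symm.trans (congrArg (· ≫ m) hqq1)).trans
        ((Category.assoc _ _ _).trans ((congrArg (pullback.fst _ _ ≫ ·) hq).trans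
          (Category.assoc _ _ _).symm))
    · exact ((Category.assoc _ _ _).symm.trans (congrArg (· ≫ m) hqq2)).trans
        ((Category.assoc _ _ _).trans ((congrArg (pullback.snd _ _ ≫ ·) hq).trans
          (Category.assoc _ _ _).symm))
  have hrange_w : Set.range w ⊆ Set.range m := by
    rw [hrm]
    have hcl : IsClosed (w ⁻¹' closure (Set.range a.fR)) := isClosed_closure.preimage w.continuous
    have hsub : Set.range qq ⊆ w ⁻¹' closure (Set.range a.fR) := by
      rintro _ ⟨p, rfl⟩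
      apply subset_closure
      have := congrArg (fun (φ : pullback (q ≫ m ≫ G₂.s) (q ≫ m ≫ G₂.t) ⟶ G₂.R) => φ p) hqw
      simp only [Scheme.Hom.comp_apply] at this
      show w (qq p) ∈ Set.range a.fR
      rw [this]
      exact ⟨_, rfl⟩
    have h3 := hcl.closure_subset_iff.mpr hsub
    rintro _ ⟨p, rfl⟩
    exact h3 (hqqd p)
  obtain ⟨c', hc⟩ := exists_lift_of_isReduced m w hrange_w
  exact ⟨⟨I.subscheme, m, inferInstance, e', he, i', hi, c', hc⟩, hZred, hmcl, hrm⟩

theorem S7491 [IsIso a.fU] (k : Type u) [Field k] [PerfectField k]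
    (eU : G₂.U ≅ Spec (CommRingCat.of k)) :
    ∃ (G' : GroupoidScheme S) (ψ : GroupoidScheme.Hom G' G₂), IsIso ψ.fU ∧
      IsClosedImmersion ψ.fR ∧ IsReduced G'.R ∧
      Set.range ⇑ψ.fR = closure (Set.range ⇑a.fR) := by
  obtain ⟨D, hred, hcl, hr⟩ := mainRed' a k eU
  refine ⟨sub D, subHom D, ?_, hcl, hred, hr⟩
  show IsIso (𝟙 _)
  infer_instance

end Main

theorem S7503 {S : Scheme.{u}} (G : GroupoidScheme S) (k : Type u) [Field k] [PerfectField k]
    (eU : G.U ≅ Spec (CommRingCat.of k)) :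
    ∃ (G' : GroupoidScheme S) (ψ : G'.U ≅ G.U) (hψ : ψ.hom ≫ G.pU = G'.pU),
      IsReduced G'.R ∧ IsClosedImmersion G'.j ∧
      Set.range ⇑(G'.j ≫ pullback.map G'.pU G'.pU G.pU G.pU ψ.hom ψ.hom (𝟙 S)
        ((Category.comp_id _).trans hψ.symm) ((Category.comp_id _).trans hψ.symm)) =
        closure (Set.range ⇑G.j) := by
  haveI : IsIso (jHom G).fU := inferInstanceAs (IsIso (𝟙 G.U))
  obtain ⟨D, hred, hcl, hr⟩ := mainRed' (jHom G) k eU
  have hj : (sub D).j = D.m := by
    apply pullback.hom_ext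
    · exact (pullback.lift_fst _ _ _)
    · exact (pullback.lift_snd _ _ _)
  refine ⟨sub D, Iso.refl _, Category.id_comp _, hred, ?_, ?_⟩
  · rw [hj]; exact hcl
  · have h1 : (sub D).j ≫ pullback.map (sub D).pU (sub D).pU G.pU G.pU (Iso.refl (sub D).U).hom
        (Iso.refl (sub D).U).hom (𝟙 S)
        ((Category.comp_id _).trans (Category.id_comp _).symm)
        ((Category.comp_id _).trans (Category.id_comp _).symm) = D.m := by
      refine Eq.trans ?_ ((Category.comp_id _).trans hj)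
      congr 1
      exact pullback_map_id G.pU G.pU _ _
    rw [h1]
    exact hr

end Groth.Agent.Helper18.GrpdRed
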