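import Mathlib
import Groth.Prelude
import Groth.Agent.Lib.Helper18.HomogSmooth
import Groth.Agent.Lib.Helper18.RedLift
import Groth.Agent.Lib.Helper18.SubGrpObj
import Groth.Agent.Lib.Helper18.GeomRedPts
import Groth.Agent.Lib.Helper18.GrpdRed

set_option autoImplicit false
universe u
open CategoryTheory MonoidalCategory CartesianMonoidalCategory MonObj GrpObj AlgebraicGeometry Limits

namespace Groth.Agent.Helper18.ClosSmooth

variable (k : Type u) [Field k]

/-- the point of a rational point -/
noncomputable abbrev pt {k : Type u} [Field k] {G : Over (Spec (CommRingCat.of k))}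
    (s : 𝟙_ (Over (Spec (CommRingCat.of k))) ⟶ G) : ↥G.left :=
  s.left.base (IsLocalRing.closedPoint k)

theorem main (G : Over (Spec (CommRingCat.of k))) [GrpObj G] [LocallyOfFiniteType G.hom]
    (S : Subgroup (𝟙_ (Over (Spec (CommRingCat.of k))) ⟶ G)) :
    ∃ (H : Over (Spec (CommRingCat.of k))) (_ : GrpObj H) (i : H ⟶ G), IsMonHom i ∧
      IsClosedImmersion i.left ∧ Smooth H.hom ∧
      Set.range i.left.base =
        closure ((fun s : (𝟙_ (Over (Spec (CommRingCat.of k))) ⟶ G) =>
          s.left.base (IsLocalRing.closedPoint k)) '' (S : Set _)) := by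
  set T : Set ↥G.left := (fun s : (𝟙_ (Over (Spec (CommRingCat.of k))) ⟶ G) => pt s) '' (S : Set _)
    with hT
  let Zc : TopologicalSpace.Closeds G.left := ⟨closure T, isClosed_closure⟩
  let I := Scheme.IdealSheafData.vanishingIdeal Zc
  let i₀ : I.subscheme ⟶ G.left := I.subschemeι
  have hr : Set.range i₀ = closure T := by
    rw [Scheme.IdealSheafData.range_subschemeι, Scheme.IdealSheafData.coe_support_vanishingIdeal]
    rfl
  haveI : IsReduced I.subscheme := Groth.Agent.Helper18.GrpdRed.isReduced_vanishingIdeal_subscheme Zc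
  let X : Over (Spec (CommRingCat.of k)) := Over.mk (i₀ ≫ G.hom)
  let i' : X ⟶ G := Over.homMk i₀ rfl
  haveI : IsClosedImmersion i'.left := inferInstanceAs (IsClosedImmersion I.subschemeι)
  haveI : Mono i'.left := inferInstance
  haveI : Mono i' := Over.mono_of_mono_left _
  haveI : IsReduced X.left := ‹IsReduced I.subscheme›
  haveI : LocallyOfFiniteType X.hom := by
    show LocallyOfFiniteType (i₀ ≫ G.hom)
    infer_instance
  -- lifting morphisms from reduced schemes
  have lift_red : ∀ (W : Over (Spec (CommRingCat.of k))) [IsReduced W.left] (φ : W ⟶ G),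
      Set.range φ.left ⊆ closure T → ∃ φ' : W ⟶ X, φ' ≫ i' = φ := by
    intro W _ φ hφ
    obtain ⟨ψ, hψ⟩ := Groth.Agent.Helper18.RedLift.exists_lift_of_isReduced i₀ φ.left (by
      rw [hr]; exact hφ)
    refine ⟨Over.homMk ψ ?_, ?_⟩
    · show ψ ≫ i₀ ≫ G.hom = W.hom
      rw [← Category.assoc, hψ, Over.w φ]
    · ext
      exact hψ
  -- continuity argument
  have hcl : ∀ (φ : G ⟶ G), (∀ s ∈ S, s ≫ φ ∈ S) → ∀ x ∈ closure T, φ.left x ∈ closure T := by
    intro φ hφ x hx
    have h1 : Set.MapsTo φ.left T T := by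
      intro y hy
      rw [hT] at hy
      obtain ⟨s, hs, rfl⟩ := hy
      exact ⟨s ≫ φ, hφ s hs, rfl⟩
    exact map_mem_closure φ.left.continuous hx h1
  haveI : IsReduced (𝟙_ (Over (Spec (CommRingCat.of k)))).left :=
    inferInstanceAs (IsReduced (Spec (CommRingCat.of k)))
  have hpt : ∀ (s : 𝟙_ (Over (Spec (CommRingCat.of k))) ⟶ G), Set.range s.left ⊆ {pt s} := by
    rintro s _ ⟨p, rfl⟩
    have : p = (IsLocalRing.closedPoint k : PrimeSpectrum k) :=
      Subsingleton.elim (α := PrimeSpectrum k) _ _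
    rw [this]
    rfl
  -- rational points of `S` lift
  have hSlift : ∀ s ∈ S, ∃ s' : 𝟙_ (Over (Spec (CommRingCat.of k))) ⟶ X, s' ≫ i' = s := by
    intro s hs
    refine lift_red _ s ((hpt s).trans ?_)
    rw [Set.singleton_subset_iff]
    exact subset_closure ⟨s, hs, rfl⟩
  have hun : ∀ (s c : 𝟙_ (Over (Spec (CommRingCat.of k))) ⟶ G), s ≫ toUnit G ≫ c = c := by
    intro s c
    rw [← Category.assoc, toUnit_unique (s ≫ toUnit G) (𝟙 _), Category.id_comp]
  -- unit
  have h1 : ∃ e : 𝟙_ (Over (Spec (CommRingCat.of k))) ⟶ X, e ≫ i' = η[G] := by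
    have : (1 : 𝟙_ (Over (Spec (CommRingCat.of k))) ⟶ G) = η[G] := by
      rw [Hom.one_def, toUnit_unique (toUnit _) (𝟙 _), Category.id_comp]
    rw [← this]
    exact hSlift 1 S.one_mem
  -- inverse
  have h3 : ∃ j : X ⟶ X, j ≫ i' = i' ≫ ι[G] := by
    refine lift_red X (i' ≫ ι[G]) ?_
    rintro _ ⟨x, rfl⟩
    show ι[G].left (i₀ x) ∈ closure T
    refine hcl ι[G] (fun s hs => S.inv_mem hs) _ ?_
    rw [← hr]
    exact ⟨x, rfl⟩
  -- density of the rational points in X
  let D : Set X.left := i₀ ⁻¹' T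
  have hD : Dense D := by
    intro x
    have hx : i₀ x ∈ closure T := by rw [← hr]; exact ⟨x, rfl⟩
    have hemb := i₀.isEmbedding
    rw [hemb.isInducing.closure_eq_preimage_closure_image]
    show i₀ x ∈ closure (i₀ '' (i₀ ⁻¹' T))
    have : i₀ '' (i₀ ⁻¹' T) = T := by
      rw [Set.image_preimage_eq_inter_range, hr]
      exact Set.inter_eq_left.mpr subset_closure
    rw [this]
    exact hx
  have hrat : ∀ x ∈ D, ∃ s : Spec (CommRingCat.of k) ⟶ X.left, s ≫ X.hom = 𝟙 _ ∧
      s (IsLocalRing.closedPoint k : PrimeSpectrum k) = x := by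
    intro x hx
    obtain ⟨s, hs, hsx⟩ := hx
    obtain ⟨s', hs'⟩ := hSlift s hs
    refine ⟨s'.left, Over.w s', ?_⟩
    apply i₀.isEmbedding.injective
    rw [← hsx]
    show (s' ≫ i').left (IsLocalRing.closedPoint k : PrimeSpectrum k) = _
    rw [hs']
  haveI : GeometricallyReduced X.hom :=
    Groth.Agent.Helper18.GeomRedPts.geometricallyReduced_of_dense_ratPts X.hom D hD hrat
  -- multiplication
  haveI : IsLocallyNoetherian X.left := LocallyOfFiniteType.isLocallyNoetherian X.hom
  haveI : Flat X.hom := inferInstance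
  haveI : IsReduced (X ⊗ X).left := by
    show IsReduced (pullback X.hom X.hom)
    infer_instance
  have h2 : ∃ m : X ⊗ X ⟶ X, m ≫ i' = (i' ⊗ₘ i') ≫ μ[G] := by
    refine lift_red (X ⊗ X) ((i' ⊗ₘ i') ≫ μ[G]) ?_
    let ψ : X ⊗ X ⟶ G := (i' ⊗ₘ i') ≫ μ[G]
    let C : Set (X ⊗ X).left := ψ.left ⁻¹' closure T
    have hC : IsClosed C := isClosed_closure.preimage ψ.left.continuous
    -- fibres over rational points of S lie in C
    have hfib : ∀ x ∈ D, ∀ z : (X ⊗ X).left, (fst X X).left z = x → z ∈ C := by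
      intro x hx z hz
      obtain ⟨s, hs, hsx⟩ := hx
      obtain ⟨s', hs'⟩ := hSlift s hs
      let js : X ⟶ X ⊗ X := lift (toUnit X ≫ s') (𝟙 X)
      have hpb : IsPullback js (toUnit X) (fst X X) s' := by
        refine ⟨⟨by simp [js]⟩, ⟨PullbackCone.IsLimit.mk _ (fun c => c.fst ≫ snd X X) ?_ ?_ ?_⟩⟩
        · intro c
          apply CartesianMonoidalCategory.hom_ext
          · simp only [js, Category.assoc, lift_fst]
            rw [c.condition, ← Category.assoc (snd X X), ← Category.assoc c.fst,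
              toUnit_unique (c.fst ≫ snd X X ≫ toUnit X) c.snd]
          · simp [js]
        · intro c
          exact toUnit_unique _ _
        · intro c m h1 _
          rw [← h1]
          simp [js]
      have hpb' := (hpb.map (Over.forget _))
      have hx' : (fst X X).left z = s'.left (IsLocalRing.closedPoint k : PrimeSpectrum k) := by
        rw [hz]
        apply i₀.isEmbedding.injective
        rw [← hsx]
        show _ = (s' ≫ i').left (IsLocalRing.closedPoint k : PrimeSpectrum k)
        rw [hs']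
      obtain ⟨w, hw, -⟩ := Scheme.exists_preimage_of_isPullback hpb' z
        (IsLocalRing.closedPoint k : PrimeSpectrum k) hx'
      have hw' : js.left w = z := hw
      show ψ.left z ∈ closure T
      rw [← hw']
      show (js ≫ ψ).left w ∈ closure T
      have e : js ≫ ψ = i' ≫ ((toUnit G ≫ s) * 𝟙 G) := by
        show lift (toUnit X ≫ s') (𝟙 X) ≫ (i' ⊗ₘ i') ≫ μ[G] = _
        rw [lift_map_assoc, MonObj.comp_mul, Category.comp_id, Category.id_comp, Category.assoc,
          hs', ← Category.assoc i', toUnit_unique (i' ≫ toUnit G) (toUnit X)]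
        rfl
      rw [e]
      show ((toUnit G ≫ s) * 𝟙 G).left (i₀ w) ∈ closure T
      refine hcl ((toUnit G ≫ s) * 𝟙 G) ?_ _ ?_
      · intro t ht
        rw [MonObj.comp_mul, hun, Category.comp_id]
        exact S.mul_mem hs ht
      · rw [← hr]
        exact ⟨w, rfl⟩
    -- the set of points whose fibre lies in C is closed
    haveI : UniversallyOpen X.hom := inferInstance
    haveI : UniversallyOpen (fst X X).left := by
      show UniversallyOpen (pullback.fst X.hom X.hom)
      infer_instance
    have hopen : IsOpenMap (fst X X).left := (fst X X).left.isOpenMap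
    let D' : Set X.left := ((fst X X).left '' Cᶜ)ᶜ
    have hD'cl : IsClosed D' := (hopen _ hC.isOpen_compl).isClosed_compl
    have hDD' : D ⊆ D' := by
      rintro x hx ⟨z, hzC, hz⟩
      exact hzC (hfib x hx z hz)
    have hD'univ : D' = Set.univ := by
      rw [← Set.univ_subset_iff, ← hD.closure_eq]
      exact hD'cl.closure_subset_iff.mpr hDD'
    rintro _ ⟨z, rfl⟩
    by_contra hz
    have : (fst X X).left z ∈ D' := by rw [hD'univ]; trivial
    exact this ⟨z, hz, rfl⟩
  obtain ⟨inst, hmon⟩ := Groth.Agent.Helper18.SubGrpObj.exists_grpObj_of_mono i' h1 h2 h3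
  refine ⟨X, inst, i', hmon, inferInstance, ?_, hr⟩
  exact Groth.Agent.Helper18.HomogSmooth.smooth_of_geometricallyReduced_grp k X

end Groth.Agent.Helper18.ClosSmooth
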