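import Mathlib
import Groth.Agent.Lib.Helper22.RD1

/-!
# Closed subsets defined over a subfield (helper18)

Base change of a reduced scheme along a separable (geometrically reduced) field extension is
reduced (no Noetherian hypothesis), and the consequence for vanishing ideal sheaves.
-/

set_option autoImplicit false
set_option linter.style.haveILetI false

open CategoryTheory CategoryTheory.Limits AlgebraicGeometry Opposite TopologicalSpace TensorProduct

universe u

namespace Groth.Agent.Helper18.ClosedDefOver

/-- an ideal sheaf whose subscheme is reduced is radical -/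
theorem radical_eq_of_isReduced {X : Scheme.{u}} (I : X.IdealSheafData) [IsReduced I.subscheme] :
    I.radical = I := by
  ext U : 2
  rw [Scheme.IdealSheafData.radical_ideal]
  apply le_antisymm
  · intro x hx
    obtain ⟨n, hn⟩ := hx
    rw [← I.ker_subschemeι_app U] at hn ⊢
    rw [RingHom.mem_ker] at hn ⊢
    rw [map_pow] at hn
    exact IsReduced.eq_zero _ ⟨n, hn⟩
  · exact Ideal.le_radical

/-- the subscheme of a vanishing ideal sheaf is reduced -/
theorem isReduced_subscheme_vanishingIdeal {X : Scheme.{u}} (Z : Closeds X) :
    IsReduced (Scheme.IdealSheafData.vanishingIdeal Z).subscheme := by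
  apply +allowSynthFailures @IsReduced.of_openCover
    (𝒰 := (Scheme.IdealSheafData.vanishingIdeal Z).subschemeCover.openCover)
  intro (U : X.affineOpens)
  show IsReduced (Spec (.of (Γ(X, U.1) ⧸ (Scheme.IdealSheafData.vanishingIdeal Z).ideal U)))
  rw [affine_isReduced_iff]
  show _root_.IsReduced (Γ(X, U.1) ⧸ (Scheme.IdealSheafData.vanishingIdeal Z).ideal U)
  rw [← Ideal.isRadical_iff_quotient_reduced, Scheme.IdealSheafData.vanishingIdeal_ideal]
  exact PrimeSpectrum.isRadical_vanishingIdeal _

variable {K' K : Type u} [Field K'] [Field K] [Algebra K' K]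

/-- ring form of geometric reducedness of `Spec K → Spec K'` -/
theorem isReduced_tensor_field
    [GeometricallyReduced (Spec.map (CommRingCat.ofHom (algebraMap K' K)))]
    (L : Type u) [Field L] [Algebra K' L] : _root_.IsReduced (L ⊗[K'] K) := by
  have hpb := isPullback_SpecMap_of_isPushout _ _ _ _ (CommRingCat.isPushout_tensorProduct K' K L)
  have hred : IsReduced (Spec (CommRingCat.of (K ⊗[K'] L))) :=
    (GeometricallyReduced.geometrically_isReduced
      (f := Spec.map (CommRingCat.ofHom (algebraMap K' K))))
      (Spec.map (CommRingCat.ofHom (algebraMap K' L))) _ _ hpb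
  rw [affine_isReduced_iff] at hred
  have hred' : _root_.IsReduced (K ⊗[K'] L) := hred
  exact isReduced_of_injective (Algebra.TensorProduct.comm K' L K).toAlgHom.toRingHom
    (Algebra.TensorProduct.comm K' L K).injective

/-- a reduced `K'`-algebra stays reduced after a separable field extension -/
theorem isReduced_tensor_of_isReduced
    [GeometricallyReduced (Spec.map (CommRingCat.ofHom (algebraMap K' K)))]
    (R : Type u) [CommRing R] [Algebra K' R] [_root_.IsReduced R] :
    _root_.IsReduced (R ⊗[K'] K) :=
  Groth.Agent.Helper22.RD.tensor_reduced (A := K') (B := K) (K := K')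
    (fun L _ _ => isReduced_tensor_field L) R

/-- base change of a reduced `K'`-scheme along a separable field extension is reduced -/
theorem isReduced_pullback
    [GeometricallyReduced (Spec.map (CommRingCat.ofHom (algebraMap K' K)))]
    {Z : Scheme.{u}} [IsReduced Z] (h : Z ⟶ Spec (CommRingCat.of K')) :
    IsReduced (pullback h (Spec.map (CommRingCat.ofHom (algebraMap K' K)))) := by
  apply +allowSynthFailures @IsReduced.of_openCover
    (𝒰 := Scheme.Pullback.openCoverOfLeft Z.affineOpenCover.openCover h
      (Spec.map (CommRingCat.ofHom (algebraMap K' K))))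
  intro i
  show IsReduced (pullback (Z.affineOpenCover.f i ≫ h)
    (Spec.map (CommRingCat.ofHom (algebraMap K' K))))
  haveI : IsReduced (Spec (Z.affineOpenCover.X i)) :=
    isReduced_of_isOpenImmersion (Z.affineOpenCover.f i)
  have hR : _root_.IsReduced (Z.affineOpenCover.X i) := by
    have : IsReduced (Spec (Z.affineOpenCover.X i)) := inferInstance
    rwa [affine_isReduced_iff] at this
  let a : CommRingCat.of K' ⟶ Z.affineOpenCover.X i := Spec.preimage (Z.affineOpenCover.f i ≫ h)
  have ha : Spec.map a = Z.affineOpenCover.f i ≫ h := Spec.map_preimage _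
  letI : Algebra K' (Z.affineOpenCover.X i) := a.hom.toAlgebra
  haveI := isReduced_tensor_of_isReduced (K' := K') (K := K) (Z.affineOpenCover.X i)
  have hpb := isPullback_SpecMap_of_isPushout _ _ _ _
    (CommRingCat.isPushout_tensorProduct K' (Z.affineOpenCover.X i) K)
  have ha' : Spec.map (CommRingCat.ofHom (algebraMap K' (Z.affineOpenCover.X i))) =
      Z.affineOpenCover.f i ≫ h := ha
  rw [ha'] at hpb
  have hS : IsReduced (Spec (CommRingCat.of ((Z.affineOpenCover.X i) ⊗[K'] K))) := by
    rw [affine_isReduced_iff]
    exact ‹_root_.IsReduced ((Z.affineOpenCover.X i) ⊗[K'] K)›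
  exact isReduced_of_isOpenImmersion hpb.isoPullback.inv

/-- the inverse image of a vanishing ideal sheaf along a separable base field extension is the
vanishing ideal sheaf of the preimage -/
theorem comap_vanishingIdeal
    [GeometricallyReduced (Spec.map (CommRingCat.ofHom (algebraMap K' K)))]
    {Y YK : Scheme.{u}} (fY : Y ⟶ Spec (CommRingCat.of K')) (g : YK ⟶ Y)
    (p : YK ⟶ Spec (CommRingCat.of K))
    (hpb : IsPullback g p fY (Spec.map (CommRingCat.ofHom (algebraMap K' K))))
    (T' : Closeds Y) (T : Closeds YK) (hT : (T : Set YK) = g ⁻¹' (T' : Set Y)) :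
    (Scheme.IdealSheafData.vanishingIdeal T').comap g =
      Scheme.IdealSheafData.vanishingIdeal T := by
  have hsupp : ((Scheme.IdealSheafData.vanishingIdeal T').comap g).support = T := by
    apply SetLike.coe_injective
    rw [Scheme.IdealSheafData.support_comap, hT, Closeds.coe_preimage,
      Scheme.IdealSheafData.coe_support_vanishingIdeal]
  -- the subscheme of `J.comap g` is reduced
  haveI : IsReduced (Scheme.IdealSheafData.vanishingIdeal T').subscheme :=
    isReduced_subscheme_vanishingIdeal T'
  haveI hP : IsReduced (pullback ((Scheme.IdealSheafData.vanishingIdeal T').subschemeι ≫ fY)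
      (Spec.map (CommRingCat.ofHom (algebraMap K' K)))) := isReduced_pullback _
  have hright : IsPullback p g (Spec.map (CommRingCat.ofHom (algebraMap K' K))) fY := hpb.flip
  have hw : (pullback.fst ((Scheme.IdealSheafData.vanishingIdeal T').subschemeι ≫ fY)
      (Spec.map (CommRingCat.ofHom (algebraMap K' K))) ≫
        (Scheme.IdealSheafData.vanishingIdeal T').subschemeι) ≫ fY =
      pullback.snd ((Scheme.IdealSheafData.vanishingIdeal T').subschemeι ≫ fY)
        (Spec.map (CommRingCat.ofHom (algebraMap K' K))) ≫
        Spec.map (CommRingCat.ofHom (algebraMap K' K)) := by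
    rw [Category.assoc, pullback.condition]
  have houter : IsPullback (hpb.lift _ _ hw ≫ p)
      (pullback.fst ((Scheme.IdealSheafData.vanishingIdeal T').subschemeι ≫ fY)
        (Spec.map (CommRingCat.ofHom (algebraMap K' K))))
      (Spec.map (CommRingCat.ofHom (algebraMap K' K)))
      ((Scheme.IdealSheafData.vanishingIdeal T').subschemeι ≫ fY) := by
    rw [hpb.lift_snd]
    exact (IsPullback.of_hasPullback _ _).flip
  have hleft := IsPullback.of_right houter (by rw [hpb.lift_fst]) hright
  haveI : IsReduced (pullback g (Scheme.IdealSheafData.vanishingIdeal T').subschemeι) :=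
    isReduced_of_isOpenImmersion hleft.isoPullback.inv
  haveI : IsReduced ((Scheme.IdealSheafData.vanishingIdeal T').comap g).subscheme :=
    isReduced_of_isOpenImmersion ((Scheme.IdealSheafData.vanishingIdeal T').comapIso g).hom
  rw [← hsupp, Scheme.IdealSheafData.vanishingIdeal_support, radical_eq_of_isReduced]

end Groth.Agent.Helper18.ClosedDefOver
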