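import Mathlib
import Groth.Prelude.Def_ChGrp
import Groth.Prelude.Def_NonAbH2

/-!
# Points of pseudo-torsors (helper18)
-/

set_option autoImplicit false
set_option linter.unusedSectionVars false

universe u

open CategoryTheory CategoryTheory.Limits MonoidalCategory CartesianMonoidalCategory MonObj GrpObj AlgebraicGeometry

namespace Groth.Agent.Helper18.PseudoTorsPts

variable {S : Scheme.{u}} {G X : Over S} [GrpObj G] (a : AlgGrp.Action G X)

theorem pt_exists (h : NonAbH1.IsPseudoTorsorSch a) {T : Over S} (s s' : T ⟶ X) :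
    ∃ g : T ⟶ G, lift g s ≫ a.act = s' := by
  haveI : IsIso (lift a.act (snd G X)) := h
  let m : T ⟶ G ⊗ X := lift s' s ≫ inv (lift a.act (snd G X))
  have hm : m ≫ lift a.act (snd G X) = lift s' s := by
    rw [Category.assoc, IsIso.inv_hom_id, Category.comp_id]
  have h1 : m ≫ a.act = s' := by
    have := congrArg (fun k => k ≫ fst X X) hm
    simpa using this
  have h2 : m ≫ snd G X = s := by
    have := congrArg (fun k => k ≫ snd X X) hm
    simpa using this
  refine ⟨m ≫ fst G X, ?_⟩
  have h3 : lift (m ≫ fst G X) s = m := by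
    apply CartesianMonoidalCategory.hom_ext <;> simp [h2]
  rw [h3, h1]

theorem pt_unique (h : NonAbH1.IsPseudoTorsorSch a) {T : Over S} (g g' : T ⟶ G) (s : T ⟶ X)
    (hgg : lift g s ≫ a.act = lift g' s ≫ a.act) : g = g' := by
  haveI : IsIso (lift a.act (snd G X)) := h
  have e : lift g s ≫ lift a.act (snd G X) = lift g' s ≫ lift a.act (snd G X) := by
    apply CartesianMonoidalCategory.hom_ext
    · simpa using hgg
    · simp
  have e2 : lift g s = lift g' s := (cancel_mono _).1 e
  have := congrArg (fun k => k ≫ fst G X) e2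
  simpa using this

/-- converse: simply transitive on points gives a pseudo-torsor. -/
theorem isPseudoTorsorSch_of_pts
    (hex : ∀ {T : Over S} (s s' : T ⟶ X), ∃ g : T ⟶ G, lift g s ≫ a.act = s')
    (huniq : ∀ {T : Over S} (g g' : T ⟶ G) (s : T ⟶ X), lift g s ≫ a.act = lift g' s ≫ a.act → g = g') :
    NonAbH1.IsPseudoTorsorSch a := by
  obtain ⟨g₀, hg₀⟩ := hex (snd X X) (fst X X)
  refine ⟨⟨lift g₀ (snd X X), ?_, ?_⟩⟩
  · -- θ ≫ ψ = 𝟙 on G ⊗ X
    apply CartesianMonoidalCategory.hom_ext
    · rw [Category.id_comp, Category.assoc, lift_fst]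
      apply huniq _ _ (snd G X)
      have e : lift (lift a.act (snd G X) ≫ g₀) (snd G X) = lift a.act (snd G X) ≫ lift g₀ (snd X X) := by
        apply CartesianMonoidalCategory.hom_ext <;> simp
      rw [e, Category.assoc, hg₀, lift_fst, lift_fst_snd, Category.id_comp]
    · simp
  · apply CartesianMonoidalCategory.hom_ext
    · simp [hg₀]
    · simp

end Groth.Agent.Helper18.PseudoTorsPts
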