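import Groth.Agent.Lib.Helper18.DescHomK
import Groth.Agent.Lib.Helper18.CentralExt
import Groth.Agent.Lib.Helper18.PseudoTorsPts
import Groth.Agent.Lib.Helper18.TorsComp

/-!
# Exactness of the cohomology sequence in degree one, scheme torsors (helper18)
-/

set_option autoImplicit false
set_option linter.unusedSectionVars false

universe u

open CategoryTheory CategoryTheory.Limits MonoidalCategory CartesianMonoidalCategory MonObj GrpObj AlgebraicGeometry

namespace Groth.Agent.Helper18.CohSeq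

open Groth.Agent.Helper18.FppfDescHom Groth.Agent.Helper18.DescHomK Groth.Agent.Helper18.CentralExt
  Groth.Agent.Helper18.PseudoTorsPts Groth.Agent.Helper18.TorsComp

variable {S : Scheme.{u}} {G G' G'' : Over S} [GrpObj G] [GrpObj G'] [GrpObj G'']
variable (K : Precoverage Scheme.{u}) [(QuotSh.J K S).Subcanonical]
variable (u : G' ⟶ G) (v : G ⟶ G'') [IsMonHom u] [IsMonHom v]
variable (huv : u ≫ v = 1) (hpb : IsPullback (fst G G') ((G ◁ u) ≫ μ[G]) v v)

section A
variable {X : Over S} (a : AlgGrp.Action G' X)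

/-- `j` is `u`-equivariant (to `G` with left translation), points form. -/
theorem push_iff (j : X ⟶ G) :
    (a.act ≫ j = lift (fst G' X ≫ u) (snd G' X ≫ j) ≫ (NonAbH1.trivialAction G).act) ↔
      ∀ (T : Over S) (g' : T ⟶ G') (p : T ⟶ X), lift g' p ≫ a.act ≫ j = (g' ≫ u) * (p ≫ j) := by
  constructor
  · intro h T g' p
    rw [h, ← Category.assoc, comp_lift, lift_fst_assoc, lift_snd_assoc]
    change lift _ _ ≫ μ[G] = _
    rw [Hom.mul_def]
  · intro h
    apply AlgGrp.Action.hom_ext_lift₂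
    intro T g' p
    rw [h, ← Category.assoc, comp_lift, lift_fst_assoc, lift_snd_assoc]
    change _ = lift _ _ ≫ μ[G]
    rw [Hom.mul_def]

include hpb in
/-- injectivity of an anti-equivariant map from a pseudo-torsor -/
theorem i_inj (hps : NonAbH1.IsPseudoTorsorSch a) (i : X ⟶ G)
    (hi : ∀ (T : Over S) (g' : T ⟶ G') (p : T ⟶ X), lift g' p ≫ a.act ≫ i = (p ≫ i) * (g' ≫ u)⁻¹)
    {T : Over S} (p p' : T ⟶ X) (h : p ≫ i = p' ≫ i) : p = p' := by
  obtain ⟨g', hg'⟩ := pt_exists a hps p p'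
  have h1 := hi T g' p
  rw [← Category.assoc, hg', ← h] at h1
  have h2 : (g' ≫ u)⁻¹ = 1 := by
    have := h1.symm
    rwa [mul_eq_left] at this
  have h3 : g' ≫ u = (1 : T ⟶ G') ≫ u := by
    rw [MonObj.one_comp]
    exact inv_eq_one.mp h2
  have h4 : g' = 1 := u_inj u v hpb _ _ h3
  rw [← hg', h4, AlgGrp.Action.lift_one_act]

include huv hpb in
theorem main6009 (hps : NonAbH1.IsPseudoTorsorSch a) (hloc : NonAbH1.IsLocallyTrivialFor K X) :
    NonAbH1.IsPushforwardAlongSch u a (NonAbH1.trivialAction G) ↔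
      ∃ (f : 𝟙_ (Over S) ⟶ G'') (i : X ⟶ G), NonAbH1.IsPullbackTorsor u v f i a := by
  constructor
  · rintro ⟨j, hj⟩
    rw [push_iff] at hj
    have hi : ∀ (T : Over S) (g' : T ⟶ G') (p : T ⟶ X), lift g' p ≫ a.act ≫ j⁻¹ = (p ≫ j⁻¹) * (g' ≫ u)⁻¹ := by
      intro T g' p
      rw [← Category.assoc, GrpObj.comp_inv, Category.assoc, hj, GrpObj.comp_inv, _root_.mul_inv_rev]
    have hl := secSieve_toUnit_mem K hloc
    -- descend `i ≫ v`
    have hker : ∀ (V : Over S) (s s' : V ⟶ X), s ≫ toUnit X = s' ≫ toUnit X → s ≫ j⁻¹ ≫ v = s' ≫ j⁻¹ ≫ v := by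
      intro V s s' _
      obtain ⟨g', hg'⟩ := pt_exists a hps s s'
      have e1 : s' ≫ j⁻¹ = (s ≫ j⁻¹) * (g' ≫ u)⁻¹ := by
        rw [← hg', Category.assoc, hi]
      have e3 : ((g' ≫ u)⁻¹) ≫ v = 1 := by rw [GrpObj.inv_comp, comp_u_v u v huv, inv_one]
      have e2 : (s' ≫ j⁻¹) ≫ v = (s ≫ j⁻¹) ≫ v := by
        rw [e1, MonObj.mul_comp, e3, _root_.mul_one]
      rw [← Category.assoc, ← Category.assoc, e2]
    obtain ⟨f, hf⟩ := desc_of_secSieve K (toUnit X) hl (j⁻¹ ≫ v) hker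
    refine ⟨f, j⁻¹, inferInstance, inferInstance, ?_, hi⟩
    apply isPullback_of_points
    · exact hf.symm
    · intro T x y hxy
      have hy : y = toUnit T := toUnit_unique _ _
      -- the difference element on `T ⊗ X`
      have hd0 : (snd T X ≫ j⁻¹) ≫ v = (fst T X ≫ x) ≫ v := by
        rw [Category.assoc, ← hf, Category.assoc, hxy, hy, ← Category.assoc, ← Category.assoc]
        congr 1
        exact toUnit_unique _ _
      obtain ⟨d, hd⟩ := exists_diff u v hpb _ _ hd0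
      obtain ⟨c, hcdef⟩ : ∃ c : T ⊗ X ⟶ X, c = lift d⁻¹ (snd T X) ≫ a.act := ⟨_, rfl⟩
      have hc : c ≫ j⁻¹ = fst T X ≫ x := by
        rw [hcdef, Category.assoc, hi, GrpObj.inv_comp, _root_.inv_inv, hd]
      have hlT : secSieve (fst T X) ∈ QuotSh.J K S T := by
        refine (QuotSh.J K S).superset_covering ?_ ((QuotSh.J K S).pullback_stable (toUnit T) hl)
        rintro V g ⟨s, _⟩
        exact ⟨lift g s, lift_fst _ _⟩
      have hkerT : ∀ (V : Over S) (s s' : V ⟶ T ⊗ X), s ≫ fst T X = s' ≫ fst T X → s ≫ c = s' ≫ c := by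
        intro V s s' hss
        apply i_inj u v hpb a hps j⁻¹ hi
        rw [Category.assoc, Category.assoc, hc, ← Category.assoc, ← Category.assoc, hss]
      obtain ⟨m, hm⟩ := desc_of_secSieve K (fst T X) hlT c hkerT
      refine ⟨m, ?_, by rw [hy]; exact toUnit_unique _ _⟩
      apply epi_of_secSieve K (fst T X) hlT
      rw [← Category.assoc, hm, hc]
    · intro T m m' h1 _
      exact i_inj u v hpb a hps j⁻¹ hi m m' h1
  · rintro ⟨f, i, -, -, -, hi⟩
    refine ⟨i⁻¹, ?_⟩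
    rw [push_iff]
    intro T g' p
    rw [← Category.assoc, GrpObj.comp_inv, Category.assoc, hi, GrpObj.comp_inv, _root_.mul_inv_rev, _root_.inv_inv]

end A

section B
variable {X : Over S} (a : AlgGrp.Action G X)

/-- `j` is `v`-equivariant (to `G''` with left translation), points form. -/
theorem push_iff' (j : X ⟶ G'') :
    (a.act ≫ j = lift (fst G X ≫ v) (snd G X ≫ j) ≫ (NonAbH1.trivialAction G'').act) ↔
      ∀ (T : Over S) (g : T ⟶ G) (p : T ⟶ X), lift g p ≫ a.act ≫ j = (g ≫ v) * (p ≫ j) := by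
  constructor
  · intro h T g p
    rw [h, ← Category.assoc, comp_lift, lift_fst_assoc, lift_snd_assoc]
    change lift _ _ ≫ μ[G''] = _
    rw [Hom.mul_def]
  · intro h
    apply AlgGrp.Action.hom_ext_lift₂
    intro T g p
    rw [h, ← Category.assoc, comp_lift, lift_fst_assoc, lift_snd_assoc]
    change _ = lift _ _ ≫ μ[G'']
    rw [Hom.mul_def]

theorem pushU_iff {Y : Over S} (b : AlgGrp.Action G' Y) (k : Y ⟶ X) :
    (b.act ≫ k = lift (fst G' Y ≫ u) (snd G' Y ≫ k) ≫ a.act) ↔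
      ∀ (T : Over S) (g' : T ⟶ G') (q : T ⟶ Y), lift g' q ≫ b.act ≫ k = lift (g' ≫ u) (q ≫ k) ≫ a.act := by
  constructor
  · intro h T g' q
    rw [h, ← Category.assoc, comp_lift, lift_fst_assoc, lift_snd_assoc]
  · intro h
    apply AlgGrp.Action.hom_ext_lift₂
    intro T g' q
    rw [h, ← Category.assoc, comp_lift, lift_fst_assoc, lift_snd_assoc]

include huv in
/-- (⇐) of 6010 -/
theorem push_of_reduction (hps : NonAbH1.IsPseudoTorsorSch a)
    {Y : Over S} (b : AlgGrp.Action G' Y) (hpsQ : NonAbH1.IsPseudoTorsorSch b)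
    (hlocQ : NonAbH1.IsLocallyTrivialFor K Y) (k : Y ⟶ X)
    (hk : ∀ (T : Over S) (g' : T ⟶ G') (q : T ⟶ Y), lift g' q ≫ b.act ≫ k = lift (g' ≫ u) (q ≫ k) ≫ a.act) :
    NonAbH1.IsPushforwardAlongSch v a (NonAbH1.trivialAction G'') := by
  obtain ⟨m, hmdef⟩ : ∃ m : G ⊗ Y ⟶ X, m = (G ◁ k) ≫ a.act := ⟨_, rfl⟩
  have hmpt : ∀ {T : Over S} (g : T ⟶ G) (q : T ⟶ Y), lift g q ≫ m = lift g (q ≫ k) ≫ a.act := by
    intro T g q
    rw [hmdef, lift_whiskerLeft_assoc]
  have hl := secSieve_toUnit_mem K hlocQ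
  have hlm : secSieve m ∈ QuotSh.J K S X := by
    refine (QuotSh.J K S).superset_covering ?_ ((QuotSh.J K S).pullback_stable (toUnit X) hl)
    rintro V g ⟨s, _⟩
    obtain ⟨g₀, hg₀⟩ := pt_exists a hps (s ≫ k) g
    exact ⟨lift g₀ s, by rw [hmpt, hg₀]⟩
  have hker : ∀ (V : Over S) (s s' : V ⟶ G ⊗ Y), s ≫ m = s' ≫ m → s ≫ fst G Y ≫ v = s' ≫ fst G Y ≫ v := by
    intro V s s' hss
    have hs : s = lift (s ≫ fst G Y) (s ≫ snd G Y) := by
      apply CartesianMonoidalCategory.hom_ext <;> simp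
    have hs' : s' = lift (s' ≫ fst G Y) (s' ≫ snd G Y) := by
      apply CartesianMonoidalCategory.hom_ext <;> simp
    obtain ⟨g', hg'⟩ := pt_exists b hpsQ (s ≫ snd G Y) (s' ≫ snd G Y)
    have h1 : (s' ≫ snd G Y) ≫ k = lift (g' ≫ u) ((s ≫ snd G Y) ≫ k) ≫ a.act := by
      rw [← hg', Category.assoc, hk]
    rw [hs, hs', hmpt, hmpt, h1, ← AlgGrp.Action.lift_mul_act] at hss
    have h2 := pt_unique a hps _ _ _ hss
    rw [← Category.assoc, ← Category.assoc, h2, MonObj.mul_comp, comp_u_v u v huv, _root_.mul_one]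
  obtain ⟨j, hj⟩ := desc_of_secSieve K m hlm (fst G Y ≫ v) hker
  refine ⟨j, ?_⟩
  rw [push_iff']
  -- check on the cover `G ⊗ (G ⊗ Y) ⟶ G ⊗ X`
  have hjpt : ∀ {T : Over S} (g : T ⟶ G) (q : T ⟶ Y), (lift g (q ≫ k) ≫ a.act) ≫ j = g ≫ v := by
    intro T g q
    rw [← hmpt, Category.assoc, hj, lift_fst_assoc]
  have key : a.act ≫ j = lift (fst G X ≫ v) (snd G X ≫ j) ≫ μ[G''] := by
    apply epi_of_secSieve K (G ◁ m) (secSieve_whiskerLeft K m hlm G)
    apply AlgGrp.Action.hom_ext_lift₂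
    intro T g₀ z
    have hz : z = lift (z ≫ fst G Y) (z ≫ snd G Y) := by
      apply CartesianMonoidalCategory.hom_ext <;> simp
    rw [lift_whiskerLeft_assoc, lift_whiskerLeft_assoc]
    conv_lhs => rw [hz, hmpt, ← Category.assoc, ← AlgGrp.Action.lift_mul_act, hjpt]
    conv_rhs => rw [← Category.assoc, comp_lift, lift_fst_assoc, lift_snd_assoc, ← Hom.mul_def, hz, hmpt, hjpt]
    rw [MonObj.mul_comp]
  intro T g p
  rw [key, ← Category.assoc, comp_lift, lift_fst_assoc, lift_snd_assoc, Hom.mul_def]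

end B

section C
variable {X : Over S} (a : AlgGrp.Action G X) (j : X ⟶ G'')

/-- the fibre of `j` over the unit section -/
noncomputable abbrev Yj : Over S := pullback j η[G'']

/-- its inclusion -/
noncomputable abbrev kj : Yj j ⟶ X := pullback.fst j η[G'']

theorem kj_j : kj j ≫ j = 1 := by
  rw [pullback.condition, Hom.one_def]
  congr 1
  exact toUnit_unique _ _

instance mono_eta : Mono (η[G''] : 𝟙_ (Over S) ⟶ G'') :=
  mono_of_mono_fac (show η[G''] ≫ toUnit G'' = 𝟙 _ from toUnit_unique _ _)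

instance : Mono (kj j) := inferInstanceAs (Mono (pullback.fst j η[G'']))

theorem exists_lift_Y {T : Over S} (p : T ⟶ X) (hp : p ≫ j = 1) : ∃ q : T ⟶ Yj j, q ≫ kj j = p :=
  ⟨pullback.lift p (toUnit T) (by rw [hp, Hom.one_def]), pullback.lift_fst _ _ _⟩

variable (hj : ∀ (T : Over S) (g : T ⟶ G) (p : T ⟶ X), lift g p ≫ a.act ≫ j = (g ≫ v) * (p ≫ j))

include huv hj in
theorem bact_aux : (lift (fst G' (Yj j) ≫ u) (snd G' (Yj j) ≫ kj j) ≫ a.act) ≫ j = toUnit _ ≫ η[G''] := by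
  rw [Category.assoc, hj, comp_u_v u v huv, Category.assoc, kj_j, MonObj.comp_one, _root_.one_mul, Hom.one_def]

/-- the action morphism of `G'` on the fibre -/
noncomputable def bact : G' ⊗ Yj j ⟶ Yj j :=
  pullback.lift (lift (fst G' (Yj j) ≫ u) (snd G' (Yj j) ≫ kj j) ≫ a.act) (toUnit _) (bact_aux u v huv a j hj)

theorem bact_k : bact u v huv a j hj ≫ kj j = lift (fst G' (Yj j) ≫ u) (snd G' (Yj j) ≫ kj j) ≫ a.act :=
  pullback.lift_fst _ _ _

theorem bact_pt {T : Over S} (g' : T ⟶ G') (q : T ⟶ Yj j) :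
    lift g' q ≫ bact u v huv a j hj ≫ kj j = lift (g' ≫ u) (q ≫ kj j) ≫ a.act := by
  rw [bact_k, ← Category.assoc, comp_lift, lift_fst_assoc, lift_snd_assoc]

/-- the action of `G'` on the fibre -/
noncomputable def bAction : AlgGrp.Action G' (Yj j) where
  act := bact u v huv a j hj
  one_act := by
    rw [← cancel_mono (kj j)]
    apply AlgGrp.Action.hom_ext_lift₂
    intro T e q
    rw [Category.assoc, lift_whiskerRight_assoc, bact_pt, leftUnitor_hom, lift_snd_assoc]
    have : e ≫ η[G'] = 1 := by rw [Hom.one_def]; congr 1; exact toUnit_unique _ _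
    rw [this, MonObj.one_comp, AlgGrp.Action.lift_one_act]
  mul_act := by
    rw [← cancel_mono (kj j)]
    apply AlgGrp.Action.hom_ext_lift₃
    intro T g h q
    rw [Category.assoc, lift_whiskerRight_assoc, ← Hom.mul_def, bact_pt, Category.assoc, Category.assoc,
      lift_lift_associator_hom_assoc, lift_whiskerLeft_assoc, bact_pt, Category.assoc, bact_pt,
      MonObj.mul_comp, AlgGrp.Action.lift_mul_act]

include hpb in
theorem isPseudoTorsor_bAction (hps : NonAbH1.IsPseudoTorsorSch a) :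
    NonAbH1.IsPseudoTorsorSch (bAction u v huv a j hj) := by
  apply isPseudoTorsorSch_of_pts
  · intro T q q'
    obtain ⟨g, hg⟩ := pt_exists a hps (q ≫ kj j) (q' ≫ kj j)
    have h1 : (g ≫ v) = (1 : T ⟶ G) ≫ v := by
      have := hj T g (q ≫ kj j)
      rw [← Category.assoc, hg, Category.assoc, Category.assoc, kj_j, MonObj.comp_one, MonObj.comp_one,
        _root_.mul_one] at this
      rw [MonObj.one_comp, ← this]
    obtain ⟨d, hd⟩ := exists_diff u v hpb (1 : T ⟶ G) g h1.symm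
    rw [_root_.one_mul] at hd
    refine ⟨d, ?_⟩
    rw [← cancel_mono (kj j), Category.assoc]
    change lift d q ≫ bact u v huv a j hj ≫ kj j = _
    rw [bact_pt, hd, hg]
  · intro T g' g'' q hgg
    have h2 := congrArg (fun t => t ≫ kj j) hgg
    simp only [Category.assoc] at h2
    change lift g' q ≫ bact u v huv a j hj ≫ kj j = lift g'' q ≫ bact u v huv a j hj ≫ kj j at h2
    rw [bact_pt, bact_pt] at h2
    exact u_inj u v hpb _ _ (pt_unique a hps _ _ _ h2)

include hj in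
theorem secSieve_toUnit_Yj (hvloc : secSieve v ∈ QuotSh.J K S G'')
    (hlX : secSieve (toUnit X) ∈ QuotSh.J K S (𝟙_ (Over S))) :
    secSieve (toUnit (Yj j)) ∈ QuotSh.J K S (𝟙_ (Over S)) := by
  refine (QuotSh.J K S).transitive hlX _ ?_
  rintro V g ⟨p, _⟩
  refine (QuotSh.J K S).superset_covering ?_ ((QuotSh.J K S).pullback_stable (p ≫ j) hvloc)
  rintro V' h ⟨t, ht⟩
  have h1 : (lift t⁻¹ (h ≫ p) ≫ a.act) ≫ j = 1 := by
    rw [Category.assoc, hj, GrpObj.inv_comp, ht, Category.assoc, inv_mul_cancel]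
  obtain ⟨q, _⟩ := exists_lift_Y j _ h1
  exact ⟨q, toUnit_unique _ _⟩

end C

section D
variable [K.IsStableUnderComposition] [K.IsStableUnderBaseChange] [K.HasIsos]

include huv hpb in
theorem main6010 (hvloc : NonAbH1.IsLocallyTrivialFor K (Over.mk v.left : Over G''.left))
    (P : NonAbH1.TorsorSch G K) :
    NonAbH1.IsPushforwardAlongSch v P.act (NonAbH1.trivialAction G'') ↔
      ∃ Q : NonAbH1.TorsorSch G' K, NonAbH1.IsPushforwardAlongSch u Q.act P.act := by
  constructor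
  · rintro ⟨j, hj⟩
    rw [push_iff'] at hj
    refine ⟨⟨Yj j, bAction u v huv P.act j hj, ⟨isPseudoTorsor_bAction u v huv hpb P.act j hj P.isTorsor.1,
      loc_of_secSieve_toUnit_mem K (secSieve_toUnit_Yj K v P.act j hj (secSieve_mem_of_loc K v hvloc)
        (secSieve_toUnit_mem K P.isTorsor.2))⟩⟩, kj j, ?_⟩
    exact bact_k u v huv P.act j hj
  · rintro ⟨Q, k, hk⟩
    rw [pushU_iff] at hk
    exact push_of_reduction K u v huv P.act P.isTorsor.1 Q.act Q.isTorsor.1 Q.isTorsor.2 k hk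

end D

end Groth.Agent.Helper18.CohSeq
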