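import Mathlib.Algebra.Module.FinitePresentation

/-! Coherent modules (finite, every f.g. submodule finitely presented): permanence lemmas. -/

namespace Groth.Agent.Helper18

universe u

variable {R : Type u} [CommRing R] {N M : Type u}
  [AddCommGroup N] [Module R N] [AddCommGroup M] [Module R M]

/-- A module which embeds into a module whose f.g. submodules are finitely presented has the same
property. -/
theorem fp_submodules_of_injective
    (hM : ∀ P : Submodule R M, P.FG → Module.FinitePresentation R P)
    (f : N →ₗ[R] M) (hf : Function.Injective f) :
    ∀ P : Submodule R N, P.FG → Module.FinitePresentation R P := by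
  intro P hP
  have : Module.FinitePresentation R (P.map f) := hM _ (hP.map f)
  exact Module.FinitePresentation.of_equiv (Submodule.equivMapOfInjective f hf P).symm

/-- Kernel of a map from a finite module to a coherent module is f.g. -/
theorem ker_fg_of_coh [Module.Finite R N]
    (hM : ∀ P : Submodule R M, P.FG → Module.FinitePresentation R P)
    (φ : N →ₗ[R] M) : (LinearMap.ker φ).FG := by
  have hr : (LinearMap.range φ).FG := by
    rw [LinearMap.range_eq_map]
    exact Module.Finite.fg_top.map φ
  have : Module.FinitePresentation R (LinearMap.range φ) := hM _ hr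
  have := Module.FinitePresentation.fg_ker φ.rangeRestrict φ.surjective_rangeRestrict
  rwa [LinearMap.ker_rangeRestrict] at this

/-- Quotient of a coherent module by a f.g. submodule: f.g. submodules are finitely presented. -/
theorem fp_submodules_quotient
    (hM : ∀ P : Submodule R M, P.FG → Module.FinitePresentation R P)
    (K : Submodule R M) (hK : K.FG) :
    ∀ P : Submodule R (M ⧸ K), P.FG → Module.FinitePresentation R P := by
  intro P hP
  set Q : Submodule R M := P.comap K.mkQ with hQ
  have hQfg : Q.FG := by
    apply Submodule.fg_of_fg_map_of_fg_inf_ker K.mkQ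
    · rw [hQ, Submodule.map_comap_eq_of_surjective (Submodule.mkQ_surjective K)]
      exact hP
    · rw [Submodule.ker_mkQ]
      have : Q ⊓ K = K := by
        apply inf_eq_right.2
        intro x hx
        rw [hQ, Submodule.mem_comap]
        have : K.mkQ x = 0 := by simpa using hx
        rw [this]; exact Submodule.zero_mem _
      rw [this]; exact hK
  have : Module.FinitePresentation R Q := hM Q hQfg
  -- the surjection Q → P
  let l : Q →ₗ[R] P := K.mkQ.restrict (p := Q) (q := P) (fun x hx => hx)
  have hl : Function.Surjective l := by
    rintro ⟨y, hy⟩
    obtain ⟨x, rfl⟩ := Submodule.mkQ_surjective K y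
    exact ⟨⟨x, hy⟩, rfl⟩
  refine Module.finitePresentation_of_surjective l hl ?_
  -- kernel of l is the image of K in Q
  have hKQ : K ≤ Q := by
    intro x hx
    rw [hQ, Submodule.mem_comap]
    have : K.mkQ x = 0 := by simpa using hx
    rw [this]; exact Submodule.zero_mem _
  have hker : LinearMap.ker l = (K.comap Q.subtype) := by
    ext ⟨x, hx⟩
    simp only [LinearMap.mem_ker, Submodule.mem_comap, Submodule.subtype_apply]
    constructor
    · intro h
      have h' : K.mkQ x = 0 := congrArg Subtype.val h
      simpa using h'
    · intro h
      apply Subtype.ext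
      show K.mkQ x = 0
      simpa using h
  rw [hker]
  have hrange : K.comap Q.subtype = LinearMap.range (Submodule.inclusion hKQ) := by
    ext ⟨x, hx⟩
    simp only [Submodule.mem_comap, Submodule.subtype_apply, LinearMap.mem_range]
    constructor
    · intro h
      exact ⟨⟨x, h⟩, rfl⟩
    · rintro ⟨⟨y, hy⟩, hxy⟩
      have : y = x := congrArg Subtype.val hxy
      rw [← this]; exact hy
  rw [hrange, LinearMap.range_eq_map]
  have : Module.Finite R K := Module.Finite.iff_fg.2 hK
  exact Module.Finite.fg_top.map _

end Groth.Agent.Helper18
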