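import Mathlib
import Groth.Prelude.Def_RelProj4
import Groth.Agent.Lib.Helper12.RelProjAway

set_option autoImplicit false
universe u
open CategoryTheory CategoryTheory.Limits AlgebraicGeometry TopologicalSpace Opposite
open scoped HomogeneousIdeal
open HomogeneousLocalization

namespace Groth.Agent.Helper18.ProjQ

section Ring

variable {A B σ τ : Type*} [CommRing A] [SetLike σ A] [AddSubgroupClass σ A]
    [CommRing B] [SetLike τ B] [AddSubgroupClass τ B] {𝒜 : ℕ → σ} {ℬ : ℕ → τ}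
    [GradedRing 𝒜] [GradedRing ℬ] (ψ : 𝒜 →+*ᵍ ℬ)

/-- `ψ` is surjective in all large degrees. -/
def TNSurj : Prop := ∃ n : ℕ, ∀ k, n ≤ k → ∀ y ∈ ℬ k, ∃ x ∈ 𝒜 k, ψ x = y

/-- `ψ` is injective in all large degrees. -/
def TNInj : Prop := ∃ n : ℕ, ∀ k, n ≤ k → ∀ x ∈ 𝒜 k, ψ x = 0 → x = 0

theorem awayMap_surjective_of_TN (h : TNSurj ψ) {i : ℕ} (hi : 0 < i) (s : A) (hs : s ∈ 𝒜 i) :
    Function.Surjective (Away.map ψ s) := by
  obtain ⟨n, hn⟩ := h
  intro x
  obtain ⟨k, b, hb, rfl⟩ := Away.mk_surjective ℬ (Graded.map_mem ψ hs) x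
  have hb' : b * ψ s ^ n ∈ ℬ ((k + n) • i) := by
    have := SetLike.mul_mem_graded hb (SetLike.pow_mem_graded n (Graded.map_mem ψ hs))
    rwa [← add_smul] at this
  have hge : n ≤ (k + n) • i := by
    simp only [smul_eq_mul]
    nlinarith
  obtain ⟨a, ha, hab⟩ := hn _ hge _ hb'
  refine ⟨Away.mk 𝒜 hs (k + n) a ha, ?_⟩
  rw [Away.map_mk ψ s hs (k + n) a ha]
  apply val_injective
  rw [Away.val_mk, Away.val_mk, Localization.mk_eq_mk_iff, Localization.r_iff_exists]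
  refine ⟨1, ?_⟩
  simp only [OneMemClass.coe_one, one_mul]
  rw [hab, pow_add]
  ring

theorem awayMap_injective_of_TN (h : TNInj ψ) {i : ℕ} (hi : 0 < i) (s : A) (hs : s ∈ 𝒜 i) :
    Function.Injective (Away.map ψ s) := by
  obtain ⟨n, hn⟩ := h
  rw [injective_iff_map_eq_zero]
  intro x hx
  obtain ⟨k, a, ha, rfl⟩ := Away.mk_surjective 𝒜 hs x
  rw [Away.map_mk ψ s hs k a ha] at hx
  have h1 := congrArg HomogeneousLocalization.val hx
  rw [Away.val_mk, val_zero, Localization.mk_eq_mk', IsLocalization.mk'_eq_zero_iff] at h1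
  obtain ⟨⟨_, m, rfl⟩, hm⟩ := h1
  have hm : ψ s ^ m * ψ a = 0 := hm
  have h2 : ψ (s ^ (m + n) * a) = 0 := by
    rw [map_mul, map_pow, pow_add, mul_right_comm, hm, zero_mul]
  have h3 : s ^ (m + n) * a ∈ 𝒜 ((m + n) • i + k • i) :=
    SetLike.mul_mem_graded (SetLike.pow_mem_graded _ hs) ha
  have hge : n ≤ (m + n) • i + k • i := by
    simp only [smul_eq_mul]
    nlinarith
  have h4 : s ^ (m + n) * a = 0 := hn _ hge _ h3 h2
  apply val_injective
  rw [Away.val_mk, val_zero, Localization.mk_eq_mk', IsLocalization.mk'_eq_zero_iff]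
  exact ⟨⟨s ^ (m + n), m + n, rfl⟩, h4⟩

end Ring

section RingU

variable {A B σ τ : Type u} [CommRing A] [SetLike σ A] [AddSubgroupClass σ A]
    [CommRing B] [SetLike τ B] [AddSubgroupClass τ B] {𝒜 : ℕ → σ} {ℬ : ℕ → τ}
    [GradedRing 𝒜] [GradedRing ℬ] (ψ : 𝒜 →+*ᵍ ℬ)

theorem iSup_basicOpen_eq_top :
    (⨆ s : (Σ i : ℕ+, ℬ i), Proj.basicOpen ℬ (s.2 : B)) = ⊤ := by
  have := (Proj.affineOpenCover ℬ).openCover.iSup_opensRange
  rw [← this]
  refine iSup_congr fun s => ?_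
  exact (Proj.opensRange_awayι ℬ _ s.2.2 s.1.pos).symm

theorem domOpen_eq_top_of_TN (h : TNSurj ψ) : RelCone.domOpen ψ = ⊤ := by
  obtain ⟨n, hn⟩ := h
  rw [eq_top_iff]
  intro x _
  rw [RelCone.mem_domOpen]
  have hx : x ∈ (⨆ s : (Σ i : ℕ+, ℬ i), Proj.basicOpen ℬ (s.2 : B)) := by
    rw [iSup_basicOpen_eq_top]; trivial
  obtain ⟨⟨i, b⟩, hxb⟩ := Opens.mem_iSup.mp hx
  have hb : (b : B) ^ (n + 1) ∈ ℬ ((n + 1) • (i : ℕ)) := SetLike.pow_mem_graded _ b.2
  have hge : n ≤ (n + 1) • (i : ℕ) := by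
    have := i.pos
    simp only [smul_eq_mul]
    nlinarith
  obtain ⟨a, ha, hab⟩ := hn _ hge _ hb
  have hpos : 0 < (n + 1) • (i : ℕ) := by
    have := i.pos
    simp only [smul_eq_mul]
    positivity
  refine ⟨a, HomogeneousIdeal.mem_irrelevant_of_mem _ hpos ha, ?_⟩
  rw [hab]
  intro hmem
  exact (Proj.mem_basicOpen ℬ _ x).mp hxb (x.isPrime.mem_of_pow_mem _ hmem)

end RingU

section Rel

variable {Y : Scheme.{u}} {𝒮 : RelProj.QCGrAlg Y} {P : Scheme.{u}} (p : P ⟶ Y)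
  (chart : ∀ (U : Y.Opens) (hU : IsAffineOpen U),
    (((p ⁻¹ᵁ U : P.Opens) : Scheme.{u}) ≅ Proj (𝒮.deg U hU)))

theorem opensRange_emb (U : Y.Opens) (hU : IsAffineOpen U) :
    (RelProj.emb p chart U hU).opensRange = p ⁻¹ᵁ U := by
  unfold RelProj.emb
  rw [Scheme.Hom.opensRange_comp_of_isIso, Scheme.Opens.opensRange_ι]

variable {p chart}

theorem emb_comp (h : RelProj.IsRelProj 𝒮 p chart) (U : Y.Opens) (hU : IsAffineOpen U) :
    RelProj.emb p chart U hU ≫ p =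
      Proj.toSpecZero (𝒮.deg U hU) ≫ Spec.map (𝒮.strZero U hU) ≫ hU.fromSpec := by
  unfold RelProj.emb
  rw [Category.assoc, ← h.chart_over U hU, Iso.inv_hom_id_assoc]

end Rel

section RingMap

variable {A B σ τ : Type*} [CommRing A] [SetLike σ A] [AddSubgroupClass σ A]
    [CommRing B] [SetLike τ B] [AddSubgroupClass τ B] {𝒜 : ℕ → σ} {ℬ : ℕ → τ}
    [GradedRing 𝒜] [GradedRing ℬ] (ψ : 𝒜 →+*ᵍ ℬ)

theorem awayMap_fromZero (f : A) (a : 𝒜 0) :
    Away.map ψ f (fromZeroRingHom 𝒜 _ a) = fromZeroRingHom ℬ _ (ψ.gradedZeroRingHom a) := by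
  apply val_injective
  change (HomogeneousLocalization.map ψ _ (HomogeneousLocalization.mk ⟨0, a, 1, one_mem _⟩)).val =
    (HomogeneousLocalization.mk ⟨0, ψ.gradedZeroRingHom a, 1, one_mem _⟩).val
  rw [HomogeneousLocalization.map_mk]
  simp

end RingMap

section General

variable {Y Y' P P' : Scheme.{u}} {g : Y' ⟶ Y} {𝒮 : RelProj.QCGrAlg Y} {𝒮' : RelProj.QCGrAlg Y'}
  (u : RelProj.QGrHom g 𝒮 𝒮')
  {p : P ⟶ Y} {chart : ∀ (U : Y.Opens) (hU : IsAffineOpen U),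
    (((p ⁻¹ᵁ U : P.Opens) : Scheme.{u}) ≅ Proj (𝒮.deg U hU))}
  (hP : RelProj.IsRelProj 𝒮 p chart)
  {p' : P' ⟶ Y'} {chart' : ∀ (U : Y'.Opens) (hU : IsAffineOpen U),
    (((p' ⁻¹ᵁ U : P'.Opens) : Scheme.{u}) ≅ Proj (𝒮'.deg U hU))}
  (hP' : RelProj.IsRelProj 𝒮' p' chart')

include hP hP' in
theorem awayEmb_comp (U : Y.Opens) (hU : IsAffineOpen U) (U' : Y'.Opens) (hU' : IsAffineOpen U')
    (hle : U' ≤ g ⁻¹ᵁ U) {d : ℕ} (hd : 0 < d) (f : 𝒮.presheaf.obj (op U)) (hf : f ∈ 𝒮.deg U hU d) :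
    RelProj.awayEmb u p' chart' U hU U' hU' hle hd f hf ≫ p' ≫ g =
      Spec.map (CommRingCat.ofHom (Away.map (u.gradedAt U hU U' hU' hle) f)) ≫
        Proj.awayι (𝒮.deg U hU) f hf hd ≫ RelProj.emb p chart U hU ≫ p := by
  unfold RelProj.awayEmb
  rw [Category.assoc, reassoc_of% (emb_comp hP' U' hU'), emb_comp hP U hU]
  rw [Proj.awayι_toSpecZero_assoc, Proj.awayι_toSpecZero_assoc]
  rw [← IsAffineOpen.SpecMap_appLE_fromSpec g hU hU' hle]
  simp only [← Spec.map_comp_assoc]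
  congr 2
  ext r
  simp only [CommRingCat.hom_comp, CommRingCat.hom_ofHom, RingHom.comp_apply]
  rw [awayMap_fromZero]
  have key : (𝒮'.strZero U' hU').hom ((g.appLE U U' hle).hom r) =
      (u.gradedAt U hU U' hU' hle).gradedZeroRingHom ((𝒮.strZero U hU).hom r) := by
    apply Subtype.ext
    have h := congrArg (fun k => k.hom r) (u.str_appLE U U' hle)
    exact h.symm
  rw [key]

end General

section Misc

theorem hom_ext_of_jointly_surjective {X Z : Scheme.{u}} {ι : Type*} (W : ι → Scheme.{u})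
    (k : ∀ i, W i ⟶ X) (hk' : ∀ i, IsOpenImmersion (k i))
    (hk : ∀ x : X, ∃ i, x ∈ Set.range (k i).base) (a b : X ⟶ Z)
    (H : ∀ i, k i ≫ a = k i ≫ b) : a = b := by
  apply Scheme.hom_ext_of_forall
  intro x
  obtain ⟨i, hi⟩ := hk x
  refine ⟨(k i).opensRange, hi, ?_⟩
  rw [← Scheme.Hom.isoOpensRange_inv_comp, Category.assoc, Category.assoc, H i]

variable {A B σ τ : Type u} [CommRing A] [SetLike σ A] [AddSubgroupClass σ A]
    [CommRing B] [SetLike τ B] [AddSubgroupClass τ B] {𝒜 : ℕ → σ} {ℬ : ℕ → τ}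
    [GradedRing 𝒜] [GradedRing ℬ] (ψ : 𝒜 →+*ᵍ ℬ)

/-- A point of `G(ψ)` lies in `D₊(ψ f)` for some homogeneous `f` of positive degree. -/
theorem exists_homogeneous_of_mem_domOpen (y : Proj ℬ) (hy : y ∈ RelCone.domOpen ψ) :
    ∃ (d : ℕ) (_ : 0 < d) (f : A) (_ : f ∈ 𝒜 d), y ∈ Proj.basicOpen ℬ (ψ f) := by
  classical
  obtain ⟨f, hf, hfy⟩ := (RelCone.mem_domOpen ψ y).mp hy
  by_contra H
  push Not at H
  apply hfy
  have hsum : ψ f = ∑ i ∈ (DirectSum.decompose 𝒜 f).support, ψ (DirectSum.decompose 𝒜 f i : A) := by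
    conv_lhs => rw [← DirectSum.sum_support_decompose 𝒜 f]
    rw [map_sum]
  rw [hsum]
  refine Ideal.sum_mem _ fun i _ => ?_
  rcases Nat.eq_zero_or_pos i with rfl | hi
  · have : (DirectSum.decompose 𝒜 f 0 : A) = 0 := by
      have := (HomogeneousIdeal.mem_irrelevant_iff 𝒜 f).mp hf
      simpa [GradedRing.proj_apply] using this
    rw [this, map_zero]
    exact zero_mem _
  · have h1 := H i hi (DirectSum.decompose 𝒜 f i : A) (SetLike.coe_mem _)
    rw [Proj.mem_basicOpen] at h1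
    exact not_not.mp h1

theorem mem_domOpen_of_mem_basicOpen (y : Proj ℬ) {d : ℕ} (hd : 0 < d) (f : A) (hf : f ∈ 𝒜 d)
    (hy : y ∈ Proj.basicOpen ℬ (ψ f)) : y ∈ RelCone.domOpen ψ :=
  (RelCone.mem_domOpen ψ y).mpr
    ⟨f, HomogeneousIdeal.mem_irrelevant_of_mem _ hd hf, (Proj.mem_basicOpen ℬ _ y).mp hy⟩

end Misc

section Same

variable {Y PA PB : Scheme.{u}} {𝒜 ℬ : RelProj.QCGrAlg Y} (u : RelProj.QGrHom (𝟙 Y) 𝒜 ℬ)
  (pA : PA ⟶ Y) (chartA : ∀ (U : Y.Opens) (hU : IsAffineOpen U),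
    (((pA ⁻¹ᵁ U : PA.Opens) : Scheme.{u}) ≅ Proj (𝒜.deg U hU)))
  (pB : PB ⟶ Y) (chartB : ∀ (U : Y.Opens) (hU : IsAffineOpen U),
    (((pB ⁻¹ᵁ U : PB.Opens) : Scheme.{u}) ≅ Proj (ℬ.deg U hU)))
  (hle : ∀ U : Y.Opens, U ≤ (𝟙 Y) ⁻¹ᵁ U)
  {X : Scheme.{u}} (j : X ⟶ PB) (h : X ⟶ PA)

instance isOpenImmersion_awayEmb {Y Y' P' : Scheme.{u}} {g : Y' ⟶ Y} {𝒮 : RelProj.QCGrAlg Y}
    {𝒮' : RelProj.QCGrAlg Y'} (u : RelProj.QGrHom g 𝒮 𝒮') (p' : P' ⟶ Y')
    (chart' : ∀ (U : Y'.Opens) (hU : IsAffineOpen U),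
      (((p' ⁻¹ᵁ U : P'.Opens) : Scheme.{u}) ≅ Proj (𝒮'.deg U hU)))
    (U : Y.Opens) (hU : IsAffineOpen U) (U' : Y'.Opens) (hU' : IsAffineOpen U')
    (hle : U' ≤ g ⁻¹ᵁ U) {d : ℕ} (hd : 0 < d) (f : 𝒮.presheaf.obj (op U)) (hf : f ∈ 𝒮.deg U hU d) :
    IsOpenImmersion (RelProj.awayEmb u p' chart' U hU U' hU' hle hd f hf) := by
  unfold RelProj.awayEmb; infer_instance

/-- Index type of standard charts of a relative Proj. -/
structure ChartIdx (𝒜 : RelProj.QCGrAlg Y) where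
  U : Y.Opens
  hU : IsAffineOpen U
  d : ℕ
  hd : 0 < d
  f : 𝒜.presheaf.obj (op U)
  hf : f ∈ 𝒜.deg U hU d

/-- The standard charts cover a relative Proj. -/
theorem iSup_chart_eq_top {𝒮 : RelProj.QCGrAlg Y} {P : Scheme.{u}} (p : P ⟶ Y)
    (chart : ∀ (U : Y.Opens) (hU : IsAffineOpen U),
      (((p ⁻¹ᵁ U : P.Opens) : Scheme.{u}) ≅ Proj (𝒮.deg U hU))) :
    (⨆ i : ChartIdx 𝒮, (Proj.awayι (𝒮.deg i.U i.hU) i.f i.hf i.hd ≫
      RelProj.emb p chart i.U i.hU).opensRange) = ⊤ := by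
  rw [eq_top_iff]
  intro x _
  obtain ⟨U, hU0, hxU, -⟩ := Opens.isBasis_iff_nbhd.mp (Y.isBasis_affineOpens)
    (show p.base x ∈ (⊤ : Y.Opens) from trivial)
  have hU : IsAffineOpen U := hU0
  have hx : x ∈ (RelProj.emb p chart U hU).opensRange := by
    rw [opensRange_emb]; exact hxU
  obtain ⟨y, rfl⟩ := hx
  have hy : y ∈ (⨆ s : (Σ i : ℕ+, 𝒮.deg U hU i), Proj.basicOpen (𝒮.deg U hU) (s.2 : _)) := by
    rw [iSup_basicOpen_eq_top]; trivial
  obtain ⟨⟨i, b⟩, hyb⟩ := Opens.mem_iSup.mp hy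
  rw [← Proj.opensRange_awayι _ _ b.2 i.pos] at hyb
  obtain ⟨z, rfl⟩ := hyb
  exact Opens.mem_iSup.mpr ⟨⟨U, hU, i, i.pos, b.1, b.2⟩, z, rfl⟩

/-- The source of a same-base standard chart. -/
noncomputable abbrev chartSrc (U : Y.Opens) (hU : IsAffineOpen U) (f : 𝒜.presheaf.obj (op U)) : Scheme.{u} :=
  Spec (CommRingCat.of (Away (ℬ.deg U hU) (u.gradedAt U hU U hU (hle U) f)))

/-- Lifted same-base standard charts of a morphism `h : X ⟶ PA` defined on an open `j : X ⟶ PB`. -/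
structure ChartData where
  e : ∀ (U : Y.Opens) (hU : IsAffineOpen U) (d : ℕ) (_ : 0 < d) (f : 𝒜.presheaf.obj (op U))
    (_ : f ∈ 𝒜.deg U hU d),
      Spec (CommRingCat.of (Away (ℬ.deg U hU) (u.gradedAt U hU U hU (hle U) f))) ⟶ X
  e_j : ∀ (U : Y.Opens) (hU : IsAffineOpen U) (d : ℕ) (hd : 0 < d) (f : 𝒜.presheaf.obj (op U))
    (hf : f ∈ 𝒜.deg U hU d),
      e U hU d hd f hf ≫ j = RelProj.awayEmb u pB chartB U hU U hU (hle U) hd f hf
  e_h : ∀ (U : Y.Opens) (hU : IsAffineOpen U) (d : ℕ) (hd : 0 < d) (f : 𝒜.presheaf.obj (op U))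
    (hf : f ∈ 𝒜.deg U hU d),
      e U hU d hd f hf ≫ h =
        Spec.map (CommRingCat.ofHom (Away.map (u.gradedAt U hU U hU (hle U)) f)) ≫
          Proj.awayι (𝒜.deg U hU) f hf hd ≫ RelProj.emb pA chartA U hU
  dom : ∀ (x : X) (U : Y.Opens) (hU : IsAffineOpen U), pB.base (j.base x) ∈ U →
    ∃ y ∈ RelCone.domOpen (u.gradedAt U hU U hU (hle U)),
      (RelProj.emb pB chartB U hU).base y = j.base x

namespace ChartData

variable {u pA chartA pB chartB hle j h}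
variable (D : ChartData u pA chartA pB chartB hle j h) [IsOpenImmersion j]

instance isOpenImmersion_e (U : Y.Opens) (hU : IsAffineOpen U) (d : ℕ) (hd : 0 < d)
    (f : 𝒜.presheaf.obj (op U)) (hf : f ∈ 𝒜.deg U hU d) : IsOpenImmersion (D.e U hU d hd f hf) := by
  have : IsOpenImmersion (D.e U hU d hd f hf ≫ j) := by
    rw [D.e_j]; infer_instance
  exact IsOpenImmersion.of_comp _ j

include D in
theorem exists_chart (x : X) (U : Y.Opens) (hU : IsAffineOpen U) (hx : pB.base (j.base x) ∈ U) :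
    ∃ (d : ℕ) (hd : 0 < d) (f : 𝒜.presheaf.obj (op U)) (hf : f ∈ 𝒜.deg U hU d),
      x ∈ Set.range (D.e U hU d hd f hf).base := by
  obtain ⟨y, hy, hyx⟩ := D.dom x U hU hx
  obtain ⟨d, hd, f, hf, hyf⟩ := exists_homogeneous_of_mem_domOpen _ y hy
  refine ⟨d, hd, f, hf, ?_⟩
  have hmem : (u.gradedAt U hU U hU (hle U)) f ∈ ℬ.deg U hU d :=
    (u.gradedAt U hU U hU (hle U)).map_mem hf
  rw [← Proj.opensRange_awayι (ℬ.deg U hU) ((u.gradedAt U hU U hU (hle U)) f) hmem hd] at hyf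
  obtain ⟨z, hz⟩ := hyf
  refine ⟨z, ?_⟩
  apply j.isOpenEmbedding.injective
  rw [← hyx, ← hz]
  have := congrArg (fun k => k.base z) (D.e_j U hU d hd f hf)
  simp only [Scheme.Hom.comp_base, TopCat.comp_app] at this
  rw [this]
  rfl

include D in
theorem exists_chart' (x : X) :
    ∃ (U : Y.Opens) (hU : IsAffineOpen U) (d : ℕ) (hd : 0 < d) (f : 𝒜.presheaf.obj (op U))
      (hf : f ∈ 𝒜.deg U hU d), x ∈ Set.range (D.e U hU d hd f hf).base := by
  obtain ⟨U, hU0, hxU, -⟩ := Opens.isBasis_iff_nbhd.mp (Y.isBasis_affineOpens)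
    (show pB.base (j.base x) ∈ (⊤ : Y.Opens) from trivial)
  have hU : IsAffineOpen U := hU0
  obtain ⟨d, hd, f, hf, hx⟩ := D.exists_chart x U hU hxU
  exact ⟨U, hU, d, hd, f, hf, hx⟩

include D in
theorem comp_eq (hA : RelProj.IsRelProj 𝒜 pA chartA) (hB : RelProj.IsRelProj ℬ pB chartB) :
    h ≫ pA = j ≫ pB := by
  refine hom_ext_of_jointly_surjective
    (ι := ChartIdx 𝒜)
    (fun i => chartSrc u hle i.U i.hU i.f)
    (fun i => D.e i.U i.hU i.d i.hd i.f i.hf)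
    (fun i => D.isOpenImmersion_e i.U i.hU i.d i.hd i.f i.hf) ?_ _ _ ?_
  · intro x
    obtain ⟨U, hU, d, hd, f, hf, hx⟩ := D.exists_chart' x
    exact ⟨⟨U, hU, d, hd, f, hf⟩, hx⟩
  · rintro ⟨U, hU, d, hd, f, hf⟩
    dsimp only
    rw [← Category.assoc, D.e_h, ← Category.assoc (D.e U hU d hd f hf), D.e_j]
    have := awayEmb_comp u hA hB U hU U hU (hle U) hd f hf
    rw [Category.comp_id] at this
    rw [this]
    simp only [Category.assoc]

include D in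
theorem preimage_eq (hA : RelProj.IsRelProj 𝒜 pA chartA) (hB : RelProj.IsRelProj ℬ pB chartB)
    (U : Y.Opens) (hU : IsAffineOpen U) (d : ℕ) (hd : 0 < d) (f : 𝒜.presheaf.obj (op U))
    (hf : f ∈ 𝒜.deg U hU d) :
    h ⁻¹ᵁ (Proj.awayι (𝒜.deg U hU) f hf hd ≫ RelProj.emb pA chartA U hU).opensRange =
      (D.e U hU d hd f hf).opensRange := by
  set ψ := u.gradedAt U hU U hU (hle U) with hψ
  apply le_antisymm
  · intro x hx
    obtain ⟨w₀, hw₀⟩ := hx
    have hw₀' : (RelProj.emb pA chartA U hU).base ((Proj.awayι (𝒜.deg U hU) f hf hd).base w₀) =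
        h.base x := hw₀
    have hxU : pB.base (j.base x) ∈ U := by
      have h1 : pA.base (h.base x) ∈ U := by
        rw [← hw₀']
        have : (RelProj.emb pA chartA U hU).base ((Proj.awayι (𝒜.deg U hU) f hf hd).base w₀) ∈
            (RelProj.emb pA chartA U hU).opensRange := ⟨_, rfl⟩
        rw [opensRange_emb] at this
        exact this
      have h2 := congrArg (fun k => k.base x) (D.comp_eq hA hB)
      simp only [Scheme.Hom.comp_base, TopCat.comp_app] at h2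
      rw [← h2]
      exact h1
    obtain ⟨d', hd', f', hf', z, hz⟩ := D.exists_chart x U hU hxU
    have hmem : ψ f ∈ ℬ.deg U hU d := ψ.map_mem hf
    have hmem' : ψ f' ∈ ℬ.deg U hU d' := ψ.map_mem hf'
    set w := (Spec.map (CommRingCat.ofHom (Away.map ψ f'))).base z with hw
    have h3 : h.base x = (RelProj.emb pA chartA U hU).base
        ((Proj.awayι (𝒜.deg U hU) f' hf' hd').base w) := by
      rw [← hz]
      have := congrArg (fun k => k.base z) (D.e_h U hU d' hd' f' hf')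
      simp only [Scheme.Hom.comp_base, TopCat.comp_app] at this
      exact this
    have h4 : (Proj.awayι (𝒜.deg U hU) f' hf' hd').base w =
        (Proj.awayι (𝒜.deg U hU) f hf hd).base w₀ := by
      apply (RelProj.emb pA chartA U hU).isOpenEmbedding.injective
      rw [← h3, hw₀']
    have h5 : w ∈ (Proj.awayι (𝒜.deg U hU) f' hf' hd') ⁻¹ᵁ Proj.basicOpen (𝒜.deg U hU) f := by
      change (Proj.awayι (𝒜.deg U hU) f' hf' hd').base w ∈ Proj.basicOpen (𝒜.deg U hU) f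
      rw [h4, ← Proj.opensRange_awayι _ _ hf hd]
      exact ⟨w₀, rfl⟩
    rw [Proj.awayι_preimage_basicOpen _ hf' hd' hf hd] at h5
    have h6 : z ∈ (Proj.awayι (ℬ.deg U hU) (ψ f') hmem' hd') ⁻¹ᵁ
        Proj.basicOpen (ℬ.deg U hU) (ψ f) := by
      rw [Proj.awayι_preimage_basicOpen _ hmem' hd' hmem hd]
      have h5' : Away.isLocalizationElem hf' hf ∉
          (PrimeSpectrum.comap (Away.map ψ f') z).asIdeal := h5
      change Away.isLocalizationElem hmem' hmem ∉ z.asIdeal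
      intro hc
      apply h5'
      change Away.isLocalizationElem hf' hf ∈ Ideal.comap (Away.map ψ f') z.asIdeal
      rw [Ideal.mem_comap]
      have : Away.map ψ f' (Away.isLocalizationElem hf' hf) =
          Away.isLocalizationElem hmem' hmem := by
        rw [Away.isLocalizationElem, Away.map_mk, Away.isLocalizationElem]
        congr 1
        exact map_pow ψ f d'
      rw [this]
      exact hc
    have h7 : (Proj.awayι (ℬ.deg U hU) (ψ f') hmem' hd').base z ∈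
        Proj.basicOpen (ℬ.deg U hU) (ψ f) := h6
    rw [← Proj.opensRange_awayι _ _ hmem hd] at h7
    obtain ⟨z', hz'⟩ := h7
    refine ⟨z', ?_⟩
    apply j.isOpenEmbedding.injective
    have e1 := congrArg (fun k => k.base z') (D.e_j U hU d hd f hf)
    have e2 := congrArg (fun k => k.base z) (D.e_j U hU d' hd' f' hf')
    simp only [Scheme.Hom.comp_base, TopCat.comp_app] at e1 e2
    rw [e1, ← hz, e2]
    change (RelProj.emb pB chartB U hU).base ((Proj.awayι (ℬ.deg U hU) (ψ f) hmem hd).base z') =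
      (RelProj.emb pB chartB U hU).base ((Proj.awayι (ℬ.deg U hU) (ψ f') hmem' hd').base z)
    rw [hz']
  · rintro _ ⟨z, rfl⟩
    refine ⟨(Spec.map (CommRingCat.ofHom (Away.map ψ f))).base z, ?_⟩
    have := congrArg (fun k => k.base z) (D.e_h U hU d hd f hf)
    simp only [Scheme.Hom.comp_base, TopCat.comp_app] at this
    rw [this]
    rfl

include D in
theorem of_local {P : MorphismProperty Scheme.{u}} [IsZariskiLocalAtTarget P]
    (hA : RelProj.IsRelProj 𝒜 pA chartA) (hB : RelProj.IsRelProj ℬ pB chartB)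
    (H : ∀ (U : Y.Opens) (hU : IsAffineOpen U) (d : ℕ) (_ : 0 < d) (f : 𝒜.presheaf.obj (op U))
      (_ : f ∈ 𝒜.deg U hU d),
      P (Spec.map (CommRingCat.ofHom (Away.map (u.gradedAt U hU U hU (hle U)) f)))) : P h := by
  have : ∀ i : ChartIdx 𝒜, IsOpenImmersion (D.e i.U i.hU i.d i.hd i.f i.hf) :=
    fun i => D.isOpenImmersion_e i.U i.hU i.d i.hd i.f i.hf
  refine Groth.Agent.Helper12.RelProjGlue.of_local_squares h
    (fun i : ChartIdx 𝒜 => (Proj.awayι (𝒜.deg i.U i.hU) i.f i.hf i.hd ≫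
      RelProj.emb pA chartA i.U i.hU).opensRange)
    (iSup_chart_eq_top pA chartA)
    (fun i => chartSrc u hle i.U i.hU i.f)
    (fun i => D.e i.U i.hU i.d i.hd i.f i.hf)
    (fun i => Spec.map (CommRingCat.ofHom (Away.map (u.gradedAt i.U i.hU i.U i.hU (hle i.U)) i.f)) ≫
      (Proj.awayι (𝒜.deg i.U i.hU) i.f i.hf i.hd ≫
        RelProj.emb pA chartA i.U i.hU).isoOpensRange.hom) ?_ ?_ ?_
  · intro i
    rw [Category.assoc, Scheme.Hom.isoOpensRange_hom_ι, D.e_h]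
  · intro i
    exact D.preimage_eq hA hB i.U i.hU i.d i.hd i.f i.hf
  · intro i
    rw [P.cancel_right_of_respectsIso]
    exact H i.U i.hU i.d i.hd i.f i.hf

end ChartData

/-- Chart data of an everywhere defined morphism. -/
noncomputable def ChartData.ofGlobal (h : PB ⟶ PA)
    (hh : ∀ (U : Y.Opens) (hU : IsAffineOpen U) (d : ℕ) (hd : 0 < d) (f : 𝒜.presheaf.obj (op U))
      (hf : f ∈ 𝒜.deg U hU d),
      RelProj.awayEmb u pB chartB U hU U hU (hle U) hd f hf ≫ h =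
        Spec.map (CommRingCat.ofHom (Away.map (u.gradedAt U hU U hU (hle U)) f)) ≫
          Proj.awayι (𝒜.deg U hU) f hf hd ≫ RelProj.emb pA chartA U hU)
    (hdom : ∀ (U : Y.Opens) (hU : IsAffineOpen U),
      RelCone.domOpen (u.gradedAt U hU U hU (hle U)) = ⊤) :
    ChartData u pA chartA pB chartB hle (𝟙 PB) h where
  e U hU d hd f hf := RelProj.awayEmb u pB chartB U hU U hU (hle U) hd f hf
  e_j U hU d hd f hf := Category.comp_id _
  e_h U hU d hd f hf := hh U hU d hd f hf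
  dom x U hU hx := by
    have hx' : x ∈ (RelProj.emb pB chartB U hU).opensRange := by
      rw [opensRange_emb]; exact hx
    obtain ⟨y, hy⟩ := hx'
    exact ⟨y, by rw [hdom U hU]; trivial, hy⟩

/-- `G(u) = ⊤` when every same-base ring-level open of definition is everything. -/
theorem domQ_eq_top_of_forall
    (hdom : ∀ (U : Y.Opens) (hU : IsAffineOpen U),
      RelCone.domOpen (u.gradedAt U hU U hU (hle U)) = ⊤) :
    RelProj.domQ u pB chartB = ⊤ := by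
  rw [eq_top_iff]
  intro x _
  obtain ⟨U, hU0, hxU, -⟩ := Opens.isBasis_iff_nbhd.mp (Y.isBasis_affineOpens)
    (show pB.base x ∈ (⊤ : Y.Opens) from trivial)
  have hU : IsAffineOpen U := hU0
  have hx' : x ∈ (RelProj.emb pB chartB U hU).opensRange := by
    rw [opensRange_emb]; exact hxU
  obtain ⟨y, hy⟩ := hx'
  unfold RelProj.domQ
  rw [TopologicalSpace.Opens.mem_iSup]
  refine ⟨⟨(⟨U, hU⟩, ⟨U, hU⟩), hle U⟩, y, ?_, hy⟩
  dsimp only
  rw [hdom U hU]
  trivial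

end Same

section OfHom

variable {Y : Scheme.{u}} {𝒜 ℬ : RelProj.QCGrAlg Y}
  (φ : 𝒜.toQCAlg ⟶ ℬ.toQCAlg) (hφ : RelProj.IsGradedHom φ)

theorem gradedAt_ofHom_same (U : Y.Opens) (hU : IsAffineOpen U) (hle : U ≤ (𝟙 Y) ⁻¹ᵁ U)
    (x : 𝒜.presheaf.obj (op U)) :
    (RelProj.QGrHom.ofHom φ hφ).gradedAt U hU U hU hle x = (φ.hom.app (op U)).hom x := by
  rw [RelProj.QGrHom.gradedAt_apply]
  have h4 : (ℬ.presheaf.map (𝟙 (op U))).hom ((φ.hom.app (op U)).hom x) =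
      (φ.hom.app (op U)).hom x := by
    rw [ℬ.presheaf.map_id]
    rfl
  exact h4

theorem le_id_preimage (U : Y.Opens) : U ≤ (𝟙 Y) ⁻¹ᵁ U := le_of_eq (by simp)

end OfHom

end Groth.Agent.Helper18.ProjQ
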