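import Mathlib
import Groth.Prelude.Def_RelProj4
import Groth.Agent.Lib.Helper18.ProjQ

set_option autoImplicit false
universe u
open CategoryTheory CategoryTheory.Limits AlgebraicGeometry TopologicalSpace Opposite
open scoped HomogeneousIdeal
open HomogeneousLocalization

namespace Groth.Agent.Helper18.ProjQ

section GlueLemma

/-- Gluing morphisms along a jointly surjective family of open immersions which is locally
compatible. -/
theorem exists_glue {X Z : Scheme.{u}} {ι : Type u} (W : ι → Scheme.{u})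
    (k : ∀ i, W i ⟶ X) (hk' : ∀ i, IsOpenImmersion (k i))
    (hk : ∀ x : X, ∃ i, x ∈ Set.range (k i).base) (v : ∀ i, W i ⟶ Z)
    (H : ∀ (i j : ι) (x : X), x ∈ Set.range (k i).base → x ∈ Set.range (k j).base →
      ∃ (W₀ : Scheme.{u}) (ρ₁ : W₀ ⟶ W i) (ρ₂ : W₀ ⟶ W j), IsOpenImmersion ρ₁ ∧
        ρ₁ ≫ k i = ρ₂ ≫ k j ∧ x ∈ Set.range (ρ₁ ≫ k i).base ∧ ρ₁ ≫ v i = ρ₂ ≫ v j) :
    ∃ w : X ⟶ Z, ∀ i, k i ≫ w = v i := by
  let 𝒰 : X.OpenCover :=
    { I₀ := ι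
      X := W
      f := k
      mem₀ := by
        rw [Scheme.presieve₀_mem_precoverage_iff]
        exact ⟨fun x => hk x, fun i => hk' i⟩ }
  have hf : ∀ i j : ι, pullback.fst (k i) (k j) ≫ v i = pullback.snd (k i) (k j) ≫ v j := by
    intro i j
    have := hk' i
    have := hk' j
    apply Scheme.hom_ext_of_forall
    intro z
    set x : X := (pullback.fst (k i) (k j) ≫ k i).base z with hx
    have hxi : x ∈ Set.range (k i).base := ⟨(pullback.fst (k i) (k j)).base z, rfl⟩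
    have hxj : x ∈ Set.range (k j).base := by
      refine ⟨(pullback.snd (k i) (k j)).base z, ?_⟩
      rw [hx, pullback.condition]
      rfl
    obtain ⟨W₀, ρ₁, ρ₂, hρ₁, hρk, hxρ, hρv⟩ := H i j x hxi hxj
    let ρ : W₀ ⟶ pullback (k i) (k j) := pullback.lift ρ₁ ρ₂ hρk
    have hρ1 : ρ ≫ pullback.fst (k i) (k j) = ρ₁ := pullback.lift_fst _ _ _
    have hρ2 : ρ ≫ pullback.snd (k i) (k j) = ρ₂ := pullback.lift_snd _ _ _
    have : IsOpenImmersion (ρ ≫ pullback.fst (k i) (k j)) := by rw [hρ1]; exact hρ₁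
    have hρo : IsOpenImmersion ρ := IsOpenImmersion.of_comp ρ (pullback.fst (k i) (k j))
    refine ⟨ρ.opensRange, ?_, ?_⟩
    · obtain ⟨t, ht⟩ := hxρ
      refine ⟨t, ?_⟩
      apply (pullback.fst (k i) (k j) ≫ k i).isOpenEmbedding.injective
      rw [← hx, ← ht, ← hρ1]
      rfl
    · rw [← Scheme.Hom.isoOpensRange_inv_comp, Category.assoc, Category.assoc,
        ← Category.assoc ρ, hρ1, ← Category.assoc ρ, hρ2, hρv]
  exact ⟨𝒰.glueMorphisms v hf, fun i => 𝒰.ι_glueMorphisms v hf i⟩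

end GlueLemma

section RingLemmas

variable {A B C σ τ υ : Type u} [CommRing A] [SetLike σ A] [AddSubgroupClass σ A]
    [CommRing B] [SetLike τ B] [AddSubgroupClass τ B]
    [CommRing C] [SetLike υ C] [AddSubgroupClass υ C]
    {𝒜 : ℕ → σ} {ℬ : ℕ → τ} {𝒞 : ℕ → υ}
    [GradedRing 𝒜] [GradedRing ℬ] [GradedRing 𝒞]

theorem powers_le_comap (g : 𝒜 →+*ᵍ ℬ) (s : A) (t : B) (e : t = g s) :
    Submonoid.powers s ≤ (Submonoid.powers t).comap g := by
  rintro _ ⟨n, rfl⟩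
  exact ⟨n, by simp [e]⟩

/-- `Proj.awayι_comp_map` with a propositional equality `t = g s`. -/
theorem awayι_comp_map' (g : 𝒜 →+*ᵍ ℬ) (hg : ℬ₊ ≤ 𝒜₊.map g) {d : ℕ} (hd : 0 < d)
    (s : A) (hs : s ∈ 𝒜 d) (t : B) (e : t = g s) (ht : t ∈ ℬ d) :
    Proj.awayι ℬ t ht hd ≫ Proj.map g hg =
      Spec.map (CommRingCat.ofHom (HomogeneousLocalization.map g (powers_le_comap g s t e))) ≫
        Proj.awayι 𝒜 s hs hd := by
  subst e
  exact Proj.awayι_comp_map g hg hd s hs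

theorem map_congr' {g₁ g₂ : 𝒜 →+*ᵍ ℬ} (h : g₁ = g₂) {P : Submonoid A} {Q : Submonoid B}
    (h₁ : P ≤ Q.comap g₁) (h₂ : P ≤ Q.comap g₂) :
    HomogeneousLocalization.map g₁ h₁ = HomogeneousLocalization.map g₂ h₂ := by
  subst h
  rfl

end RingLemmas

section Charts

variable {Y Y' P P' : Scheme.{u}} {g : Y' ⟶ Y} {𝒮 : RelProj.QCGrAlg Y} {𝒮' : RelProj.QCGrAlg Y'}
  (u : RelProj.QGrHom g 𝒮 𝒮')
  (p : P ⟶ Y) (chart : ∀ (U : Y.Opens) (hU : IsAffineOpen U),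
    (((p ⁻¹ᵁ U : P.Opens) : Scheme.{u}) ≅ Proj (𝒮.deg U hU)))
  (p' : P' ⟶ Y') (chart' : ∀ (U : Y'.Opens) (hU : IsAffineOpen U),
    (((p' ⁻¹ᵁ U : P'.Opens) : Scheme.{u}) ≅ Proj (𝒮'.deg U hU)))

/-- Index type of the standard charts of `G(u)`. -/
structure QIdx (g : Y' ⟶ Y) (𝒮 : RelProj.QCGrAlg Y) where
  U : Y.Opens
  hU : IsAffineOpen U
  U' : Y'.Opens
  hU' : IsAffineOpen U'
  hle : U' ≤ g ⁻¹ᵁ U
  d : ℕ
  hd : 0 < d
  f : 𝒮.presheaf.obj (op U)
  hf : f ∈ 𝒮.deg U hU d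

variable {u} in
/-- the graded homomorphism of a chart -/
abbrev QIdx.ψ (i : QIdx g 𝒮) (u : RelProj.QGrHom g 𝒮 𝒮') : 𝒮.deg i.U i.hU →+*ᵍ 𝒮'.deg i.U' i.hU' :=
  u.gradedAt i.U i.hU i.U' i.hU' i.hle

/-- source of a standard chart -/
noncomputable abbrev QIdx.src (i : QIdx g 𝒮) : Scheme.{u} :=
  Spec (CommRingCat.of (Away (𝒮'.deg i.U' i.hU') (i.ψ u i.f)))

/-- the standard chart into `P'` -/
noncomputable abbrev QIdx.k (i : QIdx g 𝒮) : i.src u ⟶ P' :=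
  RelProj.awayEmb u p' chart' i.U i.hU i.U' i.hU' i.hle i.hd i.f i.hf

/-- the local expression of `Proj(u)` on a standard chart -/
noncomputable abbrev QIdx.v (i : QIdx g 𝒮) : i.src u ⟶ P :=
  Spec.map (CommRingCat.ofHom (Away.map (i.ψ u) i.f)) ≫
    Proj.awayι (𝒮.deg i.U i.hU) i.f i.hf i.hd ≫ RelProj.emb p chart i.U i.hU

/-- `i₀` refines `i`. -/
def Ref (i₀ i : QIdx g 𝒮) : Prop :=
  ∃ ρ : i₀.src u ⟶ i.src u, ρ ≫ i.k u p' chart' = i₀.k u p' chart' ∧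
    ρ ≫ i.v u p chart = i₀.v u p chart

variable {u p chart p' chart'}

theorem Ref.trans {i₁ i₂ i₃ : QIdx g 𝒮} (h₁ : Ref u p chart p' chart' i₁ i₂)
    (h₂ : Ref u p chart p' chart' i₂ i₃) : Ref u p chart p' chart' i₁ i₃ := by
  obtain ⟨ρ₁, h1k, h1v⟩ := h₁
  obtain ⟨ρ₂, h2k, h2v⟩ := h₂
  exact ⟨ρ₁ ≫ ρ₂, by rw [Category.assoc, h2k, h1k], by rw [Category.assoc, h2v, h1v]⟩

theorem Ref.refl (i : QIdx g 𝒮) : Ref u p chart p' chart' i i :=
  ⟨𝟙 _, Category.id_comp _, Category.id_comp _⟩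

/-- General refinement of a standard chart along a basic open of the source base. -/
theorem genRef (hP' : RelProj.IsRelProj 𝒮' p' chart') (i : QIdx g 𝒮) (a' : Γ(Y', i.U'))
    (V : Y.Opens) (hV : IsAffineOpen V) (hle_n : Y'.basicOpen a' ≤ g ⁻¹ᵁ V)
    (r : 𝒮.deg i.U i.hU →+*ᵍ 𝒮.deg V hV)
    (c1 : (u.gradedAt V hV (Y'.basicOpen a') (i.hU'.basicOpen a') hle_n).comp r =
      (𝒮'.res i.hU' (i.hU'.basicOpen a') (Y'.basicOpen_le a')).comp (i.ψ u))
    (c2 : Proj.awayι (𝒮.deg V hV) (r i.f) (r.map_mem i.hf) i.hd ≫ RelProj.emb p chart V hV =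
      Spec.map (CommRingCat.ofHom (Away.map r i.f)) ≫
        Proj.awayι (𝒮.deg i.U i.hU) i.f i.hf i.hd ≫ RelProj.emb p chart i.U i.hU) :
    Ref u p chart p' chart'
        ⟨V, hV, Y'.basicOpen a', i.hU'.basicOpen a', hle_n, i.d, i.hd, r i.f, r.map_mem i.hf⟩ i ∧
      ∀ x : P', x ∈ Set.range (i.k u p' chart').base → p'.base x ∈ Y'.basicOpen a' →
        x ∈ Set.range ((⟨V, hV, Y'.basicOpen a', i.hU'.basicOpen a', hle_n, i.d, i.hd, r i.f,
          r.map_mem i.hf⟩ : QIdx g 𝒮).k u p' chart').base := by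
  set res' := 𝒮'.res i.hU' (i.hU'.basicOpen a') (Y'.basicOpen_le a') with hres'
  set ψn := u.gradedAt V hV (Y'.basicOpen a') (i.hU'.basicOpen a') hle_n with hψn
  have e : ψn (r i.f) = res' (i.ψ u i.f) := DFunLike.congr_fun c1 i.f
  have hs : i.ψ u i.f ∈ 𝒮'.deg i.U' i.hU' i.d := (i.ψ u).map_mem i.hf
  have ht : ψn (r i.f) ∈ 𝒮'.deg (Y'.basicOpen a') (i.hU'.basicOpen a') i.d :=
    ψn.map_mem (r.map_mem i.hf)
  have T1 := awayι_comp_map' res' (𝒮'.irrelevant_le_map i.U' i.hU' a') i.hd (i.ψ u i.f) hs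
    (ψn (r i.f)) e ht
  let ρ : (⟨V, hV, Y'.basicOpen a', i.hU'.basicOpen a', hle_n, i.d, i.hd, r i.f,
      r.map_mem i.hf⟩ : QIdx g 𝒮).src u ⟶ i.src u :=
    Spec.map (CommRingCat.ofHom (HomogeneousLocalization.map res' (powers_le_comap res' _ _ e)))
  have hk : ρ ≫ i.k u p' chart' = (⟨V, hV, Y'.basicOpen a', i.hU'.basicOpen a', hle_n, i.d, i.hd,
      r i.f, r.map_mem i.hf⟩ : QIdx g 𝒮).k u p' chart' := by
    change ρ ≫ Proj.awayι _ _ _ _ ≫ RelProj.emb p' chart' i.U' i.hU' =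
      Proj.awayι _ _ _ _ ≫ RelProj.emb p' chart' _ _
    rw [← RelProj.map_res_emb hP' i.U' i.hU' a', ← Category.assoc, ← Category.assoc]
    congr 1
    exact T1.symm
  refine ⟨⟨ρ, hk, ?_⟩, ?_⟩
  · have hring : CommRingCat.ofHom (Away.map (i.ψ u) i.f) ≫
        CommRingCat.ofHom (HomogeneousLocalization.map res' (powers_le_comap res' _ _ e)) =
        CommRingCat.ofHom (Away.map r i.f) ≫ CommRingCat.ofHom (Away.map ψn (r i.f)) := by
      rw [← CommRingCat.ofHom_comp, ← CommRingCat.ofHom_comp]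
      congr 1
      change (HomogeneousLocalization.map res' _).comp (HomogeneousLocalization.map (i.ψ u) _) =
        (HomogeneousLocalization.map ψn _).comp (HomogeneousLocalization.map r _)
      rw [← HomogeneousLocalization.map_comp, ← HomogeneousLocalization.map_comp]
      exact (map_congr' c1 _ _).symm
    calc ρ ≫ i.v u p chart
        = (Spec.map (CommRingCat.ofHom (HomogeneousLocalization.map res'
              (powers_le_comap res' _ _ e))) ≫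
            Spec.map (CommRingCat.ofHom (Away.map (i.ψ u) i.f))) ≫
            Proj.awayι (𝒮.deg i.U i.hU) i.f i.hf i.hd ≫ RelProj.emb p chart i.U i.hU := by
          rw [Category.assoc]
      _ = (Spec.map (CommRingCat.ofHom (Away.map ψn (r i.f))) ≫
            Spec.map (CommRingCat.ofHom (Away.map r i.f))) ≫
            Proj.awayι (𝒮.deg i.U i.hU) i.f i.hf i.hd ≫ RelProj.emb p chart i.U i.hU := by
          rw [← Spec.map_comp, ← Spec.map_comp, hring]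
      _ = Spec.map (CommRingCat.ofHom (Away.map ψn (r i.f))) ≫
            Proj.awayι (𝒮.deg V hV) (r i.f) (r.map_mem i.hf) i.hd ≫ RelProj.emb p chart V hV := by
          rw [c2, Category.assoc]
  · rintro x ⟨z, rfl⟩ hx
    have hx' : (i.k u p' chart').base z ∈
        (RelProj.emb p' chart' (Y'.basicOpen a') (i.hU'.basicOpen a')).opensRange := by
      rw [opensRange_emb]; exact hx
    obtain ⟨w, hw⟩ := hx'
    have hw' : (RelProj.emb p' chart' i.U' i.hU').base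
        ((Proj.map res' (𝒮'.irrelevant_le_map i.U' i.hU' a')).base w) =
        (RelProj.emb p' chart' i.U' i.hU').base
          ((Proj.awayι (𝒮'.deg i.U' i.hU') (i.ψ u i.f) hs i.hd).base z) := by
      have h2 : (RelProj.emb p' chart' i.U' i.hU').base
          ((Proj.map res' (𝒮'.irrelevant_le_map i.U' i.hU' a')).base w) =
          (RelProj.emb p' chart' (Y'.basicOpen a') (i.hU'.basicOpen a')).base w := by
        rw [← RelProj.map_res_emb hP' i.U' i.hU' a']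
        rfl
      rw [h2, hw]
      rfl
    have hinj := (RelProj.emb p' chart' i.U' i.hU').isOpenEmbedding.injective hw'
    have h1 : w ∈ (Proj.map res' (𝒮'.irrelevant_le_map i.U' i.hU' a')) ⁻¹ᵁ
        Proj.basicOpen (𝒮'.deg i.U' i.hU') (i.ψ u i.f) := by
      change (Proj.map res' (𝒮'.irrelevant_le_map i.U' i.hU' a')).base w ∈
        Proj.basicOpen (𝒮'.deg i.U' i.hU') (i.ψ u i.f)
      rw [hinj, ← Proj.opensRange_awayι _ _ hs i.hd]
      exact ⟨z, rfl⟩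
    rw [Proj.map_preimage_basicOpen, ← e, ← Proj.opensRange_awayι _ _ ht i.hd] at h1
    obtain ⟨z', hz'⟩ := h1
    refine ⟨z', ?_⟩
    change (RelProj.emb p' chart' (Y'.basicOpen a') (i.hU'.basicOpen a')).base
      ((Proj.awayι _ (ψn (r i.f)) ht i.hd).base z') = _
    rw [hz', hw]

/-- Refinement along a basic open of the source base `Y'`. -/
theorem refS (hP' : RelProj.IsRelProj 𝒮' p' chart') (i : QIdx g 𝒮) (b : Γ(Y', i.U')) :
    ∃ i₀ : QIdx g 𝒮, i₀.U = i.U ∧ i₀.U' = Y'.basicOpen b ∧ Ref u p chart p' chart' i₀ i ∧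
      ∀ x : P', x ∈ Set.range (i.k u p' chart').base → p'.base x ∈ Y'.basicOpen b →
        x ∈ Set.range (i₀.k u p' chart').base := by
  have hle_n : Y'.basicOpen b ≤ g ⁻¹ᵁ i.U := (Y'.basicOpen_le b).trans i.hle
  have c1 : (u.gradedAt i.U i.hU (Y'.basicOpen b) (i.hU'.basicOpen b) hle_n).comp
      (GradedRingHom.id (𝒮.deg i.U i.hU)) =
      (𝒮'.res i.hU' (i.hU'.basicOpen b) (Y'.basicOpen_le b)).comp (i.ψ u) := by
    apply GradedRingHom.ext
    intro x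
    have h := u.toQHom.appLE_map i.hle (Y'.basicOpen_le b)
    exact (congrArg (fun k => k.hom x) h).symm
  have c2 : Proj.awayι (𝒮.deg i.U i.hU) ((GradedRingHom.id (𝒮.deg i.U i.hU)) i.f)
      ((GradedRingHom.id (𝒮.deg i.U i.hU)).map_mem i.hf) i.hd ≫ RelProj.emb p chart i.U i.hU =
      Spec.map (CommRingCat.ofHom (Away.map (GradedRingHom.id (𝒮.deg i.U i.hU)) i.f)) ≫
        Proj.awayι (𝒮.deg i.U i.hU) i.f i.hf i.hd ≫ RelProj.emb p chart i.U i.hU := by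
    have h := Proj.awayι_comp_map (GradedRingHom.id (𝒮.deg i.U i.hU)) (by simp) i.hd i.f i.hf
    rw [Proj.map_id, Category.comp_id] at h
    rw [← Category.assoc, ← h]
  obtain ⟨h1, h2⟩ := genRef hP' i b i.U i.hU hle_n (GradedRingHom.id _) c1 c2
  exact ⟨⟨i.U, i.hU, Y'.basicOpen b, i.hU'.basicOpen b, hle_n, i.d, i.hd,
    (GradedRingHom.id _) i.f, (GradedRingHom.id _).map_mem i.hf⟩, rfl, rfl, h1, h2⟩

/-- Refinement along a basic open of the target base `Y`. -/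
theorem refB (hP : RelProj.IsRelProj 𝒮 p chart) (hP' : RelProj.IsRelProj 𝒮' p' chart')
    (i : QIdx g 𝒮) (a : Γ(Y, i.U)) :
    ∃ i₀ : QIdx g 𝒮, i₀.U = Y.basicOpen a ∧
      i₀.U' = Y'.basicOpen ((g.appLE i.U i.U' i.hle).hom a) ∧
      Ref u p chart p' chart' i₀ i ∧
      ∀ x : P', x ∈ Set.range (i.k u p' chart').base → g.base (p'.base x) ∈ Y.basicOpen a →
        x ∈ Set.range (i₀.k u p' chart').base := by
  set a' : Γ(Y', i.U') := (g.appLE i.U i.U' i.hle).hom a with ha'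
  have hbo : Y'.basicOpen a' = i.U' ⊓ g ⁻¹ᵁ (Y.basicOpen a) :=
    Scheme.basicOpen_appLE g i.U' i.U i.hle a
  have hle_n : Y'.basicOpen a' ≤ g ⁻¹ᵁ (Y.basicOpen a) := by
    rw [hbo]; exact inf_le_right
  let r := 𝒮.res i.hU (i.hU.basicOpen a) (Y.basicOpen_le a)
  have c1 : (u.gradedAt (Y.basicOpen a) (i.hU.basicOpen a) (Y'.basicOpen a')
      (i.hU'.basicOpen a') hle_n).comp r =
      (𝒮'.res i.hU' (i.hU'.basicOpen a') (Y'.basicOpen_le a')).comp (i.ψ u) := by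
    apply GradedRingHom.ext
    intro x
    have h1 := u.toQHom.appLE_map i.hle (Y'.basicOpen_le a')
    have h2 := u.toQHom.map_appLE (Y.basicOpen_le a) hle_n
    have h3 := congrArg (fun k => k.hom x) h1
    have h4 := congrArg (fun k => k.hom x) h2
    exact h4.trans h3.symm
  have c2 : Proj.awayι (𝒮.deg (Y.basicOpen a) (i.hU.basicOpen a)) (r i.f) (r.map_mem i.hf) i.hd ≫
      RelProj.emb p chart (Y.basicOpen a) (i.hU.basicOpen a) =
      Spec.map (CommRingCat.ofHom (Away.map r i.f)) ≫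
        Proj.awayι (𝒮.deg i.U i.hU) i.f i.hf i.hd ≫ RelProj.emb p chart i.U i.hU := by
    rw [← RelProj.map_res_emb hP i.U i.hU a]
    exact Proj.awayι_comp_map_assoc r (𝒮.irrelevant_le_map i.U i.hU a) i.hd i.f i.hf _
  obtain ⟨h1, h2⟩ := genRef hP' i a' (Y.basicOpen a) (i.hU.basicOpen a) hle_n r c1 c2
  refine ⟨⟨Y.basicOpen a, i.hU.basicOpen a, Y'.basicOpen a', i.hU'.basicOpen a', hle_n, i.d, i.hd,
    r i.f, r.map_mem i.hf⟩, rfl, rfl, h1, fun x hx hxa => h2 x hx ?_⟩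
  rw [hbo]
  refine ⟨?_, hxa⟩
  obtain ⟨z, rfl⟩ := hx
  have : (i.k u p' chart').base z ∈ (RelProj.emb p' chart' i.U' i.hU').opensRange := ⟨_, rfl⟩
  rw [opensRange_emb] at this
  exact this

/-- Refinement by multiplying the homogeneous element (same affine pair). -/
theorem refMul (i : QIdx g 𝒮) {d₂ : ℕ} (f₂ : 𝒮.presheaf.obj (op i.U)) (hf₂ : f₂ ∈ 𝒮.deg i.U i.hU d₂)
    (d₀ : ℕ) (hd₀ : 0 < d₀) (hdeq : d₀ = i.d + d₂) (f₀ : 𝒮.presheaf.obj (op i.U))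
    (hf₀ : f₀ ∈ 𝒮.deg i.U i.hU d₀) (hx : f₀ = i.f * f₂) :
    Ref u p chart p' chart' ⟨i.U, i.hU, i.U', i.hU', i.hle, d₀, hd₀, f₀, hf₀⟩ i := by
  subst hdeq
  subst hx
  have hxψ : i.ψ u (i.f * f₂) = i.ψ u i.f * i.ψ u f₂ := map_mul _ _ _
  have hs : i.ψ u i.f ∈ 𝒮'.deg i.U' i.hU' i.d := (i.ψ u).map_mem i.hf
  have hg : i.ψ u f₂ ∈ 𝒮'.deg i.U' i.hU' d₂ := (i.ψ u).map_mem hf₂
  let ρ : (⟨i.U, i.hU, i.U', i.hU', i.hle, i.d + d₂, hd₀, i.f * f₂, hf₀⟩ : QIdx g 𝒮).src u ⟶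
      i.src u :=
    Spec.map (CommRingCat.ofHom (awayMap (𝒮'.deg i.U' i.hU') hg hxψ))
  refine ⟨ρ, ?_, ?_⟩
  · change ρ ≫ Proj.awayι _ _ _ _ ≫ RelProj.emb p' chart' i.U' i.hU' =
      Proj.awayι _ _ _ _ ≫ RelProj.emb p' chart' _ _
    rw [← Category.assoc]
    congr 1
    exact Proj.SpecMap_awayMap_awayι (𝒮'.deg i.U' i.hU') hs i.hd hg hxψ
  · have hring : CommRingCat.ofHom (Away.map (i.ψ u) i.f) ≫
        CommRingCat.ofHom (awayMap (𝒮'.deg i.U' i.hU') hg hxψ) =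
        CommRingCat.ofHom (awayMap (𝒮.deg i.U i.hU) hf₂ (rfl : i.f * f₂ = i.f * f₂)) ≫
          CommRingCat.ofHom (Away.map (i.ψ u) (i.f * f₂)) := by
      rw [← CommRingCat.ofHom_comp, ← CommRingCat.ofHom_comp]
      congr 1
      ext x
      obtain ⟨n, a, ha, rfl⟩ := Away.mk_surjective _ i.hf x
      simp only [RingHom.comp_apply]
      rw [Away.map_mk, awayMap_mk, awayMap_mk, Away.map_mk]
      simp only [Away.val_mk, map_mul, map_pow]
    have hA := Proj.SpecMap_awayMap_awayι (𝒮.deg i.U i.hU) i.hf i.hd hf₂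
      (rfl : i.f * f₂ = i.f * f₂)
    calc ρ ≫ i.v u p chart
        = (Spec.map (CommRingCat.ofHom (awayMap (𝒮'.deg i.U' i.hU') hg hxψ)) ≫
            Spec.map (CommRingCat.ofHom (Away.map (i.ψ u) i.f))) ≫
            Proj.awayι (𝒮.deg i.U i.hU) i.f i.hf i.hd ≫ RelProj.emb p chart i.U i.hU := by
          rw [Category.assoc]
      _ = (Spec.map (CommRingCat.ofHom (Away.map (i.ψ u) (i.f * f₂))) ≫
            Spec.map (CommRingCat.ofHom (awayMap (𝒮.deg i.U i.hU) hf₂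
              (rfl : i.f * f₂ = i.f * f₂)))) ≫
            Proj.awayι (𝒮.deg i.U i.hU) i.f i.hf i.hd ≫ RelProj.emb p chart i.U i.hU := by
          rw [← Spec.map_comp, ← Spec.map_comp, hring]
      _ = Spec.map (CommRingCat.ofHom (Away.map (i.ψ u) (i.f * f₂))) ≫
            Proj.awayι (𝒮.deg i.U i.hU) (i.f * f₂) hf₀ hd₀ ≫ RelProj.emb p chart i.U i.hU := by
          rw [Category.assoc, ← Category.assoc (Spec.map (CommRingCat.ofHom (awayMap _ hf₂ _))), hA]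

/-- Two standard charts over (propositionally) the same affine pair have a common refinement
around any common point. -/
theorem samePair (i j : QIdx g 𝒮) (hU : i.U = j.U) (hU' : i.U' = j.U') (x : P')
    (hxi : x ∈ Set.range (i.k u p' chart').base) (hxj : x ∈ Set.range (j.k u p' chart').base) :
    ∃ i₀ : QIdx g 𝒮, Ref u p chart p' chart' i₀ i ∧ Ref u p chart p' chart' i₀ j ∧
      x ∈ Set.range (i₀.k u p' chart').base := by
  obtain ⟨U, hUa, U', hUa', hle, d₁, hd₁, f₁, hf₁⟩ := i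
  obtain ⟨V, hVa, V', hVa', hle₂, d₂, hd₂, f₂, hf₂⟩ := j
  dsimp only at hU hU'
  subst hU hU'
  refine ⟨⟨U, hUa, U', hUa', hle, d₁ + d₂, Nat.add_pos_left hd₁ _, f₁ * f₂,
    SetLike.mul_mem_graded hf₁ hf₂⟩, ?_, ?_, ?_⟩
  · exact refMul ⟨U, hUa, U', hUa', hle, d₁, hd₁, f₁, hf₁⟩ f₂ hf₂ _ _ rfl _ _ rfl
  · exact refMul ⟨U, hVa, U', hVa', hle₂, d₂, hd₂, f₂, hf₂⟩ f₁ hf₁ _ _ (add_comm _ _) _ _
      (mul_comm _ _)
  · obtain ⟨z₁, hz₁⟩ := hxi
    obtain ⟨z₂, hz₂⟩ := hxj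
    set ψ := u.gradedAt U hUa U' hUa' hle with hψ
    have hs₁ : ψ f₁ ∈ 𝒮'.deg U' hUa' d₁ := ψ.map_mem hf₁
    have hs₂ : ψ f₂ ∈ 𝒮'.deg U' hUa' d₂ := ψ.map_mem hf₂
    have hs₀ : ψ (f₁ * f₂) ∈ 𝒮'.deg U' hUa' (d₁ + d₂) :=
      ψ.map_mem (SetLike.mul_mem_graded hf₁ hf₂)
    have h1 : (RelProj.emb p' chart' U' hUa').base
        ((Proj.awayι (𝒮'.deg U' hUa') (ψ f₁) hs₁ hd₁).base z₁) = x := hz₁
    have h2 : (RelProj.emb p' chart' U' hUa').base
        ((Proj.awayι (𝒮'.deg U' hUa') (ψ f₂) hs₂ hd₂).base z₂) = x := hz₂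
    have hy := (RelProj.emb p' chart' U' hUa').isOpenEmbedding.injective (h1.trans h2.symm)
    have hy₁ : (Proj.awayι (𝒮'.deg U' hUa') (ψ f₁) hs₁ hd₁).base z₁ ∈
        Proj.basicOpen (𝒮'.deg U' hUa') (ψ f₁) := by
      rw [← Proj.opensRange_awayι _ _ hs₁ hd₁]; exact ⟨z₁, rfl⟩
    have hy₂ : (Proj.awayι (𝒮'.deg U' hUa') (ψ f₁) hs₁ hd₁).base z₁ ∈
        Proj.basicOpen (𝒮'.deg U' hUa') (ψ f₂) := by
      rw [hy, ← Proj.opensRange_awayι _ _ hs₂ hd₂]; exact ⟨z₂, rfl⟩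
    have hy₀ : (Proj.awayι (𝒮'.deg U' hUa') (ψ f₁) hs₁ hd₁).base z₁ ∈
        Proj.basicOpen (𝒮'.deg U' hUa') (ψ (f₁ * f₂)) := by
      rw [map_mul, Proj.basicOpen_mul]
      exact ⟨hy₁, hy₂⟩
    rw [← Proj.opensRange_awayι _ _ hs₀ (Nat.add_pos_left hd₁ _)] at hy₀
    obtain ⟨z₀, hz₀⟩ := hy₀
    refine ⟨z₀, ?_⟩
    change (RelProj.emb p' chart' U' hUa').base
      ((Proj.awayι (𝒮'.deg U' hUa') (ψ (f₁ * f₂)) hs₀ (Nat.add_pos_left hd₁ _)).base z₀) = x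
    rw [hz₀, h1]

theorem mem_of_mem_range_k (i : QIdx g 𝒮) (x : P')
    (hx : x ∈ Set.range (i.k u p' chart').base) : p'.base x ∈ i.U' := by
  obtain ⟨z, rfl⟩ := hx
  have : (i.k u p' chart').base z ∈ (RelProj.emb p' chart' i.U' i.hU').opensRange := ⟨_, rfl⟩
  rw [opensRange_emb] at this
  exact this

/-- Any two standard charts have a common refinement around any common point. -/
theorem compat (hP : RelProj.IsRelProj 𝒮 p chart) (hP' : RelProj.IsRelProj 𝒮' p' chart')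
    (i j : QIdx g 𝒮) (x : P')
    (hxi : x ∈ Set.range (i.k u p' chart').base) (hxj : x ∈ Set.range (j.k u p' chart').base) :
    ∃ i₀ : QIdx g 𝒮, Ref u p chart p' chart' i₀ i ∧ Ref u p chart p' chart' i₀ j ∧
      x ∈ Set.range (i₀.k u p' chart').base := by
  have hyi : p'.base x ∈ i.U' := mem_of_mem_range_k i x hxi
  have hyj : p'.base x ∈ j.U' := mem_of_mem_range_k j x hxj
  have hgi : g.base (p'.base x) ∈ i.U := i.hle hyi
  have hgj : g.base (p'.base x) ∈ j.U := j.hle hyj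
  obtain ⟨a₁, a₂, ha, hgy⟩ := exists_basicOpen_le_affine_inter i.hU j.hU
    (g.base (p'.base x)) ⟨hgi, hgj⟩
  obtain ⟨i₁, hi₁U, hi₁U', hr₁, hx₁⟩ := refB (u := u) hP hP' i a₁
  have hxi₁ := hx₁ x hxi hgy
  obtain ⟨j₁, hj₁U, hj₁U', hr₂, hx₂⟩ := refB (u := u) hP hP' j a₂
  have hxj₁ := hx₂ x hxj (ha ▸ hgy)
  have hyi₁ : p'.base x ∈ i₁.U' := mem_of_mem_range_k i₁ x hxi₁
  have hyj₁ : p'.base x ∈ j₁.U' := mem_of_mem_range_k j₁ x hxj₁
  obtain ⟨b₁, b₂, hb, hyb⟩ := exists_basicOpen_le_affine_inter i₁.hU' j₁.hU'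
    (p'.base x) ⟨hyi₁, hyj₁⟩
  obtain ⟨i₂, hi₂U, hi₂U', hr₁', hx₁'⟩ := refS (u := u) (p := p) (chart := chart) hP' i₁ b₁
  have hxi₂ := hx₁' x hxi₁ hyb
  obtain ⟨j₂, hj₂U, hj₂U', hr₂', hx₂'⟩ := refS (u := u) (p := p) (chart := chart) hP' j₁ b₂
  have hxj₂ := hx₂' x hxj₁ (hb ▸ hyb)
  have hUU : i₂.U = j₂.U := by rw [hi₂U, hj₂U, hi₁U, hj₁U, ha]
  have hUU' : i₂.U' = j₂.U' := by rw [hi₂U', hj₂U', hb]
  obtain ⟨i₀, h1, h2, hx0⟩ := samePair (u := u) (p := p) (chart := chart) i₂ j₂ hUU hUU' x hxi₂ hxj₂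
  exact ⟨i₀, h1.trans (hr₁'.trans hr₁), h2.trans (hr₂'.trans hr₂), hx0⟩

variable (u p' chart') in
/-- The standard chart lifted into `G(u)`. -/
noncomputable def QIdx.k' (i : QIdx g 𝒮) :
    i.src u ⟶ ((RelProj.domQ u p' chart' : P'.Opens) : Scheme.{u}) :=
  IsOpenImmersion.lift (RelProj.domQ u p' chart').ι (i.k u p' chart')
    (RelProj.range_awayEmb_subset_domQ u p' chart' i.U i.hU i.U' i.hU' i.hle i.hd i.f i.hf)

theorem QIdx.k'_ι (i : QIdx g 𝒮) :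
    i.k' u p' chart' ≫ (RelProj.domQ u p' chart').ι = i.k u p' chart' :=
  IsOpenImmersion.lift_fac _ _ _

instance (i : QIdx g 𝒮) : IsOpenImmersion (i.k' u p' chart') := by
  have : IsOpenImmersion (i.k' u p' chart' ≫ (RelProj.domQ u p' chart').ι) := by
    rw [QIdx.k'_ι]; infer_instance
  exact IsOpenImmersion.of_comp _ (RelProj.domQ u p' chart').ι

theorem exists_k_of_mem_domQ (x : P') (hx : x ∈ RelProj.domQ u p' chart') :
    ∃ i : QIdx g 𝒮, x ∈ Set.range (i.k u p' chart').base := by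
  unfold RelProj.domQ at hx
  obtain ⟨⟨⟨⟨U, hU⟩, ⟨U', hU'⟩⟩, hle⟩, hx⟩ := Opens.mem_iSup.mp hx
  obtain ⟨y, hy, rfl⟩ := hx
  have hUa : IsAffineOpen U := hU
  have hUa' : IsAffineOpen U' := hU'
  obtain ⟨d, hd, f, hf, hyf⟩ := exists_homogeneous_of_mem_domOpen
    (u.gradedAt U hUa U' hUa' hle) y hy
  have hmem : (u.gradedAt U hUa U' hUa' hle) f ∈ 𝒮'.deg U' hUa' d :=
    (u.gradedAt U hUa U' hUa' hle).map_mem hf
  rw [← Proj.opensRange_awayι _ _ hmem hd] at hyf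
  obtain ⟨z, hz⟩ := hyf
  refine ⟨⟨U, hUa, U', hUa', hle, d, hd, f, hf⟩, z, ?_⟩
  change (RelProj.emb p' chart' U' hUa').base ((Proj.awayι _ _ hmem hd).base z) = _
  rw [hz]
  rfl

theorem exists_k'_of_mem (x : ((RelProj.domQ u p' chart' : P'.Opens) : Scheme.{u})) :
    ∃ i : QIdx g 𝒮, x ∈ Set.range (i.k' u p' chart').base := by
  obtain ⟨i, z, hz⟩ := exists_k_of_mem_domQ (u := u) (p' := p') (chart' := chart') x.1 x.2
  refine ⟨i, z, ?_⟩
  apply (RelProj.domQ u p' chart').ι.isOpenEmbedding.injective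
  have := congrArg (fun k => k.base z) (QIdx.k'_ι (u := u) (p' := p') (chart' := chart') i)
  simp only [Scheme.Hom.comp_base, TopCat.comp_app] at this
  rw [this, hz]
  rfl

/-- Existence of `Proj(u)` on `G(u)`. -/
theorem exists_projQMapOn (hP : RelProj.IsRelProj 𝒮 p chart)
    (hP' : RelProj.IsRelProj 𝒮' p' chart') :
    ∃ w : ((RelProj.domQ u p' chart' : P'.Opens) : Scheme.{u}) ⟶ P,
      ∀ i : QIdx g 𝒮, i.k' u p' chart' ≫ w = i.v u p chart := by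
  refine exists_glue (fun i : QIdx g 𝒮 => i.src u) (fun i => i.k' u p' chart')
    (fun i => inferInstance) exists_k'_of_mem (fun i => i.v u p chart) ?_
  intro i j x hxi hxj
  have hxi' : x.1 ∈ Set.range (i.k u p' chart').base := by
    obtain ⟨z, rfl⟩ := hxi
    refine ⟨z, ?_⟩
    have := congrArg (fun k => k.base z) (QIdx.k'_ι (u := u) (p' := p') (chart' := chart') i)
    simp only [Scheme.Hom.comp_base, TopCat.comp_app] at this
    exact this.symm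
  have hxj' : x.1 ∈ Set.range (j.k u p' chart').base := by
    obtain ⟨z, rfl⟩ := hxj
    refine ⟨z, ?_⟩
    have := congrArg (fun k => k.base z) (QIdx.k'_ι (u := u) (p' := p') (chart' := chart') j)
    simp only [Scheme.Hom.comp_base, TopCat.comp_app] at this
    exact this.symm
  obtain ⟨i₀, ⟨ρ₁, h1k, h1v⟩, ⟨ρ₂, h2k, h2v⟩, hx0⟩ := compat hP hP' i j x.1 hxi' hxj'
  have e1 : ρ₁ ≫ i.k' u p' chart' = i₀.k' u p' chart' := by
    rw [← cancel_mono (RelProj.domQ u p' chart').ι, Category.assoc, QIdx.k'_ι, QIdx.k'_ι, h1k]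
  have e2 : ρ₂ ≫ j.k' u p' chart' = i₀.k' u p' chart' := by
    rw [← cancel_mono (RelProj.domQ u p' chart').ι, Category.assoc, QIdx.k'_ι, QIdx.k'_ι, h2k]
  have hρ₁ : IsOpenImmersion ρ₁ := by
    have : IsOpenImmersion (ρ₁ ≫ i.k' u p' chart') := by rw [e1]; infer_instance
    exact IsOpenImmersion.of_comp _ (i.k' u p' chart')
  refine ⟨i₀.src u, ρ₁, ρ₂, hρ₁, e1.trans e2.symm, ?_, h1v.trans h2v.symm⟩
  rw [e1]
  obtain ⟨z, hz⟩ := hx0
  refine ⟨z, ?_⟩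
  apply (RelProj.domQ u p' chart').ι.isOpenEmbedding.injective
  have := congrArg (fun k => k.base z) (QIdx.k'_ι (u := u) (p' := p') (chart' := chart') i₀)
  simp only [Scheme.Hom.comp_base, TopCat.comp_app] at this
  rw [this, hz]
  rfl

end Charts

end Groth.Agent.Helper18.ProjQ
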