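import Mathlib
import Groth.Prelude.Def_RelProj4
import Groth.Agent.Lib.Helper18.ProjQGlue

set_option autoImplicit false
universe u
open CategoryTheory CategoryTheory.Limits AlgebraicGeometry TopologicalSpace Opposite
open scoped HomogeneousIdeal
open HomogeneousLocalization

namespace Groth.Agent.Helper18.ProjQ

section Cast

variable {A σ : Type u} [CommRing A] [SetLike σ A] [AddSubgroupClass σ A]
    (𝒜 : ℕ → σ) [GradedRing 𝒜]

/-- transport of the degree-zero localization along an equality of elements -/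
noncomputable def castHom (s t : A) (e : t = s) : Away 𝒜 s →+* Away 𝒜 t :=
  HomogeneousLocalization.map (GradedRingHom.id 𝒜) (powers_le_comap (GradedRingHom.id 𝒜) s t e)

theorem awayι_cast {d : ℕ} (hd : 0 < d) (s t : A) (e : t = s) (hs : s ∈ 𝒜 d) (ht : t ∈ 𝒜 d) :
    Spec.map (CommRingCat.ofHom (castHom 𝒜 s t e)) ≫ Proj.awayι 𝒜 s hs hd =
      Proj.awayι 𝒜 t ht hd := by
  subst e
  have : CommRingCat.ofHom (castHom 𝒜 t t rfl) = 𝟙 _ := by
    unfold castHom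
    rw [HomogeneousLocalization.map_id]
    rfl
  rw [this, Spec.map_id, Category.id_comp]

end Cast

section Mono

theorem of_comp_mono {P : MorphismProperty Scheme.{u}} [P.IsStableUnderBaseChange]
    {X Y Z : Scheme.{u}} (f : X ⟶ Y) (g : Y ⟶ Z) [Mono g] (h : P (f ≫ g)) : P f := by
  have sq : IsPullback f (𝟙 X) g (f ≫ g) := by
    refine ⟨⟨by simp⟩, ⟨PullbackCone.IsLimit.mk _ (fun s => s.snd) ?_ ?_ ?_⟩⟩
    · intro s
      rw [← cancel_mono g, Category.assoc]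
      have := s.condition
      simpa using this.symm
    · intro s; simp
    · intro s m h1 h2
      simpa using h2
  exact P.of_isPullback sq.flip h

end Mono

section OnTN

variable {Y PA PB : Scheme.{u}} {𝒜 ℬ : RelProj.QCGrAlg Y}
  (φ : 𝒜.toQCAlg ⟶ ℬ.toQCAlg) (hφ : RelProj.IsGradedHom φ)
  {pA : PA ⟶ Y} {chartA : ∀ (U : Y.Opens) (hU : IsAffineOpen U),
    (((pA ⁻¹ᵁ U : PA.Opens) : Scheme.{u}) ≅ Proj (𝒜.deg U hU))}
  (hA : RelProj.IsRelProj 𝒜 pA chartA)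
  {pB : PB ⟶ Y} {chartB : ∀ (U : Y.Opens) (hU : IsAffineOpen U),
    (((pB ⁻¹ᵁ U : PB.Opens) : Scheme.{u}) ≅ Proj (ℬ.deg U hU))}
  (hB : RelProj.IsRelProj ℬ pB chartB)
  (hTN : ∃ n : ℕ, ∀ k, n ≤ k → ∀ (U : Y.Opens) (hU : IsAffineOpen U), ∀ y ∈ ℬ.deg U hU k,
      ∃ x ∈ 𝒜.deg U hU k, (φ.hom.app (op U)).hom x = y)
  (w : ((RelProj.domQ (RelProj.QGrHom.ofHom φ hφ) pB chartB : PB.Opens) : Scheme.{u}) ⟶ PA)
  (hw : RelProj.IsProjQMapOn (RelProj.QGrHom.ofHom φ hφ) pA chartA pB chartB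
    (RelProj.domQ (RelProj.QGrHom.ofHom φ hφ) pB chartB) w)

include hTN in
theorem tnSurj_gradedAt (U : Y.Opens) (hU : IsAffineOpen U) :
    TNSurj ((RelProj.QGrHom.ofHom φ hφ).gradedAt U hU U hU (le_id_preimage U)) := by
  obtain ⟨n, hn⟩ := hTN
  refine ⟨n, fun k hk y hy => ?_⟩
  obtain ⟨x, hx, hxy⟩ := hn k hk U hU y hy
  exact ⟨x, hx, by rw [gradedAt_ofHom_same]; exact hxy⟩

include hTN in
theorem domQ_eq_top_of_tn : RelProj.domQ (RelProj.QGrHom.ofHom φ hφ) pB chartB = ⊤ :=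
  domQ_eq_top_of_forall _ pB chartB le_id_preimage
    (fun U hU => domOpen_eq_top_of_TN _ (tnSurj_gradedAt φ hφ hTN U hU))

include hA hB hTN hw in
theorem isClosedImmersion_on_of_tn : IsClosedImmersion w := by
  have D : ChartData (RelProj.QGrHom.ofHom φ hφ) pA chartA pB chartB le_id_preimage
      (RelProj.domQ (RelProj.QGrHom.ofHom φ hφ) pB chartB).ι w :=
    { e := fun U hU d hd f hf =>
        IsOpenImmersion.lift (RelProj.domQ (RelProj.QGrHom.ofHom φ hφ) pB chartB).ι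
          (RelProj.awayEmb (RelProj.QGrHom.ofHom φ hφ) pB chartB U hU U hU (le_id_preimage U) hd f hf)
          (RelProj.range_awayEmb_subset_domQ (RelProj.QGrHom.ofHom φ hφ) pB chartB U hU U hU
            (le_id_preimage U) hd f hf)
      e_j := fun U hU d hd f hf => IsOpenImmersion.lift_fac _ _ _
      e_h := fun U hU d hd f hf => hw U hU U hU (le_id_preimage U) d hd f hf
        (RelProj.range_awayEmb_subset_domQ (RelProj.QGrHom.ofHom φ hφ) pB chartB U hU U hU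
            (le_id_preimage U) hd f hf)
      dom := fun x U hU hx => by
        have hx' : x.1 ∈ (RelProj.emb pB chartB U hU).opensRange := by
          rw [opensRange_emb]; exact hx
        obtain ⟨y, hy⟩ := hx'
        exact ⟨y, by rw [domOpen_eq_top_of_TN _ (tnSurj_gradedAt φ hφ hTN U hU)]; trivial, hy⟩ }
  refine D.of_local (P := @IsClosedImmersion) hA hB ?_
  intro U hU d hd f hf
  exact IsClosedImmersion.spec_of_surjective _
    (awayMap_surjective_of_TN _ (tnSurj_gradedAt φ hφ hTN U hU) hd f hf)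

end OnTN

section Comp

variable {Y X P PL P' : Scheme.{u}} {q : X ⟶ Y}
  {𝒮 : RelProj.QCGrAlg Y} {𝒮L : RelProj.QCGrAlg X} (u : RelProj.QGrHom q 𝒮 𝒮L)
  {p : P ⟶ Y} {chart : ∀ (U : Y.Opens) (hU : IsAffineOpen U),
    (((p ⁻¹ᵁ U : P.Opens) : Scheme.{u}) ≅ Proj (𝒮.deg U hU))}
  {pL : PL ⟶ X} {chartL : ∀ (U : X.Opens) (hU : IsAffineOpen U),
    (((pL ⁻¹ᵁ U : PL.Opens) : Scheme.{u}) ≅ Proj (𝒮L.deg U hU))}
  (r : ((RelProj.domQ u pL chartL : PL.Opens) : Scheme.{u}) ⟶ P)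
  (hr : RelProj.IsProjQMapOn u p chart pL chartL (RelProj.domQ u pL chartL) r)
  {𝒯 : RelProj.QCGrAlg Y} (v : 𝒯.toQCAlg ⟶ 𝒮.toQCAlg) (hv : RelProj.IsGradedHom v)
  (u' : RelProj.QGrHom q 𝒯 𝒮L) (hu' : ∀ U : Y.Opens, u'.app U = v.hom.app (op U) ≫ u.app U)
  {p' : P' ⟶ Y} {chart' : ∀ (U : Y.Opens) (hU : IsAffineOpen U),
    (((p' ⁻¹ᵁ U : P'.Opens) : Scheme.{u}) ≅ Proj (𝒯.deg U hU))}
  (w : ((RelProj.domQ (RelProj.QGrHom.ofHom v hv) p chart : P.Opens) : Scheme.{u}) ⟶ P')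
  (hw : RelProj.IsProjQMapOn (RelProj.QGrHom.ofHom v hv) p' chart' p chart
    (RelProj.domQ (RelProj.QGrHom.ofHom v hv) p chart) w)

include hu' in
theorem gradedAt_comp (U : Y.Opens) (hU : IsAffineOpen U) (U' : X.Opens) (hU' : IsAffineOpen U')
    (hle : U' ≤ q ⁻¹ᵁ U) (x : 𝒯.presheaf.obj (op U)) :
    u'.gradedAt U hU U' hU' hle x =
      u.gradedAt U hU U' hU' hle (RelProj.gradedHomAt v hv U hU x) := by
  rw [RelProj.QGrHom.gradedAt_apply, RelProj.QGrHom.gradedAt_apply]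
  unfold RelSpec.QHom.appLE
  rw [hu' U]
  rfl

include hu' in
/-- The chart of `u'` at `f` is, up to a cast, the chart of `u` at `v f`. -/
theorem k_comp (i : QIdx q 𝒯) :
    i.k u' pL chartL =
      Spec.map (CommRingCat.ofHom (castHom (𝒮L.deg i.U' i.hU') _ _
        (gradedAt_comp u v hv u' hu' i.U i.hU i.U' i.hU' i.hle i.f))) ≫
      (⟨i.U, i.hU, i.U', i.hU', i.hle, i.d, i.hd, RelProj.gradedHomAt v hv i.U i.hU i.f,
        (RelProj.gradedHomAt v hv i.U i.hU).map_mem i.hf⟩ : QIdx q 𝒮).k u pL chartL := by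
  change Proj.awayι _ _ _ _ ≫ RelProj.emb pL chartL i.U' i.hU' =
    Spec.map _ ≫ Proj.awayι _ _ _ _ ≫ RelProj.emb pL chartL i.U' i.hU'
  rw [← Category.assoc]
  congr 1
  exact (awayι_cast (𝒮L.deg i.U' i.hU') i.hd _ _ _ _ _).symm

include hv hu' in
theorem domQ_le : RelProj.domQ u' pL chartL ≤ RelProj.domQ u pL chartL := by
  intro x hx
  obtain ⟨i, z, hz⟩ := exists_k_of_mem_domQ (u := u') (p' := pL) (chart' := chartL) x hx
  have hk := k_comp u v hv u' hu' (pL := pL) (chartL := chartL) i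
  have hx' : x ∈ Set.range ((⟨i.U, i.hU, i.U', i.hU', i.hle, i.d, i.hd,
      RelProj.gradedHomAt v hv i.U i.hU i.f,
      (RelProj.gradedHomAt v hv i.U i.hU).map_mem i.hf⟩ : QIdx q 𝒮).k u pL chartL).base := by
    refine ⟨(Spec.map (CommRingCat.ofHom (castHom (𝒮L.deg i.U' i.hU') _ _
      (gradedAt_comp u v hv u' hu' i.U i.hU i.U' i.hU' i.hle i.f)))).base z, ?_⟩
    rw [← hz, hk]
    rfl
  have := RelProj.range_awayEmb_subset_domQ u pL chartL i.U i.hU i.U' i.hU' i.hle i.hd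
    (RelProj.gradedHomAt v hv i.U i.hU i.f) ((RelProj.gradedHomAt v hv i.U i.hU).map_mem i.hf) hx'
  rw [Scheme.Opens.range_ι] at this
  exact this

include hr hw hu' in
/-- On a standard chart of `u' = u ∘ v`, the morphism `r = Proj(u)` lands in `G(v)` and followed by
`w = Proj(v)` it is the local expression of `Proj(u')`. -/
theorem comp_chart (i : QIdx q 𝒯) :
    ∃ ρ : i.src u' ⟶ ((RelProj.domQ (RelProj.QGrHom.ofHom v hv) p chart : P.Opens) : Scheme.{u}),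
      i.k' u' pL chartL ≫ PL.homOfLE (domQ_le u v hv u' hu') ≫ r =
        ρ ≫ (RelProj.domQ (RelProj.QGrHom.ofHom v hv) p chart).ι ∧
      ρ ≫ w = i.v u' p' chart' := by
  set vU := RelProj.gradedHomAt v hv i.U i.hU with hvU
  let j : QIdx q 𝒮 := ⟨i.U, i.hU, i.U', i.hU', i.hle, i.d, i.hd, vU i.f, vU.map_mem i.hf⟩
  let jv : QIdx (𝟙 Y) 𝒯 := ⟨i.U, i.hU, i.U, i.hU, le_id_preimage i.U, i.d, i.hd, i.f, i.hf⟩
  have e₁ : i.ψ u' i.f = j.ψ u (vU i.f) :=
    gradedAt_comp u v hv u' hu' i.U i.hU i.U' i.hU' i.hle i.f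
  have e₂ : vU i.f = jv.ψ (RelProj.QGrHom.ofHom v hv) i.f :=
    (gradedAt_ofHom_same v hv i.U i.hU _ i.f).symm
  let c₁ := castHom (𝒮L.deg i.U' i.hU') _ _ e₁
  let c₂ := castHom (𝒮.deg i.U i.hU) _ _ e₂
  let ρ : i.src u' ⟶ ((RelProj.domQ (RelProj.QGrHom.ofHom v hv) p chart : P.Opens) : Scheme.{u}) :=
    Spec.map (CommRingCat.ofHom c₁) ≫ Spec.map (CommRingCat.ofHom (Away.map (j.ψ u) (vU i.f))) ≫
      Spec.map (CommRingCat.ofHom c₂) ≫ jv.k' (RelProj.QGrHom.ofHom v hv) p chart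
  refine ⟨ρ, ?_, ?_⟩
  · have h1 : i.k' u' pL chartL ≫ PL.homOfLE (domQ_le u v hv u' hu') =
        Spec.map (CommRingCat.ofHom c₁) ≫ j.k' u pL chartL := by
      rw [← cancel_mono (RelProj.domQ u pL chartL).ι, Category.assoc, Scheme.homOfLE_ι,
        QIdx.k'_ι, Category.assoc, QIdx.k'_ι]
      exact k_comp u v hv u' hu' i
    have h2 : j.k' u pL chartL ≫ r = j.v u p chart :=
      hr j.U j.hU j.U' j.hU' j.hle j.d j.hd j.f j.hf _
    have h3 : Proj.awayι (𝒮.deg i.U i.hU) (vU i.f) (vU.map_mem i.hf) i.hd ≫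
        RelProj.emb p chart i.U i.hU =
        Spec.map (CommRingCat.ofHom c₂) ≫ jv.k (RelProj.QGrHom.ofHom v hv) p chart := by
      change _ = Spec.map _ ≫ Proj.awayι _ _ _ _ ≫ RelProj.emb p chart i.U i.hU
      rw [← Category.assoc]
      congr 1
      exact (awayι_cast (𝒮.deg i.U i.hU) i.hd _ _ e₂ _ _).symm
    rw [← Category.assoc, h1, Category.assoc, h2]
    change Spec.map _ ≫ Spec.map _ ≫ Proj.awayι _ _ _ _ ≫ RelProj.emb p chart i.U i.hU = _
    rw [h3]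
    simp only [ρ, Category.assoc, QIdx.k'_ι]
  · have h4 : jv.k' (RelProj.QGrHom.ofHom v hv) p chart ≫ w =
        jv.v (RelProj.QGrHom.ofHom v hv) p' chart' :=
      hw jv.U jv.hU jv.U' jv.hU' jv.hle jv.d jv.hd jv.f jv.hf _
    have hring : CommRingCat.ofHom (Away.map (jv.ψ (RelProj.QGrHom.ofHom v hv)) i.f) ≫
        CommRingCat.ofHom c₂ ≫ CommRingCat.ofHom (Away.map (j.ψ u) (vU i.f)) ≫
        CommRingCat.ofHom c₁ = CommRingCat.ofHom (Away.map (i.ψ u') i.f) := by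
      rw [← CommRingCat.ofHom_comp, ← CommRingCat.ofHom_comp, ← CommRingCat.ofHom_comp]
      congr 1
      simp only [c₁, c₂, castHom, Away.map, ← HomogeneousLocalization.map_comp]
      apply map_congr'
      apply GradedRingHom.ext
      intro x
      change j.ψ u (jv.ψ (RelProj.QGrHom.ofHom v hv) x) = i.ψ u' x
      rw [gradedAt_ofHom_same v hv i.U i.hU _ x]
      exact (gradedAt_comp u v hv u' hu' i.U i.hU i.U' i.hU' i.hle x).symm
    simp only [ρ, Category.assoc]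
    rw [h4]
    change Spec.map _ ≫ Spec.map _ ≫ Spec.map _ ≫ Spec.map _ ≫ _ ≫ _ = Spec.map _ ≫ _ ≫ _
    simp only [← Spec.map_comp_assoc]
    rw [Category.assoc, Category.assoc, hring]

include hr hw hu' in
/-- `Proj(u ∘ v) = Proj(v) ∘ Proj(u)` on `G(u ∘ v)`. -/
theorem exists_factor
    (r' : ((RelProj.domQ u' pL chartL : PL.Opens) : Scheme.{u}) ⟶ P')
    (hr' : RelProj.IsProjQMapOn u' p' chart' pL chartL (RelProj.domQ u' pL chartL) r') :
    ∃ r₀ : ((RelProj.domQ u' pL chartL : PL.Opens) : Scheme.{u}) ⟶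
        ((RelProj.domQ (RelProj.QGrHom.ofHom v hv) p chart : P.Opens) : Scheme.{u}),
      PL.homOfLE (domQ_le u v hv u' hu') ≫ r =
        r₀ ≫ (RelProj.domQ (RelProj.QGrHom.ofHom v hv) p chart).ι ∧ r₀ ≫ w = r' := by
  have hrange : Set.range (PL.homOfLE (domQ_le u v hv u' hu' (pL := pL) (chartL := chartL)) ≫ r).base ⊆
      Set.range (RelProj.domQ (RelProj.QGrHom.ofHom v hv) p chart).ι.base := by
    rintro _ ⟨x, rfl⟩
    obtain ⟨i, z, hz⟩ := exists_k'_of_mem (u := u') (p' := pL) (chart' := chartL) x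
    obtain ⟨ρ, hρ1, -⟩ := comp_chart u r hr v hv u' hu' (p' := p') (chart' := chart') w hw i
    refine ⟨ρ.base z, ?_⟩
    have := congrArg (fun k => k.base z) hρ1
    simp only [Scheme.Hom.comp_base, TopCat.comp_app] at this
    rw [← hz]
    exact this.symm
  let r₀ := IsOpenImmersion.lift (RelProj.domQ (RelProj.QGrHom.ofHom v hv) p chart).ι
    (PL.homOfLE (domQ_le u v hv u' hu') ≫ r) hrange
  have hr₀ : r₀ ≫ (RelProj.domQ (RelProj.QGrHom.ofHom v hv) p chart).ι =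
      PL.homOfLE (domQ_le u v hv u' hu') ≫ r := IsOpenImmersion.lift_fac _ _ _
  refine ⟨r₀, hr₀.symm, ?_⟩
  refine hom_ext_of_jointly_surjective (fun i : QIdx q 𝒯 => i.src u')
    (fun i => i.k' u' pL chartL) (fun i => inferInstance) exists_k'_of_mem _ _ ?_
  intro i
  obtain ⟨ρ, hρ1, hρ2⟩ := comp_chart u r hr v hv u' hu' (p' := p') (chart' := chart') w hw i
  have h1 : i.k' u' pL chartL ≫ r₀ = ρ := by
    rw [← cancel_mono (RelProj.domQ (RelProj.QGrHom.ofHom v hv) p chart).ι, Category.assoc, hr₀]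
    exact hρ1
  rw [← Category.assoc, h1, hρ2]
  exact (hr' i.U i.hU i.U' i.hU' i.hle i.d i.hd i.f i.hf _).symm

end Comp

end Groth.Agent.Helper18.ProjQ
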