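import Mathlib
import Groth.Prelude.Def_RelProj4
import Groth.Agent.Lib.Helper18.ProjQGlue

set_option autoImplicit false
universe u
open CategoryTheory CategoryTheory.Limits AlgebraicGeometry TopologicalSpace Opposite
open scoped HomogeneousIdeal
open HomogeneousLocalization

namespace Groth.Agent.Helper18.ProjQ

section RingLemma

variable {A B σ τ : Type u} [CommRing A] [SetLike σ A] [AddSubgroupClass σ A]
    [CommRing B] [SetLike τ B] [AddSubgroupClass τ B]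
    {𝒜 : ℕ → σ} {ℬ : ℕ → τ} [GradedRing 𝒜] [GradedRing ℬ]

/-- On a standard chart, the preimage of `D₊(h)` under `Proj(ψ)` is `D₊(ψ h)`. -/
theorem awayι_mem_basicOpen_of_map (ψ : 𝒜 →+*ᵍ ℬ) {d e : ℕ} (hd : 0 < d) (he : 0 < e)
    (f : A) (hf : f ∈ 𝒜 d) (h : A) (hh : h ∈ 𝒜 e)
    (z : Spec (CommRingCat.of (Away ℬ (ψ f))))
    (hz : (Proj.awayι 𝒜 f hf hd).base ((Spec.map (CommRingCat.ofHom (Away.map ψ f))).base z) ∈
      Proj.basicOpen 𝒜 h) :
    (Proj.awayι ℬ (ψ f) (ψ.map_mem hf) hd).base z ∈ Proj.basicOpen ℬ (ψ h) := by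
  have h1 : (Spec.map (CommRingCat.ofHom (Away.map ψ f))).base z ∈
      Proj.awayι 𝒜 f hf hd ⁻¹ᵁ Proj.basicOpen 𝒜 h := hz
  rw [Proj.awayι_preimage_basicOpen 𝒜 hf hd hh he] at h1
  have h0 := Proj.awayι_preimage_basicOpen ℬ (f := ψ f) (g := ψ h) (ψ.map_mem hf) hd
    (ψ.map_mem hh) he
  change z ∈ Proj.awayι ℬ (ψ f) (ψ.map_mem hf) hd ⁻¹ᵁ Proj.basicOpen ℬ (ψ h)
  rw [h0]
  have h2 : Away.map ψ f (Away.isLocalizationElem hf hh) =
      Away.isLocalizationElem (ψ.map_mem hf) (ψ.map_mem hh) := by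
    unfold Away.isLocalizationElem
    rw [Away.map_mk]
    congr 1
    exact map_pow ψ h d
  have h3 : Away.isLocalizationElem (ψ.map_mem hf) (ψ.map_mem hh) ∉ z.asIdeal := by
    rw [← h2]
    exact h1
  exact h3

theorem not_mem_basicOpen_of_isNilpotent {t : A} (ht : IsNilpotent t) (y : Proj 𝒜) :
    y ∉ Proj.basicOpen 𝒜 t := by
  rw [Proj.mem_basicOpen, not_not]
  obtain ⟨k, hk⟩ := ht
  have : t ^ k ∈ y.asHomogeneousIdeal.toIdeal := by rw [hk]; exact Ideal.zero_mem _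
  exact y.isPrime.mem_of_pow_mem k this

theorem exists_mem_basicOpen_of_not_isNilpotent {e : ℕ} (he : 0 < e) {t : A} (ht : t ∈ 𝒜 e)
    (hn : ¬ IsNilpotent t) : ∃ y : Proj 𝒜, y ∈ Proj.basicOpen 𝒜 t := by
  have hnt : Nontrivial (Away 𝒜 t) := by
    refine ⟨⟨0, 1, fun h01 => hn ?_⟩⟩
    have h1 := congrArg HomogeneousLocalization.val h01
    rw [HomogeneousLocalization.val_zero, HomogeneousLocalization.val_one] at h1
    have hss : Subsingleton (Localization.Away t) :=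
      subsingleton_of_zero_eq_one h1
    have := (IsLocalization.subsingleton_iff (M := Submonoid.powers t)
      (S := Localization.Away t)).mp hss
    obtain ⟨k, hk⟩ := this
    exact ⟨k, hk⟩
  obtain ⟨z⟩ : Nonempty (Spec (CommRingCat.of (Away 𝒜 t))) :=
    inferInstanceAs (Nonempty (PrimeSpectrum (Away 𝒜 t)))
  refine ⟨(Proj.awayι 𝒜 t ht he).base z, ?_⟩
  rw [← Proj.opensRange_awayι 𝒜 t ht he]
  exact ⟨z, rfl⟩

/-- Basic opens of homogeneous elements of positive degree form a basis of `Proj`. -/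
theorem exists_homogeneous_basicOpen_le (a : Proj 𝒜) (W : (Proj 𝒜).Opens) (ha : a ∈ W) :
    ∃ (e : ℕ) (_ : 0 < e) (s : A) (_ : s ∈ 𝒜 e), a ∈ Proj.basicOpen 𝒜 s ∧
      Proj.basicOpen 𝒜 s ≤ W := by
  obtain ⟨_, ⟨g, rfl⟩, hag, hgW⟩ := Opens.isBasis_iff_nbhd.mp (Proj.isBasis_basicOpen 𝒜) ha
  rw [Proj.basicOpen_eq_iSup_proj] at hag
  obtain ⟨i, hai⟩ := Opens.mem_iSup.mp hag
  have hcov := iSup_basicOpen_eq_top (ℬ := 𝒜)
  have ha' : a ∈ (⨆ s : (Σ i : ℕ+, 𝒜 i), Proj.basicOpen 𝒜 (s.2 : A)) := by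
    rw [hcov]; trivial
  obtain ⟨⟨d, f⟩, haf⟩ := Opens.mem_iSup.mp ha'
  refine ⟨i + d, Nat.add_pos_right _ d.pos, GradedRing.proj 𝒜 i g * f.1,
    SetLike.mul_mem_graded (SetLike.coe_mem _) f.2, ?_, ?_⟩
  · rw [Proj.basicOpen_mul]; exact ⟨hai, haf⟩
  · rw [Proj.basicOpen_mul]
    refine inf_le_left.trans (le_trans ?_ hgW)
    rw [Proj.basicOpen_eq_iSup_proj 𝒜 g]
    exact le_iSup (fun i => Proj.basicOpen 𝒜 (GradedRing.proj 𝒜 i g)) i

end RingLemma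

section Pre

variable {Y Y' P P' : Scheme.{u}} {g : Y' ⟶ Y} {𝒮 : RelProj.QCGrAlg Y} {𝒮' : RelProj.QCGrAlg Y'}
  {u : RelProj.QGrHom g 𝒮 𝒮'}
  {p : P ⟶ Y} {chart : ∀ (U : Y.Opens) (hU : IsAffineOpen U),
    (((p ⁻¹ᵁ U : P.Opens) : Scheme.{u}) ≅ Proj (𝒮.deg U hU))}
  {p' : P' ⟶ Y'} {chart' : ∀ (U : Y'.Opens) (hU : IsAffineOpen U),
    (((p' ⁻¹ᵁ U : P'.Opens) : Scheme.{u}) ≅ Proj (𝒮'.deg U hU))}

theorem resB_hle (i : QIdx g 𝒮) (a : Γ(Y, i.U)) :
    Y'.basicOpen ((g.appLE i.U i.U' i.hle).hom a) ≤ g ⁻¹ᵁ (Y.basicOpen a) := by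
  rw [Scheme.basicOpen_appLE g i.U' i.U i.hle a]; exact inf_le_right

/-- explicit refinement along a basic open of the target base -/
def QIdx.resB (i : QIdx g 𝒮) (a : Γ(Y, i.U)) : QIdx g 𝒮 :=
  ⟨Y.basicOpen a, i.hU.basicOpen a, Y'.basicOpen ((g.appLE i.U i.U' i.hle).hom a),
    i.hU'.basicOpen _, resB_hle i a, i.d, i.hd,
    𝒮.res i.hU (i.hU.basicOpen a) (Y.basicOpen_le a) i.f,
    (𝒮.res i.hU (i.hU.basicOpen a) (Y.basicOpen_le a)).map_mem i.hf⟩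

theorem QIdx.resB_ref (hP : RelProj.IsRelProj 𝒮 p chart) (hP' : RelProj.IsRelProj 𝒮' p' chart')
    (i : QIdx g 𝒮) (a : Γ(Y, i.U)) : Ref u p chart p' chart' (i.resB a) i := by
  set a' : Γ(Y', i.U') := (g.appLE i.U i.U' i.hle).hom a with ha'
  have hle_n : Y'.basicOpen a' ≤ g ⁻¹ᵁ (Y.basicOpen a) := resB_hle i a
  let r := 𝒮.res i.hU (i.hU.basicOpen a) (Y.basicOpen_le a)
  have c1 : (u.gradedAt (Y.basicOpen a) (i.hU.basicOpen a) (Y'.basicOpen a')
      (i.hU'.basicOpen a') hle_n).comp r =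
      (𝒮'.res i.hU' (i.hU'.basicOpen a') (Y'.basicOpen_le a')).comp (i.ψ u) := by
    apply GradedRingHom.ext
    intro x
    have h1 := u.toQHom.appLE_map i.hle (Y'.basicOpen_le a')
    have h2 := u.toQHom.map_appLE (Y.basicOpen_le a) hle_n
    have h3 := congrArg (fun k => k.hom x) h1
    have h4 := congrArg (fun k => k.hom x) h2
    exact h4.trans h3.symm
  have c2 : Proj.awayι (𝒮.deg (Y.basicOpen a) (i.hU.basicOpen a)) (r i.f) (r.map_mem i.hf) i.hd ≫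
      RelProj.emb p chart (Y.basicOpen a) (i.hU.basicOpen a) =
      Spec.map (CommRingCat.ofHom (Away.map r i.f)) ≫
        Proj.awayι (𝒮.deg i.U i.hU) i.f i.hf i.hd ≫ RelProj.emb p chart i.U i.hU := by
    rw [← RelProj.map_res_emb hP i.U i.hU a]
    exact Proj.awayι_comp_map_assoc r (𝒮.irrelevant_le_map i.U i.hU a) i.hd i.f i.hf _
  exact (genRef hP' i a' (Y.basicOpen a) (i.hU.basicOpen a) hle_n r c1 c2).1

/-- explicit refinement along a basic open of the source base -/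
def QIdx.resS (i : QIdx g 𝒮) (b : Γ(Y', i.U')) : QIdx g 𝒮 :=
  ⟨i.U, i.hU, Y'.basicOpen b, i.hU'.basicOpen b, (Y'.basicOpen_le b).trans i.hle, i.d, i.hd,
    (GradedRingHom.id (𝒮.deg i.U i.hU)) i.f, (GradedRingHom.id (𝒮.deg i.U i.hU)).map_mem i.hf⟩

theorem QIdx.resS_ref (hP' : RelProj.IsRelProj 𝒮' p' chart')
    (i : QIdx g 𝒮) (b : Γ(Y', i.U')) : Ref u p chart p' chart' (i.resS b) i := by
  have hle_n : Y'.basicOpen b ≤ g ⁻¹ᵁ i.U := (Y'.basicOpen_le b).trans i.hle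
  have c1 : (u.gradedAt i.U i.hU (Y'.basicOpen b) (i.hU'.basicOpen b) hle_n).comp
      (GradedRingHom.id (𝒮.deg i.U i.hU)) =
      (𝒮'.res i.hU' (i.hU'.basicOpen b) (Y'.basicOpen_le b)).comp (i.ψ u) := by
    apply GradedRingHom.ext
    intro x
    have h := u.toQHom.appLE_map i.hle (Y'.basicOpen_le b)
    exact (congrArg (fun k => k.hom x) h).symm
  have c2 : Proj.awayι (𝒮.deg i.U i.hU) ((GradedRingHom.id (𝒮.deg i.U i.hU)) i.f)
      ((GradedRingHom.id (𝒮.deg i.U i.hU)).map_mem i.hf) i.hd ≫ RelProj.emb p chart i.U i.hU =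
      Spec.map (CommRingCat.ofHom (Away.map (GradedRingHom.id (𝒮.deg i.U i.hU)) i.f)) ≫
        Proj.awayι (𝒮.deg i.U i.hU) i.f i.hf i.hd ≫ RelProj.emb p chart i.U i.hU := by
    have h := Proj.awayι_comp_map (GradedRingHom.id (𝒮.deg i.U i.hU)) (by simp) i.hd i.f i.hf
    rw [Proj.map_id, Category.comp_id] at h
    rw [← Category.assoc, ← h]
  exact (genRef hP' i b i.U i.hU hle_n (GradedRingHom.id _) c1 c2).1

/-- `y ∈ emb_U(D₊(f))` for the chart `j`. -/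
def QIdx.InD (p : P ⟶ Y) (chart : ∀ (U : Y.Opens) (hU : IsAffineOpen U),
    (((p ⁻¹ᵁ U : P.Opens) : Scheme.{u}) ≅ Proj (𝒮.deg U hU))) (j : QIdx g 𝒮) (y : P) : Prop :=
  ∃ y₀ : Proj (𝒮.deg j.U j.hU), y₀ ∈ Proj.basicOpen (𝒮.deg j.U j.hU) j.f ∧
    (RelProj.emb p chart j.U j.hU).base y₀ = y

theorem QIdx.InD.resB (hP : RelProj.IsRelProj 𝒮 p chart) {j : QIdx g 𝒮} {y : P}
    (h : j.InD p chart y) (a : Γ(Y, j.U)) (hy : p.base y ∈ Y.basicOpen a) :
    (j.resB a).InD p chart y := by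
  obtain ⟨y₀, hy₀, rfl⟩ := h
  have hy' : (RelProj.emb p chart j.U j.hU).base y₀ ∈
      (RelProj.emb p chart (Y.basicOpen a) (j.hU.basicOpen a)).opensRange := by
    rw [opensRange_emb]; exact hy
  obtain ⟨y₁, hy₁⟩ := hy'
  have h2 : (RelProj.emb p chart j.U j.hU).base
      ((Proj.map (𝒮.res j.hU (j.hU.basicOpen a) (Y.basicOpen_le a))
        (𝒮.irrelevant_le_map j.U j.hU a)).base y₁) =
      (RelProj.emb p chart (Y.basicOpen a) (j.hU.basicOpen a)).base y₁ := by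
    rw [← RelProj.map_res_emb hP j.U j.hU a]
    rfl
  have hinj := (RelProj.emb p chart j.U j.hU).isOpenEmbedding.injective (h2.trans hy₁)
  refine ⟨y₁, ?_, hy₁⟩
  have h1 : y₁ ∈ (Proj.map (𝒮.res j.hU (j.hU.basicOpen a) (Y.basicOpen_le a))
      (𝒮.irrelevant_le_map j.U j.hU a)) ⁻¹ᵁ Proj.basicOpen (𝒮.deg j.U j.hU) j.f := by
    change (Proj.map _ _).base y₁ ∈ Proj.basicOpen (𝒮.deg j.U j.hU) j.f
    rw [hinj]; exact hy₀
  rw [Proj.map_preimage_basicOpen] at h1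
  exact h1

theorem QIdx.InD.resS {j : QIdx g 𝒮} {y : P}
    (h : j.InD p chart y) (b : Γ(Y', j.U')) : (j.resS b).InD p chart y := h

theorem samePair_mem (i j : QIdx g 𝒮) (hU : i.U = j.U) (hU' : i.U' = j.U') (z : i.src u)
    (h : j.InD p chart ((i.v u p chart).base z)) :
    (i.k u p' chart').base z ∈ Set.range (j.k u p' chart').base := by
  obtain ⟨U, hUa, U', hUa', hle, d₁, hd₁, f₁, hf₁⟩ := i
  obtain ⟨V, hVa, V', hVa', hle₂, d₂, hd₂, f₂, hf₂⟩ := j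
  dsimp only at hU hU'
  subst hU hU'
  obtain ⟨y₀, hy₀, hy⟩ := h
  set ψ := u.gradedAt U hUa U' hUa' hle with hψ
  have hy' : (RelProj.emb p chart U hUa).base y₀ = (RelProj.emb p chart U hUa).base
      ((Proj.awayι (𝒮.deg U hUa) f₁ hf₁ hd₁).base
        ((Spec.map (CommRingCat.ofHom (Away.map ψ f₁))).base z)) := hy
  have hinj := (RelProj.emb p chart U hUa).isOpenEmbedding.injective hy'
  rw [hinj] at hy₀
  have h1 := awayι_mem_basicOpen_of_map ψ hd₁ hd₂ f₁ hf₁ f₂ hf₂ z hy₀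
  have hs₂ : ψ f₂ ∈ 𝒮'.deg U' hUa' d₂ := ψ.map_mem hf₂
  rw [← Proj.opensRange_awayι _ _ hs₂ hd₂] at h1
  obtain ⟨z', hz'⟩ := h1
  refine ⟨z', ?_⟩
  change (RelProj.emb p' chart' U' hUa').base
    ((Proj.awayι (𝒮'.deg U' hUa') (ψ f₂) hs₂ hd₂).base z') = _
  rw [hz']
  rfl

theorem Ref.range_subset {i₀ i : QIdx g 𝒮} (h : Ref u p chart p' chart' i₀ i) :
    Set.range (i₀.k u p' chart').base ⊆ Set.range (i.k u p' chart').base := by
  obtain ⟨ρ, hk, -⟩ := h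
  rintro _ ⟨z, rfl⟩
  refine ⟨ρ.base z, ?_⟩
  rw [← hk]
  rfl

/-- If `x = i.k z` also lies in the refinement `i₀`, then the `v`-value is unchanged. -/
theorem Ref.v_eq {i₀ i : QIdx g 𝒮} (h : Ref u p chart p' chart' i₀ i) (z : i.src u)
    (z₀ : i₀.src u) (hz : (i₀.k u p' chart').base z₀ = (i.k u p' chart').base z) :
    (i₀.v u p chart).base z₀ = (i.v u p chart).base z := by
  obtain ⟨ρ, hk, hv⟩ := h
  have h1 : (i.k u p' chart').base (ρ.base z₀) = (i.k u p' chart').base z := by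
    rw [← hz, ← hk]; rfl
  have h2 := (i.k u p' chart').isOpenEmbedding.injective h1
  rw [← hv, ← h2]
  rfl

theorem v_mem_preimage (i : QIdx g 𝒮) (z : i.src u) : p.base ((i.v u p chart).base z) ∈ i.U := by
  have : (i.v u p chart).base z ∈ (RelProj.emb p chart i.U i.hU).opensRange := ⟨_, rfl⟩
  rw [opensRange_emb] at this
  exact this

/-- **Preimage formula**: if `x = i.k z` lies over `j.U'` and `Proj(u)(x) ∈ emb_{j.U}(D₊(j.f))`,
then `x ∈ emb_{j.U'}(D₊(u j.f))`. -/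
theorem mem_range_k_of_inD (hP : RelProj.IsRelProj 𝒮 p chart) (hP' : RelProj.IsRelProj 𝒮' p' chart')
    (i j : QIdx g 𝒮) (z : i.src u)
    (hx' : p'.base ((i.k u p' chart').base z) ∈ j.U')
    (h : j.InD p chart ((i.v u p chart).base z)) :
    (i.k u p' chart').base z ∈ Set.range (j.k u p' chart').base := by
  set x := (i.k u p' chart').base z with hx
  set y := (i.v u p chart).base z with hy
  have hxi : x ∈ Set.range (i.k u p' chart').base := ⟨z, rfl⟩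
  have hyi : p'.base x ∈ i.U' := mem_of_mem_range_k i x hxi
  have hgi : g.base (p'.base x) ∈ i.U := i.hle hyi
  have hgj : g.base (p'.base x) ∈ j.U := j.hle hx'
  obtain ⟨a₁, a₂, ha, hgy⟩ := exists_basicOpen_le_affine_inter i.hU j.hU
    (g.base (p'.base x)) ⟨hgi, hgj⟩
  obtain ⟨i₁, hi₁U, hi₁U', hr₁, hx₁⟩ := refB (u := u) hP hP' i a₁
  obtain ⟨z₁, hz₁⟩ := hx₁ x hxi hgy
  have hy₁ : (i₁.v u p chart).base z₁ = y := hr₁.v_eq z z₁ hz₁
  have hpy : p.base y ∈ Y.basicOpen a₂ := by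
    rw [← ha, ← hi₁U, ← hy₁]
    exact v_mem_preimage i₁ z₁
  have hj₁ : (j.resB a₂).InD p chart y := h.resB hP a₂ hpy
  have hyi₁ : p'.base x ∈ i₁.U' := mem_of_mem_range_k i₁ x ⟨z₁, hz₁⟩
  have hyj₁ : p'.base x ∈ (j.resB a₂).U' := by
    change p'.base x ∈ Y'.basicOpen ((g.appLE j.U j.U' j.hle).hom a₂)
    rw [Scheme.basicOpen_appLE g j.U' j.U j.hle a₂]
    exact ⟨hx', ha ▸ hgy⟩
  obtain ⟨b₁, b₂, hb, hyb⟩ := exists_basicOpen_le_affine_inter i₁.hU' (j.resB a₂).hU'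
    (p'.base x) ⟨hyi₁, hyj₁⟩
  obtain ⟨i₂, hi₂U, hi₂U', hr₂, hx₂⟩ := refS (u := u) (p := p) (chart := chart) hP' i₁ b₁
  obtain ⟨z₂, hz₂⟩ := hx₂ x ⟨z₁, hz₁⟩ hyb
  have hy₂ : (i₂.v u p chart).base z₂ = y := (hr₂.v_eq z₁ z₂ (hz₂.trans hz₁.symm)).trans hy₁
  have hj₂ : ((j.resB a₂).resS b₂).InD p chart y := hj₁.resS b₂
  have hUU : i₂.U = ((j.resB a₂).resS b₂).U := by
    rw [hi₂U, hi₁U, ha]; rfl
  have hUU' : i₂.U' = ((j.resB a₂).resS b₂).U' := by
    rw [hi₂U', hb]; rfl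
  have hfin := samePair_mem (u := u) (p' := p') (chart' := chart') i₂ ((j.resB a₂).resS b₂)
    hUU hUU' z₂ (hy₂ ▸ hj₂)
  rw [hz₂] at hfin
  exact (QIdx.resB_ref hP hP' j a₂).range_subset
    ((QIdx.resS_ref (p := p) (chart := chart) hP' (j.resB a₂) b₂).range_subset hfin)

/-- `Proj(u)` lies over `g`. -/
theorem projQMapOn_comp_p (hP : RelProj.IsRelProj 𝒮 p chart) (hP' : RelProj.IsRelProj 𝒮' p' chart')
    (r : ((RelProj.domQ u p' chart' : P'.Opens) : Scheme.{u}) ⟶ P)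
    (hr : RelProj.IsProjQMapOn u p chart p' chart' (RelProj.domQ u p' chart') r) :
    r ≫ p = (RelProj.domQ u p' chart').ι ≫ p' ≫ g := by
  refine hom_ext_of_jointly_surjective (fun i : QIdx g 𝒮 => i.src u)
    (fun i => i.k' u p' chart') (fun i => inferInstance) exists_k'_of_mem _ _ ?_
  intro i
  have h1 : i.k' u p' chart' ≫ r = i.v u p chart :=
    hr i.U i.hU i.U' i.hU' i.hle i.d i.hd i.f i.hf _
  rw [← Category.assoc, h1, ← Category.assoc, QIdx.k'_ι]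
  have := awayEmb_comp u hP hP' i.U i.hU i.U' i.hU' i.hle i.hd i.f i.hf
  rw [this]
  simp only [Category.assoc]

theorem QIdx.inD_v (j : QIdx g 𝒮) (z : j.src u) : j.InD p chart ((j.v u p chart).base z) := by
  refine ⟨(Proj.awayι (𝒮.deg j.U j.hU) j.f j.hf j.hd).base
    ((Spec.map (CommRingCat.ofHom (Away.map (j.ψ u) j.f))).base z), ?_, rfl⟩
  rw [← Proj.opensRange_awayι _ _ j.hf j.hd]
  exact ⟨_, rfl⟩

/-- **Preimage formula** for `Proj(u)`: over `j.U'`, `r⁻¹(emb_{j.U}(D₊(j.f))) = emb_{j.U'}(D₊(u j.f))`. -/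
theorem map_inD_iff (hP : RelProj.IsRelProj 𝒮 p chart) (hP' : RelProj.IsRelProj 𝒮' p' chart')
    (r : ((RelProj.domQ u p' chart' : P'.Opens) : Scheme.{u}) ⟶ P)
    (hr : RelProj.IsProjQMapOn u p chart p' chart' (RelProj.domQ u p' chart') r)
    (j : QIdx g 𝒮) (x : ((RelProj.domQ u p' chart' : P'.Opens) : Scheme.{u}))
    (hx : p'.base x.1 ∈ j.U') :
    j.InD p chart (r.base x) ↔ x.1 ∈ Set.range (j.k u p' chart').base := by
  constructor
  · intro h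
    obtain ⟨i, z, hz⟩ := exists_k'_of_mem (u := u) (p' := p') (chart' := chart') x
    have hrx : r.base x = (i.v u p chart).base z := by
      have h2 : i.k' u p' chart' ≫ r = i.v u p chart :=
        hr i.U i.hU i.U' i.hU' i.hle i.d i.hd i.f i.hf _
      rw [← hz, ← h2]; rfl
    have hxk : x.1 = (i.k u p' chart').base z := by
      rw [← hz, ← QIdx.k'_ι (u := u) (p' := p') (chart' := chart') i]; rfl
    rw [hxk]
    exact mem_range_k_of_inD hP hP' i j z (hxk ▸ hx) (hrx ▸ h)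
  · rintro ⟨z, hz⟩
    have hx' : x = (j.k' u p' chart').base z := by
      apply (RelProj.domQ u p' chart').ι.isOpenEmbedding.injective
      have := congrArg (fun k => k.base z) (QIdx.k'_ι (u := u) (p' := p') (chart' := chart') j)
      exact hz.symm.trans this.symm
    have h2 : j.k' u p' chart' ≫ r = j.v u p chart :=
      hr j.U j.hU j.U' j.hU' j.hle j.d j.hd j.f j.hf _
    have hrx : r.base x = (j.v u p chart).base z := by
      rw [hx', ← h2]; rfl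
    rw [hrx]
    exact j.inD_v z

end Pre

end Groth.Agent.Helper18.ProjQ
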