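import Mathlib
import Groth.Prelude.Def_RelProj4
import Groth.Agent.Lib.Helper18.ProjQ

set_option autoImplicit false
universe u
open CategoryTheory CategoryTheory.Limits AlgebraicGeometry TopologicalSpace Opposite
open scoped HomogeneousIdeal
open HomogeneousLocalization

namespace Groth.Agent.Helper18.ProjQ

set_option backward.isDefEq.respectTransparency false in
theorem isZariskiLocalAtTarget_isAffineHom : IsZariskiLocalAtTarget @IsAffineHom.{u} :=
  inferInstance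

section KeyFact

variable {Y PB : Scheme.{u}} {𝒜 ℬ : RelProj.QCGrAlg Y}
  (φ : 𝒜.toQCAlg ⟶ ℬ.toQCAlg) (hφ : RelProj.IsGradedHom φ)
  {pB : PB ⟶ Y} {chartB : ∀ (U : Y.Opens) (hU : IsAffineOpen U),
    (((pB ⁻¹ᵁ U : PB.Opens) : Scheme.{u}) ≅ Proj (ℬ.deg U hU))}
  (hB : RelProj.IsRelProj ℬ pB chartB)

theorem gradedHomAt_res {U V : Y.Opens} (hU : IsAffineOpen U) (hV : IsAffineOpen V) (i : V ≤ U)
    (x : 𝒜.presheaf.obj (op U)) :
    RelProj.gradedHomAt φ hφ V hV (𝒜.res hU hV i x) =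
      ℬ.res hU hV i (RelProj.gradedHomAt φ hφ U hU x) := by
  have := φ.hom.naturality (homOfLE i).op
  exact (congrArg (fun f => f.hom x) this)

include hB in
/-- Passing to a basic open of the base inside `G(φ)`. -/
theorem down (U' : Y.Opens) (hU' : IsAffineOpen U') (a' : Γ(Y, U'))
    (y : Proj (ℬ.deg U' hU')) (hy : y ∈ RelCone.domOpen (RelProj.gradedHomAt φ hφ U' hU'))
    (hx : pB.base ((RelProj.emb pB chartB U' hU').base y) ∈ Y.basicOpen a') :
    ∃ w ∈ RelCone.domOpen (RelProj.gradedHomAt φ hφ (Y.basicOpen a') (hU'.basicOpen a')),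
      (RelProj.emb pB chartB (Y.basicOpen a') (hU'.basicOpen a')).base w =
        (RelProj.emb pB chartB U' hU').base y := by
  have hx' : (RelProj.emb pB chartB U' hU').base y ∈
      (RelProj.emb pB chartB (Y.basicOpen a') (hU'.basicOpen a')).opensRange := by
    rw [opensRange_emb]; exact hx
  obtain ⟨w, hw⟩ := hx'
  have hres := RelProj.map_res_emb hB U' hU' a'
  have hw' : (RelProj.emb pB chartB U' hU').base
      ((Proj.map (ℬ.res hU' (hU'.basicOpen a') (Y.basicOpen_le a'))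
        (ℬ.irrelevant_le_map U' hU' a')).base w) = (RelProj.emb pB chartB U' hU').base y := by
    rw [← hw, ← hres]
    rfl
  have hyw := (RelProj.emb pB chartB U' hU').isOpenEmbedding.injective hw'
  refine ⟨w, ?_, hw⟩
  obtain ⟨d, hd, f, hf, hyf⟩ := exists_homogeneous_of_mem_domOpen _ y hy
  rw [← hyw] at hyf
  have h1 : w ∈ (Proj.map (ℬ.res hU' (hU'.basicOpen a') (Y.basicOpen_le a'))
        (ℬ.irrelevant_le_map U' hU' a')) ⁻¹ᵁ
        Proj.basicOpen (ℬ.deg U' hU') (RelProj.gradedHomAt φ hφ U' hU' f) := hyf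
  rw [Proj.map_preimage_basicOpen, ← gradedHomAt_res] at h1
  exact mem_domOpen_of_mem_basicOpen _ w hd _
    ((𝒜.res hU' (hU'.basicOpen a') (Y.basicOpen_le a')).map_mem hf) h1

include hB in
/-- Passing from a basic open of the base to the ambient affine open inside `G(φ)`. -/
theorem up (U : Y.Opens) (hU : IsAffineOpen U) (a : Γ(Y, U))
    (w : Proj (ℬ.deg (Y.basicOpen a) (hU.basicOpen a)))
    (hw : w ∈ RelCone.domOpen (RelProj.gradedHomAt φ hφ (Y.basicOpen a) (hU.basicOpen a))) :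
    ∃ y ∈ RelCone.domOpen (RelProj.gradedHomAt φ hφ U hU),
      (RelProj.emb pB chartB U hU).base y =
        (RelProj.emb pB chartB (Y.basicOpen a) (hU.basicOpen a)).base w := by
  classical
  let resA := 𝒜.res hU (hU.basicOpen a) (Y.basicOpen_le a)
  let resB := ℬ.res hU (hU.basicOpen a) (Y.basicOpen_le a)
  refine ⟨(Proj.map resB (ℬ.irrelevant_le_map U hU a)).base w, ?_, ?_⟩
  swap
  · rw [← RelProj.map_res_emb hB U hU a]; rfl
  obtain ⟨d, hd, f'', hf'', hwf⟩ := exists_homogeneous_of_mem_domOpen _ w hw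
  let _inst := (𝒜.presheaf.map (homOfLE (Y.basicOpen_le a)).op).hom.toAlgebra
  let c := (𝒜.str.app (op U)).hom a
  have hloc : IsLocalization.Away c (𝒜.presheaf.obj (op (Y.basicOpen a))) := 𝒜.isQC U hU a
  obtain ⟨⟨f₁, s, hs⟩, hfs⟩ := IsLocalization.surj (Submonoid.powers c) f''
  obtain ⟨k, rfl⟩ := (Submonoid.mem_powers_iff _ _).mp hs
  change f'' * resA (c ^ k) = resA f₁ at hfs
  have hu : IsUnit (resA (c ^ k)) :=
    IsLocalization.map_units (M := Submonoid.powers c) (𝒜.presheaf.obj (op (Y.basicOpen a)))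
      ⟨c ^ k, k, rfl⟩
  have hc0 : resA (c ^ k) ∈ 𝒜.deg (Y.basicOpen a) (hU.basicOpen a) 0 := by
    rw [map_pow]
    exact SetLike.pow_mem_graded _ (resA.map_mem (𝒜.str_mem U hU a))
  have hbi : f'' * resA (c ^ k) ∈ 𝒜.deg (Y.basicOpen a) (hU.basicOpen a) d := by
    simpa only [add_zero] using
      SetLike.mul_mem_graded (A := 𝒜.deg (Y.basicOpen a) (hU.basicOpen a)) hf'' hc0
  let f₀ : 𝒜.presheaf.obj (op U) := (DirectSum.decompose (𝒜.deg U hU) f₁ d : 𝒜.presheaf.obj (op U))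
  have hf₀ : f₀ ∈ 𝒜.deg U hU d := SetLike.coe_mem _
  have hxi : resA f₀ = f'' * resA (c ^ k) := by
    change resA (DirectSum.decompose (𝒜.deg U hU) f₁ d : 𝒜.presheaf.obj (op U)) = _
    rw [GradedRingHom.map_directSumDecompose, ← hfs, DirectSum.decompose_of_mem_same _ hbi]
  refine mem_domOpen_of_mem_basicOpen _ _ hd f₀ hf₀ ?_
  change w ∈ (Proj.map resB (ℬ.irrelevant_le_map U hU a)) ⁻¹ᵁ
    Proj.basicOpen (ℬ.deg U hU) (RelProj.gradedHomAt φ hφ U hU f₀)
  rw [Proj.map_preimage_basicOpen]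
  have e1 : resB (RelProj.gradedHomAt φ hφ U hU f₀) =
      RelProj.gradedHomAt φ hφ (Y.basicOpen a) (hU.basicOpen a) f'' *
        RelProj.gradedHomAt φ hφ (Y.basicOpen a) (hU.basicOpen a) (resA (c ^ k)) := by
    rw [← gradedHomAt_res, hxi, map_mul]
  rw [e1, Proj.mem_basicOpen]
  rw [Proj.mem_basicOpen] at hwf
  intro hmem
  rcases w.isPrime.mem_or_mem hmem with h1 | h1
  · exact hwf h1
  · have hu' : IsUnit (RelProj.gradedHomAt φ hφ (Y.basicOpen a) (hU.basicOpen a) (resA (c ^ k))) :=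
      hu.map _
    exact w.isPrime.ne_top (Ideal.eq_top_of_isUnit_mem _ h1 hu')

omit hφ in
theorem res_mem_irrelevant {U V : Y.Opens} (hU : IsAffineOpen U) (hV : IsAffineOpen V) (i : V ≤ U)
    {f : 𝒜.presheaf.obj (op U)} (hf : f ∈ (HomogeneousIdeal.irrelevant (𝒜.deg U hU)).toIdeal) :
    𝒜.res hU hV i f ∈ (HomogeneousIdeal.irrelevant (𝒜.deg V hV)).toIdeal := by
  classical
  have h0 := (HomogeneousIdeal.mem_irrelevant_iff (𝒜.deg U hU) f).mp hf
  rw [GradedRing.proj_apply] at h0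
  change 𝒜.res hU hV i f ∈ HomogeneousIdeal.irrelevant (𝒜.deg V hV)
  rw [HomogeneousIdeal.mem_irrelevant_iff, GradedRing.proj_apply,
    ← GradedRingHom.map_directSumDecompose, h0, map_zero]

theorem transport {W W' : Y.Opens} (hW : IsAffineOpen W) (hW' : IsAffineOpen W') (e : W = W')
    (w : Proj (ℬ.deg W hW)) (hw : w ∈ RelCone.domOpen (RelProj.gradedHomAt φ hφ W hW)) :
    ∃ w' ∈ RelCone.domOpen (RelProj.gradedHomAt φ hφ W' hW'),
      (RelProj.emb pB chartB W' hW').base w' = (RelProj.emb pB chartB W hW).base w := by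
  subst e
  exact ⟨w, hw, rfl⟩

theorem domOpen_gradedAt_le {U₁ U' : Y.Opens} (hU₁ : IsAffineOpen U₁) (hU' : IsAffineOpen U')
    (hle : U' ≤ (𝟙 Y) ⁻¹ᵁ U₁) :
    RelCone.domOpen ((RelProj.QGrHom.ofHom φ hφ).gradedAt U₁ hU₁ U' hU' hle) ≤
      RelCone.domOpen (RelProj.gradedHomAt φ hφ U' hU') := by
  intro y hy
  obtain ⟨f, hf, hfy⟩ := (RelCone.mem_domOpen _ y).mp hy
  have i : U' ≤ U₁ := hle
  refine (RelCone.mem_domOpen _ y).mpr ⟨𝒜.res hU₁ hU' i f, res_mem_irrelevant hU₁ hU' i hf, ?_⟩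
  rw [gradedHomAt_res]
  exact hfy

include hB in
theorem domQ_inf_preimage (U : Y.Opens) (hU : IsAffineOpen U) :
    RelProj.domQ (RelProj.QGrHom.ofHom φ hφ) pB chartB ⊓ pB ⁻¹ᵁ U =
      (RelProj.emb pB chartB U hU) ''ᵁ RelCone.domOpen (RelProj.gradedHomAt φ hφ U hU) := by
  apply le_antisymm
  · rintro x ⟨hxQ, hxU⟩
    unfold RelProj.domQ at hxQ
    obtain ⟨⟨⟨⟨U₁, hU₁⟩, ⟨U', hU'⟩⟩, hle⟩, hx⟩ := Opens.mem_iSup.mp hxQ
    obtain ⟨y', hy', rfl⟩ := hx
    have hU₁' : IsAffineOpen U₁ := hU₁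
    have hU'' : IsAffineOpen U' := hU'
    have hy'' : y' ∈ RelCone.domOpen (RelProj.gradedHomAt φ hφ U' hU'') :=
      domOpen_gradedAt_le φ hφ hU₁' hU'' hle hy'
    have hxU' : pB.base ((RelProj.emb pB chartB U' hU'').base y') ∈ U' := by
      have : (RelProj.emb pB chartB U' hU'').base y' ∈
          (RelProj.emb pB chartB U' hU'').opensRange := ⟨_, rfl⟩
      rw [opensRange_emb] at this
      exact this
    obtain ⟨a, a', haa', hxa⟩ := exists_basicOpen_le_affine_inter hU hU''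
      (pB.base ((RelProj.emb pB chartB U' hU'').base y')) ⟨hxU, hxU'⟩
    obtain ⟨w, hw, hwx⟩ := down φ hφ hB U' hU'' a' y' hy'' (haa' ▸ hxa)
    obtain ⟨w', hw', hwx'⟩ := transport φ hφ (pB := pB) (chartB := chartB)
      (hU''.basicOpen a') (hU.basicOpen a) haa'.symm w hw
    obtain ⟨y, hy, hyx⟩ := up φ hφ hB U hU a w' hw'
    exact ⟨y, hy, hyx.trans (hwx'.trans hwx)⟩
  · rintro _ ⟨y, hy, rfl⟩
    refine ⟨?_, ?_⟩
    · unfold RelProj.domQ
      refine TopologicalSpace.Opens.mem_iSup.mpr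
        ⟨⟨(⟨U, hU⟩, ⟨U, hU⟩), le_id_preimage U⟩, y, ?_, rfl⟩
      dsimp only
      have : (RelProj.QGrHom.ofHom φ hφ).gradedAt U hU U hU (le_id_preimage U) =
          RelProj.gradedHomAt φ hφ U hU :=
        GradedRingHom.ext fun x => gradedAt_ofHom_same φ hφ U hU _ x
      rw [this]
      exact hy
    · have : (RelProj.emb pB chartB U hU).base y ∈ (RelProj.emb pB chartB U hU).opensRange :=
        ⟨_, rfl⟩
      rw [opensRange_emb] at this
      exact this

end KeyFact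

end Groth.Agent.Helper18.ProjQ
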