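import Mathlib
import Groth.Prelude.Def_RelProj4
import Groth.Agent.Lib.Helper18.ProjQComp
import Groth.Agent.Lib.Helper18.ProjQRes
import Groth.Agent.Lib.Helper18.ProjQPre

set_option autoImplicit false
universe u
open CategoryTheory CategoryTheory.Limits AlgebraicGeometry TopologicalSpace Opposite
open scoped HomogeneousIdeal
open HomogeneousLocalization

namespace Groth.Agent.Helper18.ProjQ

section Dom

variable {Y X P PL P' : Scheme.{u}} {q : X ⟶ Y}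
  {𝒮 : RelProj.QCGrAlg Y} {𝒮L : RelProj.QCGrAlg X} (u : RelProj.QGrHom q 𝒮 𝒮L)
  {p : P ⟶ Y} {chart : ∀ (U : Y.Opens) (hU : IsAffineOpen U),
    (((p ⁻¹ᵁ U : P.Opens) : Scheme.{u}) ≅ Proj (𝒮.deg U hU))}
  {pL : PL ⟶ X} {chartL : ∀ (U : X.Opens) (hU : IsAffineOpen U),
    (((pL ⁻¹ᵁ U : PL.Opens) : Scheme.{u}) ≅ Proj (𝒮L.deg U hU))}
  (r : ((RelProj.domQ u pL chartL : PL.Opens) : Scheme.{u}) ⟶ P)
  (hr : RelProj.IsProjQMapOn u p chart pL chartL (RelProj.domQ u pL chartL) r)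
  {𝒯 : RelProj.QCGrAlg Y} (v : 𝒯.toQCAlg ⟶ 𝒮.toQCAlg) (hv : RelProj.IsGradedHom v)
  (u' : RelProj.QGrHom q 𝒯 𝒮L) (hu' : ∀ U : Y.Opens, u'.app U = v.hom.app (op U) ≫ u.app U)

include hr hu' in
/-- `r⁻¹(G(v)) ⊆ G(u ∘ v)`. -/
theorem mem_domQ_comp (hP : RelProj.IsRelProj 𝒮 p chart) (hPL : RelProj.IsRelProj 𝒮L pL chartL)
    (x : ((RelProj.domQ u pL chartL : PL.Opens) : Scheme.{u}))
    (hx : r.base x ∈ RelProj.domQ (RelProj.QGrHom.ofHom v hv) p chart) :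
    x.1 ∈ RelProj.domQ u' pL chartL := by
  obtain ⟨i, z, hz⟩ := exists_k'_of_mem (u := u) (p' := pL) (chart' := chartL) x
  have hrx : r.base x = (i.v u p chart).base z := by
    have h2 : i.k' u pL chartL ≫ r = i.v u p chart :=
      hr i.U i.hU i.U' i.hU' i.hle i.d i.hd i.f i.hf _
    rw [← hz, ← h2]; rfl
  have hxk : x.1 = (i.k u pL chartL).base z := by
    rw [← hz, ← QIdx.k'_ι (u := u) (p' := pL) (chart' := chartL) i]; rfl
  have hmem : r.base x ∈ RelProj.domQ (RelProj.QGrHom.ofHom v hv) p chart ⊓ p ⁻¹ᵁ i.U :=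
    ⟨hx, hrx ▸ v_mem_preimage i z⟩
  rw [domQ_inf_preimage v hv hP i.U i.hU] at hmem
  obtain ⟨y₀, hy₀, hy₀'⟩ := hmem
  obtain ⟨e, he, t, ht, hyt⟩ :=
    exists_homogeneous_of_mem_domOpen (RelProj.gradedHomAt v hv i.U i.hU) y₀ hy₀
  let j : QIdx q 𝒮 := ⟨i.U, i.hU, i.U', i.hU', i.hle, e, he, RelProj.gradedHomAt v hv i.U i.hU t,
    (RelProj.gradedHomAt v hv i.U i.hU).map_mem ht⟩
  have hj : j.InD p chart ((i.v u p chart).base z) := ⟨y₀, hyt, hy₀'.trans hrx⟩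
  obtain ⟨z', hz'⟩ := mem_range_k_of_inD hP hPL i j z (mem_of_mem_range_k i _ ⟨z, rfl⟩) hj
  have hs : u.gradedAt i.U i.hU i.U' i.hU' i.hle (RelProj.gradedHomAt v hv i.U i.hU t) ∈
      𝒮L.deg i.U' i.hU' e :=
    (u.gradedAt i.U i.hU i.U' i.hU' i.hle).map_mem ((RelProj.gradedHomAt v hv i.U i.hU).map_mem ht)
  have hs' : u'.gradedAt i.U i.hU i.U' i.hU' i.hle t ∈ 𝒮L.deg i.U' i.hU' e :=
    (u'.gradedAt i.U i.hU i.U' i.hU' i.hle).map_mem ht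
  obtain ⟨w₀, hw₀⟩ : ∃ w₀, w₀ = (Proj.awayι (𝒮L.deg i.U' i.hU') _ hs he).base z' := ⟨_, rfl⟩
  have h1 : w₀ ∈
      Proj.basicOpen (𝒮L.deg i.U' i.hU')
        (u.gradedAt i.U i.hU i.U' i.hU' i.hle (RelProj.gradedHomAt v hv i.U i.hU t)) := by
    rw [hw₀, ← Proj.opensRange_awayι _ _ hs he]; exact ⟨z', rfl⟩
  rw [← gradedAt_comp u v hv u' hu' i.U i.hU i.U' i.hU' i.hle t,
    ← Proj.opensRange_awayι _ _ hs' he] at h1
  obtain ⟨z'', hz''⟩ := h1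
  have hfin : x.1 ∈ Set.range (RelProj.awayEmb u' pL chartL i.U i.hU i.U' i.hU' i.hle he t ht).base := by
    refine ⟨z'', ?_⟩
    change (RelProj.emb pL chartL i.U' i.hU').base
      ((Proj.awayι (𝒮L.deg i.U' i.hU') _ hs' he).base z'') = _
    rw [hz'', hw₀, hxk, ← hz']
    rfl
  have := RelProj.range_awayEmb_subset_domQ u' pL chartL i.U i.hU i.U' i.hU' i.hle he t ht hfin
  rw [Scheme.Opens.range_ι] at this
  exact this

end Dom

section OnTNInj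

variable {Y PA PB : Scheme.{u}} {𝒜 ℬ : RelProj.QCGrAlg Y}
  (φ : 𝒜.toQCAlg ⟶ ℬ.toQCAlg) (hφ : RelProj.IsGradedHom φ)
  {pA : PA ⟶ Y} {chartA : ∀ (U : Y.Opens) (hU : IsAffineOpen U),
    (((pA ⁻¹ᵁ U : PA.Opens) : Scheme.{u}) ≅ Proj (𝒜.deg U hU))}
  {pB : PB ⟶ Y} {chartB : ∀ (U : Y.Opens) (hU : IsAffineOpen U),
    (((pB ⁻¹ᵁ U : PB.Opens) : Scheme.{u}) ≅ Proj (ℬ.deg U hU))}
  (hTN : ∃ n : ℕ, ∀ k, n ≤ k → ∀ (U : Y.Opens) (hU : IsAffineOpen U), ∀ x ∈ 𝒜.deg U hU k,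
      (φ.hom.app (op U)).hom x = 0 → x = 0)
  (w : ((RelProj.domQ (RelProj.QGrHom.ofHom φ hφ) pB chartB : PB.Opens) : Scheme.{u}) ⟶ PA)
  (hw : RelProj.IsProjQMapOn (RelProj.QGrHom.ofHom φ hφ) pA chartA pB chartB
    (RelProj.domQ (RelProj.QGrHom.ofHom φ hφ) pB chartB) w)

include hTN in
theorem tnInj_gradedAt (U : Y.Opens) (hU : IsAffineOpen U) :
    TNInj ((RelProj.QGrHom.ofHom φ hφ).gradedAt U hU U hU (le_id_preimage U)) := by
  obtain ⟨n, hn⟩ := hTN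
  refine ⟨n, fun k hk x hx h0 => ?_⟩
  rw [gradedAt_ofHom_same] at h0
  exact hn k hk U hU x hx h0

include hTN hw in
/-- `Proj(φ)` is dominant when `φ` is (TN)-injective. -/
theorem denseRange_on_of_tnInj : DenseRange w.base := by
  rw [denseRange_iff_closure_range]
  apply Set.eq_univ_of_forall
  intro a
  rw [mem_closure_iff]
  intro V hV haV
  -- chart around `a`
  obtain ⟨U, hU0, haU, -⟩ := Opens.isBasis_iff_nbhd.mp (Y.isBasis_affineOpens)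
    (show pA.base a ∈ (⊤ : Y.Opens) from trivial)
  have hU : IsAffineOpen U := hU0
  have ha' : a ∈ (RelProj.emb pA chartA U hU).opensRange := by
    rw [opensRange_emb]; exact haU
  obtain ⟨a₀, ha₀⟩ := ha'
  have hcov := iSup_basicOpen_eq_top (ℬ := 𝒜.deg U hU)
  have ha₀' : a₀ ∈ (⨆ s : (Σ i : ℕ+, 𝒜.deg U hU i), Proj.basicOpen (𝒜.deg U hU) (s.2 : _)) := by
    rw [hcov]; trivial
  obtain ⟨⟨e, t⟩, hat⟩ := Opens.mem_iSup.mp ha₀'
  rw [← Proj.opensRange_awayι _ _ t.2 e.pos] at hat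
  obtain ⟨a₁, ha₁⟩ := hat
  let jv : QIdx (𝟙 Y) 𝒜 := ⟨U, hU, U, hU, le_id_preimage U, e, e.pos, t.1, t.2⟩
  have hv : jv.k' (RelProj.QGrHom.ofHom φ hφ) pB chartB ≫ w =
      jv.v (RelProj.QGrHom.ofHom φ hφ) pA chartA :=
    hw jv.U jv.hU jv.U' jv.hU' jv.hle jv.d jv.hd jv.f jv.hf _
  set ψ := (RelProj.QGrHom.ofHom φ hφ).gradedAt U hU U hU (le_id_preimage U) with hψ
  have hinj : Function.Injective (Away.map ψ t.1) :=
    awayMap_injective_of_TN ψ (tnInj_gradedAt φ hφ hTN U hU) e.pos t.1 t.2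
  have hdense : DenseRange (Spec.map (CommRingCat.ofHom (Away.map ψ t.1))).base := by
    change DenseRange (PrimeSpectrum.comap (Away.map ψ t.1))
    rw [PrimeSpectrum.denseRange_comap_iff_ker_le_nilRadical,
      (RingHom.injective_iff_ker_eq_bot _).mp hinj]
    exact bot_le
  let c := Proj.awayι (𝒜.deg U hU) t.1 t.2 e.pos ≫ RelProj.emb pA chartA U hU
  have hV' : IsOpen (c.base ⁻¹' V) := hV.preimage c.continuous
  have ha₁V : a₁ ∈ c.base ⁻¹' V := by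
    change (RelProj.emb pA chartA U hU).base ((Proj.awayι _ _ t.2 e.pos).base a₁) ∈ V
    rw [ha₁, ha₀]; exact haV
  obtain ⟨b, hb⟩ := hdense.exists_mem_open hV' ⟨a₁, ha₁V⟩
  refine ⟨_, hb, (jv.k' (RelProj.QGrHom.ofHom φ hφ) pB chartB).base b, ?_⟩
  have := congrArg (fun k => k.base b) hv
  exact this

end OnTNInj

end Groth.Agent.Helper18.ProjQ
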