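import Mathlib
import Groth.Prelude.Def_RelProj4
import Groth.Agent.Lib.Helper18.ProjQComp
import Groth.Agent.Lib.Helper18.ProjQDom

set_option autoImplicit false
universe u
open CategoryTheory CategoryTheory.Limits AlgebraicGeometry TopologicalSpace Opposite
open scoped HomogeneousIdeal
open HomogeneousLocalization

/-!
# `Proj(u ∘ v) = Proj(v) ∘ Proj(u)`: versions with the composite only identified on affine pairs
-/

namespace Groth.Agent.Helper18.ProjQ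

section CompA2

variable {Y X P PL P' : Scheme.{u}} {q : X ⟶ Y}
  {𝒮 : RelProj.QCGrAlg Y} {𝒮L : RelProj.QCGrAlg X} (u : RelProj.QGrHom q 𝒮 𝒮L)
  {p : P ⟶ Y} {chart : ∀ (U : Y.Opens) (hU : IsAffineOpen U),
    (((p ⁻¹ᵁ U : P.Opens) : Scheme.{u}) ≅ Proj (𝒮.deg U hU))}
  {pL : PL ⟶ X} {chartL : ∀ (U : X.Opens) (hU : IsAffineOpen U),
    (((pL ⁻¹ᵁ U : PL.Opens) : Scheme.{u}) ≅ Proj (𝒮L.deg U hU))}
  (r : ((RelProj.domQ u pL chartL : PL.Opens) : Scheme.{u}) ⟶ P)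
  (hr : RelProj.IsProjQMapOn u p chart pL chartL (RelProj.domQ u pL chartL) r)
  {𝒯 : RelProj.QCGrAlg Y} (v : 𝒯.toQCAlg ⟶ 𝒮.toQCAlg) (hv : RelProj.IsGradedHom v)
  (u' : RelProj.QGrHom q 𝒯 𝒮L) (hu' : ∀ (U : Y.Opens) (hU : IsAffineOpen U) (U' : X.Opens) (hU' : IsAffineOpen U')
    (hle : U' ≤ q ⁻¹ᵁ U) (x : 𝒯.presheaf.obj (op U)),
    u'.gradedAt U hU U' hU' hle x =
      u.gradedAt U hU U' hU' hle (RelProj.gradedHomAt v hv U hU x))
  {p' : P' ⟶ Y} {chart' : ∀ (U : Y.Opens) (hU : IsAffineOpen U),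
    (((p' ⁻¹ᵁ U : P'.Opens) : Scheme.{u}) ≅ Proj (𝒯.deg U hU))}
  (w : ((RelProj.domQ (RelProj.QGrHom.ofHom v hv) p chart : P.Opens) : Scheme.{u}) ⟶ P')
  (hw : RelProj.IsProjQMapOn (RelProj.QGrHom.ofHom v hv) p' chart' p chart
    (RelProj.domQ (RelProj.QGrHom.ofHom v hv) p chart) w)

include hu' in
theorem gradedAt_comp2 (U : Y.Opens) (hU : IsAffineOpen U) (U' : X.Opens) (hU' : IsAffineOpen U')
    (hle : U' ≤ q ⁻¹ᵁ U) (x : 𝒯.presheaf.obj (op U)) :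
    u'.gradedAt U hU U' hU' hle x =
      u.gradedAt U hU U' hU' hle (RelProj.gradedHomAt v hv U hU x) :=
  hu' U hU U' hU' hle x

include hu' in
/-- The chart of `u'` at `f` is, up to a cast, the chart of `u` at `v f`. -/
theorem k_comp2 (i : QIdx q 𝒯) :
    i.k u' pL chartL =
      Spec.map (CommRingCat.ofHom (castHom (𝒮L.deg i.U' i.hU') _ _
        (gradedAt_comp2 u v hv u' hu' i.U i.hU i.U' i.hU' i.hle i.f))) ≫
      (⟨i.U, i.hU, i.U', i.hU', i.hle, i.d, i.hd, RelProj.gradedHomAt v hv i.U i.hU i.f,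
        (RelProj.gradedHomAt v hv i.U i.hU).map_mem i.hf⟩ : QIdx q 𝒮).k u pL chartL := by
  change Proj.awayι _ _ _ _ ≫ RelProj.emb pL chartL i.U' i.hU' =
    Spec.map _ ≫ Proj.awayι _ _ _ _ ≫ RelProj.emb pL chartL i.U' i.hU'
  rw [← Category.assoc]
  congr 1
  exact (awayι_cast (𝒮L.deg i.U' i.hU') i.hd _ _ _ _ _).symm

include hv hu' in
theorem domQ_le2 : RelProj.domQ u' pL chartL ≤ RelProj.domQ u pL chartL := by
  intro x hx
  obtain ⟨i, z, hz⟩ := exists_k_of_mem_domQ (u := u') (p' := pL) (chart' := chartL) x hx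
  have hk := k_comp2 u v hv u' hu' (pL := pL) (chartL := chartL) i
  have hx' : x ∈ Set.range ((⟨i.U, i.hU, i.U', i.hU', i.hle, i.d, i.hd,
      RelProj.gradedHomAt v hv i.U i.hU i.f,
      (RelProj.gradedHomAt v hv i.U i.hU).map_mem i.hf⟩ : QIdx q 𝒮).k u pL chartL).base := by
    refine ⟨(Spec.map (CommRingCat.ofHom (castHom (𝒮L.deg i.U' i.hU') _ _
      (gradedAt_comp2 u v hv u' hu' i.U i.hU i.U' i.hU' i.hle i.f)))).base z, ?_⟩
    rw [← hz, hk]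
    rfl
  have := RelProj.range_awayEmb_subset_domQ u pL chartL i.U i.hU i.U' i.hU' i.hle i.hd
    (RelProj.gradedHomAt v hv i.U i.hU i.f) ((RelProj.gradedHomAt v hv i.U i.hU).map_mem i.hf) hx'
  rw [Scheme.Opens.range_ι] at this
  exact this

include hr hw hu' in
/-- On a standard chart of `u' = u ∘ v`, the morphism `r = Proj(u)` lands in `G(v)` and followed by
`w = Proj(v)` it is the local expression of `Proj(u')`. -/
theorem comp_chart2 (i : QIdx q 𝒯) :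
    ∃ ρ : i.src u' ⟶ ((RelProj.domQ (RelProj.QGrHom.ofHom v hv) p chart : P.Opens) : Scheme.{u}),
      i.k' u' pL chartL ≫ PL.homOfLE (domQ_le2 u v hv u' hu') ≫ r =
        ρ ≫ (RelProj.domQ (RelProj.QGrHom.ofHom v hv) p chart).ι ∧
      ρ ≫ w = i.v u' p' chart' := by
  set vU := RelProj.gradedHomAt v hv i.U i.hU with hvU
  let j : QIdx q 𝒮 := ⟨i.U, i.hU, i.U', i.hU', i.hle, i.d, i.hd, vU i.f, vU.map_mem i.hf⟩
  let jv : QIdx (𝟙 Y) 𝒯 := ⟨i.U, i.hU, i.U, i.hU, le_id_preimage i.U, i.d, i.hd, i.f, i.hf⟩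
  have e₁ : i.ψ u' i.f = j.ψ u (vU i.f) :=
    gradedAt_comp2 u v hv u' hu' i.U i.hU i.U' i.hU' i.hle i.f
  have e₂ : vU i.f = jv.ψ (RelProj.QGrHom.ofHom v hv) i.f :=
    (gradedAt_ofHom_same v hv i.U i.hU _ i.f).symm
  let c₁ := castHom (𝒮L.deg i.U' i.hU') _ _ e₁
  let c₂ := castHom (𝒮.deg i.U i.hU) _ _ e₂
  let ρ : i.src u' ⟶ ((RelProj.domQ (RelProj.QGrHom.ofHom v hv) p chart : P.Opens) : Scheme.{u}) :=
    Spec.map (CommRingCat.ofHom c₁) ≫ Spec.map (CommRingCat.ofHom (Away.map (j.ψ u) (vU i.f))) ≫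
      Spec.map (CommRingCat.ofHom c₂) ≫ jv.k' (RelProj.QGrHom.ofHom v hv) p chart
  refine ⟨ρ, ?_, ?_⟩
  · have h1 : i.k' u' pL chartL ≫ PL.homOfLE (domQ_le2 u v hv u' hu') =
        Spec.map (CommRingCat.ofHom c₁) ≫ j.k' u pL chartL := by
      rw [← cancel_mono (RelProj.domQ u pL chartL).ι, Category.assoc, Scheme.homOfLE_ι,
        QIdx.k'_ι, Category.assoc, QIdx.k'_ι]
      exact k_comp2 u v hv u' hu' i
    have h2 : j.k' u pL chartL ≫ r = j.v u p chart :=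
      hr j.U j.hU j.U' j.hU' j.hle j.d j.hd j.f j.hf _
    have h3 : Proj.awayι (𝒮.deg i.U i.hU) (vU i.f) (vU.map_mem i.hf) i.hd ≫
        RelProj.emb p chart i.U i.hU =
        Spec.map (CommRingCat.ofHom c₂) ≫ jv.k (RelProj.QGrHom.ofHom v hv) p chart := by
      change _ = Spec.map _ ≫ Proj.awayι _ _ _ _ ≫ RelProj.emb p chart i.U i.hU
      rw [← Category.assoc]
      congr 1
      exact (awayι_cast (𝒮.deg i.U i.hU) i.hd _ _ e₂ _ _).symm
    rw [← Category.assoc, h1, Category.assoc, h2]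
    change Spec.map _ ≫ Spec.map _ ≫ Proj.awayι _ _ _ _ ≫ RelProj.emb p chart i.U i.hU = _
    rw [h3]
    simp only [ρ, Category.assoc, QIdx.k'_ι]
  · have h4 : jv.k' (RelProj.QGrHom.ofHom v hv) p chart ≫ w =
        jv.v (RelProj.QGrHom.ofHom v hv) p' chart' :=
      hw jv.U jv.hU jv.U' jv.hU' jv.hle jv.d jv.hd jv.f jv.hf _
    have hring : CommRingCat.ofHom (Away.map (jv.ψ (RelProj.QGrHom.ofHom v hv)) i.f) ≫
        CommRingCat.ofHom c₂ ≫ CommRingCat.ofHom (Away.map (j.ψ u) (vU i.f)) ≫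
        CommRingCat.ofHom c₁ = CommRingCat.ofHom (Away.map (i.ψ u') i.f) := by
      rw [← CommRingCat.ofHom_comp, ← CommRingCat.ofHom_comp, ← CommRingCat.ofHom_comp]
      congr 1
      simp only [c₁, c₂, castHom, Away.map, ← HomogeneousLocalization.map_comp]
      apply map_congr'
      apply GradedRingHom.ext
      intro x
      change j.ψ u (jv.ψ (RelProj.QGrHom.ofHom v hv) x) = i.ψ u' x
      rw [gradedAt_ofHom_same v hv i.U i.hU _ x]
      exact (gradedAt_comp2 u v hv u' hu' i.U i.hU i.U' i.hU' i.hle x).symm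
    simp only [ρ, Category.assoc]
    rw [h4]
    change Spec.map _ ≫ Spec.map _ ≫ Spec.map _ ≫ Spec.map _ ≫ _ ≫ _ = Spec.map _ ≫ _ ≫ _
    simp only [← Spec.map_comp_assoc]
    rw [Category.assoc, Category.assoc, hring]

include hr hw hu' in
/-- `Proj(u ∘ v) = Proj(v) ∘ Proj(u)` on `G(u ∘ v)`. -/
theorem exists_factor2
    (r' : ((RelProj.domQ u' pL chartL : PL.Opens) : Scheme.{u}) ⟶ P')
    (hr' : RelProj.IsProjQMapOn u' p' chart' pL chartL (RelProj.domQ u' pL chartL) r') :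
    ∃ r₀ : ((RelProj.domQ u' pL chartL : PL.Opens) : Scheme.{u}) ⟶
        ((RelProj.domQ (RelProj.QGrHom.ofHom v hv) p chart : P.Opens) : Scheme.{u}),
      PL.homOfLE (domQ_le2 u v hv u' hu') ≫ r =
        r₀ ≫ (RelProj.domQ (RelProj.QGrHom.ofHom v hv) p chart).ι ∧ r₀ ≫ w = r' := by
  have hrange : Set.range (PL.homOfLE (domQ_le2 u v hv u' hu' (pL := pL) (chartL := chartL)) ≫ r).base ⊆
      Set.range (RelProj.domQ (RelProj.QGrHom.ofHom v hv) p chart).ι.base := by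
    rintro _ ⟨x, rfl⟩
    obtain ⟨i, z, hz⟩ := exists_k'_of_mem (u := u') (p' := pL) (chart' := chartL) x
    obtain ⟨ρ, hρ1, -⟩ := comp_chart2 u r hr v hv u' hu' (p' := p') (chart' := chart') w hw i
    refine ⟨ρ.base z, ?_⟩
    have := congrArg (fun k => k.base z) hρ1
    simp only [Scheme.Hom.comp_base, TopCat.comp_app] at this
    rw [← hz]
    exact this.symm
  let r₀ := IsOpenImmersion.lift (RelProj.domQ (RelProj.QGrHom.ofHom v hv) p chart).ι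
    (PL.homOfLE (domQ_le2 u v hv u' hu') ≫ r) hrange
  have hr₀ : r₀ ≫ (RelProj.domQ (RelProj.QGrHom.ofHom v hv) p chart).ι =
      PL.homOfLE (domQ_le2 u v hv u' hu') ≫ r := IsOpenImmersion.lift_fac _ _ _
  refine ⟨r₀, hr₀.symm, ?_⟩
  refine hom_ext_of_jointly_surjective (fun i : QIdx q 𝒯 => i.src u')
    (fun i => i.k' u' pL chartL) (fun i => inferInstance) exists_k'_of_mem _ _ ?_
  intro i
  obtain ⟨ρ, hρ1, hρ2⟩ := comp_chart2 u r hr v hv u' hu' (p' := p') (chart' := chart') w hw i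
  have h1 : i.k' u' pL chartL ≫ r₀ = ρ := by
    rw [← cancel_mono (RelProj.domQ (RelProj.QGrHom.ofHom v hv) p chart).ι, Category.assoc, hr₀]
    exact hρ1
  rw [← Category.assoc, h1, hρ2]
  exact (hr' i.U i.hU i.U' i.hU' i.hle i.d i.hd i.f i.hf _).symm


include hr hu' in
/-- `r⁻¹(G(v)) ⊆ G(u ∘ v)`. -/
theorem mem_domQ_comp2 (hP : RelProj.IsRelProj 𝒮 p chart) (hPL : RelProj.IsRelProj 𝒮L pL chartL)
    (x : ((RelProj.domQ u pL chartL : PL.Opens) : Scheme.{u}))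
    (hx : r.base x ∈ RelProj.domQ (RelProj.QGrHom.ofHom v hv) p chart) :
    x.1 ∈ RelProj.domQ u' pL chartL := by
  obtain ⟨i, z, hz⟩ := exists_k'_of_mem (u := u) (p' := pL) (chart' := chartL) x
  have hrx : r.base x = (i.v u p chart).base z := by
    have h2 : i.k' u pL chartL ≫ r = i.v u p chart :=
      hr i.U i.hU i.U' i.hU' i.hle i.d i.hd i.f i.hf _
    rw [← hz, ← h2]; rfl
  have hxk : x.1 = (i.k u pL chartL).base z := by
    rw [← hz, ← QIdx.k'_ι (u := u) (p' := pL) (chart' := chartL) i]; rfl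
  have hmem : r.base x ∈ RelProj.domQ (RelProj.QGrHom.ofHom v hv) p chart ⊓ p ⁻¹ᵁ i.U :=
    ⟨hx, hrx ▸ v_mem_preimage i z⟩
  rw [domQ_inf_preimage v hv hP i.U i.hU] at hmem
  obtain ⟨y₀, hy₀, hy₀'⟩ := hmem
  obtain ⟨e, he, t, ht, hyt⟩ :=
    exists_homogeneous_of_mem_domOpen (RelProj.gradedHomAt v hv i.U i.hU) y₀ hy₀
  let j : QIdx q 𝒮 := ⟨i.U, i.hU, i.U', i.hU', i.hle, e, he, RelProj.gradedHomAt v hv i.U i.hU t,
    (RelProj.gradedHomAt v hv i.U i.hU).map_mem ht⟩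
  have hj : j.InD p chart ((i.v u p chart).base z) := ⟨y₀, hyt, hy₀'.trans hrx⟩
  obtain ⟨z', hz'⟩ := mem_range_k_of_inD hP hPL i j z (mem_of_mem_range_k i _ ⟨z, rfl⟩) hj
  have hs : u.gradedAt i.U i.hU i.U' i.hU' i.hle (RelProj.gradedHomAt v hv i.U i.hU t) ∈
      𝒮L.deg i.U' i.hU' e :=
    (u.gradedAt i.U i.hU i.U' i.hU' i.hle).map_mem ((RelProj.gradedHomAt v hv i.U i.hU).map_mem ht)
  have hs' : u'.gradedAt i.U i.hU i.U' i.hU' i.hle t ∈ 𝒮L.deg i.U' i.hU' e :=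
    (u'.gradedAt i.U i.hU i.U' i.hU' i.hle).map_mem ht
  obtain ⟨w₀, hw₀⟩ : ∃ w₀, w₀ = (Proj.awayι (𝒮L.deg i.U' i.hU') _ hs he).base z' := ⟨_, rfl⟩
  have h1 : w₀ ∈
      Proj.basicOpen (𝒮L.deg i.U' i.hU')
        (u.gradedAt i.U i.hU i.U' i.hU' i.hle (RelProj.gradedHomAt v hv i.U i.hU t)) := by
    rw [hw₀, ← Proj.opensRange_awayι _ _ hs he]; exact ⟨z', rfl⟩
  rw [← gradedAt_comp2 u v hv u' hu' i.U i.hU i.U' i.hU' i.hle t,
    ← Proj.opensRange_awayι _ _ hs' he] at h1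
  obtain ⟨z'', hz''⟩ := h1
  have hfin : x.1 ∈ Set.range (RelProj.awayEmb u' pL chartL i.U i.hU i.U' i.hU' i.hle he t ht).base := by
    refine ⟨z'', ?_⟩
    change (RelProj.emb pL chartL i.U' i.hU').base
      ((Proj.awayι (𝒮L.deg i.U' i.hU') _ hs' he).base z'') = _
    rw [hz'', hw₀, hxk, ← hz']
    rfl
  have := RelProj.range_awayEmb_subset_domQ u' pL chartL i.U i.hU i.U' i.hU' i.hle he t ht hfin
  rw [Scheme.Opens.range_ι] at this
  exact this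


include hr hu' in
/-- first half of `comp_chart2`, which does not need `Proj(v)` to be given -/
theorem comp_chart2_fst (i : QIdx q 𝒯) :
    ∃ ρ : i.src u' ⟶ ((RelProj.domQ (RelProj.QGrHom.ofHom v hv) p chart : P.Opens) : Scheme.{u}),
      i.k' u' pL chartL ≫ PL.homOfLE (domQ_le2 u v hv u' hu') ≫ r =
        ρ ≫ (RelProj.domQ (RelProj.QGrHom.ofHom v hv) p chart).ι := by
  set vU := RelProj.gradedHomAt v hv i.U i.hU with hvU
  let j : QIdx q 𝒮 := ⟨i.U, i.hU, i.U', i.hU', i.hle, i.d, i.hd, vU i.f, vU.map_mem i.hf⟩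
  let jv : QIdx (𝟙 Y) 𝒯 := ⟨i.U, i.hU, i.U, i.hU, le_id_preimage i.U, i.d, i.hd, i.f, i.hf⟩
  have e₁ : i.ψ u' i.f = j.ψ u (vU i.f) :=
    gradedAt_comp2 u v hv u' hu' i.U i.hU i.U' i.hU' i.hle i.f
  have e₂ : vU i.f = jv.ψ (RelProj.QGrHom.ofHom v hv) i.f :=
    (gradedAt_ofHom_same v hv i.U i.hU _ i.f).symm
  let c₁ := castHom (𝒮L.deg i.U' i.hU') _ _ e₁
  let c₂ := castHom (𝒮.deg i.U i.hU) _ _ e₂
  let ρ : i.src u' ⟶ ((RelProj.domQ (RelProj.QGrHom.ofHom v hv) p chart : P.Opens) : Scheme.{u}) :=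
    Spec.map (CommRingCat.ofHom c₁) ≫ Spec.map (CommRingCat.ofHom (Away.map (j.ψ u) (vU i.f))) ≫
      Spec.map (CommRingCat.ofHom c₂) ≫ jv.k' (RelProj.QGrHom.ofHom v hv) p chart
  refine ⟨ρ, ?_⟩
  have h1 : i.k' u' pL chartL ≫ PL.homOfLE (domQ_le2 u v hv u' hu') =
      Spec.map (CommRingCat.ofHom c₁) ≫ j.k' u pL chartL := by
    rw [← cancel_mono (RelProj.domQ u pL chartL).ι, Category.assoc, Scheme.homOfLE_ι,
      QIdx.k'_ι, Category.assoc, QIdx.k'_ι]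
    exact k_comp2 u v hv u' hu' i
  have h2 : j.k' u pL chartL ≫ r = j.v u p chart :=
    hr j.U j.hU j.U' j.hU' j.hle j.d j.hd j.f j.hf _
  have h3 : Proj.awayι (𝒮.deg i.U i.hU) (vU i.f) (vU.map_mem i.hf) i.hd ≫
      RelProj.emb p chart i.U i.hU =
      Spec.map (CommRingCat.ofHom c₂) ≫ jv.k (RelProj.QGrHom.ofHom v hv) p chart := by
    change _ = Spec.map _ ≫ Proj.awayι _ _ _ _ ≫ RelProj.emb p chart i.U i.hU
    rw [← Category.assoc]
    congr 1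
    exact (awayι_cast (𝒮.deg i.U i.hU) i.hd _ _ e₂ _ _).symm
  rw [← Category.assoc, h1, Category.assoc, h2]
  change Spec.map _ ≫ Spec.map _ ≫ Proj.awayι _ _ _ _ ≫ RelProj.emb p chart i.U i.hU = _
  rw [h3]
  simp only [ρ, Category.assoc, QIdx.k'_ι]

include hr hu' in
/-- on `G(u ∘ v)`, `Proj(u)` lands in `G(v)` -/
theorem map_mem_domQ2 (x : ((RelProj.domQ u' pL chartL : PL.Opens) : Scheme.{u})) :
    r.base ((PL.homOfLE (domQ_le2 u v hv u' hu')).base x) ∈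
      RelProj.domQ (RelProj.QGrHom.ofHom v hv) p chart := by
  obtain ⟨i, z, hz⟩ := exists_k'_of_mem (u := u') (p' := pL) (chart' := chartL) x
  obtain ⟨ρ, hρ1⟩ := comp_chart2_fst u r hr v hv u' hu' i
  have := congrArg (fun k => k.base z) hρ1
  simp only [Scheme.Hom.comp_base, TopCat.comp_app] at this
  rw [← hz, this]
  exact (ρ.base z).2

end CompA2

end Groth.Agent.Helper18.ProjQ
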