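import Mathlib
import Groth.Prelude.Def_RelProj4
import Groth.Agent.Lib.Helper18.ProjQComp
import Groth.Agent.Lib.Helper18.ProjQPre

set_option autoImplicit false
universe u
open CategoryTheory CategoryTheory.Limits AlgebraicGeometry TopologicalSpace Opposite
open scoped HomogeneousIdeal
open HomogeneousLocalization

/-!
# `Proj(v' ∘ u) = Proj(u) ∘ Proj(v')` for `v'` a graded homomorphism on the source base
-/

namespace Groth.Agent.Helper18.ProjQ

section CompB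

variable {Y Y' P P' Q' : Scheme.{u}} {q : Y' ⟶ Y}
  {𝒮 : RelProj.QCGrAlg Y} {𝒮' 𝒯' : RelProj.QCGrAlg Y'} (u : RelProj.QGrHom q 𝒮 𝒮')
  {p : P ⟶ Y} {chart : ∀ (U : Y.Opens) (hU : IsAffineOpen U),
    (((p ⁻¹ᵁ U : P.Opens) : Scheme.{u}) ≅ Proj (𝒮.deg U hU))}
  {p' : P' ⟶ Y'} {chart' : ∀ (U : Y'.Opens) (hU : IsAffineOpen U),
    (((p' ⁻¹ᵁ U : P'.Opens) : Scheme.{u}) ≅ Proj (𝒮'.deg U hU))}
  (r : ((RelProj.domQ u p' chart' : P'.Opens) : Scheme.{u}) ⟶ P)
  (hr : RelProj.IsProjQMapOn u p chart p' chart' (RelProj.domQ u p' chart') r)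
  (v' : 𝒮'.toQCAlg ⟶ 𝒯'.toQCAlg) (hv' : RelProj.IsGradedHom v')
  (u' : RelProj.QGrHom q 𝒮 𝒯')
  (hu' : ∀ (U : Y.Opens) (hU : IsAffineOpen U) (U' : Y'.Opens) (hU' : IsAffineOpen U')
    (hle : U' ≤ q ⁻¹ᵁ U) (x : 𝒮.presheaf.obj (op U)),
    u'.gradedAt U hU U' hU' hle x =
      RelProj.gradedHomAt v' hv' U' hU' (u.gradedAt U hU U' hU' hle x))
  {pT : Q' ⟶ Y'} {chartT : ∀ (U : Y'.Opens) (hU : IsAffineOpen U),
    (((pT ⁻¹ᵁ U : Q'.Opens) : Scheme.{u}) ≅ Proj (𝒯'.deg U hU))}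
  (w' : ((RelProj.domQ (RelProj.QGrHom.ofHom v' hv') pT chartT : Q'.Opens) : Scheme.{u}) ⟶ P')
  (hw' : RelProj.IsProjQMapOn (RelProj.QGrHom.ofHom v' hv') p' chart' pT chartT
    (RelProj.domQ (RelProj.QGrHom.ofHom v' hv') pT chartT) w')

include hu' in
theorem gradedAt_compB (U : Y.Opens) (hU : IsAffineOpen U) (U' : Y'.Opens) (hU' : IsAffineOpen U')
    (hle : U' ≤ q ⁻¹ᵁ U) (x : 𝒮.presheaf.obj (op U)) :
    u'.gradedAt U hU U' hU' hle x =
      RelProj.gradedHomAt v' hv' U' hU' (u.gradedAt U hU U' hU' hle x) :=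
  hu' U hU U' hU' hle x

/-- the affine-pair hypothesis follows from the equality of all components -/
theorem gradedAt_compB_of_app
    (h : ∀ U : Y.Opens, u'.app U = u.app U ≫ v'.hom.app (op (q ⁻¹ᵁ U)))
    (U : Y.Opens) (hU : IsAffineOpen U) (U' : Y'.Opens) (hU' : IsAffineOpen U')
    (hle : U' ≤ q ⁻¹ᵁ U) (x : 𝒮.presheaf.obj (op U)) :
    u'.gradedAt U hU U' hU' hle x =
      RelProj.gradedHomAt v' hv' U' hU' (u.gradedAt U hU U' hU' hle x) := by
  rw [RelProj.QGrHom.gradedAt_apply, RelProj.QGrHom.gradedAt_apply]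
  unfold RelSpec.QHom.appLE
  rw [h U]
  have := congrArg (fun k => k.hom ((u.app U).hom x)) (v'.hom.naturality (homOfLE hle).op)
  exact this.symm

/-- the index of the chart of `Proj(v')` attached to a chart index of `u` -/
abbrev QIdx.toB (i : QIdx q 𝒮) : QIdx (𝟙 Y') 𝒮' :=
  ⟨i.U', i.hU', i.U', i.hU', le_id_preimage i.U', i.d, i.hd, i.ψ u i.f, (i.ψ u).map_mem i.hf⟩

include hu' in
theorem psi_toB (i : QIdx q 𝒮) :
    i.ψ u' i.f = (i.toB u).ψ (RelProj.QGrHom.ofHom v' hv') (i.toB u).f := by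
  change u'.gradedAt i.U i.hU i.U' i.hU' i.hle i.f = _
  rw [gradedAt_compB u v' hv' u' hu']
  exact (gradedAt_ofHom_same v' hv' i.U' i.hU' _ _).symm

include hu' in
/-- The chart of `u' = v' ∘ u` at `f` is, up to a cast, the chart of `v'` at `u f`. -/
theorem k_compB (i : QIdx q 𝒮) :
    i.k u' pT chartT =
      Spec.map (CommRingCat.ofHom (castHom (𝒯'.deg i.U' i.hU') _ _
        (psi_toB u v' hv' u' hu' i))) ≫
      (i.toB u).k (RelProj.QGrHom.ofHom v' hv') pT chartT := by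
  change Proj.awayι _ _ _ _ ≫ RelProj.emb pT chartT i.U' i.hU' =
    Spec.map _ ≫ Proj.awayι _ _ _ _ ≫ RelProj.emb pT chartT i.U' i.hU'
  rw [← Category.assoc]
  congr 1
  exact (awayι_cast (𝒯'.deg i.U' i.hU') i.hd _ _ _ _ _).symm

include hu' in
theorem domQ_leB : RelProj.domQ u' pT chartT ≤
    RelProj.domQ (RelProj.QGrHom.ofHom v' hv') pT chartT := by
  intro x hx
  obtain ⟨i, z, hz⟩ := exists_k_of_mem_domQ (u := u') (p' := pT) (chart' := chartT) x hx
  have hk := k_compB u v' hv' u' hu' (pT := pT) (chartT := chartT) i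
  have hx' : x ∈ Set.range ((i.toB u).k (RelProj.QGrHom.ofHom v' hv') pT chartT).base := by
    refine ⟨(Spec.map (CommRingCat.ofHom (castHom (𝒯'.deg i.U' i.hU') _ _
      (psi_toB u v' hv' u' hu' i)))).base z, ?_⟩
    rw [← hz, hk]
    rfl
  have := RelProj.range_awayEmb_subset_domQ (RelProj.QGrHom.ofHom v' hv') pT chartT
    (i.toB u).U (i.toB u).hU (i.toB u).U' (i.toB u).hU' (i.toB u).hle (i.toB u).hd
    (i.toB u).f (i.toB u).hf hx'
  rw [Scheme.Opens.range_ι] at this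
  exact this

include hr hw' hu' in
/-- On a standard chart of `u' = v' ∘ u`, the morphism `w' = Proj(v')` lands in `G(u)` and followed by
`r = Proj(u)` it is the local expression of `Proj(u')`. -/
theorem comp_chartB (i : QIdx q 𝒮) :
    ∃ ρ : i.src u' ⟶ ((RelProj.domQ u p' chart' : P'.Opens) : Scheme.{u}),
      i.k' u' pT chartT ≫ Q'.homOfLE (domQ_leB u v' hv' u' hu') ≫ w' =
        ρ ≫ (RelProj.domQ u p' chart').ι ∧
      ρ ≫ r = i.v u' p chart := by
  let jv : QIdx (𝟙 Y') 𝒮' := i.toB u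
  have e₁ : i.ψ u' i.f = jv.ψ (RelProj.QGrHom.ofHom v' hv') jv.f := psi_toB u v' hv' u' hu' i
  let c₁ := castHom (𝒯'.deg i.U' i.hU') _ _ e₁
  let ρ : i.src u' ⟶ ((RelProj.domQ u p' chart' : P'.Opens) : Scheme.{u}) :=
    Spec.map (CommRingCat.ofHom c₁) ≫
      Spec.map (CommRingCat.ofHom (Away.map (jv.ψ (RelProj.QGrHom.ofHom v' hv')) jv.f)) ≫
      i.k' u p' chart'
  refine ⟨ρ, ?_, ?_⟩
  · have h1 : i.k' u' pT chartT ≫ Q'.homOfLE (domQ_leB u v' hv' u' hu') =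
        Spec.map (CommRingCat.ofHom c₁) ≫ jv.k' (RelProj.QGrHom.ofHom v' hv') pT chartT := by
      rw [← cancel_mono (RelProj.domQ (RelProj.QGrHom.ofHom v' hv') pT chartT).ι, Category.assoc,
        Scheme.homOfLE_ι, QIdx.k'_ι, Category.assoc, QIdx.k'_ι]
      exact k_compB u v' hv' u' hu' i
    have h2 : jv.k' (RelProj.QGrHom.ofHom v' hv') pT chartT ≫ w' =
        jv.v (RelProj.QGrHom.ofHom v' hv') p' chart' :=
      hw' jv.U jv.hU jv.U' jv.hU' jv.hle jv.d jv.hd jv.f jv.hf _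
    rw [← Category.assoc, h1, Category.assoc, h2]
    simp only [ρ, Category.assoc, QIdx.k'_ι]
    rfl
  · have h4 : i.k' u p' chart' ≫ r = i.v u p chart :=
      hr i.U i.hU i.U' i.hU' i.hle i.d i.hd i.f i.hf _
    have hring : CommRingCat.ofHom (Away.map (i.ψ u) i.f) ≫
        CommRingCat.ofHom (Away.map (jv.ψ (RelProj.QGrHom.ofHom v' hv')) jv.f) ≫
        CommRingCat.ofHom c₁ = CommRingCat.ofHom (Away.map (i.ψ u') i.f) := by
      rw [← CommRingCat.ofHom_comp, ← CommRingCat.ofHom_comp]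
      congr 1
      simp only [c₁, castHom, Away.map, ← HomogeneousLocalization.map_comp]
      apply map_congr'
      apply GradedRingHom.ext
      intro x
      change jv.ψ (RelProj.QGrHom.ofHom v' hv') (i.ψ u x) = i.ψ u' x
      rw [gradedAt_ofHom_same v' hv' i.U' i.hU' _ _]
      exact (gradedAt_compB u v' hv' u' hu' i.U i.hU i.U' i.hU' i.hle x).symm
    simp only [ρ, Category.assoc]
    rw [h4]
    change Spec.map _ ≫ Spec.map _ ≫ Spec.map _ ≫ _ ≫ _ = Spec.map _ ≫ _ ≫ _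
    simp only [← Spec.map_comp_assoc]
    rw [Category.assoc, hring]

include hr hw' hu' in
/-- `Proj(v' ∘ u) = Proj(u) ∘ Proj(v')` on `G(v' ∘ u)`. -/
theorem exists_factorB
    (r' : ((RelProj.domQ u' pT chartT : Q'.Opens) : Scheme.{u}) ⟶ P)
    (hr' : RelProj.IsProjQMapOn u' p chart pT chartT (RelProj.domQ u' pT chartT) r') :
    ∃ w₀ : ((RelProj.domQ u' pT chartT : Q'.Opens) : Scheme.{u}) ⟶
        ((RelProj.domQ u p' chart' : P'.Opens) : Scheme.{u}),
      Q'.homOfLE (domQ_leB u v' hv' u' hu') ≫ w' = w₀ ≫ (RelProj.domQ u p' chart').ι ∧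
        w₀ ≫ r = r' := by
  have hrange : Set.range (Q'.homOfLE (domQ_leB u v' hv' u' hu' (pT := pT) (chartT := chartT)) ≫
      w').base ⊆ Set.range (RelProj.domQ u p' chart').ι.base := by
    rintro _ ⟨x, rfl⟩
    obtain ⟨i, z, hz⟩ := exists_k'_of_mem (u := u') (p' := pT) (chart' := chartT) x
    obtain ⟨ρ, hρ1, -⟩ := comp_chartB u r hr v' hv' u' hu' w' hw' i
    refine ⟨ρ.base z, ?_⟩
    have := congrArg (fun k => k.base z) hρ1
    simp only [Scheme.Hom.comp_base, TopCat.comp_app] at this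
    rw [← hz]
    exact this.symm
  let w₀ := IsOpenImmersion.lift (RelProj.domQ u p' chart').ι
    (Q'.homOfLE (domQ_leB u v' hv' u' hu') ≫ w') hrange
  have hw₀ : w₀ ≫ (RelProj.domQ u p' chart').ι =
      Q'.homOfLE (domQ_leB u v' hv' u' hu') ≫ w' := IsOpenImmersion.lift_fac _ _ _
  refine ⟨w₀, hw₀.symm, ?_⟩
  refine hom_ext_of_jointly_surjective (fun i : QIdx q 𝒮 => i.src u')
    (fun i => i.k' u' pT chartT) (fun i => inferInstance) exists_k'_of_mem _ _ ?_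
  intro i
  obtain ⟨ρ, hρ1, hρ2⟩ := comp_chartB u r hr v' hv' u' hu' w' hw' i
  have h1 : i.k' u' pT chartT ≫ w₀ = ρ := by
    rw [← cancel_mono (RelProj.domQ u p' chart').ι, Category.assoc, hw₀]
    exact hρ1
  rw [← Category.assoc, h1, hρ2]
  exact (hr' i.U i.hU i.U' i.hU' i.hle i.d i.hd i.f i.hf _).symm

include hw' hu' in
/-- `Proj(v')⁻¹(G(u)) ⊆ G(v' ∘ u)`. -/
theorem mem_domQ_compB (hP' : RelProj.IsRelProj 𝒮' p' chart')
    (hT : RelProj.IsRelProj 𝒯' pT chartT)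
    (x : ((RelProj.domQ (RelProj.QGrHom.ofHom v' hv') pT chartT : Q'.Opens) : Scheme.{u}))
    (hx : w'.base x ∈ RelProj.domQ u p' chart') :
    x.1 ∈ RelProj.domQ u' pT chartT := by
  obtain ⟨i, z, hz⟩ := exists_k_of_mem_domQ (u := u) (p' := p') (chart' := chart') _ hx
  have hInD : (i.toB u).InD p' chart' (w'.base x) := by
    refine ⟨(Proj.awayι (𝒮'.deg i.U' i.hU') (i.ψ u i.f) ((i.ψ u).map_mem i.hf) i.hd).base z, ?_, hz⟩
    have hmem : (Proj.awayι (𝒮'.deg i.U' i.hU') (i.ψ u i.f) ((i.ψ u).map_mem i.hf) i.hd).base z ∈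
        (Proj.awayι (𝒮'.deg i.U' i.hU') (i.ψ u i.f) ((i.ψ u).map_mem i.hf) i.hd).opensRange :=
      ⟨z, rfl⟩
    rw [Proj.opensRange_awayι] at hmem
    exact hmem
  have hover := projQMapOn_comp_p (u := RelProj.QGrHom.ofHom v' hv') hP' hT w' hw'
  have hpx : pT.base x.1 ∈ i.U' := by
    have h3 := congrArg (fun k => k.base x) hover
    have h4 : p'.base (w'.base x) = pT.base x.1 := h3
    rw [← h4, ← hz]
    exact mem_of_mem_range_k i _ ⟨z, rfl⟩
  obtain ⟨z', hz'⟩ := (map_inD_iff (u := RelProj.QGrHom.ofHom v' hv') hP' hT w' hw' (i.toB u) x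
    hpx).mp hInD
  have hk := k_compB u v' hv' u' hu' (pT := pT) (chartT := chartT) i
  -- transport `z'` along the cast
  have e₁ := psi_toB u v' hv' u' hu' i
  have hcast : Spec.map (CommRingCat.ofHom (castHom (𝒯'.deg i.U' i.hU') _ _ e₁.symm)) ≫
      i.k u' pT chartT = (i.toB u).k (RelProj.QGrHom.ofHom v' hv') pT chartT := by
    change Spec.map _ ≫ Proj.awayι _ _ _ _ ≫ RelProj.emb pT chartT i.U' i.hU' =
      Proj.awayι _ _ _ _ ≫ RelProj.emb pT chartT i.U' i.hU'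
    rw [← Category.assoc]
    congr 1
    exact awayι_cast (𝒯'.deg i.U' i.hU') i.hd _ _ _ _ _
  have hfin : x.1 ∈ Set.range (i.k u' pT chartT).base := by
    refine ⟨(Spec.map (CommRingCat.ofHom (castHom (𝒯'.deg i.U' i.hU') _ _ e₁.symm))).base z', ?_⟩
    rw [← hz', ← hcast]
    rfl
  have := RelProj.range_awayEmb_subset_domQ u' pT chartT i.U i.hU i.U' i.hU' i.hle i.hd i.f i.hf
    hfin
  rw [Scheme.Opens.range_ι] at this
  exact this

end CompB

end Groth.Agent.Helper18.ProjQ
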