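import Mathlib
import Groth.Prelude.Def_RelProj4
import Groth.Prelude.Def_RelSpec2
import Groth.Agent.Lib.Helper18.ProjQCompA2
import Groth.Agent.Lib.Helper18.ProjQCompB

set_option autoImplicit false
universe u
open CategoryTheory CategoryTheory.Limits AlgebraicGeometry TopologicalSpace Opposite
open scoped HomogeneousIdeal
open HomogeneousLocalization

/-!
# Functoriality of projective cones: basic compatibilities
-/

noncomputable section

namespace Groth.Agent.Helper18.ConeQ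

open ProjQ

section CompBase

variable {Y Y' : Scheme.{u}} {q : Y' ⟶ Y} {𝒯 𝒮 : RelProj.QCGrAlg Y} {𝒮' : RelProj.QCGrAlg Y'}

/-- the composite of a graded homomorphism on the target base with a graded `q`-morphism -/
def compBase (v : 𝒯.toQCAlg ⟶ 𝒮.toQCAlg) (hv : RelProj.IsGradedHom v)
    (u : RelProj.QGrHom q 𝒮 𝒮') : RelProj.QGrHom q 𝒯 𝒮' where
  app U := v.hom.app (op U) ≫ u.app U
  naturality {U V} i := by
    rw [Category.assoc, u.naturality i, ← Category.assoc, ← Category.assoc]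
    congr 1
    exact (v.hom.naturality _).symm
  str_app U := by
    rw [← Category.assoc, ← NatTrans.comp_app, v.comm]
    exact u.str_app U
  map_mem U hU U' hU' hle d x hx := u.map_mem U hU U' hU' hle (hv U hU d x hx)

theorem compBase_gradedAt (v : 𝒯.toQCAlg ⟶ 𝒮.toQCAlg) (hv : RelProj.IsGradedHom v)
    (u : RelProj.QGrHom q 𝒮 𝒮') (U : Y.Opens) (hU : IsAffineOpen U) (U' : Y'.Opens)
    (hU' : IsAffineOpen U') (hle : U' ≤ q ⁻¹ᵁ U) (x : 𝒯.presheaf.obj (op U)) :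
    (compBase v hv u).gradedAt U hU U' hU' hle x =
      u.gradedAt U hU U' hU' hle (RelProj.gradedHomAt v hv U hU x) := rfl

end CompBase


section CastMk

variable {A σ : Type u} [CommRing A] [SetLike σ A] [AddSubgroupClass σ A]
    (𝒜 : ℕ → σ) [GradedRing 𝒜]

theorem castHom_mk {d : ℕ} (s t : A) (e : t = s) (hs : s ∈ 𝒜 d) (ht : t ∈ 𝒜 d) (k : ℕ) (x : A)
    (hx : x ∈ 𝒜 (k • d)) :
    castHom 𝒜 s t e (Away.mk 𝒜 hs k x hx) = Away.mk 𝒜 ht k x hx := by
  subst e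
  unfold castHom
  rw [HomogeneousLocalization.map_id]
  rfl

end CastMk

section Cone

variable {Y Y' : Scheme.{u}} {q : Y' ⟶ Y}
  {𝒮 : RelProj.QCGrAlg Y} {𝒮' : RelProj.QCGrAlg Y'} (u : RelProj.QGrHom q 𝒮 𝒮')
  {𝒮h : RelProj.QCGrAlg Y} {ι : 𝒮.toQCAlg ⟶ 𝒮h.toQCAlg} {z : 𝒮h.presheaf.obj (op ⊤)}
  (hz : RelCone.IsPolyOver 𝒮 𝒮h ι z)
  {𝒮h' : RelProj.QCGrAlg Y'} {ι' : 𝒮'.toQCAlg ⟶ 𝒮h'.toQCAlg} {z' : 𝒮h'.presheaf.obj (op ⊤)}
  (hz' : RelCone.IsPolyOver 𝒮' 𝒮h' ι' z')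
  (uh : RelProj.QGrHom q 𝒮h 𝒮h')
  (huh : ∀ U : Y.Opens, ι.hom.app (op U) ≫ uh.app U = u.app U ≫ ι'.hom.app (op (q ⁻¹ᵁ U)))
  (huhz : (uh.app ⊤).hom z = RelCone.restrictTop 𝒮h' z' (q ⁻¹ᵁ ⊤))

include huh in
theorem uh_ι (U : Y.Opens) (U' : Y'.Opens) (hle : U' ≤ q ⁻¹ᵁ U) (a : 𝒮.presheaf.obj (op U)) :
    (uh.appLE U U' hle).hom ((ι.hom.app (op U)).hom a) =
      (ι'.hom.app (op U')).hom ((u.appLE U U' hle).hom a) := by
  unfold RelSpec.QHom.appLE
  have h1 := congrArg (fun k => k.hom a) (huh U)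
  have h2 := congrArg (fun k => k.hom ((u.app U).hom a)) (ι'.hom.naturality (homOfLE hle).op)
  change (𝒮h'.presheaf.map (homOfLE hle).op).hom ((uh.app U).hom ((ι.hom.app (op U)).hom a)) =
    (ι'.hom.app (op U')).hom ((𝒮'.presheaf.map (homOfLE hle).op).hom ((u.app U).hom a))
  have h1' : (uh.app U).hom ((ι.hom.app (op U)).hom a) =
      (ι'.hom.app (op (q ⁻¹ᵁ U))).hom ((u.app U).hom a) := h1
  rw [h1']
  exact h2.symm

include huhz in
theorem uh_z (U : Y.Opens) (U' : Y'.Opens) (hle : U' ≤ q ⁻¹ᵁ U) :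
    (uh.appLE U U' hle).hom (RelCone.restrictTop 𝒮h z U) = RelCone.restrictTop 𝒮h' z' U' := by
  have h1 := congrArg (fun k => k.hom z) (uh.map_appLE (le_top : U ≤ ⊤) hle)
  have h1' : (uh.appLE U U' hle).hom (RelCone.restrictTop 𝒮h z U) =
      (uh.appLE ⊤ U' (hle.trans (q.preimage_mono le_top))).hom z := h1
  rw [h1']
  unfold RelSpec.QHom.appLE
  change (𝒮h'.presheaf.map (homOfLE _).op).hom ((uh.app ⊤).hom z) = _
  rw [huhz]
  change ((𝒮h'.presheaf.map (homOfLE le_top).op) ≫ (𝒮h'.presheaf.map (homOfLE _).op)).hom z' = _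
  rw [← Functor.map_comp]
  rfl

include huh huhz in
/-- `z = 1` commutes with the morphisms of cones. -/
theorem evalOne_compat (U : Y.Opens) (hU : IsAffineOpen U) (U' : Y'.Opens) (hU' : IsAffineOpen U')
    (hle : U' ≤ q ⁻¹ᵁ U) (x : 𝒮h.presheaf.obj (op U)) :
    hz'.evalOne U' hU' ((uh.appLE U U' hle).hom x) =
      (u.appLE U U' hle).hom (hz.evalOne U hU x) := by
  let f : Polynomial (𝒮.presheaf.obj (op U)) →+* 𝒮'.presheaf.obj (op U') :=
    (hz'.evalOne U' hU').comp ((uh.appLE U U' hle).hom.comp (hz.polyEquiv U hU).toRingHom)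
  let g : Polynomial (𝒮.presheaf.obj (op U)) →+* 𝒮'.presheaf.obj (op U') :=
    (u.appLE U U' hle).hom.comp ((hz.evalOne U hU).comp (hz.polyEquiv U hU).toRingHom)
  have hfg : f = g := by
    apply Polynomial.ringHom_ext
    · intro a
      have e1 : hz.polyEquiv U hU (Polynomial.C a) = (ι.hom.app (op U)).hom a := by
        rw [RelCone.IsPolyOver.polyEquiv_apply, Polynomial.eval₂_C]
      change hz'.evalOne U' hU' ((uh.appLE U U' hle).hom (hz.polyEquiv U hU (Polynomial.C a))) =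
        (u.appLE U U' hle).hom (hz.evalOne U hU (hz.polyEquiv U hU (Polynomial.C a)))
      rw [e1, uh_ι u uh huh, RelCone.IsPolyOver.evalOne_ι, RelCone.IsPolyOver.evalOne_ι]
    · have e1 : hz.polyEquiv U hU Polynomial.X = RelCone.restrictTop 𝒮h z U := by
        rw [RelCone.IsPolyOver.polyEquiv_apply, Polynomial.eval₂_X]
      change hz'.evalOne U' hU' ((uh.appLE U U' hle).hom (hz.polyEquiv U hU Polynomial.X)) =
        (u.appLE U U' hle).hom (hz.evalOne U hU (hz.polyEquiv U hU Polynomial.X))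
      rw [e1, uh_z uh huhz, RelCone.IsPolyOver.evalOne_z, RelCone.IsPolyOver.evalOne_z, map_one]
  have := congrArg (fun k => k ((hz.polyEquiv U hU).symm x)) hfg
  simp only [f, g, RingHom.comp_apply, RingEquiv.toRingHom_eq_coe, RingEquiv.coe_toRingHom,
    RingEquiv.apply_symm_apply] at this
  exact this

include huh huhz in
/-- the ring identity behind `Φ̂ ∘ i' = i ∘ Φ` -/
theorem awayZ_compat (U : Y.Opens) (hU : IsAffineOpen U) (U' : Y'.Opens) (hU' : IsAffineOpen U')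
    (hle : U' ≤ q ⁻¹ᵁ U)
    (e : RelCone.restrictTop 𝒮h' z' U' =
      uh.gradedAt U hU U' hU' hle (RelCone.restrictTop 𝒮h z U)) :
    (hz'.awayZToBase U' hU').comp
      ((castHom (𝒮h'.deg U' hU') _ _ e).comp
        (Away.map (uh.gradedAt U hU U' hU' hle) (RelCone.restrictTop 𝒮h z U))) =
      (u.appLE U U' hle).hom.comp (hz.awayZToBase U hU) := by
  apply RingHom.ext
  intro a
  obtain ⟨k, x, hx, rfl⟩ := Away.mk_surjective _ (hz.deg_z U hU) a
  rw [RingHom.comp_apply, RingHom.comp_apply, RingHom.comp_apply,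
    Away.map_mk (uh.gradedAt U hU U' hU' hle) _ (hz.deg_z U hU) k x hx,
    castHom_mk (𝒮h'.deg U' hU') _ _ e _ (hz'.deg_z U' hU')]
  rw [hz'.awayZToBase_of_val U' hU' _ (uh.gradedAt U hU U' hU' hle x) k (Away.val_mk _ _ _ _ _),
    hz.awayZToBase_of_val U hU _ x k (Away.val_mk _ _ _ _ _)]
  exact evalOne_compat u hz hz' uh huh huhz U hU U' hU' hle x

end Cone

end Groth.Agent.Helper18.ConeQ
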