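import Mathlib
import Groth.Agent.Lib.Helper18.ConeQ

set_option autoImplicit false
universe u
open CategoryTheory CategoryTheory.Limits AlgebraicGeometry TopologicalSpace Opposite
open scoped HomogeneousIdeal
open HomogeneousLocalization

/-!
# `Φ̂ ∘ i' = i ∘ Φ` for the open immersions of affine cones into projective cones
-/

noncomputable section

namespace Groth.Agent.Helper18.ConeQ

open ProjQ

/-- affine pairs `(U, U')` with `U' ⊆ q⁻¹ U` -/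
structure CPair {Y Y' : Scheme.{u}} (q : Y' ⟶ Y) where
  U : Y.Opens
  hU : IsAffineOpen U
  U' : Y'.Opens
  hU' : IsAffineOpen U'
  hle : U' ≤ q ⁻¹ᵁ U

theorem exists_pair_of_mem {Y Y' : Scheme.{u}} (q : Y' ⟶ Y) (A' : RelSpec.QCAlg Y')
    (c : A'.spec) : ∃ i : CPair q, c ∈ Set.range (A'.ι i.U' i.hU').base := by
  obtain ⟨U, hU0, hyU, -⟩ := Opens.isBasis_iff_nbhd.mp (Y.isBasis_affineOpens)
    (show q.base (A'.π.base c) ∈ (⊤ : Y.Opens) from trivial)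
  have hU : IsAffineOpen U := hU0
  obtain ⟨U', hU'0, hyU', hle⟩ := Opens.isBasis_iff_nbhd.mp (Y'.isBasis_affineOpens)
    (show A'.π.base c ∈ q ⁻¹ᵁ U from hyU)
  have hU' : IsAffineOpen U' := hU'0
  refine ⟨⟨U, hU, U', hU', hle⟩, ?_⟩
  have h1 : c ∈ A'.π ⁻¹ᵁ U' := hyU'
  rw [A'.π_preimage U' hU'] at h1
  exact h1

section Imm

variable {Y Y' PC PC' : Scheme.{u}} {q : Y' ⟶ Y}
  {𝒮 : RelProj.QCGrAlg Y} {𝒮' : RelProj.QCGrAlg Y'} (u : RelProj.QGrHom q 𝒮 𝒮')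
  {𝒮h : RelProj.QCGrAlg Y} {ι : 𝒮.toQCAlg ⟶ 𝒮h.toQCAlg} {z : 𝒮h.presheaf.obj (op ⊤)}
  (hz : RelCone.IsPolyOver 𝒮 𝒮h ι z)
  {pC : PC ⟶ Y} {chartC : ∀ (U : Y.Opens) (hU : IsAffineOpen U),
    (((pC ⁻¹ᵁ U : PC.Opens) : Scheme.{u}) ≅ Proj (𝒮h.deg U hU))}
  {𝒮h' : RelProj.QCGrAlg Y'} {ι' : 𝒮'.toQCAlg ⟶ 𝒮h'.toQCAlg} {z' : 𝒮h'.presheaf.obj (op ⊤)}
  (hz' : RelCone.IsPolyOver 𝒮' 𝒮h' ι' z')
  {pC' : PC' ⟶ Y'} {chartC' : ∀ (U : Y'.Opens) (hU : IsAffineOpen U),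
    (((pC' ⁻¹ᵁ U : PC'.Opens) : Scheme.{u}) ≅ Proj (𝒮h'.deg U hU))}
  (uh : RelProj.QGrHom q 𝒮h 𝒮h')
  (huh : ∀ U : Y.Opens, ι.hom.app (op U) ≫ uh.app U = u.app U ≫ ι'.hom.app (op (q ⁻¹ᵁ U)))
  (huhz : (uh.app ⊤).hom z = RelCone.restrictTop 𝒮h' z' (q ⁻¹ᵁ ⊤))
  (Φh : ((RelProj.domQ uh pC' chartC' : PC'.Opens) : Scheme.{u}) ⟶ PC)
  (hΦh : RelProj.IsProjQMapOn uh pC chartC pC' chartC' (RelProj.domQ uh pC' chartC') Φh)
  (Φc : 𝒮'.toQCAlg.spec ⟶ 𝒮.toQCAlg.spec) (hΦc : RelSpec.IsSpecQMap u.toQHom Φc)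
  (i : 𝒮.toQCAlg.spec ⟶ PC) (hi : RelCone.IsConeImm 𝒮 hz pC chartC i)
  (i' : 𝒮'.toQCAlg.spec ⟶ PC') (hi' : RelCone.IsConeImm 𝒮' hz' pC' chartC' i')

/-- the chart index of `D₊(z)` over an affine pair -/
abbrev zIdx (c : CPair q) : QIdx q 𝒮h :=
  ⟨c.U, c.hU, c.U', c.hU', c.hle, 1, one_pos, RelCone.restrictTop 𝒮h z c.U, hz.deg_z c.U c.hU⟩

include huhz in
theorem zIdx_eq (c : CPair q) : RelCone.restrictTop 𝒮h' z' c.U' =
    uh.gradedAt c.U c.hU c.U' c.hU' c.hle (RelCone.restrictTop 𝒮h z c.U) := by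
  rw [RelProj.QGrHom.gradedAt_apply]
  exact (uh_z uh huhz c.U c.U' c.hle).symm

include huhz hi' in
theorem ι_comp_i' (c : CPair q) :
    𝒮'.toQCAlg.ι c.U' c.hU' ≫ i' =
      Spec.map (CommRingCat.ofHom (hz'.awayZToBase c.U' c.hU')) ≫
        Spec.map (CommRingCat.ofHom (castHom (𝒮h'.deg c.U' c.hU') _ _ (zIdx_eq uh huhz c))) ≫
          (zIdx hz c).k uh pC' chartC' := by
  rw [hi' c.U' c.hU']
  congr 1
  change _ = Spec.map _ ≫ Proj.awayι _ _ _ _ ≫ RelProj.emb pC' chartC' c.U' c.hU'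
  rw [← Category.assoc]
  congr 1
  exact (awayι_cast (𝒮h'.deg c.U' c.hU') one_pos _ _ (zIdx_eq uh huhz c) _ _).symm

include huh huhz hΦh hΦc hi hi' in
theorem coneImm_comm :
    Set.range i'.base ⊆ ((RelProj.domQ uh pC' chartC' : PC'.Opens) : Set PC') ∧
      ∀ i'' : 𝒮'.toQCAlg.spec ⟶ ((RelProj.domQ uh pC' chartC' : PC'.Opens) : Scheme.{u}),
        i'' ≫ (RelProj.domQ uh pC' chartC').ι = i' → i'' ≫ Φh = Φc ≫ i := by
  constructor
  · rintro _ ⟨c₀, rfl⟩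
    obtain ⟨c, c₁, hc₁⟩ := exists_pair_of_mem q 𝒮'.toQCAlg c₀
    have h1 := congrArg (fun k => k.base c₁) (ι_comp_i' hz hz' uh huhz i' hi' c)
    have h2 : ((zIdx hz c).k uh pC' chartC').base
        ((Spec.map (CommRingCat.ofHom (castHom (𝒮h'.deg c.U' c.hU') _ _
          (zIdx_eq uh huhz c)))).base
          ((Spec.map (CommRingCat.ofHom (hz'.awayZToBase c.U' c.hU'))).base c₁)) = i'.base c₀ := by
      rw [← hc₁]; exact h1.symm
    have h3 := RelProj.range_awayEmb_subset_domQ uh pC' chartC' (zIdx hz c).U (zIdx hz c).hU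
      (zIdx hz c).U' (zIdx hz c).hU' (zIdx hz c).hle (zIdx hz c).hd (zIdx hz c).f (zIdx hz c).hf
      ⟨_, h2⟩
    rw [Scheme.Opens.range_ι] at h3
    exact h3
  · intro i'' hi''
    refine hom_ext_of_jointly_surjective (fun c : CPair q => Spec (𝒮'.presheaf.obj (op c.U')))
      (fun c => 𝒮'.toQCAlg.ι c.U' c.hU') (fun c => inferInstance)
      (exists_pair_of_mem q 𝒮'.toQCAlg) _ _ ?_
    intro c
    have h1 : 𝒮'.toQCAlg.ι c.U' c.hU' ≫ i'' =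
        Spec.map (CommRingCat.ofHom (hz'.awayZToBase c.U' c.hU')) ≫
          Spec.map (CommRingCat.ofHom (castHom (𝒮h'.deg c.U' c.hU') _ _
            (zIdx_eq uh huhz c))) ≫ (zIdx hz c).k' uh pC' chartC' := by
      rw [← cancel_mono (RelProj.domQ uh pC' chartC').ι, Category.assoc, hi'', Category.assoc,
        Category.assoc, QIdx.k'_ι]
      exact ι_comp_i' hz hz' uh huhz i' hi' c
    have h2 : (zIdx hz c).k' uh pC' chartC' ≫ Φh = (zIdx hz c).v uh pC chartC :=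
      hΦh c.U c.hU c.U' c.hU' c.hle 1 one_pos _ (hz.deg_z c.U c.hU) _
    have h3 : 𝒮'.toQCAlg.ι c.U' c.hU' ≫ Φc = Spec.map (u.appLE c.U c.U' c.hle) ≫
        𝒮.toQCAlg.ι c.U c.hU := hΦc c.U c.hU c.U' c.hU' c.hle
    have hL : 𝒮'.toQCAlg.ι c.U' c.hU' ≫ i'' ≫ Φh =
        Spec.map (CommRingCat.ofHom (hz'.awayZToBase c.U' c.hU')) ≫
          Spec.map (CommRingCat.ofHom (castHom (𝒮h'.deg c.U' c.hU') _ _
            (zIdx_eq uh huhz c))) ≫ (zIdx hz c).v uh pC chartC := by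
      rw [← Category.assoc, h1, Category.assoc, Category.assoc, h2]
    have hR : 𝒮'.toQCAlg.ι c.U' c.hU' ≫ Φc ≫ i =
        Spec.map (u.appLE c.U c.U' c.hle) ≫
          Spec.map (CommRingCat.ofHom (hz.awayZToBase c.U c.hU)) ≫
            Proj.awayι (𝒮h.deg c.U c.hU) (RelCone.restrictTop 𝒮h z c.U) (hz.deg_z c.U c.hU)
              one_pos ≫ RelProj.emb pC chartC c.U c.hU := by
      rw [← Category.assoc, h3, Category.assoc, hi c.U c.hU]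
    rw [hL, hR]
    have hring := awayZ_compat u hz hz' uh huh huhz c.U c.hU c.U' c.hU' c.hle
      (zIdx_eq uh huhz c)
    have hring' : CommRingCat.ofHom (Away.map (uh.gradedAt c.U c.hU c.U' c.hU' c.hle)
          (RelCone.restrictTop 𝒮h z c.U)) ≫
        CommRingCat.ofHom (castHom (𝒮h'.deg c.U' c.hU') _ _ (zIdx_eq uh huhz c)) ≫
        CommRingCat.ofHom (hz'.awayZToBase c.U' c.hU') =
        CommRingCat.ofHom (hz.awayZToBase c.U c.hU) ≫ u.appLE c.U c.U' c.hle := by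
      rw [← CommRingCat.ofHom_comp, ← CommRingCat.ofHom_comp]
      have : u.appLE c.U c.U' c.hle = CommRingCat.ofHom (u.appLE c.U c.U' c.hle).hom := rfl
      rw [this, ← CommRingCat.ofHom_comp]
      congr 1
    change Spec.map _ ≫ Spec.map _ ≫ Spec.map _ ≫ _ ≫ _ = Spec.map _ ≫ Spec.map _ ≫ _ ≫ _
    simp only [← Spec.map_comp_assoc]
    rw [Category.assoc, hring']

end Imm

end Groth.Agent.Helper18.ConeQ
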