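import Mathlib
import Groth.Agent.Lib.Helper18.ConeQ

set_option autoImplicit false
universe u
open CategoryTheory CategoryTheory.Limits AlgebraicGeometry TopologicalSpace Opposite
open scoped HomogeneousIdeal
open HomogeneousLocalization

/-!
# `Φ̂ ∘ j' = j ∘ Proj(φ)` for the closed immersions at infinity of projective cones
-/

noncomputable section

namespace Groth.Agent.Helper18.ConeQ

open ProjQ

section OnOfMap

variable {Y Y' P P' : Scheme.{u}} {g : Y' ⟶ Y} {𝒮 : RelProj.QCGrAlg Y} {𝒮' : RelProj.QCGrAlg Y'}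
  (u : RelProj.QGrHom g 𝒮 𝒮')
  {p : P ⟶ Y} {chart : ∀ (U : Y.Opens) (hU : IsAffineOpen U),
    (((p ⁻¹ᵁ U : P.Opens) : Scheme.{u}) ≅ Proj (𝒮.deg U hU))}
  {p' : P' ⟶ Y'} {chart' : ∀ (U : Y'.Opens) (hU : IsAffineOpen U),
    (((p' ⁻¹ᵁ U : P'.Opens) : Scheme.{u}) ≅ Proj (𝒮'.deg U hU))}

theorem isProjQMapOn_of_isProjQMap (h : P' ⟶ P) (hh : RelProj.IsProjQMap u p chart p' chart' h) :
    RelProj.IsProjQMapOn u p chart p' chart' (RelProj.domQ u p' chart')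
      ((RelProj.domQ u p' chart').ι ≫ h) := by
  intro U hU U' hU' hle d hd f hf hW
  rw [← Category.assoc, IsOpenImmersion.lift_fac]
  exact hh.2 U hU U' hU' hle d hd f hf

end OnOfMap

section Infty

variable {Y Y' PC PC' P P' : Scheme.{u}} {q : Y' ⟶ Y}
  {𝒮 : RelProj.QCGrAlg Y} {𝒮' : RelProj.QCGrAlg Y'} (u : RelProj.QGrHom q 𝒮 𝒮')
  {𝒮h : RelProj.QCGrAlg Y} {ι : 𝒮.toQCAlg ⟶ 𝒮h.toQCAlg} {z : 𝒮h.presheaf.obj (op ⊤)}
  (hz : RelCone.IsPolyOver 𝒮 𝒮h ι z)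
  {pC : PC ⟶ Y} {chartC : ∀ (U : Y.Opens) (hU : IsAffineOpen U),
    (((pC ⁻¹ᵁ U : PC.Opens) : Scheme.{u}) ≅ Proj (𝒮h.deg U hU))}
  (hC : RelProj.IsRelProj 𝒮h pC chartC)
  {𝒮h' : RelProj.QCGrAlg Y'} {ι' : 𝒮'.toQCAlg ⟶ 𝒮h'.toQCAlg} {z' : 𝒮h'.presheaf.obj (op ⊤)}
  (hz' : RelCone.IsPolyOver 𝒮' 𝒮h' ι' z')
  {pC' : PC' ⟶ Y'} {chartC' : ∀ (U : Y'.Opens) (hU : IsAffineOpen U),
    (((pC' ⁻¹ᵁ U : PC'.Opens) : Scheme.{u}) ≅ Proj (𝒮h'.deg U hU))}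
  (hC' : RelProj.IsRelProj 𝒮h' pC' chartC')
  (uh : RelProj.QGrHom q 𝒮h 𝒮h')
  (huh : ∀ U : Y.Opens, ι.hom.app (op U) ≫ uh.app U = u.app U ≫ ι'.hom.app (op (q ⁻¹ᵁ U)))
  (huhz : (uh.app ⊤).hom z = RelCone.restrictTop 𝒮h' z' (q ⁻¹ᵁ ⊤))
  (Φh : ((RelProj.domQ uh pC' chartC' : PC'.Opens) : Scheme.{u}) ⟶ PC)
  (hΦh : RelProj.IsProjQMapOn uh pC chartC pC' chartC' (RelProj.domQ uh pC' chartC') Φh)
  {p : P ⟶ Y} {chart : ∀ (U : Y.Opens) (hU : IsAffineOpen U),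
    (((p ⁻¹ᵁ U : P.Opens) : Scheme.{u}) ≅ Proj (𝒮.deg U hU))}
  (hP : RelProj.IsRelProj 𝒮 p chart)
  {p' : P' ⟶ Y'} {chart' : ∀ (U : Y'.Opens) (hU : IsAffineOpen U),
    (((p' ⁻¹ᵁ U : P'.Opens) : Scheme.{u}) ≅ Proj (𝒮'.deg U hU))}
  (hP' : RelProj.IsRelProj 𝒮' p' chart')
  (Φ : ((RelProj.domQ u p' chart' : P'.Opens) : Scheme.{u}) ⟶ P)
  (hΦ : RelProj.IsProjQMapOn u p chart p' chart' (RelProj.domQ u p' chart') Φ)
  (θ : 𝒮h.toQCAlg ⟶ 𝒮.toQCAlg) (hθ : RelProj.IsGradedHom θ) (hθι : ι ≫ θ = 𝟙 _)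
  (hθz : (θ.hom.app (op ⊤)).hom z = 0)
  (jX : P ⟶ PC) (hjX : RelProj.IsProjQMap (RelProj.QGrHom.ofHom θ hθ) pC chartC p chart jX)
  (θ' : 𝒮h'.toQCAlg ⟶ 𝒮'.toQCAlg) (hθ' : RelProj.IsGradedHom θ') (hθι' : ι' ≫ θ' = 𝟙 _)
  (hθz' : (θ'.hom.app (op ⊤)).hom z' = 0)
  (jX' : P' ⟶ PC')
  (hjX' : RelProj.IsProjQMap (RelProj.QGrHom.ofHom θ' hθ') pC' chartC' p' chart' jX')

include hθι in
theorem θ_ι (U : Y.Opens) (a : 𝒮.presheaf.obj (op U)) :
    (θ.hom.app (op U)).hom ((ι.hom.app (op U)).hom a) = a := by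
  have h1 : (ι ≫ θ).hom.app (op U) = 𝟙 _ := by rw [hθι]; rfl
  have := congrArg (fun k => k.hom a) h1
  exact this

include hθz in
theorem θ_z (U : Y.Opens) : (θ.hom.app (op U)).hom (RelCone.restrictTop 𝒮h z U) = 0 := by
  have := congrArg (fun k => k.hom z) (θ.hom.naturality (homOfLE (le_top : U ≤ ⊤)).op)
  have h2 : (θ.hom.app (op U)).hom (RelCone.restrictTop 𝒮h z U) =
      (𝒮.presheaf.map (homOfLE (le_top : U ≤ ⊤)).op).hom ((θ.hom.app (op ⊤)).hom z) := this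
  rw [h2, hθz, map_zero]

include hz huh huhz hθι hθz hθι' hθz' in
/-- `φ ∘ (z ↦ 0) = (z' ↦ 0) ∘ φ̂` on affine pairs -/
theorem θ_compat (U : Y.Opens) (hU : IsAffineOpen U) (U' : Y'.Opens)
    (hle : U' ≤ q ⁻¹ᵁ U) (x : 𝒮h.presheaf.obj (op U)) :
    (u.appLE U U' hle).hom ((θ.hom.app (op U)).hom x) =
      (θ'.hom.app (op U')).hom ((uh.appLE U U' hle).hom x) := by
  let f : Polynomial (𝒮.presheaf.obj (op U)) →+* 𝒮'.presheaf.obj (op U') :=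
    (u.appLE U U' hle).hom.comp ((θ.hom.app (op U)).hom.comp (hz.polyEquiv U hU).toRingHom)
  let g : Polynomial (𝒮.presheaf.obj (op U)) →+* 𝒮'.presheaf.obj (op U') :=
    (θ'.hom.app (op U')).hom.comp ((uh.appLE U U' hle).hom.comp (hz.polyEquiv U hU).toRingHom)
  have hfg : f = g := by
    apply Polynomial.ringHom_ext
    · intro a
      have e1 : hz.polyEquiv U hU (Polynomial.C a) = (ι.hom.app (op U)).hom a := by
        rw [RelCone.IsPolyOver.polyEquiv_apply, Polynomial.eval₂_C]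
      change (u.appLE U U' hle).hom ((θ.hom.app (op U)).hom (hz.polyEquiv U hU (Polynomial.C a))) =
        (θ'.hom.app (op U')).hom ((uh.appLE U U' hle).hom (hz.polyEquiv U hU (Polynomial.C a)))
      rw [e1, uh_ι u uh huh, θ_ι θ hθι, θ_ι θ' hθι']
    · have e1 : hz.polyEquiv U hU Polynomial.X = RelCone.restrictTop 𝒮h z U := by
        rw [RelCone.IsPolyOver.polyEquiv_apply, Polynomial.eval₂_X]
      change (u.appLE U U' hle).hom ((θ.hom.app (op U)).hom (hz.polyEquiv U hU Polynomial.X)) =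
        (θ'.hom.app (op U')).hom ((uh.appLE U U' hle).hom (hz.polyEquiv U hU Polynomial.X))
      rw [e1, uh_z uh huhz, θ_z θ hθz, θ_z θ' hθz', map_zero]
  have := congrArg (fun k => k ((hz.polyEquiv U hU).symm x)) hfg
  simp only [f, g, RingHom.comp_apply, RingEquiv.toRingHom_eq_coe, RingEquiv.coe_toRingHom,
    RingEquiv.apply_symm_apply] at this
  exact this

include hz hC huh huhz hΦh hP hP' hΦ hθι hθz hjX hθι' hθz' hjX' in
theorem inftyImm_comm (T : Scheme.{u})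
    (d : T ⟶ ((RelProj.domQ u p' chart' : P'.Opens) : Scheme.{u}))
    (e : T ⟶ ((RelProj.domQ uh pC' chartC' : PC'.Opens) : Scheme.{u}))
    (hde : d ≫ (RelProj.domQ u p' chart').ι ≫ jX' = e ≫ (RelProj.domQ uh pC' chartC').ι) :
    jX'.base '' ((RelProj.domQ u p' chart' : P'.Opens) : Set P') ⊆
        ((RelProj.domQ uh pC' chartC' : PC'.Opens) : Set PC') ∧
      e ≫ Φh = d ≫ Φ ≫ jX := by
  -- the composite `φ ∘ θ = θ' ∘ φ̂`
  let c : RelProj.QGrHom q 𝒮h 𝒮' := compBase θ hθ u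
  have hcA : ∀ (U : Y.Opens) (hU : IsAffineOpen U) (U' : Y'.Opens) (hU' : IsAffineOpen U')
      (hle : U' ≤ q ⁻¹ᵁ U) (x : 𝒮h.presheaf.obj (op U)),
      c.gradedAt U hU U' hU' hle x =
        u.gradedAt U hU U' hU' hle (RelProj.gradedHomAt θ hθ U hU x) :=
    fun U hU U' hU' hle x => compBase_gradedAt θ hθ u U hU U' hU' hle x
  have hcB : ∀ (U : Y.Opens) (hU : IsAffineOpen U) (U' : Y'.Opens) (hU' : IsAffineOpen U')
      (hle : U' ≤ q ⁻¹ᵁ U) (x : 𝒮h.presheaf.obj (op U)),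
      c.gradedAt U hU U' hU' hle x =
        RelProj.gradedHomAt θ' hθ' U' hU' (uh.gradedAt U hU U' hU' hle x) := by
    intro U hU U' hU' hle x
    rw [hcA]
    exact θ_compat u hz uh huh huhz θ hθι hθz θ' hθι' hθz' U hU U' hle x
  -- `Proj(c)`
  obtain ⟨rc, hrc0⟩ := exists_projQMapOn (u := c) hC hP'
  have hrc : RelProj.IsProjQMapOn c pC chartC p' chart' (RelProj.domQ c p' chart') rc :=
    fun U hU U' hU' hle d hd f hf _ => hrc0 ⟨U, hU, U', hU', hle, d, hd, f, hf⟩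
  -- `Proj(θ)` and `Proj(θ')` on their domains
  have hw := isProjQMapOn_of_isProjQMap (RelProj.QGrHom.ofHom θ hθ) jX hjX
  have hw' := isProjQMapOn_of_isProjQMap (RelProj.QGrHom.ofHom θ' hθ') jX' hjX'
  obtain ⟨r₀, hA1, hA2⟩ := exists_factor2 u Φ hΦ θ hθ c hcA _ hw rc hrc
  obtain ⟨w₀, hB1, hB2⟩ := exists_factorB uh Φh hΦh θ' hθ' c hcB _ hw' rc hrc
  have hle1 : RelProj.domQ c p' chart' ≤ RelProj.domQ u p' chart' :=
    domQ_le2 u θ hθ c hcA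
  have hle2 : RelProj.domQ u p' chart' ≤ RelProj.domQ c p' chart' := by
    intro x hx
    refine mem_domQ_comp2 u Φ hΦ θ hθ c hcA hP hP' ⟨x, hx⟩ ?_
    rw [hjX.1]; trivial
  have hle3 : RelProj.domQ c p' chart' ≤
      RelProj.domQ (RelProj.QGrHom.ofHom θ' hθ') p' chart' := domQ_leB uh θ' hθ' c hcB
  -- `jX'` on `G(c)`
  have hB1' : (RelProj.domQ c p' chart').ι ≫ jX' = w₀ ≫ (RelProj.domQ uh pC' chartC').ι := by
    rw [← hB1, ← Category.assoc, Scheme.homOfLE_ι]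
  constructor
  · rintro _ ⟨x, hx, rfl⟩
    have h1 := congrArg (fun k => k.base (⟨x, hle2 hx⟩ :
      ((RelProj.domQ c p' chart' : P'.Opens) : Scheme.{u}))) hB1'
    have h2 : jX'.base x = (RelProj.domQ uh pC' chartC').ι.base (w₀.base ⟨x, hle2 hx⟩) := h1
    rw [h2]
    exact (w₀.base ⟨x, hle2 hx⟩).2
  · have he : e = d ≫ P'.homOfLE hle2 ≫ w₀ := by
      rw [← cancel_mono (RelProj.domQ uh pC' chartC').ι, ← hde, Category.assoc, Category.assoc,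
        ← hB1', Scheme.homOfLE_ι_assoc]
    have hA1' : P'.homOfLE hle2 ≫ P'.homOfLE hle1 = 𝟙 _ := by
      rw [← cancel_mono (RelProj.domQ u p' chart').ι, Category.assoc, Scheme.homOfLE_ι,
        Scheme.homOfLE_ι, Category.id_comp]
    rw [he, Category.assoc, Category.assoc, hB2, ← hA2, ← Category.assoc r₀, ← hA1,
      Category.assoc, ← Category.assoc (P'.homOfLE hle2), hA1', Category.id_comp]

end Infty

end Groth.Agent.Helper18.ConeQ
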