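import Mathlib
import Groth.Agent.Lib.Helper18.ConeQ2
import Groth.Agent.Lib.Helper12.RelConeImm

set_option autoImplicit false
universe u
open CategoryTheory CategoryTheory.Limits AlgebraicGeometry TopologicalSpace Opposite
open scoped HomogeneousIdeal
open HomogeneousLocalization

/-!
# Pointed projective cones under `Φ̂ = Proj(φ̂)`
-/

noncomputable section

namespace Groth.Agent.Helper18.ConeQ

open ProjQ

section Ring

variable {S A σ τ : Type u} [CommRing S] [SetLike σ S] [AddSubgroupClass σ S]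
  [CommRing A] [SetLike τ A] [AddSubgroupClass τ A]
  {𝒮 : ℕ → σ} {𝒜 : ℕ → τ} [GradedRing 𝒮] [GradedRing 𝒜] (ι : 𝒮 →+*ᵍ 𝒜) {z : A} (hz : z ∈ 𝒜 1)
  (hpoly : Function.Bijective (Polynomial.eval₂RingHom (ι : S →+* A) z))

include hz hpoly in
/-- A point of `Proj S[z]` lies in `D₊(z)` or in the pointed cone `G(ι)`. -/
theorem not_mem_or_mem_domOpen (y : Proj 𝒜) :
    z ∉ y.asHomogeneousIdeal ∨ y ∈ RelCone.domOpen ι := by
  by_cases hzy : z ∈ y.asHomogeneousIdeal
  · right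
    have hcov := iSup_basicOpen_eq_top (ℬ := 𝒜)
    have hy : y ∈ (⨆ s : (Σ i : ℕ+, 𝒜 i), Proj.basicOpen 𝒜 (s.2 : A)) := by
      rw [hcov]; trivial
    obtain ⟨⟨d, ⟨g, hg⟩⟩, hyg⟩ := Opens.mem_iSup.mp hy
    have hyg' : g ∉ y.asHomogeneousIdeal := (Proj.mem_basicOpen _ _ _).mp hyg
    obtain ⟨a, ha⟩ := Groth.Agent.Helper12.RelConeImm.exists_decomp ι hz hpoly hg
    rw [RelCone.mem_domOpen]
    refine ⟨(a d : S), HomogeneousIdeal.mem_irrelevant_of_mem _ d.pos (a d).2, fun hmem => hyg' ?_⟩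
    rw [ha]
    refine Ideal.sum_mem _ fun j hj => ?_
    by_cases hjd : j = (d : ℕ)
    · subst hjd
      rw [Nat.sub_self, pow_zero, mul_one]
      exact hmem
    · have hj' : j < (d : ℕ) + 1 := Finset.mem_range.mp hj
      have hpos : 0 < (d : ℕ) - j := by omega
      have hzpow : z ^ ((d : ℕ) - j) ∈ y.asHomogeneousIdeal.toIdeal := by
        obtain ⟨m, hm⟩ := Nat.exists_eq_succ_of_ne_zero hpos.ne'
        rw [hm, pow_succ]
        exact Ideal.mul_mem_left _ _ hzy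
      exact Ideal.mul_mem_left _ _ hzpow
  · left; exact hzy

end Ring

section Pointed

variable {Y PC : Scheme.{u}} {𝒮 : RelProj.QCGrAlg Y}
  {𝒮h : RelProj.QCGrAlg Y} {ι : 𝒮.toQCAlg ⟶ 𝒮h.toQCAlg} {z : 𝒮h.presheaf.obj (op ⊤)}
  (hz : RelCone.IsPolyOver 𝒮 𝒮h ι z)
  (pC : PC ⟶ Y) (chartC : ∀ (U : Y.Opens) (hU : IsAffineOpen U),
    (((pC ⁻¹ᵁ U : PC.Opens) : Scheme.{u}) ≅ Proj (𝒮h.deg U hU)))

theorem gradedAt_ofHom_eq (U : Y.Opens) (hU : IsAffineOpen U) :
    (RelProj.QGrHom.ofHom ι hz.graded).gradedAt U hU U hU (le_id_preimage U) =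
      RelProj.gradedHomAt ι hz.graded U hU :=
  GradedRingHom.ext fun x => gradedAt_ofHom_same ι hz.graded U hU _ x

/-- the pointed projective cone is the domain of definition of `Proj(𝒮 → 𝒮[z])` -/
theorem pointedProjCone_eq_domQ :
    RelCone.pointedProjCone 𝒮 hz pC chartC =
      RelProj.domQ (RelProj.QGrHom.ofHom ι hz.graded) pC chartC := by
  apply le_antisymm
  · unfold RelCone.pointedProjCone
    apply iSup_le
    rintro ⟨U, hU⟩
    have hUa : IsAffineOpen U := hU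
    unfold RelProj.domQ
    refine le_trans ?_ (le_iSup _ ⟨(⟨U, hU⟩, ⟨U, hU⟩), le_id_preimage U⟩)
    dsimp only
    rw [gradedAt_ofHom_eq hz U hUa]
  · intro x hx
    obtain ⟨i, z₀, rfl⟩ := exists_k_of_mem_domQ (u := RelProj.QGrHom.ofHom ι hz.graded)
      (p' := pC) (chart' := chartC) x hx
    unfold RelCone.pointedProjCone
    refine Opens.mem_iSup.mpr ⟨⟨i.U', i.hU'⟩, ?_⟩
    change _ ∈ (RelProj.emb pC chartC i.U' i.hU') ''ᵁ
      RelCone.domOpen (RelProj.gradedHomAt ι hz.graded i.U' i.hU')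
    set f' := (𝒮.presheaf.map (homOfLE i.hle).op).hom i.f with hf'
    have hf'd : f' ∈ 𝒮.deg i.U' i.hU' i.d := 𝒮.map_mem i.hU i.hU' i.hle i.hf
    have hψ : i.ψ (RelProj.QGrHom.ofHom ι hz.graded) i.f = (ι.hom.app (op i.U')).hom f' := by
      change (RelProj.QGrHom.ofHom ι hz.graded).gradedAt i.U i.hU i.U' i.hU' i.hle i.f = _
      rw [RelProj.QGrHom.gradedAt_apply]
      have := congrArg (fun k => k.hom i.f) (ι.hom.naturality (homOfLE i.hle).op)
      exact this.symm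
    set y := (Proj.awayι (𝒮h.deg i.U' i.hU') _
      ((i.ψ (RelProj.QGrHom.ofHom ι hz.graded)).map_mem i.hf) i.hd).base z₀ with hy
    refine ⟨y, ?_, rfl⟩
    have hyD : y ∈ Proj.basicOpen (𝒮h.deg i.U' i.hU')
        (i.ψ (RelProj.QGrHom.ofHom ι hz.graded) i.f) := by
      have hmem : y ∈ (Proj.awayι (𝒮h.deg i.U' i.hU') _
          ((i.ψ (RelProj.QGrHom.ofHom ι hz.graded)).map_mem i.hf) i.hd).opensRange := ⟨z₀, rfl⟩
      rw [Proj.opensRange_awayι] at hmem
      exact hmem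
    rw [SetLike.mem_coe, RelCone.mem_domOpen]
    refine ⟨f', HomogeneousIdeal.mem_irrelevant_of_mem _ i.hd hf'd, ?_⟩
    have := (Proj.mem_basicOpen _ _ _).mp hyD
    rw [hψ] at this
    exact this

end Pointed

end Groth.Agent.Helper18.ConeQ
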