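import Mathlib
import Groth.Agent.Lib.Helper18.ConeQ4

set_option autoImplicit false
universe u
open CategoryTheory CategoryTheory.Limits AlgebraicGeometry TopologicalSpace Opposite
open scoped HomogeneousIdeal
open HomogeneousLocalization

/-!
# `Φ̂⁻¹(Ê) ⊆ Ê'` and compatibility with the retractions
-/

noncomputable section

namespace Groth.Agent.Helper18.ConeQ

open ProjQ

section Main

variable {Y Y' PC PC' P P' : Scheme.{u}} {q : Y' ⟶ Y}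
  {𝒮 : RelProj.QCGrAlg Y} {𝒮' : RelProj.QCGrAlg Y'} (u : RelProj.QGrHom q 𝒮 𝒮')
  {𝒮h : RelProj.QCGrAlg Y} {ι : 𝒮.toQCAlg ⟶ 𝒮h.toQCAlg} {z : 𝒮h.presheaf.obj (op ⊤)}
  (hz : RelCone.IsPolyOver 𝒮 𝒮h ι z)
  {pC : PC ⟶ Y} {chartC : ∀ (U : Y.Opens) (hU : IsAffineOpen U),
    (((pC ⁻¹ᵁ U : PC.Opens) : Scheme.{u}) ≅ Proj (𝒮h.deg U hU))}
  (hC : RelProj.IsRelProj 𝒮h pC chartC)
  {𝒮h' : RelProj.QCGrAlg Y'} {ι' : 𝒮'.toQCAlg ⟶ 𝒮h'.toQCAlg} {z' : 𝒮h'.presheaf.obj (op ⊤)}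
  (hz' : RelCone.IsPolyOver 𝒮' 𝒮h' ι' z')
  {pC' : PC' ⟶ Y'} {chartC' : ∀ (U : Y'.Opens) (hU : IsAffineOpen U),
    (((pC' ⁻¹ᵁ U : PC'.Opens) : Scheme.{u}) ≅ Proj (𝒮h'.deg U hU))}
  (hC' : RelProj.IsRelProj 𝒮h' pC' chartC')
  (uh : RelProj.QGrHom q 𝒮h 𝒮h')
  (huh : ∀ U : Y.Opens, ι.hom.app (op U) ≫ uh.app U = u.app U ≫ ι'.hom.app (op (q ⁻¹ᵁ U)))
  (huhz : (uh.app ⊤).hom z = RelCone.restrictTop 𝒮h' z' (q ⁻¹ᵁ ⊤))
  (Φh : ((RelProj.domQ uh pC' chartC' : PC'.Opens) : Scheme.{u}) ⟶ PC)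
  (hΦh : RelProj.IsProjQMapOn uh pC chartC pC' chartC' (RelProj.domQ uh pC' chartC') Φh)
  {p' : P' ⟶ Y'} {chart' : ∀ (U : Y'.Opens) (hU : IsAffineOpen U),
    (((p' ⁻¹ᵁ U : P'.Opens) : Scheme.{u}) ≅ Proj (𝒮'.deg U hU))}
  (hP' : RelProj.IsRelProj 𝒮' p' chart')

/-- the composite `φ̂ ∘ ι = ι' ∘ φ : 𝒮 → 𝒮'[z]` -/
abbrev wComp : RelProj.QGrHom q 𝒮 𝒮h' := compBase ι hz.graded uh

theorem wComp_A (U : Y.Opens) (hU : IsAffineOpen U) (U' : Y'.Opens) (hU' : IsAffineOpen U')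
    (hle : U' ≤ q ⁻¹ᵁ U) (x : 𝒮.presheaf.obj (op U)) :
    (wComp hz uh).gradedAt U hU U' hU' hle x =
      uh.gradedAt U hU U' hU' hle (RelProj.gradedHomAt ι hz.graded U hU x) :=
  compBase_gradedAt ι hz.graded uh U hU U' hU' hle x

include huh in
theorem wComp_B (U : Y.Opens) (hU : IsAffineOpen U) (U' : Y'.Opens) (hU' : IsAffineOpen U')
    (hle : U' ≤ q ⁻¹ᵁ U) (x : 𝒮.presheaf.obj (op U)) :
    (wComp hz uh).gradedAt U hU U' hU' hle x =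
      RelProj.gradedHomAt ι' hz'.graded U' hU' (u.gradedAt U hU U' hU' hle x) := by
  rw [wComp_A]
  exact uh_ι u uh huh U U' hle x

include hC hC' huh hΦh hz' in
/-- `Φ̂⁻¹(Ê) ⊆ Ê'` -/
theorem preimage_pointed_le :
    (RelProj.domQ uh pC' chartC').ι ''ᵁ (Φh ⁻¹ᵁ RelCone.pointedProjCone 𝒮 hz pC chartC) ≤
      RelCone.pointedProjCone 𝒮' hz' pC' chartC' := by
  rw [pointedProjCone_eq_domQ hz pC chartC, pointedProjCone_eq_domQ hz' pC' chartC']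
  rintro _ ⟨x₀, hx₀, rfl⟩
  have h1 : x₀.1 ∈ RelProj.domQ (wComp hz uh) pC' chartC' :=
    mem_domQ_comp2 uh Φh hΦh ι hz.graded (wComp hz uh) (wComp_A hz uh) hC hC' x₀ hx₀
  exact domQ_leB u ι' hz'.graded (wComp hz uh) (wComp_B u hz hz' uh huh) h1

include hC hC' huh huhz hΦh hz' hP' in
theorem pointed_of_domQ_top (hG : RelProj.domQ u p' chart' = ⊤) :
    RelProj.domQ uh pC' chartC' = ⊤ ∧
      (RelProj.domQ uh pC' chartC').ι ''ᵁ (Φh ⁻¹ᵁ RelCone.pointedProjCone 𝒮 hz pC chartC) =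
        RelCone.pointedProjCone 𝒮' hz' pC' chartC' := by
  -- `Proj(ι')`
  obtain ⟨r', hr'0⟩ := exists_projQMapOn (u := RelProj.QGrHom.ofHom ι' hz'.graded) hP' hC'
  have hr' : RelProj.IsProjQMapOn (RelProj.QGrHom.ofHom ι' hz'.graded) p' chart' pC' chartC'
      (RelProj.domQ (RelProj.QGrHom.ofHom ι' hz'.graded) pC' chartC') r' :=
    fun U hU U' hU' hle d hd f hf _ => hr'0 ⟨U, hU, U', hU', hle, d, hd, f, hf⟩
  have hlew : RelProj.domQ (wComp hz uh) pC' chartC' ≤ RelProj.domQ uh pC' chartC' :=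
    domQ_le2 uh ι hz.graded (wComp hz uh) (wComp_A hz uh)
  -- points of `Ê'` lie in `G(w)`
  have key : ∀ x ∈ RelProj.domQ (RelProj.QGrHom.ofHom ι' hz'.graded) pC' chartC',
      x ∈ RelProj.domQ (wComp hz uh) pC' chartC' := by
    intro x hx
    refine mem_domQ_compB u ι' hz'.graded (wComp hz uh) (wComp_B u hz hz' uh huh) r' hr' hP' hC'
      ⟨x, hx⟩ ?_
    rw [hG]; trivial
  have hsub : RelCone.pointedProjCone 𝒮' hz' pC' chartC' ≤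
      (RelProj.domQ uh pC' chartC').ι ''ᵁ (Φh ⁻¹ᵁ RelCone.pointedProjCone 𝒮 hz pC chartC) := by
    rw [pointedProjCone_eq_domQ hz pC chartC, pointedProjCone_eq_domQ hz' pC' chartC']
    intro x hx
    have hxw := key x hx
    have h2 := map_mem_domQ2 uh Φh hΦh ι hz.graded (wComp hz uh) (wComp_A hz uh) ⟨x, hxw⟩
    have h3 := congrArg (fun k => k.base (⟨x, hxw⟩ :
      ((RelProj.domQ (wComp hz uh) pC' chartC' : PC'.Opens) : Scheme.{u}))) (PC'.homOfLE_ι hlew)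
    exact ⟨(PC'.homOfLE hlew).base ⟨x, hxw⟩, h2, h3⟩
  refine ⟨?_, le_antisymm (preimage_pointed_le u hz hC hz' hC' uh huh Φh hΦh) hsub⟩
  rw [eq_top_iff]
  intro x _
  obtain ⟨c, hxc⟩ : ∃ c : CPair q, pC'.base x ∈ c.U' := by
    obtain ⟨U, hU0, hyU, -⟩ := Opens.isBasis_iff_nbhd.mp (Y.isBasis_affineOpens)
      (show q.base (pC'.base x) ∈ (⊤ : Y.Opens) from trivial)
    have hU : IsAffineOpen U := hU0
    obtain ⟨U', hU'0, hyU', hle⟩ := Opens.isBasis_iff_nbhd.mp (Y'.isBasis_affineOpens)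
      (show pC'.base x ∈ q ⁻¹ᵁ U from hyU)
    have hU' : IsAffineOpen U' := hU'0
    exact ⟨⟨U, hU, U', hU', hle⟩, hyU'⟩
  have hx' : x ∈ (RelProj.emb pC' chartC' c.U' c.hU').opensRange := by
    rw [opensRange_emb]; exact hxc
  obtain ⟨y, rfl⟩ := hx'
  rcases not_mem_or_mem_domOpen (RelProj.gradedHomAt ι' hz'.graded c.U' c.hU')
    (hz'.deg_z c.U' c.hU') (hz'.bij c.U' c.hU') y with h | h
  · have hy : y ∈ Proj.basicOpen (𝒮h'.deg c.U' c.hU') (RelCone.restrictTop 𝒮h' z' c.U') :=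
      (Proj.mem_basicOpen _ _ _).mpr h
    rw [← Proj.opensRange_awayι _ _ (hz'.deg_z c.U' c.hU') one_pos] at hy
    obtain ⟨z₁, rfl⟩ := hy
    have hcast := awayι_cast (𝒮h'.deg c.U' c.hU') one_pos _ _ (zIdx_eq uh huhz c)
      ((uh.gradedAt c.U c.hU c.U' c.hU' c.hle).map_mem (hz.deg_z c.U c.hU))
      (hz'.deg_z c.U' c.hU')
    have h2 : ((zIdx hz c).k uh pC' chartC').base
        ((Spec.map (CommRingCat.ofHom (castHom (𝒮h'.deg c.U' c.hU') _ _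
          (zIdx_eq uh huhz c)))).base z₁) =
        (RelProj.emb pC' chartC' c.U' c.hU').base
          ((Proj.awayι (𝒮h'.deg c.U' c.hU') (RelCone.restrictTop 𝒮h' z' c.U')
            (hz'.deg_z c.U' c.hU') one_pos).base z₁) := by
      rw [← hcast]
      rfl
    have h3 := RelProj.range_awayEmb_subset_domQ uh pC' chartC' (zIdx hz c).U (zIdx hz c).hU
      (zIdx hz c).U' (zIdx hz c).hU' (zIdx hz c).hle (zIdx hz c).hd (zIdx hz c).f (zIdx hz c).hf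
      ⟨_, h2⟩
    rw [Scheme.Opens.range_ι] at h3
    exact h3
  · have hE : (RelProj.emb pC' chartC' c.U' c.hU').base y ∈
        RelCone.pointedProjCone 𝒮' hz' pC' chartC' := by
      unfold RelCone.pointedProjCone
      refine Opens.mem_iSup.mpr ⟨⟨c.U', c.hU'⟩, ?_⟩
      exact ⟨y, h, rfl⟩
    obtain ⟨x₁, -, hx₁⟩ := hsub hE
    rw [← hx₁]
    exact x₁.2

end Main

end Groth.Agent.Helper18.ConeQ
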