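import Mathlib
import Groth.Agent.Lib.Helper18.ConeQ5

set_option autoImplicit false
universe u
open CategoryTheory CategoryTheory.Limits AlgebraicGeometry TopologicalSpace Opposite
open scoped HomogeneousIdeal
open HomogeneousLocalization

/-!
# Compatibility of `Φ̂` with the retractions of the pointed projective cones
-/

noncomputable section

namespace Groth.Agent.Helper18.ConeQ

open ProjQ

section Retr

variable {Y Y' PC PC' P P' : Scheme.{u}} {q : Y' ⟶ Y}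
  {𝒮 : RelProj.QCGrAlg Y} {𝒮' : RelProj.QCGrAlg Y'} (u : RelProj.QGrHom q 𝒮 𝒮')
  {𝒮h : RelProj.QCGrAlg Y} {ι : 𝒮.toQCAlg ⟶ 𝒮h.toQCAlg} {z : 𝒮h.presheaf.obj (op ⊤)}
  (hz : RelCone.IsPolyOver 𝒮 𝒮h ι z)
  {pC : PC ⟶ Y} {chartC : ∀ (U : Y.Opens) (hU : IsAffineOpen U),
    (((pC ⁻¹ᵁ U : PC.Opens) : Scheme.{u}) ≅ Proj (𝒮h.deg U hU))}
  (hC : RelProj.IsRelProj 𝒮h pC chartC)
  {𝒮h' : RelProj.QCGrAlg Y'} {ι' : 𝒮'.toQCAlg ⟶ 𝒮h'.toQCAlg} {z' : 𝒮h'.presheaf.obj (op ⊤)}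
  (hz' : RelCone.IsPolyOver 𝒮' 𝒮h' ι' z')
  {pC' : PC' ⟶ Y'} {chartC' : ∀ (U : Y'.Opens) (hU : IsAffineOpen U),
    (((pC' ⁻¹ᵁ U : PC'.Opens) : Scheme.{u}) ≅ Proj (𝒮h'.deg U hU))}
  (hC' : RelProj.IsRelProj 𝒮h' pC' chartC')
  (uh : RelProj.QGrHom q 𝒮h 𝒮h')
  (huh : ∀ U : Y.Opens, ι.hom.app (op U) ≫ uh.app U = u.app U ≫ ι'.hom.app (op (q ⁻¹ᵁ U)))
  (Φh : ((RelProj.domQ uh pC' chartC' : PC'.Opens) : Scheme.{u}) ⟶ PC)
  (hΦh : RelProj.IsProjQMapOn uh pC chartC pC' chartC' (RelProj.domQ uh pC' chartC') Φh)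
  {p : P ⟶ Y} {chart : ∀ (U : Y.Opens) (hU : IsAffineOpen U),
    (((p ⁻¹ᵁ U : P.Opens) : Scheme.{u}) ≅ Proj (𝒮.deg U hU))}
  (hP : RelProj.IsRelProj 𝒮 p chart)
  {p' : P' ⟶ Y'} {chart' : ∀ (U : Y'.Opens) (hU : IsAffineOpen U),
    (((p' ⁻¹ᵁ U : P'.Opens) : Scheme.{u}) ≅ Proj (𝒮'.deg U hU))}
  (hP' : RelProj.IsRelProj 𝒮' p' chart')
  (Φ : ((RelProj.domQ u p' chart' : P'.Opens) : Scheme.{u}) ⟶ P)
  (hΦ : RelProj.IsProjQMapOn u p chart p' chart' (RelProj.domQ u p' chart') Φ)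

include hC hC' huh hΦh hP hΦ in
/-- the statement for the opens `G(ι)`, `G(ι')` in place of the pointed cones -/
theorem retraction_comm_aux
    (E : PC.Opens) (hE : E = RelProj.domQ (RelProj.QGrHom.ofHom ι hz.graded) pC chartC)
    (E' : PC'.Opens) (hE' : E' = RelProj.domQ (RelProj.QGrHom.ofHom ι' hz'.graded) pC' chartC')
    (r : (E : Scheme.{u}) ⟶ P)
    (hr : RelProj.IsProjQMapOn (RelProj.QGrHom.ofHom ι hz.graded) p chart pC chartC E r)
    (r' : (E' : Scheme.{u}) ⟶ P')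
    (hr' : RelProj.IsProjQMapOn (RelProj.QGrHom.ofHom ι' hz'.graded) p' chart' pC' chartC' E' r')
    (T : Scheme.{u}) (a : T ⟶ (E' : Scheme.{u}))
    (b : T ⟶ ((RelProj.domQ uh pC' chartC' : PC'.Opens) : Scheme.{u}))
    (c : T ⟶ (E : Scheme.{u}))
    (hab : a ≫ E'.ι = b ≫ (RelProj.domQ uh pC' chartC').ι) (hbc : b ≫ Φh = c ≫ E.ι) :
    Set.range (a ≫ r').base ⊆ ((RelProj.domQ u p' chart' : P'.Opens) : Set P') ∧
      ∀ d : T ⟶ ((RelProj.domQ u p' chart' : P'.Opens) : Scheme.{u}),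
        a ≫ r' = d ≫ (RelProj.domQ u p' chart').ι → c ≫ r = d ≫ Φ := by
  subst hE
  subst hE'
  -- `Proj(w)`
  obtain ⟨rw, hrw0⟩ := exists_projQMapOn (u := wComp hz uh) hP hC'
  have hrw : RelProj.IsProjQMapOn (wComp hz uh) p chart pC' chartC'
      (RelProj.domQ (wComp hz uh) pC' chartC') rw :=
    fun U hU U' hU' hle d hd f hf _ => hrw0 ⟨U, hU, U', hU', hle, d, hd, f, hf⟩
  obtain ⟨r₀, hA1, hA2⟩ := exists_factor2 uh Φh hΦh ι hz.graded (wComp hz uh) (wComp_A hz uh)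
    r hr rw hrw
  obtain ⟨w₀, hB1, hB2⟩ := exists_factorB u Φ hΦ ι' hz'.graded (wComp hz uh)
    (wComp_B u hz hz' uh huh) r' hr' rw hrw
  have hlew : RelProj.domQ (wComp hz uh) pC' chartC' ≤ RelProj.domQ uh pC' chartC' :=
    domQ_le2 uh ι hz.graded (wComp hz uh) (wComp_A hz uh)
  have hlew' : RelProj.domQ (wComp hz uh) pC' chartC' ≤
      RelProj.domQ (RelProj.QGrHom.ofHom ι' hz'.graded) pC' chartC' :=
    domQ_leB u ι' hz'.graded (wComp hz uh) (wComp_B u hz hz' uh huh)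
  -- `b` factors through `G(w)`
  have hbrange : Set.range (b ≫ (RelProj.domQ uh pC' chartC').ι).base ⊆
      Set.range (RelProj.domQ (wComp hz uh) pC' chartC').ι.base := by
    rw [Scheme.Opens.range_ι]
    rintro _ ⟨t, rfl⟩
    refine mem_domQ_comp2 uh Φh hΦh ι hz.graded (wComp hz uh) (wComp_A hz uh) hC hC'
      (b.base t) ?_
    have := congrArg (fun k => k.base t) hbc
    have h2 : Φh.base (b.base t) =
        (RelProj.domQ (RelProj.QGrHom.ofHom ι hz.graded) pC chartC).ι.base (c.base t) := this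
    rw [h2]
    exact (c.base t).2
  let b' : T ⟶ ((RelProj.domQ (wComp hz uh) pC' chartC' : PC'.Opens) : Scheme.{u}) :=
    IsOpenImmersion.lift (RelProj.domQ (wComp hz uh) pC' chartC').ι
      (b ≫ (RelProj.domQ uh pC' chartC').ι) hbrange
  have hb' : b' ≫ (RelProj.domQ (wComp hz uh) pC' chartC').ι =
      b ≫ (RelProj.domQ uh pC' chartC').ι := IsOpenImmersion.lift_fac _ _ _
  have hb'b : b' ≫ PC'.homOfLE hlew = b := by
    rw [← cancel_mono (RelProj.domQ uh pC' chartC').ι, Category.assoc, Scheme.homOfLE_ι, hb']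
  have hb'a : b' ≫ PC'.homOfLE hlew' = a := by
    rw [← cancel_mono (RelProj.domQ (RelProj.QGrHom.ofHom ι' hz'.graded) pC' chartC').ι,
      Category.assoc, Scheme.homOfLE_ι, hb', hab]
  have har' : a ≫ r' = (b' ≫ w₀) ≫ (RelProj.domQ u p' chart').ι := by
    rw [← hb'a, Category.assoc, hB1, Category.assoc]
  constructor
  · rintro _ ⟨t, rfl⟩
    have := congrArg (fun k => k.base t) har'
    have h2 : (a ≫ r').base t = (RelProj.domQ u p' chart').ι.base ((b' ≫ w₀).base t) := this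
    rw [h2]
    exact ((b' ≫ w₀).base t).2
  · intro d hd
    have hd' : d = b' ≫ w₀ := by
      rw [← cancel_mono (RelProj.domQ u p' chart').ι, ← hd, har']
    have hc : c = b' ≫ r₀ := by
      rw [← cancel_mono (RelProj.domQ (RelProj.QGrHom.ofHom ι hz.graded) pC chartC).ι, ← hbc,
        ← hb'b, Category.assoc, Category.assoc, hA1]
    rw [hc, hd', Category.assoc, Category.assoc, hA2, hB2]

end Retr

end Groth.Agent.Helper18.ConeQ
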