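import Mathlib
import Groth.Prelude.Def_CGrpSh
import Groth.Agent.Lib.Helper15.SchReduced

/-!
# Points of a finite group scheme with connected fibres in reduced schemes (helper18)
-/

set_option autoImplicit false
set_option linter.style.haveILetI false
universe u

open CategoryTheory CategoryTheory.Limits MonoidalCategory CartesianMonoidalCategory MonObj AlgebraicGeometry Opposite

namespace Groth.Agent.Helper18.ConnFinGrp

variable {S : Scheme.{u}} (I : Over S) [GrpObj I] [IsFinite I.hom]
  (hconn : ∀ s : S, ConnectedSpace ↥(I.hom.fiber s))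

include hconn in
theorem fibre_subsingleton (s : S) : (I.hom ⁻¹' {s}).Subsingleton := by
  haveI := hconn s
  haveI : DiscreteTopology ↥(I.hom.fiber s) := inferInstance
  haveI : Subsingleton ↥(I.hom.fiber s) := subsingleton_of_preconnected_totallyDisconnected
  intro a ha b hb
  have := Subsingleton.elim ((I.hom.fiberHomeo s).symm ⟨a, ha⟩) ((I.hom.fiberHomeo s).symm ⟨b, hb⟩)
  have h2 := (I.hom.fiberHomeo s).symm.injective this
  exact congrArg Subtype.val h2

include hconn in
theorem eq_one_of_isReduced (T : Over S) [IsReduced T.left] (x : T ⟶ I) : x = 1 := by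
  let e : S ⟶ I.left := η[I].left
  have he : e ≫ I.hom = 𝟙 S := Over.w η[I]
  haveI : IsClosedImmersion e := by
    haveI : IsClosedImmersion (e ≫ I.hom) := by rw [he]; infer_instance
    exact IsClosedImmersion.of_comp e I.hom
  haveI : Surjective e := ⟨by
    intro z
    refine ⟨I.hom z, ?_⟩
    have h1 := fibre_subsingleton I hconn (I.hom z)
    refine h1 ?_ rfl
    change I.hom (e (I.hom z)) = I.hom z
    have : I.hom (e (I.hom z)) = (e ≫ I.hom) (I.hom z) := rfl
    rw [this, he]
    rfl⟩
  haveI : IsIso (pullback.fst x.left e) := isIso_of_isClosedImmersion_of_surjective _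
  have hx : x.left = (inv (pullback.fst x.left e) ≫ pullback.snd x.left e) ≫ e := by
    rw [Category.assoc, ← pullback.condition, IsIso.inv_hom_id_assoc]
  have hy : inv (pullback.fst x.left e) ≫ pullback.snd x.left e = T.hom := by
    have h1 := congrArg (fun t => t ≫ I.hom) hx
    simp only [Category.assoc, he, Category.comp_id] at h1
    rw [← h1]
    exact Over.w x
  apply Over.OverMorphism.ext
  rw [hx, hy, Hom.one_def]
  rfl

end Groth.Agent.Helper18.ConnFinGrp
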