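import Mathlib
import Groth.Agent.Lib.Helper5.ProConsTop
import Groth.Agent.Lib.Helper11.Spectral

/-!
# Constructible topology of a quasi-separated prespectral space: local structure
-/

set_option autoImplicit false

namespace Groth.Agent.Helper18.Cons

open Topology Set Set.Notation Groth.Agent.Helper5.PC

variable {X : Type*} [TopologicalSpace X]

theorem isSpectralMap_subtype_val [QuasiSeparatedSpace X] {V : Set X} (hVo : IsOpen V)
    (hVc : IsCompact V) : IsSpectralMap (Subtype.val : ↥V → X) := by
  refine ⟨continuous_subtype_val, fun K hKo hKc => ?_⟩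
  have h1 : IsCompact (K ∩ V) := QuasiSeparatedSpace.inter_isCompact K V hKo hKc hVo hVc
  have h2 : (Subtype.val : ↥V → X) ⁻¹' K = Subtype.val ⁻¹' (K ∩ V) := by
    ext x; simp
  rw [h2]
  exact (IsInducing.subtypeVal.isCompact_preimage_iff (by simp)).mpr h1

theorem continuous_cT_subtype_val [QuasiSeparatedSpace X] {V : Set X} (hVo : IsOpen V)
    (hVc : IsCompact V) :
    @Continuous ↥V X (constructibleTopology ↥V) (constructibleTopology X) Subtype.val :=
  continuous_cT_of_isSpectralMap (isSpectralMap_subtype_val hVo hVc)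

theorem isCompact_cT_of_isCompact_isOpen [QuasiSeparatedSpace X] [QuasiSober X] [PrespectralSpace X]
    {V : Set X} (hVo : IsOpen V) (hVc : IsCompact V) :
    @IsCompact X (constructibleTopology X) V := by
  have i1 : CompactSpace ↥V := isCompact_iff_compactSpace.mp hVc
  have i2 : QuasiSober ↥V := hVo.isOpenEmbedding_subtypeVal.quasiSober
  have i3 : PrespectralSpace ↥V := hVo.isOpenEmbedding_subtypeVal.prespectralSpace
  have i4 : QuasiSeparatedSpace ↥V := hVo.isOpenEmbedding_subtypeVal.quasiSeparatedSpace
  have hc : @CompactSpace ↥V (constructibleTopology ↥V) := compactSpace_cT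
  have := @IsCompact.image ↥V X (constructibleTopology ↥V) (constructibleTopology X) univ
    Subtype.val (@isCompact_univ ↥V (constructibleTopology ↥V) hc) (continuous_cT_subtype_val hVo hVc)
  rwa [image_univ, Subtype.range_coe] at this

theorem isOpen_cT_image_subtype_val {V : Set X} (hVo : IsOpen V) (hVc : IsCompact V)
    {t : Set ↥V} (ht : IsOpen[constructibleTopology ↥V] t) :
    IsOpen[constructibleTopology X] (Subtype.val '' t) := by
  have ht' : TopologicalSpace.GenerateOpen (constructibleTopologySubbasis ↥V) t := ht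
  induction ht' with
  | basic s hs =>
    rcases hs with ⟨hso, hsc⟩ | ⟨hscl, hsc⟩
    · exact isOpen_cT_of_isCompact_isOpen (hsc.image continuous_subtype_val)
        (hVo.isOpenMap_subtype_val _ hso)
    · have h1 : (Subtype.val '' s : Set X) = V ∩ (Subtype.val '' sᶜ)ᶜ := by
        ext x
        constructor
        · rintro ⟨y, hy, rfl⟩
          refine ⟨y.2, ?_⟩
          rintro ⟨z, hz, hzy⟩
          have : z = y := Subtype.ext hzy
          exact hz (this ▸ hy)
        · rintro ⟨hxV, hx⟩
          refine ⟨⟨x, hxV⟩, ?_, rfl⟩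
          by_contra hxs
          exact hx ⟨⟨x, hxV⟩, hxs, rfl⟩
      rw [h1]
      exact @IsOpen.inter X (constructibleTopology X) _ _ (isOpen_cT_of_isCompact_isOpen hVc hVo)
        (isOpen_cT_compl_of_isCompact_isOpen (hsc.image continuous_subtype_val)
          (hVo.isOpenMap_subtype_val _ hscl.isOpen_compl))
  | univ =>
    rw [image_univ, Subtype.range_coe]
    exact isOpen_cT_of_isCompact_isOpen hVc hVo
  | inter s t _ _ ihs iht =>
    rw [image_inter Subtype.val_injective]
    exact @IsOpen.inter X (constructibleTopology X) _ _ (ihs (by assumption)) (iht (by assumption))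
  | sUnion S hS ih =>
    rw [sUnion_eq_biUnion, image_iUnion₂]
    exact @isOpen_biUnion X _ (constructibleTopology X) _ _ (fun s hs => ih s hs (hS s hs))

/-- For subsets of a compact open `V`, openness for the constructible topologies of `V` and of `X`
agree. -/
theorem isOpen_cT_preimage_iff [QuasiSeparatedSpace X] {V : Set X} (hVo : IsOpen V)
    (hVc : IsCompact V) {E : Set X} :
    IsOpen[constructibleTopology ↥V] (V ↓∩ E) ↔ IsOpen[constructibleTopology X] (V ∩ E) := by
  constructor
  · intro h
    have := isOpen_cT_image_subtype_val hVo hVc h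
    rwa [Subtype.image_preimage_coe] at this
  · intro h
    have := @IsOpen.preimage ↥V X (constructibleTopology ↥V) (constructibleTopology X) _
      (continuous_cT_subtype_val hVo hVc) _ h
    rwa [Subtype.preimage_coe_self_inter] at this

theorem t2Space_withCT [T0Space X] [PrespectralSpace X] : T2Space (WithConstructibleTopology X) := by
  have h := @t2Space_cT X _ _ _
  refine ⟨fun x y hxy => ?_⟩
  obtain ⟨u, v, hu, hv, hxu, hyv, huv⟩ := @T2Space.t2 X (constructibleTopology X) h
    (WithTopology.ofTopology x) (WithTopology.ofTopology y)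
    (fun e => hxy (WithTopology.ofTopology_injective _ e))
  refine ⟨WithTopology.ofTopology ⁻¹' u, WithTopology.ofTopology ⁻¹' v, ?_, ?_, hxu, hyv,
    huv.preimage _⟩
  · exact hu
  · exact hv

theorem exists_compact_open_nhds [PrespectralSpace X] (x : X) :
    ∃ V : Set X, IsOpen V ∧ IsCompact V ∧ x ∈ V := by
  obtain ⟨K, ⟨hKo, hKc⟩, hxK, -⟩ :=
    PrespectralSpace.isTopologicalBasis.mem_nhds_iff.mp (Filter.univ_mem : (univ : Set X) ∈ 𝓝 x)
  exact ⟨K, hKo, hKc, hxK⟩

theorem weaklyLocallyCompactSpace_cT [QuasiSeparatedSpace X] [QuasiSober X] [PrespectralSpace X] :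
    @WeaklyLocallyCompactSpace X (constructibleTopology X) := by
  refine @WeaklyLocallyCompactSpace.mk X (constructibleTopology X) (fun x => ?_)
  obtain ⟨V, hVo, hVc, hxV⟩ := exists_compact_open_nhds x
  exact ⟨V, isCompact_cT_of_isCompact_isOpen hVo hVc,
    @IsOpen.mem_nhds X (constructibleTopology X) x V (isOpen_cT_of_isCompact_isOpen hVc hVo) hxV⟩

/-- The tautological homeomorphism. -/
def homeoWT (t : TopologicalSpace X) : @Homeomorph (WithTopology X t) X _ t :=
  @Homeomorph.mk _ _ _ t (WithTopology.equiv X t) (WithTopology.continuous_ofTopology t)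
    (WithTopology.continuous_toTopology t)

theorem weaklyLocallyCompactSpace_withCT [QuasiSeparatedSpace X] [QuasiSober X]
    [PrespectralSpace X] : WeaklyLocallyCompactSpace (WithConstructibleTopology X) := by
  refine ⟨fun x => ?_⟩
  obtain ⟨V, hVo, hVc, hxV⟩ := exists_compact_open_nhds (WithTopology.ofTopology x)
  refine ⟨WithTopology.ofTopology ⁻¹' V, ?_, ?_⟩
  · exact (@Homeomorph.isCompact_preimage _ _ _ (constructibleTopology X) V
      (homeoWT (constructibleTopology X))).mpr (isCompact_cT_of_isCompact_isOpen hVo hVc)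
  · have ho : IsOpen (WithTopology.ofTopology ⁻¹' V : Set (WithConstructibleTopology X)) :=
      isOpen_cT_of_isCompact_isOpen hVc hVo
    exact ho.mem_nhds hxV

theorem totallySeparatedSpace_withCT [T0Space X] [PrespectralSpace X] :
    TotallySeparatedSpace (WithConstructibleTopology X) := by
  rw [totallySeparatedSpace_iff_exists_isClopen]
  -- a compact open set is clopen
  have hclopen : ∀ K : Set X, IsOpen K → IsCompact K →
      IsClopen (WithTopology.ofTopology ⁻¹' K : Set (WithConstructibleTopology X)) := by
    intro K hKo hKc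
    refine ⟨?_, ?_⟩
    · rw [← isOpen_compl_iff]
      exact isOpen_cT_compl_of_isCompact_isOpen hKc hKo
    · exact isOpen_cT_of_isCompact_isOpen hKc hKo
  intro x y hxy
  have hne : ¬ Inseparable (WithTopology.ofTopology x) (WithTopology.ofTopology y) :=
    fun h => hxy (WithTopology.ofTopology_injective _ h.eq)
  rw [inseparable_iff_forall_isOpen, not_forall] at hne
  obtain ⟨U, hU⟩ := hne
  rw [Classical.not_imp] at hU
  obtain ⟨hUo, hU⟩ := hU
  by_cases hx : WithTopology.ofTopology x ∈ U
  · have hy : WithTopology.ofTopology y ∉ U := fun hy => hU ⟨fun _ => hy, fun _ => hx⟩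
    obtain ⟨K, ⟨hKo, hKc⟩, hxK, hKU⟩ :=
      PrespectralSpace.isTopologicalBasis.mem_nhds_iff.mp (hUo.mem_nhds hx)
    exact ⟨_, hclopen K hKo hKc, hxK, fun h => hy (hKU h)⟩
  · have hy : WithTopology.ofTopology y ∈ U := by
      by_contra hy
      exact hU ⟨fun h => absurd h hx, fun h => absurd h hy⟩
    obtain ⟨K, ⟨hKo, hKc⟩, hyK, hKU⟩ :=
      PrespectralSpace.isTopologicalBasis.mem_nhds_iff.mp (hUo.mem_nhds hy)
    refine ⟨_, (hclopen K hKo hKc).compl, fun h => hx (hKU h), ?_⟩
    simpa using hyK

/-- Locally constructible = clopen for the constructible topology. -/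
theorem isLocallyConstructible_iff_isClopen_cT [QuasiSeparatedSpace X] [QuasiSober X]
    [PrespectralSpace X] (E : Set X) :
    IsLocallyConstructible E ↔
      (IsOpen[constructibleTopology X] E ∧ IsClosed[constructibleTopology X] E) := by
  have inst : ∀ {V : Set X}, IsOpen V → IsCompact V →
      CompactSpace ↥V ∧ QuasiSober ↥V ∧ PrespectralSpace ↥V ∧ QuasiSeparatedSpace ↥V := by
    intro V hVo hVc
    exact ⟨isCompact_iff_compactSpace.mp hVc, hVo.isOpenEmbedding_subtypeVal.quasiSober,
      hVo.isOpenEmbedding_subtypeVal.prespectralSpace,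
      hVo.isOpenEmbedding_subtypeVal.quasiSeparatedSpace⟩
  have key : ∀ E : Set X, IsLocallyConstructible E → IsOpen[constructibleTopology X] E := by
    intro E hE
    rw [@isOpen_iff_forall_mem_open X (constructibleTopology X) E]
    intro x hx
    obtain ⟨V, hVo, hVc, hxV⟩ := exists_compact_open_nhds x
    obtain ⟨i1, i2, i3, i4⟩ := inst hVo hVc
    have h1 : IsConstructible (V ↓∩ E) :=
      (hE.preimage_of_isOpenEmbedding hVo.isOpenEmbedding_subtypeVal).isConstructible
    have h2 := (isClopen_cT_of_isConstructible h1).1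
    exact ⟨V ∩ E, inter_subset_right, (isOpen_cT_preimage_iff hVo hVc).mp h2, hxV, hx⟩
  constructor
  · intro hE
    refine ⟨key E hE, ?_⟩
    rw [← @isOpen_compl_iff X E (constructibleTopology X)]
    exact key _ (isLocallyConstructible_compl hE)
  · rintro ⟨hEo, hEc⟩
    intro x
    obtain ⟨V, hVo, hVc, hxV⟩ := exists_compact_open_nhds x
    obtain ⟨i1, i2, i3, i4⟩ := inst hVo hVc
    have hV' : IsOpen[constructibleTopology X] V := isOpen_cT_of_isCompact_isOpen hVc hVo
    refine ⟨V, hVo.mem_nhds hxV, hVo, isConstructible_of_isClopen_cT ?_ ?_⟩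
    · exact (isOpen_cT_preimage_iff hVo hVc).mpr
        (@IsOpen.inter X (constructibleTopology X) _ _ hV' hEo)
    · rw [← preimage_compl]
      refine (isOpen_cT_preimage_iff hVo hVc).mpr
        (@IsOpen.inter X (constructibleTopology X) _ _ hV' ?_)
      rw [@isOpen_compl_iff X E (constructibleTopology X)]
      exact hEc

/-- Spectral maps are exactly those proper for the constructible topologies. -/
theorem isProperMap_cT_iff {Y : Type*} [TopologicalSpace Y]
    [QuasiSeparatedSpace X] [QuasiSober X] [PrespectralSpace X]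
    [T0Space Y] [QuasiSeparatedSpace Y] [QuasiSober Y] [PrespectralSpace Y]
    (f : X → Y) (hf : Continuous f) :
    (∀ U : Set Y, IsOpen U → IsCompact U → IsCompact (f ⁻¹' U)) ↔
      @IsProperMap X Y (constructibleTopology X) (constructibleTopology Y) f := by
  have hT2 : @T2Space Y (constructibleTopology Y) := t2Space_cT
  have hWLC : @WeaklyLocallyCompactSpace Y (constructibleTopology Y) := weaklyLocallyCompactSpace_cT
  have hCC : @CompactlyCoherentSpace Y (constructibleTopology Y) :=
    @CompactlyCoherentSpace.of_weaklyLocallyCompactSpace Y (constructibleTopology Y) hWLC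
  rw [@isProperMap_iff_isCompact_preimage X Y (constructibleTopology X) (constructibleTopology Y)
    hT2 hCC f]
  constructor
  · intro h
    have hsp : IsSpectralMap f := ⟨hf, fun U hUo hUc => h U hUo hUc⟩
    have hcont := continuous_cT_of_isSpectralMap hsp
    refine ⟨hcont, fun K hK => ?_⟩
    have hK' : IsCompact K := Groth.Agent.Helper11.isCompact_of_isCompact_constructibleTopology hK
    obtain ⟨W, hWc, hWo, hKW, -⟩ :=
      PrespectralSpace.exists_isCompact_and_isOpen_between hK' isOpen_univ (subset_univ _)
    have h1 : @IsCompact X (constructibleTopology X) (f ⁻¹' W) :=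
      isCompact_cT_of_isCompact_isOpen (hWo.preimage hf) (h W hWo hWc)
    have h2 : IsClosed[constructibleTopology Y] K :=
      @IsCompact.isClosed Y (constructibleTopology Y) hT2 K hK
    have h3 : IsClosed[constructibleTopology X] (f ⁻¹' K) :=
      @IsClosed.preimage X Y (constructibleTopology X) (constructibleTopology Y) f hcont K h2
    exact @IsCompact.of_isClosed_subset X (constructibleTopology X) _ _ h1 h3
      (preimage_mono hKW)
  · rintro ⟨-, h⟩ U hUo hUc
    exact Groth.Agent.Helper11.isCompact_of_isCompact_constructibleTopology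
      (h (isCompact_cT_of_isCompact_isOpen hUo hUc))

end Groth.Agent.Helper18.Cons
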