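import Mathlib

/-!
# Constructible subsets of Jacobson spaces (helper18)
-/

set_option autoImplicit false
universe u
open Topology TopologicalSpace Set

namespace Groth.Agent.Helper18.ConsJac

variable {X : Type*} [TopologicalSpace X]

/-- a nonempty constructible set contains a nonempty locally closed subset -/
theorem exists_isLocallyClosed_subset {s : Set X} (hs : IsConstructible s) (hne : s.Nonempty) :
    ∃ Z ⊆ s, Z.Nonempty ∧ IsLocallyClosed Z := by
  revert hne
  induction s, hs using BooleanSubalgebra.closure_sdiff_sup_induction with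
  | isSublattice =>
    exact ⟨fun s hs t ht ↦ ⟨hs.1.union ht.1, hs.2.union ht.2⟩,
      fun s hs t ht ↦ ⟨hs.1.inter ht.1, hs.2.inter_isOpen ht.2 ht.1⟩⟩
  | bot_mem => exact ⟨isOpen_empty, .empty⟩
  | top_mem => exact ⟨isOpen_univ, .univ⟩
  | sdiff U hU V hV =>
    intro hne
    exact ⟨U \ V, subset_rfl, hne,
      hU.1.isLocallyClosed.inter hV.1.isClosed_compl.isLocallyClosed⟩
  | sup s _ t _ hs' ht' =>
    rintro ⟨x, hx | hx⟩
    · obtain ⟨Z, hZs, hZ⟩ := hs' ⟨x, hx⟩
      exact ⟨Z, hZs.trans subset_union_left, hZ⟩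
    · obtain ⟨Z, hZs, hZ⟩ := ht' ⟨x, hx⟩
      exact ⟨Z, hZs.trans subset_union_right, hZ⟩

/-- a constructible subset of a Jacobson space containing all closed points is everything -/
theorem eq_univ_of_isConstructible [JacobsonSpace X] {s : Set X} (hs : IsConstructible s)
    (h : closedPoints X ⊆ s) : s = univ := by
  by_contra hne
  have hne' : (sᶜ).Nonempty := by
    rw [Set.nonempty_compl]; exact hne
  obtain ⟨Z, hZs, hZne, hZ⟩ := exists_isLocallyClosed_subset hs.compl hne'
  obtain ⟨y, hyZ, hy⟩ := nonempty_inter_closedPoints hZne hZ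
  exact hZs hyZ (h hy)

end Groth.Agent.Helper18.ConsJac
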