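import Mathlib
import Groth.Agent.Lib.Helper28.H0Const
import Groth.Agent.Lib.Helper4.SmoothRat
import Groth.Agent.Lib.Helper23.QsGeo1

/-!
# H⁰ = k ⟺ geometrically connected ⟺ geometrically integral for proper smooth schemes over a field
(helper18)
-/

set_option autoImplicit false
set_option linter.style.haveILetI false

open CategoryTheory CategoryTheory.Limits AlgebraicGeometry Opposite TopologicalSpace

universe u

namespace Groth.Agent.Helper18.CurveH0

/-- A connected quasi-compact scheme smooth over a field is integral. -/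
theorem isIntegral_of_smooth_connected (K : Type u) [Field K] {Z : Scheme.{u}}
    (g : Z ⟶ Spec (CommRingCat.of K)) [Smooth g] [QuasiCompact g] [ConnectedSpace Z] :
    IsIntegral Z := by
  haveI : IsLocallyNoetherian Z := LocallyOfFiniteType.isLocallyNoetherian g
  haveI : CompactSpace Z := QuasiCompact.compactSpace_of_compactSpace g
  haveI : IsNoetherian Z := ⟨⟩
  have hdom : ∀ z : Z, IsDomain (Z.presheaf.stalk z) := fun z => by
    haveI := Groth.Agent.Helper4.SmoothRegSch.isRegularLocalRing_stalk K g z
    exact Groth.Agent.Lead.RLR.isDomain _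
  haveI : IrreducibleSpace Z := Groth.Agent.Helper4.SmoothRat.irreducibleSpace_of_connected Z hdom
  haveI : IsReduced Z := by
    haveI : ∀ z : Z, _root_.IsReduced (Z.presheaf.stalk z) := fun z => by
      haveI := hdom z
      infer_instance
    exact isReduced_of_isReduced_stalk Z
  exact isIntegral_of_irreducibleSpace_of_isReduced Z

/-- A scheme smooth over a field is reduced. -/
theorem isReduced_of_smooth (K : Type u) [Field K] {Z : Scheme.{u}}
    (g : Z ⟶ Spec (CommRingCat.of K)) [Smooth g] : IsReduced Z := by
  haveI : ∀ z : Z, _root_.IsReduced (Z.presheaf.stalk z) := fun z => by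
    haveI := Groth.Agent.Helper4.SmoothRegSch.isRegularLocalRing_stalk K g z
    haveI := Groth.Agent.Lead.RLR.isDomain (Z.presheaf.stalk z)
    infer_instance
  exact isReduced_of_isReduced_stalk Z

variable {k : Type u} [Field k] {X : Scheme.{u}}

/-- smooth over a field ⟹ geometrically reduced -/
theorem geometricallyReduced_of_smooth (f : X ⟶ Spec (CommRingCat.of k)) [Smooth f] :
    GeometricallyReduced f := by
  refine ⟨fun K _ y Z fst snd h => ?_⟩
  haveI : Smooth snd := MorphismProperty.of_isPullback (P := @Smooth) h inferInstance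
  exact isReduced_of_smooth K snd

/-- for smooth quasi-compact `f`, geometrically connected ⟹ geometrically integral -/
theorem geometricallyIntegral_of_connected (f : X ⟶ Spec (CommRingCat.of k)) [Smooth f]
    [QuasiCompact f] [GeometricallyConnected f] : GeometricallyIntegral f := by
  refine ⟨fun K _ y Z fst snd h => ?_⟩
  haveI : ConnectedSpace Z :=
    (GeometricallyConnected.geometrically_connectedSpace (f := f)) y fst snd h
  haveI : Smooth snd := MorphismProperty.of_isPullback (P := @Smooth) h inferInstance
  haveI : QuasiCompact snd := MorphismProperty.of_isPullback (P := @QuasiCompact) h inferInstance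
  exact isIntegral_of_smooth_connected K snd

/-- geometrically integral ⟹ geometrically connected -/
theorem geometricallyConnected_of_integral (f : X ⟶ Spec (CommRingCat.of k))
    [GeometricallyIntegral f] : GeometricallyConnected f := by
  refine ⟨fun K _ y Z fst snd h => ?_⟩
  haveI : IsIntegral Z :=
    (GeometricallyIntegral.geometrically_isIntegral (f := f)) y fst snd h
  infer_instance

/-- if `k → Γ(X, ⊤)` is bijective and `X` is qcqs over `k`, then `X` is geometrically connected -/
theorem geometricallyConnected_of_bijective (f : X ⟶ Spec (CommRingCat.of k)) [QuasiCompact f]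
    [QuasiSeparated f] (hb : Function.Bijective (Coh.toGlobal f)) : GeometricallyConnected f := by
  refine ⟨fun K _ y Z fst snd h => ?_⟩
  haveI : Flat y := by
    rw [← Spec.map_preimage y, HasRingHomProperty.Spec_iff (P := @Flat)]
    letI : Algebra k K := (Spec.preimage y).hom.toAlgebra
    exact (RingHom.flat_algebraMap_iff).2 inferInstance
  haveI : CompactSpace X := (quasiCompact_iff_compactSpace f).mp inferInstance
  haveI : QuasiSeparatedSpace X := quasiSeparatedSpace_of_quasiSeparated f
  have hiso := isIso_pushoutSection_of_isQuasiSeparated_of_flat_right h (US := ⊤) (UT := ⊤)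
    (UX := ⊤) (UY := ⊤) le_top le_top (by simp) (isAffineOpen_top _) (isAffineOpen_top _)
    isCompact_univ isQuasiSeparated_univ
  have hpo := (isIso_pushoutSection_iff h _ _ _).mp hiso
  -- `f.appLE ⊤ ⊤` is an isomorphism
  have hfiso : IsIso (f.appLE ⊤ ⊤ le_top) := by
    have hbij : Function.Bijective (f.appLE ⊤ ⊤ le_top).hom := by
      have h1 : (f.appLE ⊤ ⊤ le_top) = f.appTop := by simp [Scheme.Hom.appLE]
      rw [h1]
      have h2 : ∀ a, f.appTop.hom a =
          (Coh.toGlobal f) ((Scheme.ΓSpecIso (CommRingCat.of k)).hom.hom a) := by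
        intro a
        have hh : (Scheme.ΓSpecIso (CommRingCat.of k)).inv.hom
            ((Scheme.ΓSpecIso (CommRingCat.of k)).hom.hom a) = a := by
          rw [← CommRingCat.comp_apply, Iso.hom_inv_id]
          rfl
        show f.appTop.hom a = f.appTop.hom ((Scheme.ΓSpecIso (CommRingCat.of k)).inv.hom
            ((Scheme.ΓSpecIso (CommRingCat.of k)).hom.hom a))
        rw [hh]
      have h3 : (f.appTop.hom : _ → _) =
          (Coh.toGlobal f) ∘ (Scheme.ΓSpecIso (CommRingCat.of k)).hom.hom := funext h2
      rw [h3]
      exact hb.comp (ConcreteCategory.bijective_of_isIso (Scheme.ΓSpecIso (CommRingCat.of k)).hom)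
    exact (ConcreteCategory.isIso_iff_bijective _).mpr hbij
  have hle : (⊤ : Z.Opens) ≤ snd ⁻¹ᵁ ⊤ := by simp
  have hsiso : IsIso (snd.appLE ⊤ ⊤ hle) := hpo.isIso_inr_of_isIso hfiso
  -- Γ(Z, ⊤) is ring-isomorphic to `K`
  let e : K ≃+* Γ(Z, ⊤) :=
    ((Scheme.ΓSpecIso (CommRingCat.of K)).symm ≪≫
      asIso (snd.appLE ⊤ ⊤ hle)).commRingCatIsoToRingEquiv
  haveI : Nontrivial Γ(Z, ⊤) := e.injective.nontrivial
  have hpre : PreconnectedSpace Z := by
    by_contra hnp
    obtain ⟨a, ha, ha0, ha1⟩ :=
      Groth.Agent.Helper23.QsGeo.exists_idempotent_of_not_preconnected Z hnp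
    have hid : IsIdempotentElem (e.symm a) := ha.map e.symm
    rcases (IsIdempotentElem.iff_eq_zero_or_one.mp hid) with h0 | h1
    · exact ha0 (by simpa using congrArg e h0)
    · exact ha1 (by simpa using congrArg e h1)
  have hne : Nonempty Z := by
    by_contra hne
    haveI : IsEmpty Z := not_nonempty_iff.mp hne
    have htop : (⊤ : Z.Opens) = ⊥ := by
      ext z
      exact isEmptyElim z
    have : (1 : Γ(Z, ⊤)) = 0 := by
      haveI : Subsingleton Γ(Z, ⊤) := by
        rw [htop]
        infer_instance
      exact Subsingleton.elim _ _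
    exact one_ne_zero this
  exact { toPreconnectedSpace := hpre, toNonempty := hne }

/-- `finrank H⁰(X, O_X) = 1` implies `k → Γ(X, ⊤)` bijective -/
theorem bijective_toGlobal_of_finrank [X.Over (Spec (CommRingCat.of k))]
    (h : Module.finrank k (Coh.HH X (Coh.structureModule X) 0) = 1) :
    Function.Bijective (Coh.toGlobal (X ↘ Spec (CommRingCat.of k))) := by
  have hsmul : ∀ (c : k) (x : Coh.HH X (Coh.structureModule X) 0),
      Groth.Agent.Helper28.H0Const.h0Equiv X (c • x) =
        Coh.toGlobal (X ↘ Spec (CommRingCat.of k)) c *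
          Groth.Agent.Helper28.H0Const.h0Equiv X x :=
    fun c x => Groth.Agent.Helper28.H0Const.h0Equiv_smul X _ x
  haveI : Nontrivial (Coh.HH X (Coh.structureModule X) 0) :=
    Module.nontrivial_of_finrank_pos (R := k) (by omega)
  haveI : Nontrivial (Coh.Γtop X) :=
    (Groth.Agent.Helper28.H0Const.h0Equiv X).injective.nontrivial
  have hune : (Groth.Agent.Helper28.H0Const.h0Equiv X).symm 1 ≠ 0 := by
    intro hu0
    have h10 : (1 : Coh.Γtop X) = 0 := by
      have := congrArg (Groth.Agent.Helper28.H0Const.h0Equiv X) hu0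
      rwa [AddEquiv.apply_symm_apply, map_zero] at this
    exact one_ne_zero h10
  refine ⟨RingHom.injective _, fun r => ?_⟩
  obtain ⟨c, hc⟩ := (finrank_eq_one_iff_of_nonzero' _ hune).1 h
    ((Groth.Agent.Helper28.H0Const.h0Equiv X).symm r)
  refine ⟨c, ?_⟩
  have := congrArg (Groth.Agent.Helper28.H0Const.h0Equiv X) hc
  rw [hsmul, AddEquiv.apply_symm_apply, AddEquiv.apply_symm_apply, mul_one] at this
  exact this

end Groth.Agent.Helper18.CurveH0
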