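import Mathlib
import Groth.Agent.Lib.Helper4.CurveExt

/-!
# Sections of proper schemes over a Dedekind domain from generic sections
-/

set_option autoImplicit false
universe u
open CategoryTheory AlgebraicGeometry Limits

namespace Groth.Agent.Helper18.DedekindSec

theorem exists_section_of_generic (R : CommRingCat.{u}) [IsDomain R] [IsDedekindDomain R]
    (Y : Scheme.{u}) (pY : Y ⟶ Spec R) [IsProper pY]
    (φ : Spec ((Spec R).presheaf.stalk (genericPoint (Spec R))) ⟶ Y)
    (hφ : φ ≫ pY = (Spec R).fromSpecStalk (genericPoint (Spec R))) :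
    ∃ s : Spec R ⟶ Y, s ≫ pY = 𝟙 _ := by
  have hφ' : φ ≫ pY = (Spec R).fromSpecStalk (genericPoint (Spec R)) ≫ 𝟙 _ := by
    rw [hφ, Category.comp_id]
  obtain ⟨U, hξU, g, hg1, hg2⟩ := spread_out_of_isGermInjective' (𝟙 _) pY φ hφ'
  have hU : Dense (U : Set (Spec R)) := U.isOpen.dense ⟨_, hξU⟩
  haveI : IsNoetherianRing R := IsDedekindRing.toIsNoetherian
  obtain ⟨g', ⟨-, hg'⟩, -⟩ := Groth.Agent.Helper4.CurveExt.existsUnique_extension_of_local (𝟙 _) pY U hU g hg2
    (fun x => by
      by_cases hx : x ∈ U
      · refine ⟨U, g, hx, hg2, ?_⟩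
        intro Q a b hab
        rw [(cancel_mono U.ι).mp hab]
      · have hne : x.asIdeal ≠ ⊥ := by
          intro h0
          apply hx
          have : x = genericPoint (Spec R) := by
            rw [genericPoint_eq_bot_of_affine]
            exact PrimeSpectrum.ext h0
          rw [this]
          exact hξU
        haveI : IsDomain ((Spec R).presheaf.stalk x) := inferInstance
        letI : Algebra R ((Spec R).presheaf.stalk x) := StructureSheaf.stalkAlgebra (R := R) x
        haveI : IsLocalization.AtPrime ((Spec R).presheaf.stalk x) x.asIdeal :=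
          StructureSheaf.IsLocalization.to_stalk R x
        haveI : IsDiscreteValuationRing ((Spec R).presheaf.stalk x) :=
          IsLocalization.AtPrime.isDiscreteValuationRing_of_dedekind_domain (A := R) hne
            ((Spec R).presheaf.stalk x)
        exact Groth.Agent.Helper4.CurveExt.exists_local_extension (𝟙 _) pY U hU g hg2 x)
  exact ⟨g', hg'⟩

theorem exists_section_of_fractionRing (R : Type u) [CommRing R] [IsDedekindDomain R]
    (Y : Scheme.{u}) (pY : Y ⟶ Spec (CommRingCat.of R)) [IsProper pY]
    (σ : Spec (CommRingCat.of (FractionRing R)) ⟶ Y)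
    (hσ : σ ≫ pY = Spec.map (CommRingCat.ofHom (algebraMap R (FractionRing R)))) :
    ∃ s : Spec (CommRingCat.of R) ⟶ Y, s ≫ pY = 𝟙 _ := by
  haveI : IsDomain (CommRingCat.of R) := inferInstanceAs (IsDomain R)
  haveI : IsDedekindDomain (CommRingCat.of R) := inferInstanceAs (IsDedekindDomain R)
  let K' := (Spec (CommRingCat.of R)).functionField
  letI : Algebra R K' := (StructureSheaf.toStalk R (genericPoint (Spec (CommRingCat.of R)))).hom.toAlgebra
  haveI : IsFractionRing R K' := functionField_isFractionRing_of_affine (CommRingCat.of R)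
  let e : FractionRing R ≃ₐ[R] K' := FractionRing.algEquiv R K'
  refine exists_section_of_generic (CommRingCat.of R) Y pY
    (Spec.map (CommRingCat.ofHom (e : FractionRing R →+* K')) ≫ σ) ?_
  rw [Category.assoc, hσ, ← Spec.map_comp, Spec.fromSpecStalk_eq']
  congr 1
  apply CommRingCat.hom_ext
  apply RingHom.ext
  intro r
  exact e.commutes r

end Groth.Agent.Helper18.DedekindSec
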