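import Mathlib
import Groth.Prelude
import Groth.Agent.Lib.Helper18.DenseMulBase

set_option autoImplicit false
universe u
open CategoryTheory MonoidalCategory CartesianMonoidalCategory MonObj GrpObj AlgebraicGeometry Limits
open Groth.Agent.Helper28.AlgGrpShear

namespace Groth.Agent.Helper18.DenseHom

open Groth.Agent.Helper18.FlatEpi Groth.Agent.Helper18.DenseMulBase

variable {S : Scheme.{u}}

instance flat_mul (G : Over S) [GrpObj G] [Flat G.hom] : Flat μ[G].left := by
  have h := act_left (NonAbH1.trivialAction G)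
  have h' : μ[G].left = (shear (NonAbH1.trivialAction G)).hom.left ≫ (snd G G).left := h
  rw [h']
  haveI : Flat (snd G G).left := by
    show Flat (pullback.snd G.hom G.hom)
    infer_instance
  haveI : IsIso (shear (NonAbH1.trivialAction G)).hom.left :=
    inferInstanceAs (IsIso ((CategoryTheory.Over.forget _).map (shear (NonAbH1.trivialAction G)).hom))
  infer_instance

theorem mem_range_tensorHom {A B A' B' : Over S} (i : A ⟶ B) (j : A' ⟶ B')
    (z : (B ⊗ B').left) (h1 : (fst B B').left z ∈ Set.range i.left)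
    (h2 : (snd B B').left z ∈ Set.range j.left) : z ∈ Set.range (i ⊗ₘ j).left := by
  obtain ⟨u₁, hu₁⟩ := h1
  obtain ⟨u₂, hu₂⟩ := h2
  obtain ⟨w, hw1, hw2⟩ := Scheme.exists_preimage_of_isPullback
    ((isPullback_snd B j).map (CategoryTheory.Over.forget _)) u₂ z hu₂
  have hw2' : (B ◁ j).left w = z := hw2
  have hfw : (fst B A').left w = i.left u₁ := by
    rw [hu₁, ← hw2']
    show _ = ((B ◁ j) ≫ fst B B').left w
    rw [whiskerLeft_fst]
  obtain ⟨v, hv1, hv2⟩ := Scheme.exists_preimage_of_isPullback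
    ((isPullback_fst i A').map (CategoryTheory.Over.forget _)) u₁ w hfw.symm
  have hv2' : (i ▷ A').left v = w := hv2
  refine ⟨v, ?_⟩
  rw [MonoidalCategory.tensorHom_def]
  show ((i ▷ A') ≫ (B ◁ j)).left v = z
  rw [Over.comp_left]
  show (B ◁ j).left ((i ▷ A').left v) = z
  rw [hv2', hw2']

theorem main5435 (S : Scheme.{u}) (G H : Over S) [GrpObj G] [GrpObj H] [Flat G.hom]
    (U : G.left.Opens) (hU : (∀ (S' : Scheme.{u}) (g : S' ⟶ S),
      CInt.IsSchematicallyDense ((pullback.fst G.hom g) ⁻¹ᵁ U)))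
    (f g : G ⟶ H) [IsMonHom f] [IsMonHom g] (h : U.ι ≫ f.left = U.ι ≫ g.left) : f = g := by
  let U' : Over S := Over.mk (U.ι ≫ G.hom)
  let j : U' ⟶ G := Over.homMk U.ι rfl
  have hj : j ≫ f = j ≫ g := by
    ext
    exact h
  let m : U' ⊗ U' ⟶ G := (j ⊗ₘ j) ≫ μ[G]
  haveI : Flat j.left := inferInstanceAs (Flat U.ι)
  haveI : Flat m.left := by
    show Flat ((j ⊗ₘ j) ≫ μ[G]).left
    rw [Over.comp_left]
    infer_instance
  haveI : Surjective m.left := by
    constructor
    intro x
    obtain ⟨z, hz1, hz2, hz3⟩ := exists_mul_of_schemDense S G U hU x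
    have hrange : Set.range j.left = (U : Set G.left) := by
      show Set.range U.ι = _
      exact Scheme.Opens.range_ι U
    obtain ⟨v, hv⟩ := mem_range_tensorHom j j z (by rw [hrange]; exact hz1)
      (by rw [hrange]; exact hz2)
    refine ⟨v, ?_⟩
    show ((j ⊗ₘ j) ≫ μ[G]).left v = x
    rw [Over.comp_left, Scheme.Hom.comp_apply, hv]
    exact hz3
  haveI : Epi m := epi_of_flat_surj m
  rw [← cancel_epi m]
  show ((j ⊗ₘ j) ≫ μ[G]) ≫ f = ((j ⊗ₘ j) ≫ μ[G]) ≫ g
  rw [Category.assoc, Category.assoc, IsMonHom.mul_hom, IsMonHom.mul_hom, ← Category.assoc,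
    ← Category.assoc, MonoidalCategory.tensorHom_comp_tensorHom,
    MonoidalCategory.tensorHom_comp_tensorHom, hj]

end Groth.Agent.Helper18.DenseHom
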