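import Mathlib
import Groth.Agent.Lib.Helper18.OmegaFitt
import Groth.Agent.Lib.Helper13.FittPullback

set_option autoImplicit false
set_option linter.style.haveILetI false
universe u
open CategoryTheory CategoryTheory.Limits AlgebraicGeometry TensorProduct TopologicalSpace
open Groth.Agent.Lib.Helper10.Fitting

namespace Groth.Agent.Helper18.OmegaBC

open Groth.Agent.Helper18.OmegaSec

variable {X S S' : Scheme.{u}} (f : X ⟶ S) (g : S' ⟶ S)
  {U : X.Opens} {V : S.Opens} {V' : S'.Opens}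

/-- the open `U ×_V V'` of `X ×_S S'` -/
noncomputable abbrev WP (U : X.Opens) (V' : S'.Opens) : (pullback f g).Opens :=
  (pullback.fst f g) ⁻¹ᵁ U ⊓ (pullback.snd f g) ⁻¹ᵁ V'

theorem isAffineOpen_WP (hU : IsAffineOpen U) (hV : IsAffineOpen V) (hV' : IsAffineOpen V')
    (eU : U ≤ f ⁻¹ᵁ V) (eV' : V' ≤ g ⁻¹ᵁ V) : IsAffineOpen (WP f g U V') := by
  have : IsAffine (V : Scheme) := hV
  have : IsAffine (U : Scheme) := hU
  have : IsAffine (V' : Scheme) := hV'
  exact .of_isIso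
    (Scheme.Hom.isPullback_resLE (IsPullback.of_hasPullback f g) eV' eU rfl).isoPullback.hom

theorem isPushout_WP (hU : IsAffineOpen U) (hV : IsAffineOpen V) (hV' : IsAffineOpen V')
    (eU : U ≤ f ⁻¹ᵁ V) (eV' : V' ≤ g ⁻¹ᵁ V) :
    IsPushout (f.appLE V U eU) (g.appLE V V' eV')
      ((pullback.fst f g).appLE U (WP f g U V') inf_le_left)
      ((pullback.snd f g).appLE V' (WP f g U V') inf_le_right) := by
  have h := isIso_pushoutSection_of_isAffineOpen (IsPullback.of_hasPullback f g) eV' eU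
    (UY := WP f g U V') rfl hV hV' hU
  exact (isIso_pushoutSection_iff ..).mp h

variable [QuasiSeparated f]

set_option maxHeartbeats 800000 in
/-- Fitting ideals of `Ω` over the product affine opens are compatible with base change. -/
theorem fitt_omega_WP [LocallyOfFiniteType f] (hU : IsAffineOpen U) (hV : IsAffineOpen V)
    (hV' : IsAffineOpen V') (eU : U ≤ f ⁻¹ᵁ V) (eV' : V' ≤ g ⁻¹ᵁ V) (i : ℕ) :
    Fitt.ideal Γ(pullback f g, WP f g U V') Γ(Omega.sheaf (pullback.snd f g), WP f g U V') i =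
      (Fitt.ideal Γ(X, U) Γ(Omega.sheaf f, U) i).map
        ((pullback.fst f g).appLE U (WP f g U V') inf_le_left).hom := by
  have hW := isAffineOpen_WP f g hU hV hV' eU eV'
  have hPO := isPushout_WP f g hU hV hV' eU eV'
  letI iRA : Algebra Γ(S, V) Γ(X, U) := algUV f eU
  letI iRS : Algebra Γ(S, V) Γ(S', V') := (g.appLE V V' eV').hom.toAlgebra
  letI iAB : Algebra Γ(X, U) Γ(pullback f g, WP f g U V') :=
    ((pullback.fst f g).appLE U (WP f g U V') inf_le_left).hom.toAlgebra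
  letI iSB : Algebra Γ(S', V') Γ(pullback f g, WP f g U V') :=
    algUV (pullback.snd f g) (U := WP f g U V') (V := V') inf_le_right
  letI iRB : Algebra Γ(S, V) Γ(pullback f g, WP f g U V') :=
    ((algebraMap Γ(X, U) Γ(pullback f g, WP f g U V')).comp
      (algebraMap Γ(S, V) Γ(X, U))).toAlgebra
  haveI : IsScalarTower Γ(S, V) Γ(X, U) Γ(pullback f g, WP f g U V') :=
    IsScalarTower.of_algebraMap_eq (fun _ => rfl)
  haveI : IsScalarTower Γ(S, V) Γ(S', V') Γ(pullback f g, WP f g U V') := by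
    refine IsScalarTower.of_algebraMap_eq (fun a => ?_)
    exact congr($(hPO.w) a)
  haveI : Algebra.IsPushout Γ(S, V) Γ(S', V') Γ(X, U) Γ(pullback f g, WP f g U V') :=
    CommRingCat.isPushout_iff_isPushout.mp hPO.flip
  haveI : Algebra.FiniteType Γ(S, V) Γ(X, U) := f.finiteType_appLE hV hU eU
  rw [fitt_congr (omegaSections (pullback.snd f g) hW hV' inf_le_right) i,
    ← fitt_congr (KaehlerDifferential.tensorKaehlerEquiv Γ(S, V) Γ(S', V') Γ(X, U)
      Γ(pullback f g, WP f g U V')) i,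
    fitt_baseChange, fitt_congr (omegaSections f hU hV eU) i]
  rfl

/-- the Fitting ideals of `Ω` are compatible with base change. -/
theorem sheafIdeal_omega_comap [LocallyOfFiniteType f] (i : ℕ) :
    (Fitt.sheafIdeal (Omega.sheaf f) i).comap (pullback.fst f g) =
      Fitt.sheafIdeal (Omega.sheaf (pullback.snd f g)) i := by
  have key : ∀ x : ↥(pullback f g), ∃ (W : (pullback f g).affineOpens), x ∈ W.1 ∧
      ∃ (U : X.affineOpens) (V : S.affineOpens) (V' : S'.affineOpens) (eU : U.1 ≤ f ⁻¹ᵁ V.1)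
        (eV' : V'.1 ≤ g ⁻¹ᵁ V.1), W.1 = WP f g U.1 V'.1 := by
    intro x
    obtain ⟨_, ⟨V, hV, rfl⟩, hxV, -⟩ := S.isBasis_affineOpens.exists_subset_of_mem_open
      (Set.mem_univ (f (pullback.fst f g x))) isOpen_univ
    obtain ⟨_, ⟨U, hU, rfl⟩, hxU, hUV⟩ := X.isBasis_affineOpens.exists_subset_of_mem_open
      (show pullback.fst f g x ∈ ((f ⁻¹ᵁ V : X.Opens) : Set X) from hxV) (f ⁻¹ᵁ V).2
    have hxV' : g (pullback.snd f g x) ∈ V := by
      have : g (pullback.snd f g x) = f (pullback.fst f g x) := by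
        rw [← Scheme.Hom.comp_apply, ← Scheme.Hom.comp_apply, pullback.condition]
      rw [this]; exact hxV
    obtain ⟨_, ⟨V', hV', rfl⟩, hxV'', hV'V⟩ := S'.isBasis_affineOpens.exists_subset_of_mem_open
      (show pullback.snd f g x ∈ ((g ⁻¹ᵁ V : S'.Opens) : Set S') from hxV') (g ⁻¹ᵁ V).2
    exact ⟨⟨WP f g U V', isAffineOpen_WP f g hU hV hV' hUV hV'V⟩, ⟨hxU, hxV''⟩,
      ⟨U, hU⟩, ⟨V, hV⟩, ⟨V', hV'⟩, hUV, hV'V, rfl⟩
  choose W hxW U V V' eU eV' hW using key
  have hcov : ⨆ x : ↥(pullback f g), (W x).1 = ⊤ := by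
    rw [eq_top_iff]
    intro x _
    exact Opens.mem_iSup.2 ⟨x, hxW x⟩
  refine Scheme.IdealSheafData.ext_of_iSup_eq_top W hcov (fun x => ?_)
  have hle : (W x).1 ≤ (pullback.fst f g) ⁻¹ᵁ (U x).1 := by
    rw [hW x]; exact inf_le_left
  rw [Groth.Agent.Helper13.IdealComap.ideal_comap (pullback.fst f g) _ (U x) (W x) hle,
    Groth.Agent.Helper13.FittSheaf.sheafIdeal_ideal,
    Groth.Agent.Helper13.FittSheaf.sheafIdeal_ideal]
  have hWx : W x = ⟨WP f g (U x).1 (V' x).1,
      isAffineOpen_WP f g (U x).2 (V x).2 (V' x).2 (eU x) (eV' x)⟩ := Subtype.ext (hW x)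
  generalize W x = W' at *
  subst hWx
  exact (fitt_omega_WP f g (U x).2 (V x).2 (V' x).2 (eU x) (eV' x) i).symm

end Groth.Agent.Helper18.OmegaBC
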