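import Mathlib
import Groth.Prelude.Def_Frob
import Groth.Agent.Lib.Helper18.DerSeq
import Groth.Agent.Lib.Helper18.OmegaBaseChange

set_option autoImplicit false
universe u
open CategoryTheory CategoryTheory.Limits AlgebraicGeometry TopologicalSpace Opposite

namespace Groth.Agent.Helper18.DerLib

variable {X Y : Scheme.{u}}

/-- transport of a derivation along an equality of morphisms -/
def castDer {f f' : X ⟶ Y} (h : f = f') {F : X.Modules} (D : OmegaSh.Der f F) : OmegaSh.Der f' F :=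
  h ▸ D

theorem castDer_app {f f' : X ⟶ Y} (h : f = f') {F : X.Modules} (D : OmegaSh.Der f F)
    (U : X.Opens) (s : Γ(X, U)) :
    OmegaSh.Der.app (castDer h D) U s = OmegaSh.Der.app D U s := by
  subst h; rfl

/-- the subring of sections killed by a derivation -/
def derKer {f : X ⟶ Y} {F : X.Modules} (D : OmegaSh.Der f F) (U : X.Opens) : Subring Γ(X, U) where
  carrier := {x | OmegaSh.Der.app D U x = 0}
  mul_mem' {a b} ha hb := by
    change OmegaSh.Der.app D U (a * b) = 0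
    rw [der_app_mul, show OmegaSh.Der.app D U a = 0 from ha, show OmegaSh.Der.app D U b = 0 from hb,
      smul_zero, smul_zero, add_zero]
  one_mem' := D.d_one (op U)
  add_mem' {a b} ha hb := by
    change OmegaSh.Der.app D U (a + b) = 0
    rw [map_add, show OmegaSh.Der.app D U a = 0 from ha, show OmegaSh.Der.app D U b = 0 from hb,
      add_zero]
  zero_mem' := map_zero _
  neg_mem' {a} ha := by
    change OmegaSh.Der.app D U (-a) = 0
    rw [map_neg, show OmegaSh.Der.app D U a = 0 from ha, neg_zero]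

theorem mem_derKer {f : X ⟶ Y} {F : X.Modules} (D : OmegaSh.Der f F) (U : X.Opens) (x : Γ(X, U)) :
    x ∈ derKer D U ↔ OmegaSh.Der.app D U x = 0 := Iff.rfl

theorem derKer_map {f : X ⟶ Y} {F : X.Modules} (D : OmegaSh.Der f F) {U V : X.Opens} (i : V ⟶ U)
    (x : Γ(X, U)) (hx : x ∈ derKer D U) : X.presheaf.map i.op x ∈ derKer D V := by
  rw [mem_derKer, der_app_map, (mem_derKer D U x).1 hx, map_zero]

/-- power rule -/
theorem der_app_pow {f : X ⟶ Y} {F : X.Modules} (D : OmegaSh.Der f F) (U : X.Opens) (b : Γ(X, U))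
    (n : ℕ) : OmegaSh.Der.app D U (b ^ (n + 1)) =
      ((n + 1 : ℕ) : Γ(X, U)) • (b ^ n • OmegaSh.Der.app D U b) := by
  induction n with
  | zero => simp
  | succ n ih =>
    rw [pow_succ, der_app_mul, ih, smul_smul, smul_smul, smul_smul, ← add_smul]
    have : b ^ (n + 1) + b * ((n + 1 : ℕ) : Γ(X, U)) * b ^ n =
        ((n + 1 + 1 : ℕ) : Γ(X, U)) * b ^ (n + 1) := by
      push_cast
      ring
    rw [this]

/-- being killed by a derivation is a local condition -/
theorem mem_derKer_of_cover {f : X ⟶ Y} {F : X.Modules} (D : OmegaSh.Der f F) {ι : Type*}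
    (W : ι → X.Opens) (U : X.Opens) (hle : ∀ i, W i ≤ U) (hcov : U ≤ ⨆ i, W i) (x : Γ(X, U))
    (h : ∀ i, X.presheaf.map (homOfLE (hle i)).op x ∈ derKer D (W i)) : x ∈ derKer D U := by
  rw [mem_derKer]
  refine TopCat.Sheaf.eq_of_locally_eq' (⟨F.presheaf, F.isSheaf⟩ : TopCat.Sheaf Ab X) W U
    (fun i => homOfLE (hle i)) hcov _ _ (fun i => ?_)
  change F.presheaf.map (homOfLE (hle i)).op (OmegaSh.Der.app D U x) =
    F.presheaf.map (homOfLE (hle i)).op 0
  rw [← der_app_map, map_zero]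
  exact h i

/-- a subring of the pushout containing the images of both legs is everything. -/
theorem subring_eq_top_of_isPushout {A B A' C : CommRingCat.{u}} {φ : A ⟶ B} {ψ : A ⟶ A'}
    {inl : B ⟶ C} {inr : A' ⟶ C} (hPO : IsPushout φ ψ inl inr) (K : Subring C)
    (hl : ∀ b, inl b ∈ K) (hr : ∀ a, inr a ∈ K) : K = ⊤ := by
  let l : B ⟶ CommRingCat.of K := CommRingCat.ofHom (RingHom.codRestrict inl.hom K hl)
  let r : A' ⟶ CommRingCat.of K := CommRingCat.ofHom (RingHom.codRestrict inr.hom K hr)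
  let incl : CommRingCat.of K ⟶ C := CommRingCat.ofHom K.subtype
  have hlr : φ ≫ l = ψ ≫ r := by
    ext a
    exact congr($(hPO.w) a)
  let σ : C ⟶ CommRingCat.of K := hPO.desc l r hlr
  have h1 : σ ≫ incl = 𝟙 C := by
    apply hPO.hom_ext
    · rw [← Category.assoc, hPO.inl_desc, Category.comp_id]
      rfl
    · rw [← Category.assoc, hPO.inr_desc, Category.comp_id]
      rfl
  rw [eq_top_iff]
  intro c _
  have h2 : incl (σ c) = c := congr($h1 c)
  rw [← h2]
  exact (σ c).2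

theorem mem_derKer_of_mul_unit {f : X ⟶ Y} {F : X.Modules} (D : OmegaSh.Der f F) (U : X.Opens)
    (x y : Γ(X, U)) (hy : y ∈ derKer D U) (hu : IsUnit y) (hxy : x * y ∈ derKer D U) :
    x ∈ derKer D U := by
  rw [mem_derKer] at *
  rw [der_app_mul, hy, smul_zero, zero_add] at hxy
  obtain ⟨u, rfl⟩ := hu
  have := congrArg (fun m => (↑u⁻¹ : Γ(X, U)) • m) hxy
  simpa [smul_smul] using this

section Frob

open Groth.Agent.Helper18.OmegaBC

variable (p : ℕ) [Fact p.Prime] {X S : Scheme.{u}} [FrobSch.IsCharP S p] (f : X ⟶ S)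
  {Ω : X.Modules} (d : OmegaSh.Der f Ω)

/-- sections `t` of the Frobenius twist with `d (F^♯ t) = 0`. -/
noncomputable def KF (W : (FrobSch.frobTwist f p).Opens) : Subring Γ(FrobSch.frobTwist f p, W) :=
  (derKer d (FrobSch.relFrob f p ⁻¹ᵁ W)).comap ((FrobSch.relFrob f p).app W).hom

theorem mem_KF (W : (FrobSch.frobTwist f p).Opens) (t : Γ(FrobSch.frobTwist f p, W)) :
    t ∈ KF p f d W ↔
      OmegaSh.Der.app d (FrobSch.relFrob f p ⁻¹ᵁ W) ((FrobSch.relFrob f p).app W t) = 0 := Iff.rfl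

theorem KF_map {W W' : (FrobSch.frobTwist f p).Opens} (i : W' ⟶ W)
    (t : Γ(FrobSch.frobTwist f p, W)) (ht : t ∈ KF p f d W) :
    (FrobSch.frobTwist f p).presheaf.map i.op t ∈ KF p f d W' := by
  rw [mem_KF]
  have h1 : (FrobSch.relFrob f p).app W' ((FrobSch.frobTwist f p).presheaf.map i.op t) =
      X.presheaf.map ((Opens.map (FrobSch.relFrob f p).base).map i).op
        ((FrobSch.relFrob f p).app W t) :=
    congr($((FrobSch.relFrob f p).naturality i.op) t)
  rw [h1, der_app_map, (mem_KF p f d W t).1 ht, map_zero]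

theorem pow_p_mem_derKer (U : X.Opens) (b : Γ(X, U)) : b ^ p ∈ derKer d U := by
  have : FrobSch.IsCharP X p := FrobSch.IsCharP.of_hom f p
  rw [mem_derKer]
  obtain ⟨n, hn⟩ : ∃ n, p = n + 1 := ⟨p - 1, by have := (Fact.out : p.Prime).pos; omega⟩
  have h0 : ((n + 1 : ℕ) : Γ(X, U)) = 0 := by
    rw [← hn]; exact FrobSch.natCast_eq_zero_app X p U
  rw [hn, der_app_pow, h0, zero_smul]

theorem app_comp_apply {P Q : Scheme.{u}} (F : P ⟶ Q) {U : Q.Opens} {T : Scheme.{u}} (q : Q ⟶ T)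
    {V : T.Opens} (e : U ≤ q ⁻¹ᵁ V) (e' : F ⁻¹ᵁ U ≤ (F ≫ q) ⁻¹ᵁ V) (a : Γ(T, V)) :
    F.app U (q.appLE V U e a) = (F ≫ q).appLE V (F ⁻¹ᵁ U) e' a := by
  have h1 : q.appLE V U e ≫ F.app U = (F ≫ q).appLE V (F ⁻¹ᵁ U) e' := by
    rw [Scheme.Hom.app_eq_appLE, Scheme.Hom.appLE_comp_appLE]
  exact congr($h1 a)

theorem KF_WP_eq_top {U : X.Opens} {V : S.Opens} (hU : IsAffineOpen U) (hV : IsAffineOpen V)
    (eU : U ≤ f ⁻¹ᵁ V) : KF p f d (WP f (FrobSch.frob S p) U V) = ⊤ := by
  have : FrobSch.IsCharP X p := FrobSch.IsCharP.of_hom f p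
  have eV : V ≤ (FrobSch.frob S p) ⁻¹ᵁ V := le_rfl
  refine subring_eq_top_of_isPushout (isPushout_WP f (FrobSch.frob S p) hU hV hV eU eV) _ ?_ ?_
  · intro b
    rw [mem_KF]
    have e' : FrobSch.relFrob f p ⁻¹ᵁ (WP f (FrobSch.frob S p) U V) ≤
        (FrobSch.relFrob f p ≫ pullback.fst f (FrobSch.frob S p)) ⁻¹ᵁ U :=
      (FrobSch.relFrob f p).preimage_mono inf_le_left
    have e'' : FrobSch.relFrob f p ⁻¹ᵁ (WP f (FrobSch.frob S p) U V) ≤
        (FrobSch.frob X p) ⁻¹ᵁ U := by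
      have h := e'; rw [FrobSch.relFrob_fst f p] at h; exact h
    rw [app_comp_apply _ _ _ e', appLE_congr_hom (FrobSch.relFrob_fst f p) e' e'']
    have h2 : (FrobSch.frob X p).appLE U _ e'' b =
        X.presheaf.map (homOfLE e'').op (b ^ p) := rfl
    rw [h2]
    exact derKer_map d _ _ (pow_p_mem_derKer p f d U b)
  · intro a
    rw [mem_KF]
    have e' : FrobSch.relFrob f p ⁻¹ᵁ (WP f (FrobSch.frob S p) U V) ≤
        (FrobSch.relFrob f p ≫ pullback.snd f (FrobSch.frob S p)) ⁻¹ᵁ V :=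
      (FrobSch.relFrob f p).preimage_mono inf_le_right
    have e'' : FrobSch.relFrob f p ⁻¹ᵁ (WP f (FrobSch.frob S p) U V) ≤ f ⁻¹ᵁ V := by
      have h := e'; rw [FrobSch.relFrob_snd f p] at h; exact h
    rw [app_comp_apply _ _ _ e', appLE_congr_hom (FrobSch.relFrob_snd f p) e' e'']
    exact der_app_appLE d V _ e'' a

theorem KF_basicOpen_eq_top {W : (FrobSch.frobTwist f p).Opens} (hW : IsAffineOpen W)
    (hK : KF p f d W = ⊤) (h : Γ(FrobSch.frobTwist f p, W)) :
    KF p f d ((FrobSch.frobTwist f p).basicOpen h) = ⊤ := by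
  rw [eq_top_iff]
  intro s _
  have := hW.isLocalization_basicOpen h
  obtain ⟨⟨t', hn⟩, hst⟩ := IsLocalization.surj (Submonoid.powers h) s
  have hmem : ∀ t : Γ(FrobSch.frobTwist f p, W),
      algebraMap Γ(FrobSch.frobTwist f p, W) Γ(FrobSch.frobTwist f p,
        (FrobSch.frobTwist f p).basicOpen h) t ∈ KF p f d ((FrobSch.frobTwist f p).basicOpen h) := by
    intro t
    exact KF_map p f d (homOfLE ((FrobSch.frobTwist f p).basicOpen_le h)) t (by rw [hK]; trivial)
  rw [mem_KF, ← mem_derKer]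
  refine mem_derKer_of_mul_unit d _ _
    ((FrobSch.relFrob f p).app _ (algebraMap Γ(FrobSch.frobTwist f p, W) _ hn.1)) (hmem hn.1) ?_ ?_
  · exact (IsLocalization.map_units _ hn).map _
  · rw [← map_mul, hst]
    exact hmem t'

/-- every section coming from the Frobenius twist is killed by an `S`-derivation. -/
theorem KF_eq_top (W : (FrobSch.frobTwist f p).Opens) : KF p f d W = ⊤ := by
  have key : ∀ w : W, ∃ (D : (FrobSch.frobTwist f p).Opens), (w : ↥(FrobSch.frobTwist f p)) ∈ D ∧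
      D ≤ W ∧ KF p f d D = ⊤ := by
    intro w
    obtain ⟨_, ⟨V, hV, rfl⟩, hxV, -⟩ := S.isBasis_affineOpens.exists_subset_of_mem_open
      (Set.mem_univ (f (pullback.fst f (FrobSch.frob S p) w.1))) isOpen_univ
    obtain ⟨_, ⟨U, hU, rfl⟩, hxU, hUV⟩ := X.isBasis_affineOpens.exists_subset_of_mem_open
      (show pullback.fst f (FrobSch.frob S p) w.1 ∈ ((f ⁻¹ᵁ V : X.Opens) : Set X) from hxV)
      (f ⁻¹ᵁ V).2
    have hsnd : pullback.snd f (FrobSch.frob S p) w.1 ∈ V := by
      have h1 : (FrobSch.frob S p) (pullback.snd f (FrobSch.frob S p) w.1) =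
          f (pullback.fst f (FrobSch.frob S p) w.1) := by
        rw [← Scheme.Hom.comp_apply, ← Scheme.Hom.comp_apply, pullback.condition]
      rw [FrobSch.frob_apply] at h1
      rw [h1]; exact hxV
    have hW' : IsAffineOpen (WP f (FrobSch.frob S p) U V) :=
      isAffineOpen_WP f (FrobSch.frob S p) hU hV hV hUV le_rfl
    have hwW' : w.1 ∈ WP f (FrobSch.frob S p) U V := ⟨hxU, hsnd⟩
    obtain ⟨h, hle, hwh⟩ := hW'.exists_basicOpen_le w hwW'
    exact ⟨_, hwh, hle, KF_basicOpen_eq_top p f d hW' (KF_WP_eq_top p f d hU hV hUV) h⟩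
  choose D hwD hDW hKD using key
  rw [eq_top_iff]
  intro t _
  rw [mem_KF, ← mem_derKer]
  refine mem_derKer_of_cover d (fun w : W => FrobSch.relFrob f p ⁻¹ᵁ D w) _
    (fun w => (FrobSch.relFrob f p).preimage_mono (hDW w)) ?_ _ (fun w => ?_)
  · intro x hx
    exact Opens.mem_iSup.2 ⟨⟨FrobSch.relFrob f p x, hx⟩, hwD _⟩
  · have h1 : X.presheaf.map (homOfLE ((FrobSch.relFrob f p).preimage_mono (hDW w))).op
        ((FrobSch.relFrob f p).app W t) = (FrobSch.relFrob f p).app (D w)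
          ((FrobSch.frobTwist f p).presheaf.map (homOfLE (hDW w)).op t) :=
      (congr($((FrobSch.relFrob f p).naturality (homOfLE (hDW w)).op) t)).symm
    rw [h1, mem_derKer, ← mem_KF, hKD w]
    trivial

/-- `d` as a derivation relative to the relative Frobenius. -/
noncomputable def dFrob : OmegaSh.Der (FrobSch.relFrob f p) Ω where
  d {U} := d.d
  d_mul {U} a b := d.d_mul a b
  d_map {U V} i a := d.d_map i a
  d_app {W} t := (mem_KF p f d W.unop t).1 (by rw [KF_eq_top]; trivial)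

theorem dFrob_app (U : X.Opens) (s : Γ(X, U)) :
    OmegaSh.Der.app (dFrob p f d) U s = OmegaSh.Der.app d U s := rfl

theorem relFrob_derivation (hd : OmegaSh.IsUniversal d) :
    ∃ d' : OmegaSh.Der (FrobSch.relFrob f p) Ω,
      (∀ (U : X.Opens) (s : Γ(X, U)), d'.app U s = d.app U s) ∧ OmegaSh.IsUniversal d' := by
  refine ⟨dFrob p f d, fun U s => rfl, ?_⟩
  intro G D'
  let D : OmegaSh.Der f G := castDer (FrobSch.relFrob_snd f p)
    (weaken (FrobSch.relFrob f p) (pullback.snd f (FrobSch.frob S p)) D')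
  have hD : ∀ (U : X.Opens) (s : Γ(X, U)), OmegaSh.Der.app D U s = OmegaSh.Der.app D' U s := by
    intro U s
    rw [castDer_app, weaken_app]
  obtain ⟨α, hα, huniq⟩ := hd G D
  refine ⟨α, ?_, ?_⟩
  · apply der_ext
    intro U s
    rw [postcomp_app, dFrob_app, ← hD, ← hα, postcomp_app]
  · intro β hβ
    apply huniq
    apply der_ext
    intro U s
    have := congrArg (fun E => OmegaSh.Der.app E U s) hβ
    simp only [postcomp_app, dFrob_app] at this
    rw [postcomp_app, hD, this]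

end Frob

end Groth.Agent.Helper18.DerLib
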