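import Mathlib
import Groth.Agent.Lib.Helper18.CotangentSurj

/-!
If restriction of `k`-valued `Λ`-derivations along `f : R → S` is injective, then `f` is
surjective (for `R` complete local, `S` Noetherian local, same residue field `k`).
-/

set_option autoImplicit false

namespace Groth.Agent.Helper18

open IsLocalRing

theorem surjective_of_derivation_ext {Λ k R S : Type*} [CommRing Λ] [Field k] [Algebra Λ k]
    [CommRing R] [CommRing S] [Algebra Λ R] [Algebra Λ S] [IsLocalRing R] [IsLocalRing S]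
    [IsNoetherianRing S] [IsPrecomplete (maximalIdeal R) R]
    [Algebra S k] [IsScalarTower Λ S k] (hres : Function.Surjective (algebraMap S k))
    (resR : R →ₐ[Λ] k) (hresR : Function.Surjective resR)
    (f : R →ₐ[Λ] S) (hf : (IsScalarTower.toAlgHom Λ S k).comp f = resR)
    (hinj : ∀ D₁ D₂ : Derivation Λ S k, (∀ r : R, D₁ (f r) = D₂ (f r)) → D₁ = D₂) :
    Function.Surjective f := by
  classical
  have hker : RingHom.ker (algebraMap S k) = maximalIdeal S :=
    eq_maximalIdeal (RingHom.ker_isMaximal_of_surjective _ hres)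
  have hmem : ∀ s : S, s ∈ maximalIdeal S ↔ algebraMap S k s = 0 := fun s => by
    rw [← hker, RingHom.mem_ker]
  have hkerR : RingHom.ker (resR : R →+* k) = maximalIdeal R :=
    eq_maximalIdeal (RingHom.ker_isMaximal_of_surjective _ hresR)
  have hmemR : ∀ r : R, r ∈ maximalIdeal R ↔ resR r = 0 := fun r => by
    rw [← hkerR, RingHom.mem_ker]; rfl
  have hfres : ∀ r, algebraMap S k (f r) = resR r := fun r => by rw [← hf]; rfl
  have hfm : ∀ r ∈ maximalIdeal R, f r ∈ maximalIdeal S := fun r hr => by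
    rw [hmem, hfres, ← hmemR]; exact hr
  have hδ : ∀ (s : S) (r : R), resR r = algebraMap S k s → s - f r ∈ maximalIdeal S := by
    intro s r h
    rw [hmem, map_sub, hfres, h, sub_self]
  have hlift : ∀ s : S, ∃ r : R, s - f r ∈ maximalIdeal S := fun s => by
    obtain ⟨r, hr⟩ := hresR (algebraMap S k s)
    exact ⟨r, hδ s r hr⟩
  set J : Ideal S := Ideal.map f (maximalIdeal R) ⊔ maximalIdeal S ^ 2 with hJ
  have hJm : J ≤ maximalIdeal S :=
    sup_le (Ideal.map_le_iff_le_comap.2 hfm) (Ideal.pow_le_self two_ne_zero)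
  by_contra hns
  have hne : J ≠ maximalIdeal S := fun h =>
    hns (surjective_of_map_maximalIdeal_sup_sq (f : R →+* S) hlift h)
  -- the module `m_S` and its submodule `J`
  let N : Submodule S (maximalIdeal S) := Submodule.comap (maximalIdeal S).subtype J
  have hN : N ≠ ⊤ := by
    intro hN
    apply hne
    apply le_antisymm hJm
    intro x hx
    have : (⟨x, hx⟩ : maximalIdeal S) ∈ N := by rw [hN]; trivial
    exact this
  obtain ⟨W, hW, hNW⟩ := (eq_top_or_exists_le_coatom N).resolve_left hN
  haveI : IsSimpleModule S (↥(maximalIdeal S) ⧸ W) := isSimpleModule_iff_isCoatom.2 hW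
  obtain ⟨I, hI, ⟨e⟩⟩ := isSimpleModule_iff_quot_maximal.mp
    (inferInstance : IsSimpleModule S (↥(maximalIdeal S) ⧸ W))
  rw [eq_maximalIdeal hI] at e
  have hker' : LinearMap.ker (Algebra.linearMap S k) = maximalIdeal S := by
    rw [← hker]; rfl
  let e2 : (S ⧸ maximalIdeal S) ≃ₗ[S] k :=
    (Submodule.quotEquivOfEq _ _ hker'.symm).trans
      (LinearMap.quotKerEquivOfSurjective (Algebra.linearMap S k) hres)
  let φ : ↥(maximalIdeal S) →ₗ[S] k := (e2.toLinearMap.comp e.toLinearMap).comp W.mkQ
  have hφsurj : Function.Surjective φ := (e2.surjective.comp e.surjective).comp W.mkQ_surjective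
  have hφW : ∀ x ∈ W, φ x = 0 := by
    intro x hx
    change e2 (e (W.mkQ x)) = 0
    have h0 : W.mkQ x = 0 := (Submodule.Quotient.mk_eq_zero W).2 hx
    rw [h0, map_zero, map_zero]
  have hφJ : ∀ (x : S) (hx : x ∈ maximalIdeal S), x ∈ J → φ ⟨x, hx⟩ = 0 := by
    intro x hx hxJ
    apply hφW
    apply hNW
    exact hxJ
  have hφf : ∀ (r : R) (hr : r ∈ maximalIdeal R), φ ⟨f r, hfm r hr⟩ = 0 := by
    intro r hr
    apply hφJ
    exact Ideal.mem_sup_left (Ideal.mem_map_of_mem _ hr)
  -- a set-theoretic section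
  choose σ hσ using fun s : S => hresR (algebraMap S k s)
  let D₀ : S → k := fun s => φ ⟨s - f (σ s), hδ s _ (hσ s)⟩
  have key : ∀ (s : S) (r : R) (h : resR r = algebraMap S k s), D₀ s = φ ⟨s - f r, hδ s r h⟩ := by
    intro s r h
    have hr : r - σ s ∈ maximalIdeal R := by rw [hmemR, map_sub, h, hσ, sub_self]
    have e1 : (⟨s - f (σ s), hδ s _ (hσ s)⟩ : maximalIdeal S) =
        ⟨s - f r, hδ s r h⟩ + ⟨f (r - σ s), hfm _ hr⟩ := by
      apply Subtype.ext
      change s - f (σ s) = s - f r + f (r - σ s)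
      rw [map_sub]; ring
    change φ _ = _
    rw [e1, map_add, hφf _ hr, add_zero]
  have hadd : ∀ s s', D₀ (s + s') = D₀ s + D₀ s' := by
    intro s s'
    rw [key (s + s') (σ s + σ s') (by rw [map_add, map_add, hσ, hσ])]
    change _ = φ _ + φ _
    rw [← map_add φ]
    congr 1
    apply Subtype.ext
    change s + s' - f (σ s + σ s') = s - f (σ s) + (s' - f (σ s'))
    rw [map_add]; ring
  have hsmul : ∀ (l : Λ) (s : S), D₀ (l • s) = l • D₀ s := by
    intro l s
    rw [key (l • s) (l • σ s) (by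
      rw [map_smul, hσ, Algebra.smul_def, Algebra.smul_def, map_mul,
        ← IsScalarTower.algebraMap_apply])]
    change _ = l • φ _
    rw [← LinearMap.map_smul_of_tower]
    congr 1
    apply Subtype.ext
    change l • s - f (l • σ s) = l • (s - f (σ s))
    rw [map_smul, smul_sub]
  have hleib : ∀ s s', D₀ (s * s') = s • D₀ s' + s' • D₀ s := by
    intro s s'
    rw [key (s * s') (σ s * σ s') (by rw [map_mul, map_mul, hσ, hσ])]
    have e1 : (⟨s * s' - f (σ s * σ s'), hδ _ _ (by rw [map_mul, map_mul, hσ, hσ])⟩ : maximalIdeal S) =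
        s • ⟨s' - f (σ s'), hδ s' _ (hσ s')⟩ + f (σ s') • ⟨s - f (σ s), hδ s _ (hσ s)⟩ := by
      apply Subtype.ext
      change s * s' - f (σ s * σ s') = s * (s' - f (σ s')) + f (σ s') * (s - f (σ s))
      rw [map_mul]; ring
    rw [e1, map_add, map_smul, map_smul]
    congr 1
    change f (σ s') • D₀ s = s' • D₀ s
    rw [Algebra.smul_def, Algebra.smul_def, hfres, hσ]
  let D : Derivation Λ S k := Derivation.mk'
    { toFun := D₀, map_add' := hadd, map_smul' := hsmul } hleib
  have hD0 : D = 0 := by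
    apply hinj
    intro r
    change D₀ (f r) = 0
    rw [key (f r) r (hfres r).symm]
    have : (⟨f r - f r, hδ (f r) r (hfres r).symm⟩ : maximalIdeal S) = 0 := by
      apply Subtype.ext
      change f r - f r = 0
      rw [sub_self]
    rw [this, map_zero]
  obtain ⟨x, hx⟩ := hφsurj 1
  have h1 : D x.1 = 1 := by
    change D₀ x.1 = 1
    rw [key x.1 0 (by rw [map_zero, eq_comm, ← hmem]; exact x.2)]
    rw [← hx]
    congr 1
    apply Subtype.ext
    change x.1 - f 0 = x.1
    rw [map_zero, sub_zero]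
  rw [hD0] at h1
  exact zero_ne_one h1

end Groth.Agent.Helper18
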