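import Groth.Prelude.Def_Magnet3
import Groth.Prelude.Def_QuotSh
import Mathlib

/-!
# The functor of equivariant maps `B ⊗ T ⟶ X` is a sheaf for a subcanonical topology (helper18)
-/

set_option autoImplicit false
set_option backward.isDefEq.respectTransparency false

universe v₁ u₁

open CategoryTheory MonoidalCategory CartesianMonoidalCategory MonObj Opposite

namespace Groth.Agent.Helper18.EqvHomSheaf

open Magnet Magnet.MonAct

variable {C : Type u₁} [Category.{v₁} C] [CartesianMonoidalCategory C]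
  (J : GrothendieckTopology C) [J.Subcanonical]
variable {A B X : C} [MonObj A] (ρ : MonAct A B) (a : MonAct A X)

theorem factor_pullback {T W : C} (g : W ⟶ B ⊗ T) :
    lift (g ≫ fst B T) (𝟙 W) ≫ (B ◁ (g ≫ snd B T)) = g := by
  apply CartesianMonoidalCategory.hom_ext <;> simp

theorem isSheaf_eqvHom : Presieve.IsSheaf J (eqvHom ρ a) := by
  intro T R hR
  have hX : ∀ (W : C) (R' : Sieve W), R' ∈ J W → Presieve.IsSheafFor (yoneda.obj X) R'.arrows :=
    fun W R' h => (GrothendieckTopology.Subcanonical.isSheaf_of_isRepresentable (J := J) (yoneda.obj X)) _ h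
  have hR' : Sieve.pullback (snd B T) R ∈ J (B ⊗ T) := J.pullback_stable _ hR
  intro x hx
  have hxs := (Presieve.compatible_iff_sieveCompatible x).mp hx
  -- restriction rule
  have hres : ∀ {V V' : C} (f : V ⟶ T) (hf : R f) (g : V' ⟶ V),
      (x (g ≫ f) (R.downward_closed hf g)).1 = (B ◁ g) ≫ (x f hf).1 := by
    intro V V' f hf g
    rw [hxs f g hf]
    rfl
  have hcongr : ∀ {V : C} (k k' : V ⟶ T) (hk : R k) (hk' : R k'), k = k' → (x k hk).1 = (x k' hk').1 := by
    intro V k k' hk hk' e; subst e; rfl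
  -- the family on `B ⊗ T`
  obtain ⟨y, hydef⟩ : ∃ y : Presieve.FamilyOfElements (yoneda.obj X) (Sieve.pullback (snd B T) R).arrows,
      y = fun W g hg => lift (g ≫ fst B T) (𝟙 W) ≫ (x (g ≫ snd B T) hg).1 := ⟨_, rfl⟩
  have hy : ∀ {W : C} (g : W ⟶ B ⊗ T) (hg : R (g ≫ snd B T)),
      y g hg = lift (g ≫ fst B T) (𝟙 W) ≫ (x (g ≫ snd B T) hg).1 := by
    intro W g hg; rw [hydef]
  have hycomp : y.Compatible := by
    rw [Presieve.compatible_iff_sieveCompatible]
    intro W W' g h hg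
    change y (h ≫ g) _ = h ≫ y g hg
    rw [hy, hy]
    have e1 : (x ((h ≫ g) ≫ snd B T) (by simpa using R.downward_closed hg h)).1 =
        (B ◁ h) ≫ (x (g ≫ snd B T) hg).1 :=
      (hcongr _ _ _ (R.downward_closed hg h) (Category.assoc _ _ _)).trans (hres (g ≫ snd B T) hg h)
    rw [e1, ← Category.assoc, ← Category.assoc]
    congr 1
    apply CartesianMonoidalCategory.hom_ext <;> simp
  obtain ⟨φ, hφ, hφu⟩ := hX _ _ hR' y hycomp
  have hφ' : ∀ {W : C} (g : W ⟶ B ⊗ T) (hg : R (g ≫ snd B T)), g ≫ φ = y g hg := fun g hg => hφ g hg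
  -- restriction of φ along `B ◁ f`
  have hφf : ∀ {V : C} (f : V ⟶ T) (hf : R f), (B ◁ f) ≫ φ = (x f hf).1 := by
    intro V f hf
    have hg : R ((B ◁ f) ≫ snd B T) := by
      have : (B ◁ f) ≫ snd B T = snd B V ≫ f := by simp
      rw [this]
      exact R.downward_closed hf _
    rw [hφ' (B ◁ f) hg, hy]
    have e1 : (x ((B ◁ f) ≫ snd B T) hg).1 = (B ◁ snd B V) ≫ (x f hf).1 := by
      have h1 := hres f hf (snd B V)
      have h2 : (B ◁ f) ≫ snd B T = snd B V ≫ f := by simp
      rw [hcongr _ _ hg (R.downward_closed hf _) h2, h1]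
    rw [e1, ← Category.assoc]
    have e2 : lift ((B ◁ f) ≫ fst B T) (𝟙 (B ⊗ V)) ≫ (B ◁ snd B V) = 𝟙 _ := by
      apply CartesianMonoidalCategory.hom_ext <;> simp
    rw [e2, Category.id_comp]
  -- equivariance
  have hφeq : IsEquivariant (ρ.prod (trivial A T)) a φ := by
    rw [mem_eqvHom_iff]
    intro T' g b t
    have hsep := (hX T' (Sieve.pullback t R) (J.pullback_stable t hR)).isSeparatedFor
    apply hsep.ext
    intro W h hh
    change h ≫ lift (lift g b ≫ ρ.act) t ≫ φ = h ≫ lift g (lift b t ≫ φ) ≫ a.act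
    have hf : R (h ≫ t) := hh
    have hxeq := (x (h ≫ t) hf).2
    rw [mem_eqvHom_iff] at hxeq
    have h1 : ∀ c : W ⟶ B, lift c (h ≫ t) ≫ φ = lift c (𝟙 W) ≫ (x (h ≫ t) hf).1 := by
      intro c
      rw [← hφf (h ≫ t) hf, ← Category.assoc]
      congr 1
      apply CartesianMonoidalCategory.hom_ext <;> simp
    have h2 := hxeq W (h ≫ g) (h ≫ b) (𝟙 W)
    calc h ≫ lift (lift g b ≫ ρ.act) t ≫ φ
        = lift (lift (h ≫ g) (h ≫ b) ≫ ρ.act) (h ≫ t) ≫ φ := by
          rw [← Category.assoc, comp_lift, ← Category.assoc, comp_lift]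
      _ = lift (h ≫ g) (lift (h ≫ b) (h ≫ t) ≫ φ) ≫ a.act := by rw [h1, h2, h1]
      _ = h ≫ lift g (lift b t ≫ φ) ≫ a.act := by
          rw [← Category.assoc h, comp_lift, ← Category.assoc h, comp_lift]
  refine ⟨⟨φ, hφeq⟩, ?_, ?_⟩
  · intro V f hf
    apply Subtype.ext
    exact hφf f hf
  · intro ψ hψ
    apply Subtype.ext
    apply hφu
    intro W g hg
    change g ≫ ψ.1 = y g hg
    rw [hy]
    have h1 := congrArg Subtype.val (hψ (g ≫ snd B T) hg)
    change (B ◁ (g ≫ snd B T)) ≫ ψ.1 = _ at h1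
    rw [← h1, ← Category.assoc, factor_pullback]

end Groth.Agent.Helper18.EqvHomSheaf
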