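import Mathlib
import Groth.Agent.Lib.Helper18.EssFree6

/-!
# Base changes of `Spec A → Spec k` with `A` projective after inverting `s` (helper18)
-/

set_option autoImplicit false
set_option linter.unusedSectionVars false
set_option linter.style.haveILetI false
universe u

open CategoryTheory AlgebraicGeometry TopologicalSpace Opposite TensorProduct
open CategoryTheory.Limits

noncomputable section

namespace Groth.Agent.Helper18.EssFree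

theorem projective_of_iso_pullback_Spec_of_isUnit (k A : Type u) [CommRing k] [CommRing A]
    [Algebra k A] (s : k)
    (hproj : ∀ (D : Type u) [CommRing D] [Algebra k D], IsUnit (algebraMap k D s) →
      Module.Projective D (D ⊗[k] A))
    {T P : Scheme.{u}} [IsAffine T] (τ : T ⟶ Spec (CommRingCat.of k)) (v : P ⟶ T)
    (ε₀ : P ≅ pullback (Spec.map (CommRingCat.ofHom (algebraMap k A))) τ)
    (hε₀ : ε₀.hom ≫ pullback.snd _ _ = v)
    (hτ : ∀ x : T, τ.base x ∈ PrimeSpectrum.basicOpen s) :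
    IsAffine P ∧ (letI := ((⊤ : P.Opens).ι ≫ v).appTop.hom.toAlgebra
      Module.Projective Γ(T, ⊤) Γ(↑(⊤ : P.Opens), ⊤)) := by
  let ρ : CommRingCat.of k ⟶ Γ(T, ⊤) := Spec.preimage (T.isoSpec.inv ≫ τ)
  have hρ : Spec.map ρ = T.isoSpec.inv ≫ τ := Spec.map_preimage _
  letI : Algebra k Γ(T, ⊤) := ρ.hom.toAlgebra
  have hρ' : Spec.map (CommRingCat.ofHom (algebraMap k Γ(T, ⊤))) = T.isoSpec.inv ≫ τ := hρ
  let m : pullback (Spec.map (CommRingCat.ofHom (algebraMap k A))) τ ⟶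
      pullback (Spec.map (CommRingCat.ofHom (algebraMap k A)))
        (Spec.map (CommRingCat.ofHom (algebraMap k Γ(T, ⊤)))) :=
    pullback.map _ _ _ _ (𝟙 _) T.isoSpec.hom (𝟙 _) (by simp)
      (by rw [Category.comp_id, hρ', Iso.hom_inv_id_assoc])
  haveI : IsIso m := by
    dsimp only [m]
    infer_instance
  let ε : P ≅ Spec (CommRingCat.of (Γ(T, ⊤) ⊗[k] A)) :=
    ε₀ ≪≫ asIso m ≪≫ pullbackSymmetry _ _ ≪≫ pullbackSpecIso k Γ(T, ⊤) A
  have hε : ε.hom ≫ Spec.map (CommRingCat.ofHom (algebraMap Γ(T, ⊤) (Γ(T, ⊤) ⊗[k] A))) =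
      v ≫ T.isoSpec.hom := by
    simp only [ε, Iso.trans_hom, Category.assoc, asIso_hom]
    rw [pullbackSpecIso_hom_fst', pullbackSymmetry_hom_comp_fst]
    dsimp only [m]
    rw [pullback.lift_snd, ← Category.assoc, hε₀]
  haveI hP : IsAffine P := IsAffine.of_isIso ε.hom
  refine ⟨hP, ?_⟩
  let ε' : ((⊤ : P.Opens) : Scheme.{u}) ≅ Spec (CommRingCat.of (Γ(T, ⊤) ⊗[k] A)) :=
    P.topIso ≪≫ ε
  have hε' : ε'.hom ≫ Spec.map (CommRingCat.ofHom (algebraMap Γ(T, ⊤) (Γ(T, ⊤) ⊗[k] A))) =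
      ((⊤ : P.Opens).ι ≫ v) ≫ T.isoSpec.hom := by
    simp only [ε', Iso.trans_hom, Category.assoc, hε]
    rfl
  let Ie : CommRingCat.of (Γ(T, ⊤) ⊗[k] A) ≅ Γ(((⊤ : P.Opens) : Scheme.{u}), ⊤) :=
    (Scheme.ΓSpecIso (CommRingCat.of (Γ(T, ⊤) ⊗[k] A))).symm ≪≫ Scheme.Γ.mapIso ε'.op
  have hunit : IsUnit (algebraMap k Γ(T, ⊤) s) := by
    change IsUnit (ρ.hom s)
    by_contra hnu
    obtain ⟨M, hM, hsM⟩ := exists_max_ideal_of_mem_nonunits hnu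
    let pM : Spec Γ(T, ⊤) := ⟨M, hM.isPrime⟩
    have h1 : (Spec.map ρ).base pM = τ.base (T.isoSpec.inv.base pM) := by
      rw [hρ, Scheme.Hom.comp_apply]
    have h2 : (Spec.map ρ).base pM ∈ PrimeSpectrum.basicOpen s := by
      rw [h1]
      exact hτ _
    exact h2 hsM
  haveI : Module.Projective Γ(T, ⊤) (Γ(T, ⊤) ⊗[k] A) := hproj Γ(T, ⊤) hunit
  refine projective_of_ringEquiv₃ (R := Γ(T, ⊤)) (B := Γ(T, ⊤) ⊗[k] A)
    (RingEquiv.refl _) ((⊤ : P.Opens).ι ≫ v).appTop.hom Ie.commRingCatIsoToRingEquiv ?_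
  intro r
  change ε'.hom.appTop.hom ((Scheme.ΓSpecIso (CommRingCat.of (Γ(T, ⊤) ⊗[k] A))).inv.hom
      (algebraMap Γ(T, ⊤) (Γ(T, ⊤) ⊗[k] A) r)) = ((⊤ : P.Opens).ι ≫ v).appTop.hom r
  have hnat := Scheme.ΓSpecIso_inv_naturality
    (CommRingCat.ofHom (algebraMap Γ(T, ⊤) (Γ(T, ⊤) ⊗[k] A)))
  have h1 := congrArg (fun f => f.hom r) hnat
  change (Scheme.ΓSpecIso (CommRingCat.of (Γ(T, ⊤) ⊗[k] A))).inv.hom
      (algebraMap Γ(T, ⊤) (Γ(T, ⊤) ⊗[k] A) r) =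
    (Spec.map (CommRingCat.ofHom (algebraMap Γ(T, ⊤) (Γ(T, ⊤) ⊗[k] A)))).appTop.hom
      ((Scheme.ΓSpecIso Γ(T, ⊤)).inv.hom r) at h1
  rw [h1]
  have h2 : ε'.hom.appTop.hom
      ((Spec.map (CommRingCat.ofHom (algebraMap Γ(T, ⊤) (Γ(T, ⊤) ⊗[k] A)))).appTop.hom
        ((Scheme.ΓSpecIso Γ(T, ⊤)).inv.hom r)) =
      ((⊤ : P.Opens).ι ≫ v).appTop.hom
        (T.isoSpec.hom.appTop.hom ((Scheme.ΓSpecIso Γ(T, ⊤)).inv.hom r)) := by
    have h := congrArg (fun f => f.appTop) hε'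
    simp only [Scheme.Hom.comp_appTop] at h
    exact congrArg (fun f => f.hom ((Scheme.ΓSpecIso Γ(T, ⊤)).inv.hom r)) h
  refine h2.trans ?_
  have h3 : T.isoSpec.hom.appTop = (Scheme.ΓSpecIso Γ(T, ⊤)).hom := Scheme.toSpecΓ_appTop T
  rw [h3]
  have h4 : (Scheme.ΓSpecIso Γ(T, ⊤)).hom.hom ((Scheme.ΓSpecIso Γ(T, ⊤)).inv.hom r) = r :=
    congrArg (fun f => f.hom r) (Scheme.ΓSpecIso Γ(T, ⊤)).inv_hom_id
  rw [h4]

end Groth.Agent.Helper18.EssFree
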