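import Mathlib
import Groth.Prelude.Def_AlgGrp
import Groth.Agent.Lib.Helper18.EtFixA

set_option autoImplicit false
set_option linter.style.haveILetI false
universe u
open CategoryTheory Limits MonoidalCategory CartesianMonoidalCategory MonObj GrpObj AlgebraicGeometry

namespace Groth.Agent.Helper18.EtFix

/-- étale morphisms are locally quasi-finite. -/
theorem locallyQuasiFinite_of_etale {X Y : Scheme.{u}} (f : X ⟶ Y) [Etale f] :
    LocallyQuasiFinite f := by
  rw [HasRingHomProperty.iff_appLE (P := @LocallyQuasiFinite)]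
  intro U V e
  have h := HasRingHomProperty.appLE (P := @Etale) f inferInstance U V e
  algebraize [(f.appLE U V e).hom]
  show Algebra.QuasiFinite _ _
  infer_instance

/-- a continuous map from a connected space into a discrete fibre is constant -/
theorem eq_of_connected_of_discrete_fibre {E B C : Scheme.{u}} (p : E ⟶ B) [Etale p]
    [ConnectedSpace C] (o : C ⟶ E) (τ : B) (ho : ∀ c : C, p (o c) = τ) (c₁ c₂ : C) :
    o c₁ = o c₂ := by
  haveI := locallyQuasiFinite_of_etale p
  have hd : _root_.IsDiscrete (p ⁻¹' {τ}) := p.isDiscrete_preimage_singleton τ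
  haveI : DiscreteTopology (p ⁻¹' {τ}) := hd.to_subtype
  let o' : C → (p ⁻¹' {τ}) := fun c => ⟨o c, ho c⟩
  have ho' : Continuous o' := o.continuous.subtype_mk _
  have hpc : _root_.IsPreconnected (Set.range o') := isPreconnected_range ho'
  have hsub := hpc.subsingleton
  have := hsub ⟨c₁, rfl⟩ ⟨c₂, rfl⟩
  exact congrArg Subtype.val this

variable {S : Scheme.{u}} (G : Over S) [GrpObj G]

theorem main (hconn : ∀ s : S, ConnectedSpace (G.hom.fiber s))
    (X Y : Over S) (a : AlgGrp.Action G X) (b : AlgGrp.Action G Y) (f : X ⟶ Y) [Etale f.left]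
    (hf : a.act ≫ f = (G ◁ f) ≫ b.act) (T : Over S) (x : T ⟶ X)
    (hx : ∀ (T' : Over S) (t : T' ⟶ T) (g : T' ⟶ G), lift g (t ≫ x ≫ f) ≫ b.act = t ≫ x ≫ f)
    (T' : Over S) (t : T' ⟶ T) (g : T' ⟶ G) : lift g (t ≫ x) ≫ a.act = t ≫ x := by
  haveI hgc : GeometricallyConnected G.hom := geometricallyConnected_of_fibres G hconn
  set x' : T' ⟶ X := t ≫ x with hx'
  set z : T' ⟶ X := lift g x' ≫ a.act with hz
  have hzf : z ≫ f = x' ≫ f := by
    rw [hz, Category.assoc, hf, ← Category.assoc, lift_whiskerLeft]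
    have := hx T' t g
    simpa [hx'] using this
  -- the fibre product
  let p : pullback f.left (x' ≫ f).left ⟶ T'.left := pullback.snd f.left (x' ≫ f).left
  let s₂ : T'.left ⟶ pullback f.left (x' ≫ f).left := pullback.lift x'.left (𝟙 _) (by simp)
  let s₁ : T'.left ⟶ pullback f.left (x' ≫ f).left := pullback.lift z.left (𝟙 _) (by
    rw [← Over.comp_left, hzf]; simp)
  have hs₂ : s₂ ≫ p = 𝟙 _ := pullback.lift_snd _ _ _
  have hs₁ : s₁ ≫ p = 𝟙 _ := pullback.lift_snd _ _ _
  suffices h : s₁ = s₂ by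
    have h2 := congrArg (· ≫ pullback.fst f.left (x' ≫ f).left) h
    simp only [s₁, s₂, pullback.lift_fst] at h2
    exact Over.OverMorphism.ext h2
  apply sections_eq_of_etale p s₁ s₂ hs₁ hs₂
  intro τ
  -- the residue field point
  let pt : Spec (T'.left.residueField τ) ⟶ T'.left := T'.left.fromSpecResidueField τ
  let Tκ : Over S := Over.mk (pt ≫ T'.hom)
  let ptO : Tκ ⟶ T' := Over.homMk pt rfl
  let oX : G ⊗ Tκ ⟶ X := (G ◁ (ptO ≫ x')) ≫ a.act
  have hoX : oX ≫ f = snd G Tκ ≫ ptO ≫ x' ≫ f := by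
    have h1 := hx (G ⊗ Tκ) (snd G Tκ ≫ ptO ≫ t) (fst G Tκ)
    have h2 : (G ◁ (ptO ≫ x' ≫ f)) = lift (fst G Tκ) ((snd G Tκ ≫ ptO ≫ t) ≫ x ≫ f) := by
      ext <;> simp [hx']
    calc oX ≫ f = (G ◁ (ptO ≫ x')) ≫ (G ◁ f) ≫ b.act := by rw [Category.assoc, hf]
      _ = (G ◁ (ptO ≫ x' ≫ f)) ≫ b.act := by
        rw [← Category.assoc, ← MonoidalCategory.whiskerLeft_comp, Category.assoc]
      _ = _ := by rw [h2, h1]; simp [hx']
  let o : (G ⊗ Tκ).left ⟶ pullback f.left (x' ≫ f).left :=
    pullback.lift oX.left ((snd G Tκ).left ≫ pt) (by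
      rw [← Over.comp_left, hoX]; simp [ptO])
  have ho : o ≫ p = (snd G Tκ).left ≫ pt := pullback.lift_snd _ _ _
  let eκ : Tκ ⟶ G ⊗ Tκ := lift (toUnit Tκ ≫ η[G]) (𝟙 Tκ)
  let gκ : Tκ ⟶ G ⊗ Tκ := lift (ptO ≫ g) (𝟙 Tκ)
  have he : eκ ≫ oX = ptO ≫ x' := by
    have h1 : eκ ≫ (G ◁ (ptO ≫ x')) = lift (toUnit Tκ) (ptO ≫ x') ≫ (η[G] ▷ X) := by
      ext <;> simp [eκ]
    rw [← Category.assoc, h1, Category.assoc, a.one_act]
    simp
  have hg : gκ ≫ oX = ptO ≫ z := by
    have h1 : gκ ≫ (G ◁ (ptO ≫ x')) = ptO ≫ lift g x' := by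
      ext <;> simp [gκ]
    rw [← Category.assoc, h1, Category.assoc]
  have he' : eκ.left ≫ o = pt ≫ s₂ := by
    apply pullback.hom_ext
    · rw [Category.assoc, pullback.lift_fst, Category.assoc, pullback.lift_fst, ← Over.comp_left, he]
      rfl
    · rw [Category.assoc, pullback.lift_snd, Category.assoc, pullback.lift_snd, ← Category.assoc,
        ← Over.comp_left]
      simp [eκ]
  have hg' : gκ.left ≫ o = pt ≫ s₁ := by
    apply pullback.hom_ext
    · rw [Category.assoc, pullback.lift_fst, Category.assoc, pullback.lift_fst, ← Over.comp_left, hg]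
      rfl
    · rw [Category.assoc, pullback.lift_snd, Category.assoc, pullback.lift_snd, ← Category.assoc,
        ← Over.comp_left]
      simp [gκ]
  -- connectedness
  haveI : ConnectedSpace ↥(G ⊗ Tκ).left :=
    hgc.geometrically_connectedSpace (K := ↑(T'.left.residueField τ)) (pt ≫ T'.hom)
      (fst G Tκ).left (snd G Tκ).left (IsPullback.of_hasPullback G.hom (pt ≫ T'.hom))
  let c : ↥(Spec (T'.left.residueField τ)) := Classical.arbitrary _
  have hc : pt c = τ := by
    have : pt c ∈ Set.range pt := ⟨c, rfl⟩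
    rw [Scheme.range_fromSpecResidueField] at this
    exact this
  have hoτ : ∀ y : ↥(G ⊗ Tκ).left, p (o y) = τ := by
    intro y
    rw [← Scheme.Hom.comp_apply, ho, Scheme.Hom.comp_apply]
    have : pt ((snd G Tκ).left y) ∈ Set.range pt := ⟨_, rfl⟩
    rw [Scheme.range_fromSpecResidueField] at this
    exact this
  have key := eq_of_connected_of_discrete_fibre p o τ hoτ (gκ.left c) (eκ.left c)
  rw [← Scheme.Hom.comp_apply, ← Scheme.Hom.comp_apply, hg', he', Scheme.Hom.comp_apply,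
    Scheme.Hom.comp_apply, hc] at key
  exact key

end Groth.Agent.Helper18.EtFix
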