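import Mathlib
import Groth.Agent.S2144

/-!
# Finite type descends on the source along fppf surjections (helper9)
-/

set_option autoImplicit false
universe u
open CategoryTheory CategoryTheory.Limits AlgebraicGeometry MorphismProperty TensorProduct

namespace Groth.Agent.Helper18.FTDescOrig

section A2

variable {R A₀ A B₀ : Type u} [CommRing R] [CommRing A₀] [CommRing A] [CommRing B₀]
  [Algebra R A₀] [Algebra A₀ A] [Algebra R A] [IsScalarTower R A₀ A] [Algebra A₀ B₀]

theorem finiteType_of_tensor [Module.FaithfullyFlat A₀ B₀] [Algebra.FiniteType R A₀]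
    (hft : Algebra.FiniteType R (A ⊗[A₀] B₀)) :
    Algebra.FiniteType R A := by
  classical
  obtain ⟨s, hs⟩ := hft.out
  choose Sx hSx using fun x : A ⊗[A₀] B₀ => TensorProduct.exists_finset x
  let F : Finset A := s.biUnion (fun x => (Sx x).image Prod.fst)
  let A' : Subalgebra A₀ A := Algebra.adjoin A₀ (F : Set A)
  have hFA' : ∀ a ∈ F, a ∈ A' := fun a ha => Algebra.subset_adjoin ha
  have hA'ft : Algebra.FiniteType A₀ A' := (Subalgebra.fg_iff_finiteType A').1 ⟨F, rfl⟩
  have hA'R : Algebra.FiniteType R A' := Algebra.FiniteType.trans (inferInstance) hA'ft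
  -- the comparison map
  let ψ : A' ⊗[A₀] B₀ →ₐ[A₀] A ⊗[A₀] B₀ := Algebra.TensorProduct.map A'.val (AlgHom.id A₀ B₀)
  have hψ : Function.Surjective ψ := by
    have hle : Algebra.adjoin R (s : Set (A ⊗[A₀] B₀)) ≤ ψ.range.restrictScalars R := by
      refine Algebra.adjoin_le ?_
      intro x hx
      rw [hSx x]
      refine Subalgebra.sum_mem _ ?_
      intro i hi
      have hi1 : i.1 ∈ A' := hFA' _ (Finset.mem_biUnion.2
        ⟨x, hx, Finset.mem_image_of_mem _ hi⟩)
      exact ⟨(⟨i.1, hi1⟩ : A') ⊗ₜ i.2, by simp [ψ]⟩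
    rw [hs] at hle
    intro y
    obtain ⟨x, hx⟩ := hle (Algebra.mem_top (x := y))
    exact ⟨x, hx⟩
  have h1 : Function.Surjective (A'.val.toLinearMap.rTensor B₀) := by
    intro y
    obtain ⟨x, hx⟩ := hψ y
    exact ⟨x, hx⟩
  have h2 : Function.Surjective (A'.val.toLinearMap.lTensor B₀) := by
    rw [← LinearMap.comm_comp_rTensor_comp_comm_eq]
    exact (TensorProduct.comm A₀ A B₀).surjective.comp
      (h1.comp (TensorProduct.comm A₀ B₀ A').surjective)
  have hsurj : Function.Surjective A'.val.toLinearMap :=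
    (Module.FaithfullyFlat.lTensor_surjective_iff_surjective A₀ B₀ _).1 h2
  exact Algebra.FiniteType.of_surjective (IsScalarTower.toAlgHom R A' A)
    (fun a => by obtain ⟨x, hx⟩ := hsurj a; exact ⟨x, hx⟩)

end A2

/-- **Finite type descends on the source along faithfully flat finitely presented ring maps.** -/
theorem finiteType_of_ff {R A B : Type u} [CommRing R] [CommRing A] [CommRing B]
    [Algebra R A] [Algebra A B] [Algebra R B] [IsScalarTower R A B]
    [Algebra.FinitePresentation A B]
    [Module.FaithfullyFlat A B] [Algebra.FiniteType R B] : Algebra.FiniteType R A := by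
  obtain ⟨A₀, B₀, _, _, _, _, _, _, hA₀, hB₀, hff, ⟨φ⟩⟩ :=
    Groth.Agent.S2144.result (R := R) (A := A) (B := B)
  haveI : Algebra.FiniteType R A₀ := inferInstance
  have hft : Algebra.FiniteType R (A ⊗[A₀] B₀) :=
    Algebra.FiniteType.equiv inferInstance (φ.restrictScalars R)
  exact finiteType_of_tensor (A₀ := A₀) (B₀ := B₀) hft

/-- the general reduction: a property given by a local property of ring maps descends on the
source along fppf surjective morphisms as soon as the ring property does along finitely presented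
faithfully flat ring maps. (Adapted from helper16's étale version.) -/
theorem of_comp_fppf_surjective {P : MorphismProperty Scheme.{u}}
    {Q : ∀ {R S : Type u} [CommRing R] [CommRing S], (R →+* S) → Prop}
    [HasRingHomProperty P Q]
    (hQ : ∀ {R A B : Type u} [CommRing R] [CommRing A] [CommRing B] (f : R →+* A) (g : A →+* B),
      g.FinitePresentation → g.FaithfullyFlat → Q (g.comp f) → Q f)
    {U' U V : Scheme.{u}} (e : U' ⟶ U) (h : U ⟶ V) [Flat e] [LocallyOfFinitePresentation e]
    [Surjective e]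
    (hP : P (e ≫ h)) : P h := by
  wlog hV : ∃ R, V = Spec R generalizing U' U V
  · rw [IsZariskiLocalAtTarget.iff_of_openCover (P := P) V.affineCover]
    intro i
    dsimp only [Scheme.Cover.pullbackHom]
    let j := pullback.fst h (V.affineCover.f i)
    refine this (pullback.snd e j) (pullback.snd h (V.affineCover.f i)) ?_ ⟨_, rfl⟩
    have sq : IsPullback (pullback.fst e j ≫ 𝟙 _) (pullback.snd e j ≫ pullback.snd h _)
        (e ≫ h) (V.affineCover.f i) := by
      rw [Category.comp_id]
      exact (IsPullback.of_hasPullback e j).paste_vert (IsPullback.of_hasPullback h _)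
    rw [Category.comp_id] at sq
    exact IsZariskiLocalAtTarget.of_isPullback (P := P) (iY := V.affineCover.f i) sq hP
  obtain ⟨R, rfl⟩ := hV
  wlog hU : ∃ A, U = Spec A generalizing U' U
  · rw [IsZariskiLocalAtSource.iff_of_openCover (P := P) U.affineCover]
    intro i
    refine this (pullback.snd e (U.affineCover.f i)) (U.affineCover.f i ≫ h) ?_ ⟨_, rfl⟩
    rw [← Category.assoc, ← pullback.condition, Category.assoc]
    exact IsZariskiLocalAtSource.comp (P := P) hP _
  obtain ⟨A, rfl⟩ := hU
  -- a finite affine refinement of `U'`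
  let 𝒰 := U'.affineCover
  have hopen : ∀ x : U', IsOpen (Set.range (𝒰.f x ≫ e)) := fun x =>
    (𝒰.f x ≫ e).isOpenMap.isOpen_range
  have hcover : (Set.univ : Set (Spec A)) ⊆ ⋃ x : U', Set.range (𝒰.f x ≫ e) := by
    intro v _
    obtain ⟨v', rfl⟩ := e.surjective v
    obtain ⟨y, hy⟩ := 𝒰.covers v'
    exact Set.mem_iUnion.2 ⟨_, ⟨y, by rw [Scheme.Hom.comp_apply, hy]⟩⟩
  obtain ⟨t, ht⟩ := isCompact_univ.elim_finite_subcover _ hopen hcover
  let g : t → Scheme.{u} := fun x => 𝒰.X x.1
  let φ : ∐ g ⟶ Spec A := Sigma.desc (fun x : t => 𝒰.f x.1 ≫ e)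
  haveI : ∀ x : t, IsAffine (g x) := fun x => inferInstanceAs (IsAffine (𝒰.X x.1))
  haveI : IsAffine (∐ g) := inferInstance
  haveI : Flat φ := IsZariskiLocalAtSource.sigmaDesc (P := @Flat) (fun x => inferInstance)
  haveI : LocallyOfFinitePresentation φ :=
    IsZariskiLocalAtSource.sigmaDesc (P := @LocallyOfFinitePresentation) (fun x => inferInstance)
  haveI : Surjective φ := by
    apply Surjective.sigmaDesc_of_union_range_eq_univ
    rw [Set.eq_univ_iff_forall]
    intro v
    have hv := ht (Set.mem_univ v)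
    simp only [Set.mem_iUnion] at hv
    obtain ⟨x, hxt, hx⟩ := hv
    exact Set.mem_iUnion.2 ⟨⟨x, hxt⟩, hx⟩
  have hPφ : P (φ ≫ h) := by
    have : φ ≫ h = Sigma.desc (fun x : t => 𝒰.f x.1 ≫ e ≫ h) := by
      apply Sigma.hom_ext
      intro x
      rw [Sigma.ι_desc, ← Category.assoc, Sigma.ι_desc, Category.assoc]
    rw [this]
    exact IsZariskiLocalAtSource.sigmaDesc (P := P)
      (fun x => IsZariskiLocalAtSource.comp (P := P) hP _)
  rw [HasRingHomProperty.iff_of_isAffine (P := P)] at hPφ ⊢
  have hff : φ.appTop.hom.FaithfullyFlat :=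
    (Flat.flat_and_surjective_iff_faithfullyFlat_of_isAffine φ).1 ⟨inferInstance, inferInstance⟩
  have het : φ.appTop.hom.FinitePresentation :=
    (HasRingHomProperty.iff_of_isAffine (P := @LocallyOfFinitePresentation)).1 inferInstance
  refine hQ h.appTop.hom φ.appTop.hom het hff ?_
  have : (φ ≫ h).appTop.hom = φ.appTop.hom.comp h.appTop.hom := by
    rw [Scheme.Hom.comp_appTop]
    rfl
  rwa [← this]

/-- finite type descends on the source along fppf surjective morphisms. -/
theorem locallyOfFiniteType_of_comp_fppf_surjective {U' U V : Scheme.{u}} (e : U' ⟶ U)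
    (h : U ⟶ V) [Flat e] [LocallyOfFinitePresentation e] [Surjective e]
    (hP : LocallyOfFiniteType (e ≫ h)) :
    LocallyOfFiniteType h := by
  refine of_comp_fppf_surjective (P := @LocallyOfFiniteType) (Q := @RingHom.FiniteType) ?_ e h hP
  intro R A B _ _ _ f g hg hgf hc
  algebraize [f, g, g.comp f]
  exact finiteType_of_ff (R := R) (A := A) (B := B)

/-- family version: jointly surjective fppf presieve. -/
theorem of_presieve {P : MorphismProperty Scheme.{u}} [IsZariskiLocalAtSource P]
    (hP : ∀ {U' U V : Scheme.{u}} (e : U' ⟶ U) (h : U ⟶ V) [Flat e]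
      [LocallyOfFinitePresentation e] [Surjective e], P (e ≫ h) → P h)
    {X Y : Scheme.{u}} (f : X ⟶ Y) (R : Presieve X) (hR : R ∈ Scheme.fppfPrecoverage X)
    (h : ∀ ⦃U : Scheme.{u}⦄ ⦃g : U ⟶ X⦄, R g → P (g ≫ f)) : P f := by
  have hsurj := (Presieve.mem_comap_jointlySurjectivePrecoverage_iff (F := Scheme.forget)).1 hR.1
  choose U g hg u hu using hsurj
  let φ : ∐ U ⟶ X := Sigma.desc g
  have hg' : ∀ x, (@Flat ⊓ @LocallyOfFinitePresentation : MorphismProperty Scheme.{u}) (g x) :=
    fun x => hR.2 (hg x)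
  haveI : ∀ x, Flat (g x) := fun x => (hg' x).1
  haveI : ∀ x, LocallyOfFinitePresentation (g x) := fun x => (hg' x).2
  haveI : Flat φ := IsZariskiLocalAtSource.sigmaDesc (P := @Flat) (fun x => inferInstance)
  haveI : LocallyOfFinitePresentation φ :=
    IsZariskiLocalAtSource.sigmaDesc (P := @LocallyOfFinitePresentation) (fun x => inferInstance)
  haveI : Surjective φ := by
    apply Surjective.sigmaDesc_of_union_range_eq_univ
    rw [Set.eq_univ_iff_forall]
    intro v
    exact Set.mem_iUnion.2 ⟨v, u v, hu v⟩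
  refine hP φ f ?_
  have : φ ≫ f = Sigma.desc (fun x => g x ≫ f) := by
    apply Sigma.hom_ext
    intro x
    rw [Sigma.ι_desc, ← Category.assoc, Sigma.ι_desc]
  rw [this]
  exact IsZariskiLocalAtSource.sigmaDesc (P := P) (fun x => h (hg x))

end Groth.Agent.Helper18.FTDescOrig
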