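import Mathlib
import Groth.Prelude.Def_NonAbH2
import Groth.Prelude.Def_ChGrp

/-!
# Torsors under finite connected group schemes over a field (helper18)
-/

set_option autoImplicit false
universe u

open CategoryTheory CategoryTheory.Limits AlgebraicGeometry MonoidalCategory CartesianMonoidalCategory MonObj

namespace Groth.Agent.Helper18.FinConnTors

section Ring

theorem ringHom_ext_of_reduced {A R K : Type*} [CommRing A] [CommRing R] [IsReduced R] [Field K]
    (s : K →+* A) (ε : A →+* K) (hε : ∀ r, ε (s r) = r) (hsub : Subsingleton (PrimeSpectrum A))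
    (ψ₁ ψ₂ : A →+* R) (h : ∀ r, ψ₁ (s r) = ψ₂ (s r)) : ψ₁ = ψ₂ := by
  have hker : RingHom.ker ε ≤ nilradical A := by
    intro d hd
    rw [nilradical_eq_sInf, Ideal.mem_sInf]
    intro q hq
    have hq' : q.IsPrime := hq
    have hk : (RingHom.ker ε).IsPrime := RingHom.ker_isPrime ε
    have : (⟨q, hq'⟩ : PrimeSpectrum A) = ⟨RingHom.ker ε, hk⟩ := Subsingleton.elim _ _
    have hq2 : q = RingHom.ker ε := congrArg PrimeSpectrum.asIdeal this
    rw [hq2]; exact hd
  have key : ∀ (ψ : A →+* R) (a : A), ψ a = ψ (s (ε a)) := by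
    intro ψ a
    have hd : a - s (ε a) ∈ RingHom.ker ε := by
      rw [RingHom.mem_ker, map_sub, hε, sub_self]
    have hn : IsNilpotent (a - s (ε a)) := hker hd
    have hn' : IsNilpotent (ψ (a - s (ε a))) := hn.map ψ
    have h0 : ψ (a - s (ε a)) = 0 := hn'.eq_zero
    rw [map_sub, sub_eq_zero] at h0
    exact h0
  ext a
  rw [key ψ₁ a, key ψ₂ a, h]

end Ring

section Inf

variable {K : Type u} [Field K]

set_option backward.isDefEq.respectTransparency.types false in
theorem hom_ext_of_reduced (G : Over (Spec (CommRingCat.of K))) [IsFinite G.hom]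
    [ConnectedSpace G.left] (e : Spec (CommRingCat.of K) ⟶ G.left) (he : e ≫ G.hom = 𝟙 _)
    {P : Scheme.{u}} [IsReduced P] (γ₁ γ₂ : P ⟶ G.left) (h : γ₁ ≫ G.hom = γ₂ ≫ G.hom) : γ₁ = γ₂ := by
  obtain ⟨haff, hfin⟩ := (HasAffineProperty.iff_of_isAffine (P := @IsFinite)).mp
    (inferInstance : IsFinite G.hom)
  haveI := haff
  apply ext_of_isAffine
  let eK := (Scheme.ΓSpecIso (CommRingCat.of K)).symm
  let s : K →+* Γ(G.left, ⊤) := G.hom.appTop.hom.comp eK.hom.hom
  let ε : Γ(G.left, ⊤) →+* K := eK.inv.hom.comp e.appTop.hom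
  have hε : ∀ r, ε (s r) = r := by
    intro r
    have h1 : G.hom.appTop ≫ e.appTop = 𝟙 _ := by
      rw [← Scheme.Hom.comp_appTop, he]; rfl
    have h2 : e.appTop.hom (G.hom.appTop.hom (eK.hom.hom r)) = eK.hom.hom r :=
      congrArg (fun φ => φ.hom (eK.hom.hom r)) h1
    change eK.inv.hom (e.appTop.hom (G.hom.appTop.hom (eK.hom.hom r))) = r
    rw [h2]
    exact congrArg (fun φ => φ.hom r) eK.hom_inv_id
  have hsfin : s.Finite := RingHom.Finite.comp hfin
    (RingHom.Finite.of_surjective _ (ConcreteCategory.bijective_of_isIso eK.hom).2)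
  have hsub : Subsingleton (PrimeSpectrum Γ(G.left, ⊤)) := by
    letI := s.toAlgebra
    haveI : Module.Finite K Γ(G.left, ⊤) := hsfin
    haveI : IsArtinianRing Γ(G.left, ⊤) := IsArtinianRing.of_finite K _
    haveI : ConnectedSpace (PrimeSpectrum Γ(G.left, ⊤)) :=
      (G.left.isoSpec.hom.homeomorph.surjective.connectedSpace G.left.isoSpec.hom.homeomorph.continuous :
        ConnectedSpace ↥(Spec Γ(G.left, ⊤)))
    exact PreconnectedSpace.trivial_of_discrete
  have hψ : ∀ r, γ₁.appTop.hom (s r) = γ₂.appTop.hom (s r) := by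
    intro r
    have h1 : G.hom.appTop ≫ γ₁.appTop = G.hom.appTop ≫ γ₂.appTop := by
      rw [← Scheme.Hom.comp_appTop, ← Scheme.Hom.comp_appTop, h]
    exact congrArg (fun φ => φ.hom (eK.hom.hom r)) h1
  exact CommRingCat.hom_ext (ringHom_ext_of_reduced s ε hε hsub γ₁.appTop.hom γ₂.appTop.hom hψ)

end Inf

section Core

variable {K : Type u} [Field K] {G X : Over (Spec (CommRingCat.of K))} [GrpObj G] [IsFinite G.hom]
  [ConnectedSpace G.left] (a : AlgGrp.Action G X)

/-- Over a reduced base, any point of `G` is the unit. -/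
theorem point_eq_one {P : Over (Spec (CommRingCat.of K))} [IsReduced P.left] (g : P ⟶ G) : g = 1 := by
  have he : (η[G] : 𝟙_ (Over (Spec (CommRingCat.of K))) ⟶ G).left ≫ G.hom = 𝟙 _ := Over.w η[G]
  apply Over.OverMorphism.ext
  refine hom_ext_of_reduced G _ he g.left (1 : P ⟶ G).left ?_
  rw [Over.w g, Over.w (1 : P ⟶ G)]

/-- Over a reduced base, any two points of a pseudo-torsor under `G` agree. -/
theorem points_eq (hps : NonAbH1.IsPseudoTorsorSch a) {P : Scheme.{u}} [IsReduced P] (x₁ x₂ : P ⟶ X.left)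
    (h : x₁ ≫ X.hom = x₂ ≫ X.hom) : x₁ = x₂ := by
  let P' : Over (Spec (CommRingCat.of K)) := Over.mk (x₂ ≫ X.hom)
  let x₁' : P' ⟶ X := Over.homMk x₁ h
  let x₂' : P' ⟶ X := Over.homMk x₂ rfl
  haveI : IsReduced P'.left := ‹IsReduced P›
  haveI : IsIso (lift a.act (snd G X)) := hps
  let q : P' ⟶ G ⊗ X := lift x₁' x₂' ≫ inv (lift a.act (snd G X))
  have hq : q ≫ lift a.act (snd G X) = lift x₁' x₂' := by
    rw [Category.assoc, IsIso.inv_hom_id, Category.comp_id]
  have hq1 : q ≫ a.act = x₁' := by
    have := congrArg (fun t => t ≫ fst X X) hq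
    simpa only [Category.assoc, lift_fst] using this
  have hq2 : q ≫ snd G X = x₂' := by
    have := congrArg (fun t => t ≫ snd X X) hq
    simpa only [Category.assoc, lift_snd] using this
  have hg : q ≫ fst G X = 1 := point_eq_one (q ≫ fst G X)
  have hq3 : q = lift (1 : P' ⟶ G) x₂' := by
    apply CartesianMonoidalCategory.hom_ext
    · rw [lift_fst, hg]
    · rw [lift_snd, hq2]
  have : x₁' = x₂' := by
    rw [← hq1, hq3, AlgGrp.Action.lift_one_act]
  exact congrArg (fun t => t.left) this

open scoped TensorProduct in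
/-- A point of a pseudo-torsor over a faithfully flat affine `K`-scheme with reduced self-product descends. -/
theorem hasSection_of_tensor_reduced (hps : NonAbH1.IsPseudoTorsorSch a) (B : Type u) [CommRing B]
    [Algebra K B] [Nontrivial B] [IsReduced (B ⊗[K] B)] (x : Spec (CommRingCat.of B) ⟶ X.left)
    (hx : x ≫ X.hom = Spec.map (CommRingCat.ofHom (algebraMap K B))) :
    NonAbH1.HasSectionOver X (𝟙 (Spec (CommRingCat.of K))) := by
  set g := Spec.map (CommRingCat.ofHom (algebraMap K B)) with hg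
  have hff : (CommRingCat.ofHom (algebraMap K B)).hom.FaithfullyFlat := by
    change (algebraMap K B).FaithfullyFlat
    rw [RingHom.faithfullyFlat_algebraMap_iff]
    infer_instance
  obtain ⟨hflat, hsurj⟩ := (flat_and_surjective_SpecMap_iff _).2 hff
  haveI : Flat g := hflat
  haveI : Surjective g := hsurj
  haveI : QuasiCompact g := inferInstance
  haveI : IsReduced (pullback g g) := by
    haveI : IsReduced (Spec (CommRingCat.of (B ⊗[K] B))) :=
      (affine_isReduced_iff _).2 ‹IsReduced (B ⊗[K] B)›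
    exact isReduced_of_isOpenImmersion (pullbackSpecIso K B B).hom
  have hfs : pullback.fst g g ≫ x = pullback.snd g g ≫ x := by
    apply points_eq a hps
    rw [Category.assoc, Category.assoc, hx, pullback.condition]
  have hcond : ∀ {Z : Scheme.{u}} (g₁ g₂ : Z ⟶ Spec (CommRingCat.of B)), g₁ ≫ g = g₂ ≫ g →
      g₁ ≫ x = g₂ ≫ x := by
    intro Z g₁ g₂ h12
    have h1 : g₁ = pullback.lift g₁ g₂ h12 ≫ pullback.fst g g := (pullback.lift_fst _ _ _).symm
    have h2 : g₂ = pullback.lift g₁ g₂ h12 ≫ pullback.snd g g := (pullback.lift_snd _ _ _).symm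
    rw [h1, Category.assoc, hfs, ← Category.assoc, ← h2]
  refine ⟨EffectiveEpi.desc g x hcond, ?_⟩
  rw [← cancel_epi g, ← Category.assoc, EffectiveEpi.fac, hx, Category.comp_id]

open scoped TensorProduct in
theorem isReduced_tensor_self (K B : Type*) [Field K] [CommRing B] [Algebra K B]
    [Algebra.EssFiniteType K B] [Algebra.FormallyUnramified K B] : _root_.IsReduced (B ⊗[K] B) := by
  have : Algebra.FormallyUnramified B (B ⊗[K] B) := inferInstance
  have : Algebra.FormallyUnramified K (B ⊗[K] B) := Algebra.FormallyUnramified.comp K B _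
  have : Algebra.EssFiniteType B (B ⊗[K] B) := inferInstance
  have : Algebra.EssFiniteType K (B ⊗[K] B) := Algebra.EssFiniteType.comp K B _
  exact Algebra.FormallyUnramified.isReduced_of_field K (B ⊗[K] B)

/-- ring-level input form -/
theorem hasSection_of_ring (hps : NonAbH1.IsPseudoTorsorSch a) (B : CommRingCat.{u}) [Nontrivial B]
    (φ : CommRingCat.of K ⟶ B) (hft : φ.hom.FiniteType) (hun : φ.hom.FormallyUnramified)
    (x : Spec B ⟶ X.left) (hx : x ≫ X.hom = Spec.map φ) :
    NonAbH1.HasSectionOver X (𝟙 (Spec (CommRingCat.of K))) := by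
  letI := φ.hom.toAlgebra
  haveI : Algebra.FiniteType K B := hft
  haveI : Algebra.FormallyUnramified K B := hun
  haveI := isReduced_tensor_self K B
  exact hasSection_of_tensor_reduced a hps B x hx

set_option backward.isDefEq.respectTransparency.types false in
/-- étale torsors under a finite connected group scheme over a field are trivial -/
theorem hasSection_etale (h : NonAbH1.IsTorsorFor Scheme.etalePrecoverage a) :
    NonAbH1.HasSectionOver X (𝟙 (Spec (CommRingCat.of K))) := by
  obtain ⟨hps, R, hR, hsec⟩ := h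
  obtain ⟨Y, b, hb, y, hy⟩ := ((Presieve.mem_comap_jointlySurjectivePrecoverage_iff _).1 hR.1)
    (IsLocalRing.closedPoint K : PrimeSpectrum K)
  haveI : Etale b := hR.2 hb
  obtain ⟨s, hs⟩ := hsec b hb
  obtain ⟨U, hU, hyU, -⟩ := exists_isAffineOpen_mem_and_subset (x := y) (U := ⊤) trivial
  let j : Spec Γ(Y, U) ⟶ Y := hU.fromSpec
  let φ := Spec.preimage (j ≫ b)
  have hφ : Spec.map φ = j ≫ b := Spec.map_preimage _
  haveI : Nontrivial Γ(Y, U) := by
    have : y ∈ Set.range hU.fromSpec := by rw [hU.range_fromSpec]; exact hyU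
    obtain ⟨p, -⟩ := this
    exact PrimeSpectrum.nonempty_iff_nontrivial.1 ⟨p⟩
  refine hasSection_of_ring a hps Γ(Y, U) φ ?_ ?_ (j ≫ s) (by rw [Category.assoc, hs, hφ])
  · rw [← HasRingHomProperty.Spec_iff (P := @LocallyOfFiniteType), hφ]; infer_instance
  · rw [← HasRingHomProperty.Spec_iff (P := @FormallyUnramified), hφ]; infer_instance

set_option backward.isDefEq.respectTransparency.types false in
/-- fppf torsors under a finite connected group scheme over a perfect field are trivial -/
theorem hasSection_fppf_perfect [PerfectField K] (h : NonAbH1.IsTorsorFor Scheme.fppfPrecoverage a) :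
    NonAbH1.HasSectionOver X (𝟙 (Spec (CommRingCat.of K))) := by
  obtain ⟨hps, R, hR, hsec⟩ := h
  obtain ⟨Y, b, hb, y, hy⟩ := ((Presieve.mem_comap_jointlySurjectivePrecoverage_iff _).1 hR.1)
    (IsLocalRing.closedPoint K : PrimeSpectrum K)
  have hP : (@Flat ⊓ @LocallyOfFinitePresentation : MorphismProperty Scheme.{u}) b := hR.2 hb
  haveI : LocallyOfFinitePresentation b := hP.2
  haveI : JacobsonSpace ↥(Spec (CommRingCat.of K)) := inferInstanceAs (JacobsonSpace (PrimeSpectrum K))
  haveI : JacobsonSpace Y := LocallyOfFiniteType.jacobsonSpace b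
  obtain ⟨z, -, hz'⟩ := nonempty_inter_closedPoints (X := Y) (Z := Set.univ) ⟨y, trivial⟩
    isOpen_univ.isLocallyClosed
  have hz : IsClosed ({z} : Set Y) := hz'
  obtain ⟨s, hs⟩ := hsec b hb
  let j : Spec (Y.residueField z) ⟶ Y := Y.fromSpecResidueField z
  have hfin : IsFinite (j ≫ b) := by
    rw [isClosed_singleton_iff_isClosedImmersion] at hz
    rw [isFinite_iff_locallyOfFiniteType_of_jacobsonSpace]
    infer_instance
  let φ := Spec.preimage (j ≫ b)
  have hφ : Spec.map φ = j ≫ b := Spec.map_preimage _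
  have hφfin : φ.hom.Finite := by rw [← IsFinite.SpecMap_iff, hφ]; exact hfin
  refine hasSection_of_ring a hps (Y.residueField z) φ hφfin.finiteType ?_ (j ≫ s)
    (by rw [Category.assoc, hs, hφ])
  letI := φ.hom.toAlgebra
  haveI : Module.Finite K (Y.residueField z) := hφfin
  haveI : Algebra.IsSeparable K (Y.residueField z) := Algebra.IsAlgebraic.isSeparable_of_perfectField
  exact Algebra.FormallyUnramified.of_isSeparable K (Y.residueField z)

end Core

end Groth.Agent.Helper18.FinConnTors
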