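import Mathlib
import Groth.Prelude.Def_NonAbH2
import Groth.Prelude.Def_ChGrp
import Groth.Agent.Lib.Helper18.FinConnTors

/-!
# fppf torsors under finite connected group schemes are trivialised by a power of Frobenius (helper18)
-/

set_option autoImplicit false
universe u

open CategoryTheory CategoryTheory.Limits AlgebraicGeometry MonoidalCategory CartesianMonoidalCategory MonObj

namespace Groth.Agent.Helper18.FinConnFrob

open Groth.Agent.Helper18.FinConnTors

section Ring

theorem pow_eq_of_frob {A R : Type*} [CommRing A] [CommRing R] (p n : ℕ) [ExpChar R p]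
    (ψ : A →+* R) (σ : A →+* A) (hσ : ∀ a, (a - σ a) ^ (p ^ n) = 0) (a : A) :
    (ψ a) ^ (p ^ n) = (ψ (σ a)) ^ (p ^ n) := by
  have h1 : ψ a = ψ (σ a) + ψ (a - σ a) := by rw [← map_add]; congr 1; ring
  rw [h1, add_pow_expChar_pow, ← map_pow ψ (a - σ a), hσ, map_zero, add_zero]

end Ring

section Frob

variable {C : Type u} [CommRing C] (p n : ℕ) [ExpChar C p]

/-- the `n`-fold absolute Frobenius of `Spec C` -/
noncomputable def frob : Spec (CommRingCat.of C) ⟶ Spec (CommRingCat.of C) :=
  Spec.map (CommRingCat.ofHom (iterateFrobenius C p n))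

theorem frob_appTop (t : Γ(Spec (CommRingCat.of C), ⊤)) :
    (frob (C := C) p n).appTop.hom t = t ^ (p ^ n) := by
  have h1 := Scheme.ΓSpecIso_naturality (CommRingCat.ofHom (iterateFrobenius C p n))
  have h2 : (Scheme.ΓSpecIso (CommRingCat.of C)).hom.hom ((frob (C := C) p n).appTop.hom t) =
      ((Scheme.ΓSpecIso (CommRingCat.of C)).hom.hom t) ^ (p ^ n) :=
    congrArg (fun φ => φ.hom t) h1
  have hinj : Function.Injective (Scheme.ΓSpecIso (CommRingCat.of C)).hom.hom :=
    (ConcreteCategory.bijective_of_isIso (Scheme.ΓSpecIso (CommRingCat.of C)).hom).1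
  apply hinj
  rw [h2, map_pow]

theorem frob_natural {B : Type u} [CommRing B] [ExpChar B p] (f : B →+* C) :
    frob (C := C) p n ≫ Spec.map (CommRingCat.ofHom f) =
      Spec.map (CommRingCat.ofHom f) ≫ frob (C := B) p n := by
  rw [frob, frob, ← Spec.map_comp, ← Spec.map_comp]
  congr 1
  ext b
  change iterateFrobenius C p n (f b) = f (iterateFrobenius B p n b)
  rw [iterateFrobenius_def, iterateFrobenius_def, map_pow]

end Frob

section Inf

variable {K : Type u} [Field K] (G : Over (Spec (CommRingCat.of K))) [IsFinite G.hom]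
  (e : Spec (CommRingCat.of K) ⟶ G.left) (he : e ≫ G.hom = 𝟙 _)

include he in
set_option backward.isDefEq.respectTransparency.types false in
theorem frob_comp_eq (p n : ℕ) (hn : ∀ d : Γ(G.left, ⊤), e.appTop.hom d = 0 → d ^ (p ^ n) = 0)
    {C : Type u} [CommRing C] [ExpChar C p] (g : Spec (CommRingCat.of C) ⟶ G.left) :
    frob p n ≫ g = frob p n ≫ (g ≫ G.hom) ≫ e := by
  obtain ⟨haff, -⟩ := (HasAffineProperty.iff_of_isAffine (P := @IsFinite)).mp
    (inferInstance : IsFinite G.hom)
  haveI := haff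
  apply ext_of_isAffine
  haveI : ExpChar Γ(Spec (CommRingCat.of C), ⊤) p :=
    expChar_of_injective_ringHom (f := (Scheme.ΓSpecIso (CommRingCat.of C)).inv.hom)
      (ConcreteCategory.bijective_of_isIso (Scheme.ΓSpecIso (CommRingCat.of C)).inv).1 p
  have h1 : G.hom.appTop ≫ e.appTop = 𝟙 _ := by
    rw [← Scheme.Hom.comp_appTop, he]; rfl
  let σ : Γ(G.left, ⊤) →+* Γ(G.left, ⊤) := (e.appTop ≫ G.hom.appTop).hom
  have hσ : ∀ a, (a - σ a) ^ (p ^ n) = 0 := by
    intro a
    apply hn
    have h2 : e.appTop.hom (G.hom.appTop.hom (e.appTop.hom a)) = e.appTop.hom a :=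
      congrArg (fun φ => φ.hom (e.appTop.hom a)) h1
    rw [map_sub]
    change e.appTop.hom a - e.appTop.hom (G.hom.appTop.hom (e.appTop.hom a)) = 0
    rw [h2, sub_self]
  apply CommRingCat.hom_ext
  apply RingHom.ext
  intro a
  have hL : (frob (C := C) p n ≫ g).appTop.hom a = (g.appTop.hom a) ^ (p ^ n) := by
    rw [Scheme.Hom.comp_appTop]
    exact frob_appTop p n _
  have hR : (frob (C := C) p n ≫ (g ≫ G.hom) ≫ e).appTop.hom a = (g.appTop.hom (σ a)) ^ (p ^ n) := by
    rw [Scheme.Hom.comp_appTop, Scheme.Hom.comp_appTop, Scheme.Hom.comp_appTop]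
    exact frob_appTop p n _
  rw [hL, hR]
  exact pow_eq_of_frob p n g.appTop.hom σ hσ a

end Inf

section Kill

variable {K : Type u} [Field K] (G : Over (Spec (CommRingCat.of K))) [IsFinite G.hom]
  [ConnectedSpace G.left] (e : Spec (CommRingCat.of K) ⟶ G.left)

set_option backward.isDefEq.respectTransparency.types false in
theorem exists_pow_kills (p : ℕ) (hp : 1 < p) :
    ∃ n : ℕ, ∀ d : Γ(G.left, ⊤), e.appTop.hom d = 0 → d ^ (p ^ n) = 0 := by
  obtain ⟨haff, hfin⟩ := (HasAffineProperty.iff_of_isAffine (P := @IsFinite)).mp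
    (inferInstance : IsFinite G.hom)
  haveI := haff
  let eK := (Scheme.ΓSpecIso (CommRingCat.of K)).symm
  let s : K →+* Γ(G.left, ⊤) := G.hom.appTop.hom.comp eK.hom.hom
  let ε : Γ(G.left, ⊤) →+* K := eK.inv.hom.comp e.appTop.hom
  have hsfin : s.Finite := RingHom.Finite.comp hfin
    (RingHom.Finite.of_surjective _ (ConcreteCategory.bijective_of_isIso eK.hom).2)
  letI := s.toAlgebra
  haveI : Module.Finite K Γ(G.left, ⊤) := hsfin
  haveI : IsArtinianRing Γ(G.left, ⊤) := IsArtinianRing.of_finite K _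
  haveI : IsNoetherianRing Γ(G.left, ⊤) := IsNoetherianRing.of_finite K _
  have hsub : Subsingleton (PrimeSpectrum Γ(G.left, ⊤)) := by
    haveI : ConnectedSpace (PrimeSpectrum Γ(G.left, ⊤)) :=
      (G.left.isoSpec.hom.homeomorph.surjective.connectedSpace G.left.isoSpec.hom.homeomorph.continuous :
        ConnectedSpace ↥(Spec Γ(G.left, ⊤)))
    exact PreconnectedSpace.trivial_of_discrete
  have hker : RingHom.ker ε ≤ nilradical Γ(G.left, ⊤) := by
    intro d hd
    rw [nilradical_eq_sInf, Ideal.mem_sInf]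
    intro q hq
    have hq' : q.IsPrime := hq
    have hk : (RingHom.ker ε).IsPrime := RingHom.ker_isPrime ε
    have : (⟨q, hq'⟩ : PrimeSpectrum Γ(G.left, ⊤)) = ⟨RingHom.ker ε, hk⟩ := Subsingleton.elim _ _
    have hq2 : q = RingHom.ker ε := congrArg PrimeSpectrum.asIdeal this
    rw [hq2]; exact hd
  obtain ⟨N, hN⟩ := IsNoetherianRing.isNilpotent_nilradical Γ(G.left, ⊤)
  refine ⟨N, fun d hd => ?_⟩
  have hdε : d ∈ RingHom.ker ε := by
    rw [RingHom.mem_ker]
    change eK.inv.hom (e.appTop.hom d) = 0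
    rw [hd, map_zero]
  have h1 : d ^ N ∈ nilradical Γ(G.left, ⊤) ^ N := Ideal.pow_mem_pow (hker hdε) N
  rw [hN] at h1
  have h2 : d ^ N = 0 := h1
  exact pow_eq_zero_of_le (Nat.lt_pow_self hp).le h2

end Kill

section Core

variable {K : Type u} [Field K] {G X : Over (Spec (CommRingCat.of K))} [GrpObj G] [IsFinite G.hom]
  (a : AlgGrp.Action G X)

omit [IsFinite G.hom] in
theorem exists_translate (hps : NonAbH1.IsPseudoTorsorSch a) {P : Over (Spec (CommRingCat.of K))}
    (x₁ x₂ : P ⟶ X) : ∃ g : P ⟶ G, x₁ = lift g x₂ ≫ a.act := by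
  haveI : IsIso (lift a.act (snd G X)) := hps
  let q : P ⟶ G ⊗ X := lift x₁ x₂ ≫ inv (lift a.act (snd G X))
  have hq : q ≫ lift a.act (snd G X) = lift x₁ x₂ := by
    rw [Category.assoc, IsIso.inv_hom_id, Category.comp_id]
  have hq1 : q ≫ a.act = x₁ := by
    have := congrArg (fun t => t ≫ fst X X) hq
    simpa only [Category.assoc, lift_fst] using this
  have hq2 : q ≫ snd G X = x₂ := by
    have := congrArg (fun t => t ≫ snd X X) hq
    simpa only [Category.assoc, lift_snd] using this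
  refine ⟨q ≫ fst G X, ?_⟩
  have hq3 : q = lift (q ≫ fst G X) x₂ := by
    apply CartesianMonoidalCategory.hom_ext
    · rw [lift_fst]
    · rw [lift_snd, hq2]
  rw [← hq3, hq1]

/-- after the `n`-fold Frobenius, two points of a pseudo-torsor over the same affine base agree -/
theorem frob_points_eq (hps : NonAbH1.IsPseudoTorsorSch a) (p n : ℕ)
    (hn : ∀ d : Γ(G.left, ⊤), (η[G] : 𝟙_ (Over (Spec (CommRingCat.of K))) ⟶ G).left.appTop.hom d = 0 →
      d ^ (p ^ n) = 0)
    {C : Type u} [CommRing C] [ExpChar C p] (x₁ x₂ : Spec (CommRingCat.of C) ⟶ X.left)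
    (h : x₁ ≫ X.hom = x₂ ≫ X.hom) : frob p n ≫ x₁ = frob p n ≫ x₂ := by
  let P' : Over (Spec (CommRingCat.of K)) := Over.mk (x₂ ≫ X.hom)
  let x₁' : P' ⟶ X := Over.homMk x₁ h
  let x₂' : P' ⟶ X := Over.homMk x₂ rfl
  obtain ⟨g, hg⟩ := exists_translate a hps x₁' x₂'
  let P'' : Over (Spec (CommRingCat.of K)) := Over.mk (frob (C := C) p n ≫ x₂ ≫ X.hom)
  let fr : P'' ⟶ P' := Over.homMk (frob (C := C) p n) rfl
  have he : (η[G] : 𝟙_ (Over (Spec (CommRingCat.of K))) ⟶ G).left ≫ G.hom = 𝟙 _ := Over.w η[G]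
  have h1 : fr ≫ g = 1 := by
    apply Over.OverMorphism.ext
    have h2 := frob_comp_eq G _ he p n hn g.left
    have h3 : g.left ≫ G.hom = x₂ ≫ X.hom := Over.w g
    change frob (C := C) p n ≫ g.left = (toUnit P'' ≫ η[G]).left
    rw [h2, h3, Over.comp_left, Over.toUnit_left]
    simp only [Category.assoc]
    rfl
  have h4 : fr ≫ x₁' = fr ≫ x₂' := by
    rw [hg, ← Category.assoc, comp_lift, h1, AlgGrp.Action.lift_one_act]
  exact congrArg (fun t => t.left) h4

open scoped TensorProduct in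
/-- A point of a pseudo-torsor over a nonzero affine `K`-scheme descends after the `n`-fold Frobenius twist. -/
theorem hasSection_frob (hps : NonAbH1.IsPseudoTorsorSch a) (p n : ℕ) [ExpChar K p]
    (hn : ∀ d : Γ(G.left, ⊤), (η[G] : 𝟙_ (Over (Spec (CommRingCat.of K))) ⟶ G).left.appTop.hom d = 0 →
      d ^ (p ^ n) = 0)
    (B : Type u) [CommRing B] [Algebra K B] [Nontrivial B] (x : Spec (CommRingCat.of B) ⟶ X.left)
    (hx : x ≫ X.hom = Spec.map (CommRingCat.ofHom (algebraMap K B))) :
    NonAbH1.HasSectionOver X (Spec.map (CommRingCat.ofHom (iterateFrobenius K p n))) := by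
  haveI : ExpChar B p := expChar_of_injective_algebraMap (algebraMap K B).injective p
  haveI : Module.FaithfullyFlat K B := inferInstance
  haveI : Nontrivial (B ⊗[K] B) := inferInstance
  haveI : ExpChar (B ⊗[K] B) p :=
    expChar_of_injective_algebraMap (algebraMap K (B ⊗[K] B)).injective p
  set g := Spec.map (CommRingCat.ofHom (algebraMap K B)) with hg
  have hff : (CommRingCat.ofHom (algebraMap K B)).hom.FaithfullyFlat := by
    change (algebraMap K B).FaithfullyFlat
    rw [RingHom.faithfullyFlat_algebraMap_iff]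
    infer_instance
  obtain ⟨hflat, hsurj⟩ := (flat_and_surjective_SpecMap_iff _).2 hff
  haveI : Flat g := hflat
  haveI : Surjective g := hsurj
  haveI : QuasiCompact g := inferInstance
  have hFg : frob (C := B) p n ≫ g = g ≫ frob (C := K) p n := frob_natural p n (algebraMap K B)
  have hx' : (frob (C := B) p n ≫ x) ≫ X.hom = g ≫ frob (C := K) p n := by
    rw [Category.assoc, hx, hFg]
  let e := pullbackSpecIso K B B
  let p₁ : Spec (CommRingCat.of (B ⊗[K] B)) ⟶ Spec (CommRingCat.of B) :=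
    Spec.map (CommRingCat.ofHom Algebra.TensorProduct.includeLeftRingHom)
  let p₂ : Spec (CommRingCat.of (B ⊗[K] B)) ⟶ Spec (CommRingCat.of B) :=
    Spec.map (CommRingCat.ofHom (R := B) (S := B ⊗[K] B)
      (RingHomClass.toRingHom Algebra.TensorProduct.includeRight))
  have he1 : e.hom ≫ p₁ = pullback.fst g g := pullbackSpecIso_hom_fst K B B
  have he2 : e.hom ≫ p₂ = pullback.snd g g := pullbackSpecIso_hom_snd K B B
  have hp12 : p₁ ≫ g = p₂ ≫ g := by
    rw [← cancel_epi e.hom, ← Category.assoc, ← Category.assoc, he1, he2, pullback.condition]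
  have h12 : p₁ ≫ frob (C := B) p n ≫ x = p₂ ≫ frob (C := B) p n ≫ x := by
    rw [← Category.assoc, ← Category.assoc]
    have e1 : p₁ ≫ frob (C := B) p n = frob (C := B ⊗[K] B) p n ≫ p₁ := (frob_natural p n _).symm
    have e2 : p₂ ≫ frob (C := B) p n = frob (C := B ⊗[K] B) p n ≫ p₂ := (frob_natural p n _).symm
    rw [e1, e2, Category.assoc, Category.assoc]
    apply frob_points_eq a hps p n hn
    rw [Category.assoc, Category.assoc, hx, hp12]
  have hcond : ∀ {Z : Scheme.{u}} (g₁ g₂ : Z ⟶ Spec (CommRingCat.of B)), g₁ ≫ g = g₂ ≫ g →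
      g₁ ≫ frob (C := B) p n ≫ x = g₂ ≫ frob (C := B) p n ≫ x := by
    intro Z g₁ g₂ h12'
    have h1 : g₁ = (pullback.lift g₁ g₂ h12' ≫ e.hom) ≫ p₁ := by
      rw [Category.assoc, he1, pullback.lift_fst]
    have h2 : g₂ = (pullback.lift g₁ g₂ h12' ≫ e.hom) ≫ p₂ := by
      rw [Category.assoc, he2, pullback.lift_snd]
    rw [h1, Category.assoc, h12, ← Category.assoc, ← h2]
  refine ⟨EffectiveEpi.desc g (frob (C := B) p n ≫ x) hcond, ?_⟩
  rw [← cancel_epi g, ← Category.assoc, EffectiveEpi.fac, hx']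
  rfl

set_option backward.isDefEq.respectTransparency.types false in
/-- fppf torsors under a finite connected group scheme over a field of exponential characteristic `p` are trivialised by
a fixed power of Frobenius -/
theorem exists_frob_trivialises [ConnectedSpace G.left] (p : ℕ) [hpK : ExpChar K p] :
    ∃ n : ℕ, ∀ (X : Over (Spec (CommRingCat.of K))) (a : AlgGrp.Action G X),
      NonAbH1.IsTorsorFor Scheme.fppfPrecoverage a →
      NonAbH1.HasSectionOver X (Spec.map (CommRingCat.ofHom (iterateFrobenius K p n))) := by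
  have hpK2 : ExpChar K p := hpK
  rcases hpK with _ | hprime
  · -- characteristic zero
    refine ⟨0, fun X a h => ?_⟩
    have h1 := hasSection_fppf_perfect a h
    have h2 : Spec.map (CommRingCat.ofHom (iterateFrobenius K 1 0)) = 𝟙 _ := by
      rw [iterateFrobenius_zero]
      exact Spec.map_id _
    rw [h2]
    exact h1
  · obtain ⟨n, hn⟩ := exists_pow_kills G
      (η[G] : 𝟙_ (Over (Spec (CommRingCat.of K))) ⟶ G).left p hprime.one_lt
    refine ⟨n, fun X a h => ?_⟩
    obtain ⟨hps, R, hR, hsec⟩ := h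
    obtain ⟨Y, b, hb, y, hy⟩ := ((Presieve.mem_comap_jointlySurjectivePrecoverage_iff _).1 hR.1)
      (IsLocalRing.closedPoint K : PrimeSpectrum K)
    have hP : (@Flat ⊓ @LocallyOfFinitePresentation : MorphismProperty Scheme.{u}) b := hR.2 hb
    haveI : LocallyOfFinitePresentation b := hP.2
    obtain ⟨s, hs⟩ := hsec b hb
    obtain ⟨U, hU, hyU, -⟩ := exists_isAffineOpen_mem_and_subset (x := y) (U := ⊤) trivial
    let j : Spec Γ(Y, U) ⟶ Y := hU.fromSpec
    let φ := Spec.preimage (j ≫ b)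
    have hφ : Spec.map φ = j ≫ b := Spec.map_preimage _
    haveI : Nontrivial Γ(Y, U) := by
      have : y ∈ Set.range hU.fromSpec := by rw [hU.range_fromSpec]; exact hyU
      obtain ⟨q, -⟩ := this
      exact PrimeSpectrum.nonempty_iff_nontrivial.1 ⟨q⟩
    letI := φ.hom.toAlgebra
    exact hasSection_frob a hps p n hn Γ(Y, U) (j ≫ s) (by rw [Category.assoc, hs, ← hφ]; rfl)

end Core

end Groth.Agent.Helper18.FinConnFrob
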