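import Mathlib

/-!
# Base change of a nilpotent affine thickening is a nilpotent thickening (helper18)
-/

set_option autoImplicit false
universe u v₁ u₁

open CategoryTheory CategoryTheory.Limits MonoidalCategory CartesianMonoidalCategory AlgebraicGeometry Opposite

namespace Groth.Agent.Helper18.NilThick

section Cart

variable {C : Type u₁} [Category.{v₁} C] [CartesianMonoidalCategory C]

/-- `B ⊗ T → B ⊗ T'` is the base change of `T → T'` -/
theorem isPullback_whiskerLeft_snd (B : C) {T T' : C} (t : T ⟶ T') :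
    IsPullback (B ◁ t) (snd B T) (snd B T') t := by
  refine ⟨⟨whiskerLeft_snd _ _⟩,
    ⟨PullbackCone.IsLimit.mk _ (fun s => lift (s.fst ≫ fst B T') s.snd) ?_ ?_ ?_⟩⟩
  · intro s
    apply CartesianMonoidalCategory.hom_ext
    · rw [Category.assoc, whiskerLeft_fst, lift_fst]
    · rw [Category.assoc, whiskerLeft_snd, lift_snd_assoc, s.condition]
  · intro s
    rw [lift_snd]
  · intro s m h1 h2
    apply CartesianMonoidalCategory.hom_ext
    · rw [lift_fst, ← h1, Category.assoc, whiskerLeft_fst]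
    · rw [lift_snd, ← h2]

end Cart

section Sch

variable {A : Type u} [CommRing A] (I : Ideal A)
  {Z Z' : Scheme.{u}} (i : Z' ⟶ Z) (g' : Z' ⟶ Spec (CommRingCat.of (A ⧸ I)))
  (g : Z ⟶ Spec (CommRingCat.of A))
  (hpb : IsPullback i g' g (Spec.map (CommRingCat.ofHom (Ideal.Quotient.mk I))))

include hpb in
theorem isClosedImmersion_of_isPullback : IsClosedImmersion i := by
  have h : IsClosedImmersion (Spec.map (CommRingCat.ofHom (Ideal.Quotient.mk I))) :=
    IsClosedImmersion.spec_of_surjective _ Ideal.Quotient.mk_surjective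
  exact MorphismProperty.of_isPullback (P := @IsClosedImmersion) hpb.flip h

include hpb in
theorem ker_app_le_map (U : Z.Opens) (hU : IsAffineOpen U) :
    RingHom.ker (i.app U).hom ≤
      Ideal.map ((Scheme.ΓSpecIso (CommRingCat.of A)).inv ≫
        g.appLE ⊤ U (by rw [Scheme.Hom.preimage_top]; exact le_top)).hom I := by
  intro c hc
  rw [RingHom.mem_ker] at hc
  set φ : CommRingCat.of A ⟶ Γ(Z, U) := (Scheme.ΓSpecIso (CommRingCat.of A)).inv ≫
        g.appLE ⊤ U (by rw [Scheme.Hom.preimage_top]; exact le_top) with hφ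
  set IC : Ideal Γ(Z, U) := Ideal.map φ.hom I with hIC
  let m : Γ(Z, U) ⟶ CommRingCat.of (Γ(Z, U) ⧸ IC) := CommRingCat.ofHom (Ideal.Quotient.mk IC)
  let q : Spec (CommRingCat.of (Γ(Z, U) ⧸ IC)) ⟶ Z := Spec.map m ≫ hU.fromSpec
  let ψ : A ⧸ I →+* Γ(Z, U) ⧸ IC := Ideal.quotientMap IC φ.hom Ideal.le_comap_map
  have hfg : hU.fromSpec ≫ g = Spec.map φ := by
    have h1 := IsAffineOpen.SpecMap_appLE_fromSpec g (isAffineOpen_top (Spec (CommRingCat.of A))) hU
      (by rw [Scheme.Hom.preimage_top]; exact le_top)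
    rw [IsAffineOpen.fromSpec_top, Scheme.isoSpec_Spec_inv, ← Spec.map_comp] at h1
    exact h1.symm
  have hcomm : CommRingCat.ofHom (Ideal.Quotient.mk I) ≫ CommRingCat.ofHom ψ = φ ≫ m := by
    ext a
    simp [ψ, m]
  have hcone : q ≫ g = Spec.map (CommRingCat.ofHom ψ) ≫
      Spec.map (CommRingCat.ofHom (Ideal.Quotient.mk I)) := by
    rw [← Spec.map_comp, hcomm, Spec.map_comp, Category.assoc, hfg]
  let h : Spec (CommRingCat.of (Γ(Z, U) ⧸ IC)) ⟶ Z' := hpb.lift q (Spec.map (CommRingCat.ofHom ψ)) hcone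
  have hq : h ≫ i = q := hpb.lift_fst _ _ _
  have hle : (⊤ : (Spec (CommRingCat.of (Γ(Z, U) ⧸ IC))).Opens) ≤ q ⁻¹ᵁ U := by
    intro x _
    change (Spec.map m ≫ hU.fromSpec) x ∈ U
    have h0 : hU.fromSpec (Spec.map m x) ∈ hU.fromSpec.opensRange := ⟨_, rfl⟩
    rw [hU.opensRange_fromSpec] at h0
    exact h0
  have hqapp : q.appLE U ⊤ hle = m ≫ (Scheme.ΓSpecIso _).inv := by
    apply Spec.map_injective
    have h1 := IsAffineOpen.SpecMap_appLE_fromSpec q hU
      (isAffineOpen_top (Spec (CommRingCat.of (Γ(Z, U) ⧸ IC)))) hle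
    rw [IsAffineOpen.fromSpec_top, Scheme.isoSpec_Spec_inv] at h1
    have h2 : Spec.map (q.appLE U ⊤ hle) ≫ hU.fromSpec =
        Spec.map (m ≫ (Scheme.ΓSpecIso _).inv) ≫ hU.fromSpec := by
      rw [h1, Spec.map_comp, Category.assoc]
    exact (cancel_mono hU.fromSpec).1 h2
  have hle' : (⊤ : (Spec (CommRingCat.of (Γ(Z, U) ⧸ IC))).Opens) ≤ (h ≫ i) ⁻¹ᵁ U := by
    rw [hq]; exact hle
  have h3 : (h ≫ i).appLE U ⊤ hle' = q.appLE U ⊤ hle := by
    congr 1
  have h4 : ((h ≫ i).appLE U ⊤ hle').hom c = 0 := by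
    rw [Scheme.Hom.comp_appLE]
    change (h.appLE (i ⁻¹ᵁ U) ⊤ _).hom ((i.app U).hom c) = 0
    rw [hc, map_zero]
  rw [h3, hqapp] at h4
  have h5 : (Scheme.ΓSpecIso (CommRingCat.of (Γ(Z, U) ⧸ IC))).inv.hom (m.hom c) = 0 := h4
  have h6 : m.hom c = 0 := by
    have := congrArg (Scheme.ΓSpecIso (CommRingCat.of (Γ(Z, U) ⧸ IC))).hom.hom h5
    rw [map_zero] at this
    rw [← this]
    change m.hom c = ((Scheme.ΓSpecIso _).inv ≫ (Scheme.ΓSpecIso _).hom).hom (m.hom c)
    rw [Iso.inv_hom_id]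
    rfl
  exact Ideal.Quotient.eq_zero_iff_mem.mp h6

include hpb in
theorem ker_pow_eq_bot (n : ℕ) (hI : I ^ n = ⊥) : i.ker ^ n = ⊥ := by
  haveI : IsClosedImmersion i := isClosedImmersion_of_isPullback I i g' g hpb
  apply le_bot_iff.mp
  rw [Scheme.IdealSheafData.le_def]
  intro U
  rw [Scheme.IdealSheafData.ideal_pow, Scheme.IdealSheafData.ideal_bot, Pi.pow_apply, Pi.bot_apply,
    Scheme.Hom.ker_apply]
  calc RingHom.ker (i.app U.1).hom ^ n
      ≤ (Ideal.map ((Scheme.ΓSpecIso (CommRingCat.of A)).inv ≫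
        g.appLE ⊤ U.1 (by rw [Scheme.Hom.preimage_top]; exact le_top)).hom I) ^ n :=
        Ideal.pow_right_mono (ker_app_le_map I i g' g hpb U.1 U.2) n
    _ = ⊥ := by rw [← Ideal.map_pow, hI, Ideal.map_bot]

include hpb in
theorem isNilpotent_ker (n : ℕ) (hI : I ^ n = ⊥) : IsNilpotent i.ker :=
  ⟨n, ker_pow_eq_bot I i g' g hpb n hI⟩

end Sch

end Groth.Agent.Helper18.NilThick
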