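import Mathlib
import Groth.Agent.Lib.Helper18.NilThick

/-!
# A group scheme is the product of two subgroups meeting trivially (helper18)

`G_red × G⁰ → G` is an isomorphism as soon as it is flat, quasi-compact, surjective and a
monomorphism.
-/

set_option autoImplicit false
set_option linter.unusedSectionVars false
set_option linter.style.haveILetI false
universe u

open CategoryTheory AlgebraicGeometry TopologicalSpace Opposite
open MonoidalCategory CartesianMonoidalCategory CategoryTheory.Limits MonObj GrpObj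

noncomputable section

namespace Groth.Agent.Helper18.FinGrpSplit

variable {S : Scheme.{u}} {G Gr G₀ : Over S} [GrpObj G] [GrpObj Gr] [GrpObj G₀]

/-- the twisted shear `(x, g) ↦ (x, r(x) g)` -/
def shearIso (r : Gr ⟶ G) : Gr ⊗ G ≅ Gr ⊗ G where
  hom := lift (fst Gr G) ((fst Gr G ≫ r) * snd Gr G)
  inv := lift (fst Gr G) ((fst Gr G ≫ r)⁻¹ * snd Gr G)
  hom_inv_id := by
    apply CartesianMonoidalCategory.hom_ext
    · simp
    · simp only [Category.assoc, lift_snd, Category.id_comp, MonObj.comp_mul, GrpObj.comp_inv,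
        lift_fst_assoc]
      exact inv_mul_cancel_left _ _
  inv_hom_id := by
    apply CartesianMonoidalCategory.hom_ext
    · simp
    · simp only [Category.assoc, lift_snd, Category.id_comp, MonObj.comp_mul, GrpObj.comp_inv,
        lift_fst_assoc]
      exact mul_inv_cancel_left _ _

theorem shearIso_hom_snd (r : Gr ⟶ G) : (shearIso r).hom ≫ snd Gr G = (r ▷ G) ≫ μ[G] := by
  simp only [shearIso, lift_snd]
  rw [Hom.mul_def]
  congr 1

theorem phi_eq (r : Gr ⟶ G) (i₀ : G₀ ⟶ G) :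
    (r ⊗ₘ i₀) ≫ μ[G] = (Gr ◁ i₀) ≫ (shearIso r).hom ≫ snd Gr G := by
  rw [shearIso_hom_snd, tensorHom_def', Category.assoc]

theorem phi_left_eq (r : Gr ⟶ G) (i₀ : G₀ ⟶ G) :
    ((r ⊗ₘ i₀) ≫ μ[G]).left =
      (Gr ◁ i₀).left ≫ (shearIso r).hom.left ≫ pullback.snd Gr.hom G.hom := by
  rw [phi_eq]
  rfl

theorem isPullback_whiskerLeft_left (i₀ : G₀ ⟶ G) :
    IsPullback (snd Gr G₀).left (Gr ◁ i₀).left i₀.left (snd Gr G).left :=
  ((NilThick.isPullback_whiskerLeft_snd Gr i₀).map (Over.forget S)).flip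

theorem flat_phi (r : Gr ⟶ G) (i₀ : G₀ ⟶ G) [Flat Gr.hom] [IsOpenImmersion i₀.left] :
    Flat ((r ⊗ₘ i₀) ≫ μ[G]).left := by
  rw [phi_left_eq]
  haveI : IsOpenImmersion (Gr ◁ i₀).left :=
    MorphismProperty.of_isPullback (P := @IsOpenImmersion) (isPullback_whiskerLeft_left i₀)
      inferInstance
  haveI : IsIso (shearIso r).hom.left :=
    inferInstanceAs (IsIso ((Over.forget S).map (shearIso r).hom))
  infer_instance

theorem quasiCompact_phi (r : Gr ⟶ G) (i₀ : G₀ ⟶ G) [QuasiCompact Gr.hom]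
    [QuasiCompact i₀.left] : QuasiCompact ((r ⊗ₘ i₀) ≫ μ[G]).left := by
  rw [phi_left_eq]
  haveI : QuasiCompact (Gr ◁ i₀).left :=
    MorphismProperty.of_isPullback (P := @QuasiCompact) (isPullback_whiskerLeft_left i₀)
      inferInstance
  haveI : IsIso (shearIso r).hom.left :=
    inferInstanceAs (IsIso ((Over.forget S).map (shearIso r).hom))
  infer_instance

theorem section_phi (r : Gr ⟶ G) (i₀ : G₀ ⟶ G) [IsMonHom i₀] :
    lift (𝟙 Gr) (toUnit Gr ≫ η[G₀]) ≫ (r ⊗ₘ i₀) ≫ μ[G] = r := by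
  have h1 : lift (𝟙 Gr) (toUnit Gr ≫ η[G₀]) ≫ (r ⊗ₘ i₀) = lift r (toUnit Gr ≫ η[G]) := by
    apply CartesianMonoidalCategory.hom_ext
    · simp
    · simp [IsMonHom.one_hom]
  rw [← Category.assoc, h1, ← Hom.mul_def, ← Hom.one_def, _root_.mul_one]

theorem surjective_phi (r : Gr ⟶ G) (i₀ : G₀ ⟶ G) [IsMonHom i₀] [Surjective r.left] :
    Surjective ((r ⊗ₘ i₀) ≫ μ[G]).left := by
  have h := congrArg (fun f => f.left) (section_phi r i₀)
  simp only [Over.comp_left] at h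
  haveI : Surjective ((lift (𝟙 Gr) (toUnit Gr ≫ η[G₀])).left ≫ (r ⊗ₘ i₀).left ≫ μ[G].left) := by
    rw [h]
    infer_instance
  have := Surjective.of_comp (lift (𝟙 Gr) (toUnit Gr ≫ η[G₀])).left ((r ⊗ₘ i₀).left ≫ μ[G].left)
  exact this

theorem mono_phi (r : Gr ⟶ G) (i₀ : G₀ ⟶ G) [IsMonHom r] [IsMonHom i₀] [Mono i₀]
    (htriv : ∀ (T : Over S) (z : T ⟶ Gr) (w : T ⟶ G₀), z ≫ r = w ≫ i₀ → z = 1) :
    Mono ((r ⊗ₘ i₀) ≫ μ[G]) := by
  refine ⟨fun {T} a b hab => ?_⟩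
  have ha : a ≫ (r ⊗ₘ i₀) ≫ μ[G] = (a ≫ fst Gr G₀ ≫ r) * (a ≫ snd Gr G₀ ≫ i₀) := by
    rw [Hom.mul_def, ← Category.assoc]
    congr 1
    apply CartesianMonoidalCategory.hom_ext <;> simp
  have hb : b ≫ (r ⊗ₘ i₀) ≫ μ[G] = (b ≫ fst Gr G₀ ≫ r) * (b ≫ snd Gr G₀ ≫ i₀) := by
    rw [Hom.mul_def, ← Category.assoc]
    congr 1
    apply CartesianMonoidalCategory.hom_ext <;> simp
  rw [ha, hb] at hab
  set x := a ≫ fst Gr G₀ with hx
  set y := a ≫ snd Gr G₀ with hy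
  set x' := b ≫ fst Gr G₀ with hx'
  set y' := b ≫ snd Gr G₀ with hy'
  simp only [← Category.assoc] at hab
  rw [← hx, ← hy, ← hx', ← hy'] at hab
  have h1 : (x'⁻¹ * x) ≫ r = (y' * y⁻¹) ≫ i₀ := by
    rw [MonObj.mul_comp, GrpObj.inv_comp, MonObj.mul_comp, GrpObj.inv_comp]
    rw [inv_mul_eq_iff_eq_mul, ← _root_.mul_assoc, eq_mul_inv_iff_mul_eq]
    exact hab
  have hz : x'⁻¹ * x = 1 := htriv T _ _ h1
  have hxx : x = x' := by
    have := inv_mul_eq_one.mp hz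
    exact this.symm
  have hw : (y' * y⁻¹) ≫ i₀ = (1 : T ⟶ G₀) ≫ i₀ := by
    rw [← h1, hz, MonObj.one_comp, MonObj.one_comp]
  have hw' : y' * y⁻¹ = 1 := (cancel_mono i₀).mp hw
  have hyy : y = y' := by
    have := mul_inv_eq_one.mp hw'
    exact this.symm
  apply CartesianMonoidalCategory.hom_ext
  · exact hxx
  · exact hyy

theorem isIso_phi (r : Gr ⟶ G) (i₀ : G₀ ⟶ G) [IsMonHom r] [IsMonHom i₀] [Mono i₀]
    [Flat Gr.hom] [IsOpenImmersion i₀.left] [QuasiCompact Gr.hom] [QuasiCompact i₀.left]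
    [Surjective r.left]
    (htriv : ∀ (T : Over S) (z : T ⟶ Gr) (w : T ⟶ G₀), z ≫ r = w ≫ i₀ → z = 1) :
    IsIso ((r ⊗ₘ i₀) ≫ μ[G]) := by
  haveI := flat_phi r i₀
  haveI := quasiCompact_phi r i₀
  haveI := surjective_phi r i₀
  haveI := mono_phi r i₀ htriv
  haveI : Mono ((r ⊗ₘ i₀) ≫ μ[G]).left := inferInstance
  haveI : IsIso ((Over.forget S).map ((r ⊗ₘ i₀) ≫ μ[G])) :=
    Flat.isIso_of_surjective_of_mono ((r ⊗ₘ i₀) ≫ μ[G]).left
  exact isIso_of_reflects_iso _ (Over.forget S)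

end Groth.Agent.Helper18.FinGrpSplit
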