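import Mathlib
import Groth.Agent.Lib.Helper18.FinGrpSplit

/-!
# The reduced subgroup and the neutral component of a finite group scheme over a field meet
trivially (helper18)
-/

set_option autoImplicit false
set_option linter.unusedSectionVars false
set_option linter.style.haveILetI false
universe u

open CategoryTheory AlgebraicGeometry TopologicalSpace Opposite
open MonoidalCategory CartesianMonoidalCategory CategoryTheory.Limits MonObj GrpObj

noncomputable section

namespace Groth.Agent.Helper18.FinGrpSplit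

variable (k : Type u) [Field k] {G Gr G₀ : Over (Spec (CommRingCat.of k))}
  [GrpObj G] [GrpObj Gr] [GrpObj G₀]

instance subsingleton_spec_field : Subsingleton ↥(Spec (CommRingCat.of k)) :=
  inferInstanceAs (Subsingleton (PrimeSpectrum k))

theorem discreteTopology_of_isFinite [IsFinite G.hom] : DiscreteTopology ↥G.left := by
  obtain ⟨pt⟩ : Nonempty ↥(Spec (CommRingCat.of k)) := inferInstance
  have hd := G.hom.isDiscrete_preimage_singleton pt
  have hu : G.hom ⁻¹' {pt} = Set.univ := by
    ext x
    simp only [Set.mem_preimage, Set.mem_singleton_iff, Set.mem_univ, iff_true]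
    exact Subsingleton.elim _ _
  rw [hu] at hd
  exact isDiscrete_univ_iff.mp hd

theorem finite_of_isFinite [IsFinite G.hom] : Finite ↥G.left := by
  obtain ⟨pt⟩ : Nonempty ↥(Spec (CommRingCat.of k)) := inferInstance
  have hd := G.hom.finite_preimage_singleton pt
  have hu : G.hom ⁻¹' {pt} = Set.univ := by
    ext x
    simp only [Set.mem_preimage, Set.mem_singleton_iff, Set.mem_univ, iff_true]
    exact Subsingleton.elim _ _
  rw [hu] at hd
  exact Set.finite_univ_iff.mp hd

theorem trivial_inter [IsFinite G.hom] (r : Gr ⟶ G) [IsMonHom r] [IsClosedImmersion r.left]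
    [IsReduced Gr.left] (i₀ : G₀ ⟶ G) [IsMonHom i₀] [IsOpenImmersion i₀.left]
    [ConnectedSpace ↥G₀.left] (T : Over (Spec (CommRingCat.of k))) (z : T ⟶ Gr) (w : T ⟶ G₀)
    (h : z ≫ r = w ≫ i₀) : z = 1 := by
  haveI := discreteTopology_of_isFinite k (G := G)
  have hsub : (Set.range i₀.left.base).Subsingleton :=
    (isPreconnected_range i₀.left.continuous).subsingleton
  let U : Gr.left.Opens := r.left ⁻¹ᵁ i₀.left.opensRange
  have hU : ∀ p q : Gr.left, p ∈ U → q ∈ U → p = q := fun p q hp hq =>
    r.left.isClosedEmbedding.injective (hsub hp hq)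
  haveI : Subsingleton ↥(U : Scheme.{u}) := ⟨fun p q => Subtype.ext (hU p.1 q.1 p.2 q.2)⟩
  have he : ∀ s, η[Gr].left.base s ∈ U := by
    intro s
    change r.left.base (η[Gr].left.base s) ∈ Set.range i₀.left.base
    rw [← Scheme.Hom.comp_apply, ← Over.comp_left, IsMonHom.one_hom, ← IsMonHom.one_hom (f := i₀),
      Over.comp_left, Scheme.Hom.comp_apply]
    exact ⟨_, rfl⟩
  have hzU : ∀ t, z.left.base t ∈ U := by
    intro t
    change r.left.base (z.left.base t) ∈ Set.range i₀.left.base
    rw [← Scheme.Hom.comp_apply, ← Over.comp_left, h, Over.comp_left, Scheme.Hom.comp_apply]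
    exact ⟨_, rfl⟩
  have hrange1 : Set.range η[Gr].left.base ⊆ Set.range U.ι.base := by
    rintro _ ⟨s, rfl⟩
    rw [Scheme.Opens.range_ι]
    exact he s
  have hrange2 : Set.range z.left.base ⊆ Set.range U.ι.base := by
    rintro _ ⟨t, rfl⟩
    rw [Scheme.Opens.range_ι]
    exact hzU t
  let eU : Spec (CommRingCat.of k) ⟶ (U : Scheme.{u}) := IsOpenImmersion.lift U.ι η[Gr].left hrange1
  let zU : T.left ⟶ (U : Scheme.{u}) := IsOpenImmersion.lift U.ι z.left hrange2
  have heU : eU ≫ (U.ι ≫ Gr.hom) = 𝟙 _ := by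
    rw [← Category.assoc, IsOpenImmersion.lift_fac]
    exact Over.w η[Gr]
  haveI : IsClosedImmersion eU := isClosedImmersion_of_comp_eq_id (U.ι ≫ Gr.hom) eU heU
  have hsurj : Function.Surjective eU.base := by
    intro u
    obtain ⟨pt⟩ : Nonempty ↥(Spec (CommRingCat.of k)) := inferInstance
    exact ⟨pt, Subsingleton.elim _ _⟩
  haveI : Surjective eU := ⟨hsurj⟩
  haveI : IsIso eU := isIso_of_isClosedImmersion_of_surjective eU
  have hπ : (U.ι ≫ Gr.hom) ≫ eU = 𝟙 _ := by
    rw [← cancel_epi eU, ← Category.assoc, heU, Category.id_comp, Category.comp_id]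
  have hz : z.left = T.hom ≫ η[Gr].left := by
    have h1 : z.left = zU ≫ U.ι := (IsOpenImmersion.lift_fac U.ι z.left hrange2).symm
    have h2 : zU = (zU ≫ U.ι ≫ Gr.hom) ≫ eU := by
      rw [Category.assoc, hπ, Category.comp_id]
    have h3 : zU ≫ U.ι ≫ Gr.hom = T.hom := by
      rw [← Category.assoc, ← h1]
      exact Over.w z
    rw [h1, h2, h3, Category.assoc, IsOpenImmersion.lift_fac]
  apply Over.OverMorphism.ext
  rw [hz, Hom.one_def, Over.comp_left]
  rfl

/-- **`G_red × G⁰ ≅ G`** for a finite group scheme over a field with a reduced closed subgroup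
scheme `G_red` surjecting onto `G` and a connected open subgroup scheme `G⁰`. -/
theorem isIso_mul [IsFinite G.hom] (r : Gr ⟶ G) [IsMonHom r] [IsClosedImmersion r.left]
    [IsReduced Gr.left] [Surjective r.left] (i₀ : G₀ ⟶ G) [IsMonHom i₀] [IsOpenImmersion i₀.left]
    [ConnectedSpace ↥G₀.left] : IsIso ((r ⊗ₘ i₀) ≫ μ[G]) := by
  haveI : Mono i₀.left := inferInstance
  haveI : Mono i₀ := ⟨fun a b hab => by
    apply Over.OverMorphism.ext
    have := congrArg (fun f => f.left) hab
    simp only [Over.comp_left] at this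
    exact (cancel_mono i₀.left).mp this⟩
  haveI : QuasiCompact Gr.hom := by
    rw [← Over.w r]
    infer_instance
  haveI : Finite ↥G.left := finite_of_isFinite k
  haveI : Finite ↥G₀.left := Finite.of_injective _ i₀.left.isOpenEmbedding.injective
  haveI : QuasiCompact i₀.left := inferInstance
  exact isIso_phi r i₀ (trivial_inter k r i₀)

end Groth.Agent.Helper18.FinGrpSplit
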