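import Mathlib

/-!
# Finite subgroup schemes of `𝔾_a`, `𝔾_m` over a field: commutative algebra (helper18)
-/

set_option autoImplicit false
universe u
open CategoryTheory Polynomial

namespace Groth.Agent.Helper18.FinSub

variable {K : Type u} [Field K] {B : Type u} [CommRing B] [Algebra K B] [Module.Finite K B]

/-- if `K`-algebra maps out of `B` are determined by the image of `b`, then `B = K[b]` -/
theorem adjoin_eq_top (b : B)
    (hmono : ∀ (C : Type u) [CommRing C] [Algebra K C] (ρ₁ ρ₂ : B →ₐ[K] C), ρ₁ b = ρ₂ b → ρ₁ = ρ₂) :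
    Algebra.adjoin K {b} = ⊤ := by
  set B' := Algebra.adjoin K {b} with hB'
  let ι : CommRingCat.of B' ⟶ CommRingCat.of B := CommRingCat.ofHom B'.val.toRingHom
  have hepi : Epi ι := by
    refine ⟨fun {Z} g₁ g₂ h => ?_⟩
    letI : Algebra K Z := (g₁.hom.comp (algebraMap K B)).toAlgebra
    have hk : ∀ k : K, g₂.hom (algebraMap K B k) = g₁.hom (algebraMap K B k) := by
      intro k
      have := congrArg (fun t => t.hom (algebraMap K B' k)) h
      exact this.symm
    let ρ₁ : B →ₐ[K] Z := { g₁.hom with commutes' := fun k => rfl }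
    let ρ₂ : B →ₐ[K] Z := { g₂.hom with commutes' := fun k => hk k }
    have hb : ρ₁ b = ρ₂ b := by
      have := congrArg (fun t => t.hom (⟨b, Algebra.subset_adjoin rfl⟩ : B')) h
      exact this
    have := hmono Z ρ₁ ρ₂ hb
    apply CommRingCat.hom_ext
    apply RingHom.ext
    intro x
    exact congrArg (fun r : B →ₐ[K] Z => r x) this
  have hfin : RingHom.Finite ι.hom := by
    letI : Algebra B' B := B'.val.toRingHom.toAlgebra
    haveI : IsScalarTower K B' B := IsScalarTower.of_algebraMap_eq (fun k => rfl)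
    show Module.Finite B' B
    exact Module.Finite.of_restrictScalars_finite K B' B
  have hsurj : Function.Surjective ι := RingHom.surjective_iff_epi_and_finite.mpr ⟨hepi, hfin⟩
  rw [eq_top_iff]
  intro x _
  obtain ⟨y, hy⟩ := hsurj x
  rw [← hy]
  exact y.2


theorem hasseDeriv_map {R S : Type*} [CommRing R] [CommRing S] (f : R →+* S) (n : ℕ) (p : R[X]) :
    hasseDeriv n (p.map f) = (hasseDeriv n p).map f := by
  ext m
  simp [hasseDeriv_coeff, coeff_map]

section Common

variable [Nontrivial B] (b : B)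

theorem isIntegral_b : IsIntegral K b := Algebra.IsIntegral.isIntegral b

theorem natDegree_pos : 0 < (minpoly K b).natDegree := minpoly.natDegree_pos (isIntegral_b b)

/-- polynomials of small degree vanishing at `b` are zero -/
theorem eq_zero_of_natDegree_lt (Q : K[X]) (hQ : aeval b Q = 0)
    (hdeg : Q.natDegree < (minpoly K b).natDegree) : Q = 0 := by
  by_contra hne
  have h1 := minpoly.degree_le_of_ne_zero K b hne hQ
  have h2 := Polynomial.natDegree_le_natDegree h1
  omega

variable (hb : Algebra.adjoin K {b} = ⊤)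
include hb

/-- the power basis -/
noncomputable def pb : PowerBasis K B := PowerBasis.ofAdjoinEqTop (isIntegral_b b) hb

theorem exists_algHom (C : Type u) [CommRing C] [Algebra K C] (c : C)
    (hc : aeval c (minpoly K b) = 0) : ∃ ρ : B →ₐ[K] C, ρ b = c :=
  ⟨(pb b hb).lift c hc, (pb b hb).lift_gen c hc⟩

omit hb in
theorem aeval_mk (q : B[X]) :
    aeval (AdjoinRoot.mk ((minpoly K b).map (algebraMap K B)) q) (minpoly K b) =
      AdjoinRoot.mk ((minpoly K b).map (algebraMap K B))
        (((minpoly K b).map (algebraMap K B)).comp q) := by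
  rw [Polynomial.comp, Polynomial.eval₂_map, Polynomial.hom_eval₂, Polynomial.aeval_def]
  congr 1

/-- the two tautological points of the test algebra `B[X]/(P)` -/
theorem exists_points :
    ∃ ρ₁ ρ₂ : B →ₐ[K] AdjoinRoot ((minpoly K b).map (algebraMap K B)),
      ρ₁ b = AdjoinRoot.mk _ (C b) ∧ ρ₂ b = AdjoinRoot.mk _ X := by
  refine ⟨IsScalarTower.toAlgHom K B _, (pb b hb).lift (AdjoinRoot.root _) ?_, rfl, ?_⟩
  · change aeval (AdjoinRoot.root ((minpoly K b).map (algebraMap K B))) (minpoly K b) = 0
    rw [← Polynomial.aeval_map_algebraMap B, AdjoinRoot.aeval_eq, AdjoinRoot.mk_self]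
  · exact (pb b hb).lift_gen _ _

end Common

section Ga

variable [Nontrivial B] (b : B) (hb : Algebra.adjoin K {b} = ⊤)
  (hasp : ∀ (C : Type u) [CommRing C] [Algebra K C] (ρ₁ ρ₂ : B →ₐ[K] C),
    aeval (ρ₁ b + ρ₂ b) (minpoly K b) = 0)
include hb hasp

theorem taylor_eq : taylor b ((minpoly K b).map (algebraMap K B)) = (minpoly K b).map (algebraMap K B) := by
  obtain ⟨ρ₁, ρ₂, h1, h2⟩ := exists_points b hb
  have h := hasp _ ρ₁ ρ₂
  rw [h1, h2, ← map_add, aeval_mk, AdjoinRoot.mk_eq_zero, add_comm, ← taylor_apply] at h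
  have hm : ((minpoly K b).map (algebraMap K B)).Monic := (minpoly.monic (isIntegral_b b)).map _
  refine Polynomial.eq_of_monic_of_dvd_of_natDegree_le hm ?_ h (natDegree_taylor _ _).le
  rw [Polynomial.Monic, leadingCoeff_taylor]
  exact hm

theorem hasse_eq (n : ℕ) (hn : 0 < n) : hasseDeriv n (minpoly K b) = C ((minpoly K b).coeff n) := by
  have h := congrArg (fun q => q.coeff n) (taylor_eq b hb hasp)
  simp only [taylor_coeff, hasseDeriv_map, coeff_map, eval_map_algebraMap] at h
  have h0 : aeval b (hasseDeriv n (minpoly K b) - C ((minpoly K b).coeff n)) = 0 := by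
    rw [map_sub, h, aeval_C, sub_self]
  have hdeg : (hasseDeriv n (minpoly K b) - C ((minpoly K b).coeff n)).natDegree <
      (minpoly K b).natDegree := by
    have h1 := natDegree_hasseDeriv_le (minpoly K b) n
    have h2 := natDegree_pos (K := K) b
    have h3 := Polynomial.natDegree_sub_le (hasseDeriv n (minpoly K b)) (C ((minpoly K b).coeff n))
    rw [natDegree_C] at h3
    omega
  exact sub_eq_zero.mp (eq_zero_of_natDegree_lt b _ h0 hdeg)

theorem coeff_zero : (minpoly K b).coeff 0 = 0 := by
  have h := congrArg (fun q => q.coeff 0) (taylor_eq b hb hasp)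
  simp only [taylor_coeff_zero, coeff_map, eval_map_algebraMap, minpoly.aeval] at h
  exact (FaithfulSMul.algebraMap_injective K B) (by rw [← h, map_zero])

theorem additive (D : Type u) [CommRing D] [Algebra K D] (c₁ c₂ : D) :
    aeval (c₁ + c₂) (minpoly K b) = aeval c₁ (minpoly K b) + aeval c₂ (minpoly K b) := by
  set PC := (minpoly K b).map (algebraMap K D) with hPC
  have key : taylor c₁ PC = PC + C (PC.eval c₁) := by
    ext n
    rw [taylor_coeff, hPC, hasseDeriv_map, coeff_add, coeff_C]
    rcases Nat.eq_zero_or_pos n with rfl | hn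
    · rw [hasseDeriv_zero', coeff_map, coeff_zero b hb hasp, map_zero, zero_add, if_pos rfl]
    · rw [hasse_eq b hb hasp n hn, if_neg hn.ne', add_zero, map_C, eval_C, coeff_map]
  have := congrArg (fun q => q.eval c₂) key
  simp only [taylor_eval, eval_add, eval_C, hPC, eval_map_algebraMap] at this
  rw [add_comm c₁ c₂, this, add_comm]

end Ga

section Gm

variable [Nontrivial B] (b : B) (hb : Algebra.adjoin K {b} = ⊤) (hu : IsUnit b)
  (hasp : ∀ (C : Type u) [CommRing C] [Algebra K C] (ρ₁ ρ₂ : B →ₐ[K] C),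
    aeval (ρ₁ b * ρ₂ b) (minpoly K b) = 0)

include hu in
theorem coeff_zero_ne : (minpoly K b).coeff 0 ≠ 0 := by
  intro h0
  obtain ⟨Q, hQ⟩ := Polynomial.X_dvd_iff.mpr h0
  have hP0 : minpoly K b ≠ 0 := minpoly.ne_zero (isIntegral_b b)
  have hQ0 : Q ≠ 0 := by
    rintro rfl
    exact hP0 (by rw [hQ, mul_zero])
  have h1 : aeval b Q = 0 := by
    have := minpoly.aeval K b
    rw [hQ, map_mul, aeval_X] at this
    exact (hu.mul_right_eq_zero).mp this
  have hdeg : Q.natDegree < (minpoly K b).natDegree := by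
    rw [hQ, Polynomial.natDegree_X_mul hQ0]
    exact Nat.lt_succ_self _
  exact hQ0 (eq_zero_of_natDegree_lt b Q h1 hdeg)

include hb hu hasp in
theorem pow_eq_one : b ^ (minpoly K b).natDegree = 1 := by
  obtain ⟨ρ₁, ρ₂, h1, h2⟩ := exists_points b hb
  have h := hasp _ ρ₁ ρ₂
  rw [h1, h2, ← map_mul, aeval_mk, AdjoinRoot.mk_eq_zero] at h
  set PB := (minpoly K b).map (algebraMap K B) with hPB
  set d := (minpoly K b).natDegree with hd
  have hm : PB.Monic := (minpoly.monic (isIntegral_b b)).map _
  have hdB : PB.natDegree = d := (minpoly.monic (isIntegral_b b)).natDegree_map _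
  obtain ⟨q, hq⟩ := h
  have hle : (PB.comp (C b * X)).natDegree ≤ d := by
    refine (Polynomial.natDegree_comp_le).trans ?_
    rw [hdB]
    calc d * (C b * X).natDegree ≤ d * 1 := Nat.mul_le_mul_left _ ((natDegree_C_mul_le b X).trans natDegree_X_le)
      _ = d := Nat.mul_one d
  -- q is constant
  have hqc : ∃ c : B, q = C c := by
    by_cases hq0 : q = 0
    · exact ⟨0, by rw [hq0, C_0]⟩
    · have h3 := hm.natDegree_mul' hq0
      rw [← hq, hdB] at h3
      have h4 : q.natDegree = 0 := by omega
      exact ⟨q.coeff 0, Polynomial.eq_C_of_natDegree_eq_zero h4⟩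
  obtain ⟨c, rfl⟩ := hqc
  have hcd := congrArg (fun f => f.coeff d) hq
  have hc0 := congrArg (fun f => f.coeff 0) hq
  simp only [comp_C_mul_X_coeff, coeff_mul_C] at hcd hc0
  have hlead : PB.coeff d = 1 := by rw [← hdB]; exact hm.coeff_natDegree
  rw [hlead, _root_.one_mul, _root_.one_mul] at hcd
  rw [pow_zero, _root_.mul_one, ← hcd] at hc0
  -- PB.coeff 0 * (b^d - 1) = 0 with PB.coeff 0 a unit
  have hunit : IsUnit (PB.coeff 0) := by
    rw [hPB, coeff_map]
    exact (IsUnit.mk0 _ (coeff_zero_ne b hu)).map _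
  have : PB.coeff 0 * (b ^ d - 1) = 0 := by rw [mul_sub, ← hc0, _root_.mul_one, sub_self]
  exact sub_eq_zero.mp ((hunit.mul_right_eq_zero).mp this)

include hb hu hasp in
theorem minpoly_eq : minpoly K b = X ^ (minpoly K b).natDegree - 1 := by
  have h1 : aeval b (X ^ (minpoly K b).natDegree - 1 : K[X]) = 0 := by
    rw [map_sub, map_pow, aeval_X, map_one, pow_eq_one b hb hu hasp, sub_self]
  have hd := natDegree_pos (K := K) b
  have hmon : (X ^ (minpoly K b).natDegree - 1 : K[X]).Monic :=
    Polynomial.monic_X_pow_sub_C (1 : K) hd.ne'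
  have hdeg : (X ^ (minpoly K b).natDegree - 1 : K[X]).natDegree = (minpoly K b).natDegree :=
    Polynomial.natDegree_X_pow_sub_C
  exact (Polynomial.eq_of_monic_of_dvd_of_natDegree_le (minpoly.monic (isIntegral_b b)) hmon
    (minpoly.dvd K b h1) hdeg.le).symm

end Gm

section PolyMap

variable (P : K[X]) (hP : P.Monic) (hd : 0 < P.natDegree)
include hd

theorem aeval_injective : Function.Injective (aeval P : K[X] →ₐ[K] K[X]) := by
  rw [injective_iff_map_eq_zero]
  intro q hq
  rw [← Polynomial.comp_eq_aeval, Polynomial.comp_eq_zero_iff] at hq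
  rcases hq with h | ⟨-, h⟩
  · exact h
  · rw [h, natDegree_C] at hd
    exact absurd hd (lt_irrefl 0)

omit hd in
theorem flat_of_injective_of_domain {R A : Type*} [CommRing R] [IsDomain R] [IsPrincipalIdealRing R]
    [CommRing A] [IsDomain A] (f : R →+* A) (hf : Function.Injective f) : f.Flat := by
  letI : Algebra R A := f.toAlgebra
  unfold RingHom.Flat
  rw [Module.Flat.flat_iff_torsion_eq_bot_of_isBezout, Submodule.eq_bot_iff]
  intro x hx
  obtain ⟨a, ha⟩ := (Submodule.mem_torsion_iff x).mp hx
  have h1 : f a * x = 0 := ha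
  have h2 : f (a : R) ≠ 0 := by
    intro h0
    have := hf (h0.trans (map_zero _).symm)
    exact nonZeroDivisors.coe_ne_zero a this
  exact (mul_eq_zero.mp h1).resolve_left h2

theorem aeval_flat : (aeval P : K[X] →ₐ[K] K[X]).toRingHom.Flat :=
  flat_of_injective_of_domain _ (aeval_injective P hd)

include hP in
theorem aeval_isIntegral : (aeval P : K[X] →ₐ[K] K[X]).toRingHom.IsIntegral := by
  set ψ := (aeval P : K[X] →ₐ[K] K[X]).toRingHom with hψ
  have hψX : ψ X = P := by simp [hψ]
  have hψC : ∀ a : K, ψ (C a) = C a := by intro a; simp [hψ]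
  have hX : ψ.IsIntegralElem X := by
    refine ⟨P.map C - C X, ?_, ?_⟩
    · refine Polynomial.Monic.sub_of_left (hP.map C) ?_
      refine degree_C_le.trans_lt ?_
      rw [← natDegree_pos_iff_degree_pos, hP.natDegree_map C]
      exact hd
    · rw [eval₂_sub, eval₂_C, hψX, eval₂_map]
      have : ψ.comp C = C := RingHom.ext hψC
      rw [this, eval₂_C_X, sub_self]
  letI : Algebra K[X] K[X] := ψ.toAlgebra
  intro q
  show q ∈ integralClosure K[X] K[X]
  induction q using Polynomial.induction_on' with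
  | add p q hp hq => exact add_mem hp hq
  | monomial n a =>
    rw [← C_mul_X_pow_eq_monomial]
    refine mul_mem ?_ (pow_mem hX n)
    rw [← hψC a]
    exact Subalgebra.algebraMap_mem _ (C a)

end PolyMap

end Groth.Agent.Helper18.FinSub
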