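import Groth.Prelude.Def_GmPts
import Mathlib

/-!
# The `n`-th power map of `ℤ[z, z⁻¹]` is finite free (helper18)
-/

set_option autoImplicit false

universe u

open Polynomial

noncomputable section

namespace Groth.Agent.Helper18.KummerRing

open GmPts (Coord tPow gen ringHomOfUnit ringHomOfUnit_tPow ringHom_ext_tPow tPow_mul)

variable (n : ℕ)

/-- the ring map `z ↦ zⁿ` -/
def rho : Coord.{u} →+* Coord.{u} :=
  (MonoidAlgebra.mapDomainAlgHom (ULift.{u} ℤ) (ULift.{u} ℤ)
    (AddMonoidHom.toMultiplicative (zmultiplesHom ℤ (n : ℤ)))).toRingHom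

theorem rho_tPow (k : ℤ) : rho.{u} n (tPow k) = tPow (k * n) := by
  change MonoidAlgebra.mapDomain _ (MonoidAlgebra.single _ _) = _
  rw [MonoidAlgebra.mapDomain_single]
  rfl

theorem tPow_pow (k : ℕ) : (tPow.{u} 1) ^ k = tPow (k : ℤ) := by
  induction k with
  | zero => rfl
  | succ k ih => rw [pow_succ, ih, tPow_mul]; push_cast; rfl

/-- the polynomial `Xⁿ - z` -/
def pol : (Coord.{u})[X] := X ^ n - C (tPow.{u} 1)

variable {n}

theorem pol_monic (hn : 0 < n) : (pol.{u} n).Monic := monic_X_pow_sub_C _ hn.ne'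

theorem eval_pol : (pol.{u} n).eval₂ (rho.{u} n) (tPow 1) = 0 := by
  rw [pol, eval₂_sub, eval₂_pow, eval₂_X, eval₂_C, rho_tPow, tPow_pow, one_mul, sub_self]

variable (n) in
/-- `B = A[X]/(Xⁿ - z) → A` -/
def psi : AdjoinRoot (pol.{u} n) →+* Coord.{u} := AdjoinRoot.lift (rho.{u} n) (tPow 1) eval_pol

theorem root_pow : (AdjoinRoot.root (pol.{u} n)) ^ n = AdjoinRoot.of (pol.{u} n) (tPow 1) := by
  have h := AdjoinRoot.eval₂_root (pol.{u} n)
  rw [pol, eval₂_sub, eval₂_pow, eval₂_X, eval₂_C, sub_eq_zero] at h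
  exact h

/-- the root is a unit -/
def rootUnit (hn : 0 < n) : (AdjoinRoot (pol.{u} n))ˣ where
  val := AdjoinRoot.root (pol.{u} n)
  inv := (AdjoinRoot.root (pol.{u} n)) ^ (n - 1) * AdjoinRoot.of (pol.{u} n) (tPow (-1))
  val_inv := by
    rw [← mul_assoc, ← pow_succ', Nat.sub_add_cancel hn, root_pow, ← map_mul, tPow_mul]
    exact map_one _
  inv_val := by
    rw [mul_comm, ← mul_assoc, ← pow_succ', Nat.sub_add_cancel hn, root_pow, ← map_mul, tPow_mul]
    exact map_one _

/-- `A → B`, `z ↦ root` -/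
def theta (hn : 0 < n) : Coord.{u} →+* AdjoinRoot (pol.{u} n) := ringHomOfUnit (rootUnit hn)

theorem theta_tPow_one (hn : 0 < n) : theta hn (tPow.{u} 1) = AdjoinRoot.root (pol.{u} n) := by
  rw [theta, ringHomOfUnit_tPow, zpow_one]
  rfl

theorem psi_theta (hn : 0 < n) : (psi.{u} n).comp (theta hn) = RingHom.id _ := by
  apply ringHom_ext_tPow
  rw [RingHom.comp_apply, theta_tPow_one, psi, AdjoinRoot.lift_root]
  rfl

theorem theta_rho (hn : 0 < n) : (theta hn).comp (rho.{u} n) = AdjoinRoot.of (pol.{u} n) := by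
  apply ringHom_ext_tPow
  rw [RingHom.comp_apply, rho_tPow, one_mul, ← tPow_pow, map_pow, theta_tPow_one, root_pow]

theorem theta_psi (hn : 0 < n) : (theta hn).comp (psi.{u} n) = RingHom.id _ := by
  apply AdjoinRoot.ringHom_ext
  · refine RingHom.ext fun a => ?_
    simp only [RingHom.comp_apply, psi, AdjoinRoot.lift_of, RingHom.id_apply]
    exact congrArg (fun f : Coord.{u} →+* _ => f a) (theta_rho hn)
  · rw [RingHom.comp_apply, psi, AdjoinRoot.lift_root, theta_tPow_one]
    rfl

theorem psi_bijective (hn : 0 < n) : Function.Bijective (psi.{u} n) := by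
  refine ⟨Function.LeftInverse.injective (g := theta hn) fun b => ?_,
    Function.RightInverse.surjective (g := theta hn) fun a => ?_⟩
  · exact congrArg (fun f : _ →+* _ => f b) (theta_psi hn)
  · exact congrArg (fun f : _ →+* _ => f a) (psi_theta hn)

theorem rho_eq : rho.{u} n = (psi.{u} n).comp (AdjoinRoot.of (pol.{u} n)) := by
  refine RingHom.ext fun a => ?_
  simp [psi, AdjoinRoot.lift_of]

theorem rho_flat (hn : 0 < n) : (rho.{u} n).Flat := by
  rw [rho_eq]
  refine RingHom.Flat.comp ?_ (RingHom.Flat.of_bijective (psi_bijective hn))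
  haveI : Module.Free (Coord.{u}) (AdjoinRoot (pol.{u} n)) :=
    Module.Free.of_basis (AdjoinRoot.powerBasis' (pol_monic hn)).basis
  change (algebraMap (Coord.{u}) (AdjoinRoot (pol.{u} n))).Flat
  rw [RingHom.flat_algebraMap_iff]
  infer_instance

theorem rho_finitePresentation (hn : 0 < n) : (rho.{u} n).FinitePresentation := by
  rw [rho_eq]
  refine RingHom.FinitePresentation.comp (RingHom.FinitePresentation.of_bijective (psi_bijective hn)) ?_
  change (algebraMap (Coord.{u}) (AdjoinRoot (pol.{u} n))).FinitePresentation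
  rw [RingHom.finitePresentation_algebraMap]
  infer_instance

theorem rho_comap_surjective (hn : 0 < n) : Function.Surjective (PrimeSpectrum.comap (rho.{u} n)) := by
  haveI : Module.Free (Coord.{u}) (AdjoinRoot (pol.{u} n)) :=
    Module.Free.of_basis (AdjoinRoot.powerBasis' (pol_monic hn)).basis
  haveI : Nontrivial (AdjoinRoot (pol.{u} n)) := (psi_bijective hn).surjective.nontrivial
  have h1 : Function.Surjective (PrimeSpectrum.comap (algebraMap (Coord.{u}) (AdjoinRoot (pol.{u} n)))) :=
    PrimeSpectrum.comap_surjective_of_faithfullyFlat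
  intro p
  obtain ⟨q, hq⟩ := h1 p
  refine ⟨PrimeSpectrum.comap (theta hn) q, ?_⟩
  rw [← hq]
  change PrimeSpectrum.comap ((theta hn).comp (rho.{u} n)) q = _
  rw [theta_rho]
  rfl

end Groth.Agent.Helper18.KummerRing
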