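import Groth.Agent.Lib.Helper18.DSPts
import Groth.Agent.Lib.Helper18.KummerRing
import Groth.Agent.Lib.Helper18.TorsComp

/-!
# The Kummer sequence (helper18)
-/

set_option autoImplicit false

universe u

open CategoryTheory CategoryTheory.Limits MonoidalCategory CartesianMonoidalCategory MonObj GrpObj AlgebraicGeometry Opposite

noncomputable section

namespace Groth.Agent.Helper18.Kummer

open GmPts (baseZ toBaseZ)
open Groth.Agent.Helper18.DSPts Groth.Agent.Helper18.TorsComp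

variable {S : Scheme.{u}}

section BaseChange
variable {M N : Type} [AddCommGroup M] [AddCommGroup N]

theorem isPullback_DSmap_left (φ : M →+ N) :
    IsPullback (Red.DSmap S φ).left (pullback.fst (DZ N).hom (toBaseZ S)) (pullback.fst (DZ M).hom (toBaseZ S))
      (Red.diagMap (ULift.{u} ℤ) φ).left := by
  have t : IsPullback (pullback.snd (DZ M).hom (toBaseZ S)) (pullback.fst (DZ M).hom (toBaseZ S))
      (toBaseZ S) (DZ M).hom := (IsPullback.of_hasPullback (DZ M).hom (toBaseZ S)).flip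
  have s0 : IsPullback (pullback.snd (DZ N).hom (toBaseZ S)) (pullback.fst (DZ N).hom (toBaseZ S))
      (toBaseZ S) (DZ N).hom := (IsPullback.of_hasPullback (DZ N).hom (toBaseZ S)).flip
  have e1 : (Red.DSmap S φ).left ≫ pullback.snd (DZ M).hom (toBaseZ S) = pullback.snd (DZ N).hom (toBaseZ S) :=
    Over.w (Red.DSmap S φ)
  have e2 : (Red.diagMap (ULift.{u} ℤ) φ).left ≫ (DZ M).hom = (DZ N).hom := Over.w (Red.diagMap (ULift.{u} ℤ) φ)
  have s : IsPullback ((Red.DSmap S φ).left ≫ pullback.snd (DZ M).hom (toBaseZ S)) (pullback.fst (DZ N).hom (toBaseZ S))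
      (toBaseZ S) ((Red.diagMap (ULift.{u} ℤ) φ).left ≫ (DZ M).hom) := by
    rw [e1, e2]; exact s0
  exact IsPullback.of_right s (GmPts.pullback_map_left_fst (S := S) (Red.diagMap (ULift.{u} ℤ) φ)) t

theorem prop_DSmap_left (P : MorphismProperty Scheme.{u}) [P.IsStableUnderBaseChange] (φ : M →+ N)
    (h : P (Red.diagMap (ULift.{u} ℤ) φ).left) : P (Red.DSmap S φ).left :=
  MorphismProperty.of_isPullback (isPullback_DSmap_left (S := S) φ).flip h

end BaseChange

variable (n : ℕ)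

/-- `μ_n → G_m` -/
abbrev uK : Red.DS S (ZMod n) ⟶ Red.Gm S := Red.DSmap S (Int.castAddHom (ZMod n))

/-- the `n`-th power map -/
abbrev vK : Red.Gm S ⟶ Red.Gm S := Red.chi S (n : ℤ)

theorem diagMap_left_eq :
    (Red.diagMap (ULift.{u} ℤ) (zmultiplesHom ℤ (n : ℤ))).left = Spec.map (CommRingCat.ofHom (KummerRing.rho.{u} n)) := rfl

variable {n}

theorem flat_vK (hn : 0 < n) : Flat (vK (S := S) n).left := by
  apply prop_DSmap_left @Flat
  have h : Flat (Spec.map (CommRingCat.ofHom (KummerRing.rho.{u} n))) :=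
    Flat.SpecMap_iff.mpr (KummerRing.rho_flat hn)
  exact h

theorem lfp_vK (hn : 0 < n) : LocallyOfFinitePresentation (vK (S := S) n).left := by
  apply prop_DSmap_left @LocallyOfFinitePresentation
  have h : LocallyOfFinitePresentation (Spec.map (CommRingCat.ofHom (KummerRing.rho.{u} n))) :=
    (LocallyOfFinitePresentation.SpecMap_iff _).mpr (KummerRing.rho_finitePresentation hn)
  exact h

theorem surj_vK (hn : 0 < n) : Surjective (vK (S := S) n).left := by
  apply prop_DSmap_left @Surjective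
  have h : Surjective (Spec.map (CommRingCat.ofHom (KummerRing.rho.{u} n))) :=
    (surjective_iff _).mpr (KummerRing.rho_comap_surjective hn)
  exact h

theorem loc_fppf (hn : 0 < n) :
    NonAbH1.IsLocallyTrivialFor Scheme.fppfPrecoverage (Over.mk (vK (S := S) n).left : Over (Red.Gm S).left) := by
  haveI := flat_vK (S := S) hn
  haveI := lfp_vK (S := S) hn
  haveI := surj_vK (S := S) hn
  refine ⟨Presieve.singleton (vK (S := S) n).left, Scheme.Hom.singleton_mem_fppfPrecoverage _, ?_⟩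
  rintro S' f ⟨⟩
  exact ⟨𝟙 _, Category.id_comp _⟩

theorem loc_fpqc (hn : 0 < n) :
    NonAbH1.IsLocallyTrivialFor Scheme.fpqcPrecoverage (Over.mk (vK (S := S) n).left : Over (Red.Gm S).left) := by
  obtain ⟨R, hR, h⟩ := loc_fppf (S := S) hn
  exact ⟨R, Scheme.fppfPrecoverage_le_fpqcPrecoverage _ hR, h⟩

/-! ### points -/

variable {T : Over S}

theorem unitOfPt_vK (t : T ⟶ Red.Gm S) : GmPts.unitOfPt (t ≫ vK n) = GmPts.unitOfPt t ^ n := by
  ext
  change Red.gmFn (t ≫ Red.chi S (n : ℤ)) = _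
  rw [gmFn_chi, charOfPt_Gm, zpow_natCast]

theorem charOfPt_uK (z : T ⟶ Red.DS S (ZMod n)) (k : ℤ) :
    charOfPt (z ≫ uK n) (Multiplicative.ofAdd k) = charOfPt z (Multiplicative.ofAdd (k : ZMod n)) :=
  charOfPt_DSmap_apply _ z k

theorem uK_injective (z z' : T ⟶ Red.DS S (ZMod n)) (h : z ≫ uK n = z' ≫ uK n) : z = z' := by
  apply charOfPt_injective
  refine MonoidHom.ext fun m => ?_
  obtain ⟨k, hk⟩ := ZMod.intCast_surjective m.toAdd
  have hm : m = Multiplicative.ofAdd (k : ZMod n) := by rw [hk]; rfl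
  have e1 := charOfPt_uK z k
  have e2 := charOfPt_uK z' k
  rw [h] at e1
  rw [hm]
  exact e1.symm.trans e2

theorem uK_vK : uK (S := S) n ≫ vK n = 1 := by
  have h : ∀ z : Red.DS S (ZMod n) ⟶ Red.DS S (ZMod n), (z ≫ uK n) ≫ vK n = 1 := by
    intro z
    apply (GmPts.equiv _).injective
    change GmPts.unitOfPt _ = GmPts.unitOfPt _
    rw [unitOfPt_vK, GmPts.unitOfPt_one]
    ext
    rw [Units.val_pow_eq_pow_val, Units.val_one]
    change Red.gmFn (z ≫ uK n) ^ n = 1
    rw [← charOfPt_one_eq_gmFn, charOfPt_uK, ← map_pow, ← ofAdd_nsmul]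
    simp
  have := h (𝟙 _)
  rwa [Category.id_comp] at this

/-- the character of `ℤ/n` defined by an `n`-th root of unity. -/
def charOfRoot {R : Type u} [CommRing R] (w : Rˣ) (hw : w ^ n = 1) : Multiplicative (ZMod n) →* R :=
  (Units.coeHom R).comp (AddMonoidHom.toMultiplicativeLeft
    (ZMod.lift n ⟨zmultiplesHom (Additive Rˣ) (Additive.ofMul w), by
      change ((n : ℤ) • Additive.ofMul w) = 0
      rw [natCast_zsmul, ← ofMul_pow, hw]; rfl⟩))

theorem charOfRoot_one {R : Type u} [CommRing R] (w : Rˣ) (hw : w ^ n = 1) :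
    charOfRoot w hw (Multiplicative.ofAdd ((1 : ℤ) : ZMod n)) = w := by
  unfold charOfRoot
  rw [MonoidHom.comp_apply, AddMonoidHom.coe_toMultiplicativeLeft]
  simp only [Function.comp_apply, toAdd_ofAdd]
  rw [ZMod.lift_coe]
  simp

theorem unitOfPt_injective {a b : T ⟶ Red.Gm S} (h : GmPts.unitOfPt a = GmPts.unitOfPt b) : a = b :=
  (GmPts.equiv T).injective h

theorem exists_root_pt (w : (Γ(T.left, ⊤))ˣ) (hw : w ^ n = 1) :
    ∃ z : T ⟶ Red.DS S (ZMod n), z ≫ uK n = GmPts.ptOfUnit w := by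
  refine ⟨ptOfChar (charOfRoot w hw), ?_⟩
  apply unitOfPt_injective
  rw [GmPts.unitOfPt_ptOfUnit]
  apply Units.ext
  have h1 : ((GmPts.unitOfPt (ptOfChar (charOfRoot w hw) ≫ uK n) : (Γ(T.left, ⊤))ˣ) : Γ(T.left, ⊤)) =
      charOfPt (ptOfChar (charOfRoot w hw) ≫ uK n) (Multiplicative.ofAdd (1 : ℤ)) := rfl
  rw [h1, charOfPt_uK, charOfPt_ptOfChar, charOfRoot_one]

theorem whisker_mul : (Red.Gm S ◁ uK n) ≫ μ[Red.Gm S] =
    fst (Red.Gm S) (Red.DS S (ZMod n)) * (snd (Red.Gm S) (Red.DS S (ZMod n)) ≫ uK n) := by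
  rw [Hom.mul_def]
  congr 1

theorem mul_comp_vK (a b : T ⟶ Red.Gm S) : (a * b) ≫ vK n = (a ≫ vK n) * (b ≫ vK n) :=
  mul_comp_DSmap _ a b

theorem isPullback_kummer :
    IsPullback (fst (Red.Gm S) (Red.DS S (ZMod n))) ((Red.Gm S ◁ uK n) ≫ μ[Red.Gm S]) (vK n) (vK n) := by
  apply isPullback_of_points
  · rw [whisker_mul, mul_comp_vK, Category.assoc, uK_vK]
    apply unitOfPt_injective
    rw [GmPts.unitOfPt_mul, MonObj.comp_one, GmPts.unitOfPt_one, _root_.mul_one]
  · intro T x y hxy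
    have h1 : GmPts.unitOfPt x ^ n = GmPts.unitOfPt y ^ n := by
      rw [← unitOfPt_vK, ← unitOfPt_vK, hxy]
    obtain ⟨z, hz⟩ := exists_root_pt (S := S) (n := n) ((GmPts.unitOfPt x)⁻¹ * GmPts.unitOfPt y) (by
      rw [mul_pow, inv_pow, h1, inv_mul_cancel])
    refine ⟨lift x z, lift_fst _ _, ?_⟩
    rw [whisker_mul, MonObj.comp_mul, lift_fst, lift_snd_assoc, hz]
    apply unitOfPt_injective
    rw [GmPts.unitOfPt_mul, GmPts.unitOfPt_ptOfUnit, mul_inv_cancel_left]
  · intro T m m' h1 h2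
    rw [whisker_mul, MonObj.comp_mul, MonObj.comp_mul, h1] at h2
    have h3 := congrArg GmPts.unitOfPt h2
    rw [GmPts.unitOfPt_mul, GmPts.unitOfPt_mul] at h3
    have h3' := unitOfPt_injective (mul_left_cancel h3)
    rw [← Category.assoc, ← Category.assoc] at h3'
    have h4 := uK_injective _ _ h3'
    apply CartesianMonoidalCategory.hom_ext _ _ h1 h4

theorem exact_fppf (hn : 0 < n) :
    NonAbH1.IsExactSeq Scheme.fppfPrecoverage (Red.DSmap S (Int.castAddHom (ZMod n))) (Red.chi S (n : ℤ)) :=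
  ⟨inferInstance, inferInstance, uK_vK, isPullback_kummer, loc_fppf hn⟩

theorem exact_fpqc (hn : 0 < n) :
    NonAbH1.IsExactSeq Scheme.fpqcPrecoverage (Red.DSmap S (Int.castAddHom (ZMod n))) (Red.chi S (n : ℤ)) :=
  ⟨inferInstance, inferInstance, uK_vK, isPullback_kummer, loc_fpqc hn⟩

end Groth.Agent.Helper18.Kummer
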