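import Groth.Agent.Lib.Helper18.GmTorsor
import Groth.Agent.Lib.Helper18.Kummer
import Groth.Agent.Lib.Helper18.GrpFppf
import Groth.Agent.Lib.Helper18.FinSub1
import Groth.Agent.Lib.Helper22.GrpYoneda

/-!
# Finite subgroup schemes of `𝔾_a`, `𝔾_m` over a field: points of affine schemes (helper18)
-/

set_option autoImplicit false
set_option linter.style.haveILetI false
universe u
open CategoryTheory CategoryTheory.Limits MonoidalCategory CartesianMonoidalCategory MonObj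
  AlgebraicGeometry

noncomputable section

namespace Groth.Agent.Helper18.FinSub

open Groth.Agent.Helper13 Groth.Agent.Helper18 Groth.Agent.Helper18.GaTorsor

variable (K : Type u) [CommRing K]

/-- the base -/
abbrev SK : Scheme.{u} := Spec (CommRingCat.of K)

/-- affine test objects -/
abbrev TK (R : Type u) [CommRing R] [Algebra K R] : Over (SK K) := TT (𝟙 (SK K)) R

variable {K}

/-- the structure map on global sections -/
def sigma (W : Over (SK K)) : K →+* Γ(W.left, ⊤) :=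
  W.hom.appTop.hom.comp (Scheme.ΓSpecIso (CommRingCat.of K)).inv.hom

theorem toSpecΓ_sigma (W : Over (SK K)) :
    W.left.toSpecΓ ≫ Spec.map (CommRingCat.ofHom (sigma W)) = W.hom := by
  have e : CommRingCat.ofHom (sigma W) = (Scheme.ΓSpecIso (CommRingCat.of K)).inv ≫ W.hom.appTop := rfl
  rw [e, Spec.map_comp, ← Scheme.toSpecΓ_naturality_assoc, toSpecΓ_SpecMap_ΓSpecIso_inv,
    Category.comp_id]

theorem sigma_comp {W W' : Over (SK K)} (g : W' ⟶ W) (c : K) :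
    g.left.appTop (sigma W c) = sigma W' c := by
  have h := Over.w g
  have h2 : W'.hom.appTop = W.hom.appTop ≫ g.left.appTop := by
    rw [← h, Scheme.Hom.comp_appTop]
  simp only [sigma, RingHom.comp_apply]
  rw [h2]
  rfl

/-- points of affine test objects from ring maps -/
def mkPt {W : Over (SK K)} {R : Type u} [CommRing R] [Algebra K R] (ρ : R →+* Γ(W.left, ⊤))
    (hρ : ρ.comp (algebraMap K R) = sigma W) : W ⟶ TK K R :=
  Over.homMk (W.left.toSpecΓ ≫ Spec.map (CommRingCat.ofHom ρ)) (by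
    show (W.left.toSpecΓ ≫ Spec.map (CommRingCat.ofHom ρ)) ≫
      (Spec.map (CommRingCat.ofHom (algebraMap K R)) ≫ 𝟙 _) = W.hom
    rw [Category.comp_id, Category.assoc, ← Spec.map_comp, ← CommRingCat.ofHom_comp, hρ,
      toSpecΓ_sigma])

theorem mkPt_appTop {W : Over (SK K)} {R : Type u} [CommRing R] [Algebra K R]
    (ρ : R →+* Γ(W.left, ⊤)) (hρ : ρ.comp (algebraMap K R) = sigma W) (r : R) :
    (mkPt ρ hρ).left.appTop ((Scheme.ΓSpecIso (CommRingCat.of R)).inv r) = ρ r := by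
  show (W.left.toSpecΓ ≫ Spec.map (CommRingCat.ofHom ρ)).appTop
    ((Scheme.ΓSpecIso (CommRingCat.of R)).inv r) = ρ r
  rw [Scheme.Hom.comp_appTop, CommRingCat.comp_apply]
  have h1 : (Spec.map (CommRingCat.ofHom ρ)).appTop ((Scheme.ΓSpecIso (CommRingCat.of R)).inv r) =
      (Scheme.ΓSpecIso Γ(W.left, ⊤)).inv (ρ r) :=
    (congrArg (fun k => k.hom r) (Scheme.ΓSpecIso_inv_naturality (CommRingCat.ofHom ρ))).symm
  rw [h1, Scheme.toSpecΓ_appTop]
  exact congrArg (fun k => k.hom (ρ r)) (Scheme.ΓSpecIso Γ(W.left, ⊤)).inv_hom_id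

section Affine

variable {B C : Type u} [CommRing B] [CommRing C] [Algebra K B] [Algebra K C]

theorem exists_rr (h : TK K C ⟶ TK K B) : ∃ ρ : B →ₐ[K] C, rr (𝟙 (SK K)) ρ = h := by
  let ρ' : CommRingCat.of B ⟶ CommRingCat.of C := Spec.preimage h.left
  have hρ' : Spec.map ρ' = h.left := Spec.map_preimage _
  have hw : h.left ≫ (Spec.map (CommRingCat.ofHom (algebraMap K B)) ≫ 𝟙 (SK K)) =
      Spec.map (CommRingCat.ofHom (algebraMap K C)) ≫ 𝟙 (SK K) := Over.w h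
  rw [Category.comp_id, Category.comp_id, ← hρ', ← Spec.map_comp] at hw
  have hc := Spec.map_injective hw
  let ρ : B →ₐ[K] C := { ρ'.hom with
    commutes' := fun k => congrArg (fun t => t.hom k) hc }
  refine ⟨ρ, ?_⟩
  apply Over.OverMorphism.ext
  rw [rr_left, ← hρ']
  rfl

theorem rr_injective {ρ₁ ρ₂ : B →ₐ[K] C} (h : rr (𝟙 (SK K)) ρ₁ = rr (𝟙 (SK K)) ρ₂) : ρ₁ = ρ₂ := by
  have h1 := congrArg (fun t => t.left) h
  simp only [rr_left] at h1
  have h2 := Spec.map_injective h1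
  apply AlgHom.ext
  intro x
  exact congrArg (fun t => t.hom x) h2

end Affine

section GaPart

variable {B : Type u} [CommRing B] [Algebra K B] (b : B)

/-- monomorphy gives the separation property -/
theorem hmono_ga [Mono (ga (𝟙 (SK K)) B b)] (C : Type u) [CommRing C] [Algebra K C]
    (ρ₁ ρ₂ : B →ₐ[K] C) (h : ρ₁ b = ρ₂ b) : ρ₁ = ρ₂ := by
  apply rr_injective
  rw [← cancel_mono (ga (𝟙 (SK K)) B b), rr_ga, rr_ga, h]

/-- closure under addition gives the abstract subgroup property -/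
theorem asp_ga (m : TK K B ⊗ TK K B ⟶ TK K B)
    (hm : m ≫ ga (𝟙 (SK K)) B b = (fst _ _ ≫ ga (𝟙 (SK K)) B b) * (snd _ _ ≫ ga (𝟙 (SK K)) B b))
    (P : Polynomial K) (hP : Polynomial.aeval b P = 0)
    (C : Type u) [CommRing C] [Algebra K C] (ρ₁ ρ₂ : B →ₐ[K] C) :
    Polynomial.aeval (ρ₁ b + ρ₂ b) P = 0 := by
  obtain ⟨ρ₃, hρ₃⟩ := exists_rr (lift (rr (𝟙 (SK K)) ρ₁) (rr (𝟙 (SK K)) ρ₂) ≫ m)
  have h1 : rr (𝟙 (SK K)) ρ₃ ≫ ga (𝟙 (SK K)) B b = ga (𝟙 (SK K)) C (ρ₁ b + ρ₂ b) := by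
    rw [hρ₃, Category.assoc, hm, MonObj.comp_mul, lift_fst_assoc, lift_snd_assoc, rr_ga, rr_ga,
      ga_add]
  rw [rr_ga] at h1
  rw [← ga_inj (𝟙 (SK K)) C h1, Polynomial.aeval_algHom_apply, hP, map_zero]

end GaPart

section GmPart

open Groth.Agent.Helper18.GmTorsor

variable {B : Type u} [CommRing B] [Algebra K B] (i : TK K B ⟶ Red.Gm (SK K))

theorem fn_inj {R : Type u} [CommRing R] [Algebra K R] {t t' : TK K R ⟶ Red.Gm (SK K)}
    (h : fn (𝟙 (SK K)) R t = fn (𝟙 (SK K)) R t') : t = t' := by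
  apply GmPts.gmFn_injective
  unfold fn at h
  have e : ∀ s : Γ((TK K R).left, ⊤), (Scheme.ΓSpecIso (CommRingCat.of R)).inv
      ((Scheme.ΓSpecIso (CommRingCat.of R)).hom s) = s := fun s =>
    congrArg (fun k => k.hom s) (Scheme.ΓSpecIso (CommRingCat.of R)).hom_inv_id
  have := congrArg (Scheme.ΓSpecIso (CommRingCat.of R)).inv h
  rw [e, e] at this
  exact this

theorem isUnit_fn : IsUnit (fn (𝟙 (SK K)) B i) :=
  IsUnit.of_mul_eq_one _ (fn_inv_mul (𝟙 (SK K)) B i)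

theorem hmono_gm [Mono i] (C : Type u) [CommRing C] [Algebra K C]
    (ρ₁ ρ₂ : B →ₐ[K] C) (h : ρ₁ (fn (𝟙 (SK K)) B i) = ρ₂ (fn (𝟙 (SK K)) B i)) : ρ₁ = ρ₂ := by
  apply rr_injective
  rw [← cancel_mono i]
  apply fn_inj
  rw [fn_rr, fn_rr, h]

theorem asp_gm (m : TK K B ⊗ TK K B ⟶ TK K B)
    (hm : m ≫ i = (fst _ _ ≫ i) * (snd _ _ ≫ i))
    (P : Polynomial K) (hP : Polynomial.aeval (fn (𝟙 (SK K)) B i) P = 0)
    (C : Type u) [CommRing C] [Algebra K C] (ρ₁ ρ₂ : B →ₐ[K] C) :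
    Polynomial.aeval (ρ₁ (fn (𝟙 (SK K)) B i) * ρ₂ (fn (𝟙 (SK K)) B i)) P = 0 := by
  obtain ⟨ρ₃, hρ₃⟩ := exists_rr (lift (rr (𝟙 (SK K)) ρ₁) (rr (𝟙 (SK K)) ρ₂) ≫ m)
  have h1 : ρ₃ (fn (𝟙 (SK K)) B i) = ρ₁ (fn (𝟙 (SK K)) B i) * ρ₂ (fn (𝟙 (SK K)) B i) := by
    rw [← fn_rr, hρ₃, Category.assoc, hm, MonObj.comp_mul, lift_fst_assoc, lift_snd_assoc, fn_mul,
      fn_rr, fn_rr]
  rw [← h1, Polynomial.aeval_algHom_apply, hP, map_zero]

end GmPart

end Groth.Agent.Helper18.FinSub
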