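import Groth.Agent.Lib.Helper18.FinSub2

/-!
# Finite subgroup schemes of `𝔾_m` over a field are `μ_d` (helper18)
-/

set_option autoImplicit false
set_option linter.style.haveILetI false
universe u
open CategoryTheory CategoryTheory.Limits MonoidalCategory CartesianMonoidalCategory MonObj
  AlgebraicGeometry

noncomputable section

namespace Groth.Agent.Helper18.FinSub

open Groth.Agent.Helper13 Groth.Agent.Helper18 Groth.Agent.Helper18.GaTorsor
  Groth.Agent.Helper18.GmTorsor

theorem mono_eta {C : Type*} [Category C] [CartesianMonoidalCategory C] (G : C) [MonObj G] :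
    Mono η[G] := by
  have : η[G] ≫ toUnit G = 𝟙 _ := toUnit_unique _ _
  exact mono_of_mono_fac this

theorem comp_eta_eq_one {C : Type*} [Category C] [CartesianMonoidalCategory C] (G : C) [MonObj G]
    {W : C} (u : W ⟶ 𝟙_ C) : u ≫ η[G] = (1 : W ⟶ G) := by
  rw [Hom.one_def, toUnit_unique u (toUnit W)]

variable {K : Type u} [Field K] {B : Type u} [CommRing B] [Algebra K B] [Module.Finite K B]
  [Nontrivial B]

theorem gmFn_eq (i : TK K B ⟶ Red.Gm (SK K)) :
    Red.gmFn i = (Scheme.ΓSpecIso (CommRingCat.of B)).inv (fn (𝟙 (SK K)) B i) :=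
  (congrArg (fun k => k.hom (Red.gmFn i)) (Scheme.ΓSpecIso (CommRingCat.of B)).hom_inv_id).symm

theorem core_gm (i : TK K B ⟶ Red.Gm (SK K)) [Mono i]
    (m : TK K B ⊗ TK K B ⟶ TK K B) (hm : m ≫ i = (fst _ _ ≫ i) * (snd _ _ ≫ i)) :
    ∃ d : ℕ, 0 < d ∧ IsPullback i (toUnit _) (Kummer.vK (S := SK K) d) η[Red.Gm (SK K)] := by
  set b := fn (𝟙 (SK K)) B i with hbdef
  have hb : Algebra.adjoin K {b} = ⊤ := adjoin_eq_top b (hmono_gm i)
  have hu : IsUnit b := isUnit_fn i
  have hasp := asp_gm i m hm (minpoly K b) (minpoly.aeval K b)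
  have hd := natDegree_pos (K := K) b
  have hpow := pow_eq_one b hb hu hasp
  have hmin := minpoly_eq b hb hu hasp
  refine ⟨(minpoly K b).natDegree, hd, ?_⟩
  haveI := mono_eta (Red.Gm (SK K))
  refine GrpFppf.isPullback_of_points i (toUnit _) _ η[Red.Gm (SK K)] ?_ ?_
  · rw [comp_eta_eq_one]
    apply GmPts.gmFn_injective
    show Red.gmFn (i ≫ Kummer.vK (minpoly K b).natDegree) = Red.gmFn (1 : TK K B ⟶ Red.Gm (SK K))
    have h1 := congrArg Units.val (Kummer.unitOfPt_vK (n := (minpoly K b).natDegree) i)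
    rw [Units.val_pow_eq_pow_val, GmPts.val_unitOfPt, GmPts.val_unitOfPt] at h1
    rw [h1, GmPts.gmFn_one, gmFn_eq, ← map_pow, hpow, map_one]
  · intro W g u hgu
    rw [comp_eta_eq_one] at hgu
    have h1 := congrArg Units.val (Kummer.unitOfPt_vK (n := (minpoly K b).natDegree) g)
    rw [Units.val_pow_eq_pow_val, GmPts.val_unitOfPt, GmPts.val_unitOfPt, hgu, GmPts.gmFn_one] at h1
    letI : Algebra K Γ(W.left, ⊤) := (sigma W).toAlgebra
    have hc : Polynomial.aeval (Red.gmFn g) (minpoly K b) = 0 := by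
      rw [hmin, map_sub, map_pow, Polynomial.aeval_X, map_one, ← h1, sub_self]
    obtain ⟨ρ, hρ⟩ := exists_algHom b hb Γ(W.left, ⊤) (Red.gmFn g) hc
    refine ⟨mkPt ρ.toRingHom (RingHom.ext fun k => ρ.commutes k), ?_⟩
    apply GmPts.gmFn_injective
    show Red.gmFn (mkPt ρ.toRingHom _ ≫ i) = Red.gmFn g
    rw [GmPts.gmFn_comp, gmFn_eq, mkPt_appTop]
    exact hρ

end Groth.Agent.Helper18.FinSub
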