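import Groth.Agent.Lib.Helper18.FinSub3

/-!
# Finite subgroup schemes of `𝔾_a` over a field are kernels of additive polynomials (helper18)
-/

set_option autoImplicit false
set_option linter.style.haveILetI false
universe u
open CategoryTheory CategoryTheory.Limits MonoidalCategory CartesianMonoidalCategory MonObj
  AlgebraicGeometry Polynomial

noncomputable section

namespace Groth.Agent.Helper18.FinSub

open Groth.Agent.Helper13 Groth.Agent.Helper18 Groth.Agent.Helper18.GaTorsor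

variable {K : Type u} [Field K]

/-- evaluation of a polynomial with coefficients in `K` at a global section -/
def evP (W : Over (SK K)) (P : K[X]) (s : Γ(W.left, ⊤)) : Γ(W.left, ⊤) := P.eval₂ (sigma W) s

theorem appTop_evP {W W' : Over (SK K)} (g : W' ⟶ W) (P : K[X]) (s : Γ(W.left, ⊤)) :
    g.left.appTop (evP W P s) = evP W' P (g.left.appTop s) := by
  unfold evP
  have := Polynomial.hom_eval₂ P (sigma W) g.left.appTop.hom s
  refine this.trans ?_
  congr 1
  exact RingHom.ext fun c => sigma_comp g c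

theorem evP_eq_aeval (W : Over (SK K)) (P : K[X]) (s : Γ(W.left, ⊤)) :
    letI : Algebra K Γ(W.left, ⊤) := (sigma W).toAlgebra
    evP W P s = aeval s P := rfl

/-- the endomorphism of `𝔾_a` given by a polynomial -/
def gaPoly (P : K[X]) : Red.Ga (SK K) ⟶ Red.Ga (SK K) :=
  GaPts.ptOfElt (evP _ P (Red.gaFn (𝟙 (Red.Ga (SK K)))))

theorem gaFn_comp_gaPoly {W : Over (SK K)} (P : K[X]) (t : W ⟶ Red.Ga (SK K)) :
    Red.gaFn (t ≫ gaPoly P) = evP W P (Red.gaFn t) := by
  unfold gaPoly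
  rw [GaPts.gaFn_comp, GaPts.gaFn_ptOfElt, appTop_evP, ← GaPts.gaFn_comp, Category.comp_id]

section Additive

variable (P : K[X])
  (hadd : ∀ (D : Type u) [CommRing D] [Algebra K D] (c₁ c₂ : D),
    aeval (c₁ + c₂) P = aeval c₁ P + aeval c₂ P)
include hadd

theorem evP_add (W : Over (SK K)) (s s' : Γ(W.left, ⊤)) :
    evP W P (s + s') = evP W P s + evP W P s' := by
  letI : Algebra K Γ(W.left, ⊤) := (sigma W).toAlgebra
  exact hadd Γ(W.left, ⊤) s s'

theorem evP_zero (W : Over (SK K)) : evP W P 0 = 0 := by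
  have := evP_add P hadd W 0 0
  rw [add_zero] at this
  exact left_eq_add.mp this

theorem isMonHom_gaPoly : IsMonHom (gaPoly P) := by
  apply Groth.Agent.Helper22.GrpYoneda.isMonHom_of_points
  · apply GaPts.eq_of_gaFn_eq
    rw [gaFn_comp_gaPoly, Groth.Agent.Helper22.GrpYoneda.eta_eq_one, GaPts.gaFn_one, evP_zero P hadd]
  · apply GaPts.eq_of_gaFn_eq
    rw [gaFn_comp_gaPoly, GaPts.gaFn_mul, GaPts.gaFn_mul, gaFn_comp_gaPoly, gaFn_comp_gaPoly,
      evP_add P hadd]

end Additive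

section Affine

variable (R : Type u) [CommRing R] [Algebra K R]

theorem sigma_TK (k : K) :
    sigma (TK K R) k = (Scheme.ΓSpecIso (CommRingCat.of R)).inv (algebraMap K R k) := by
  unfold sigma
  show (Spec.map (CommRingCat.ofHom (algebraMap K R)) ≫ 𝟙 (SK K)).appTop
    ((Scheme.ΓSpecIso (CommRingCat.of K)).inv k) = _
  rw [Category.comp_id]
  exact (congrArg (fun t => t.hom k)
    (Scheme.ΓSpecIso_inv_naturality (CommRingCat.ofHom (algebraMap K R)))).symm

theorem evP_TK (P : K[X]) (r : R) :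
    evP (TK K R) P ((Scheme.ΓSpecIso (CommRingCat.of R)).inv r) =
      (Scheme.ΓSpecIso (CommRingCat.of R)).inv (aeval r P) := by
  unfold evP
  rw [aeval_def]
  have := Polynomial.hom_eval₂ P (algebraMap K R) (Scheme.ΓSpecIso (CommRingCat.of R)).inv.hom r
  refine Eq.trans ?_ this.symm
  congr 1
  exact RingHom.ext fun k => sigma_TK R k

theorem gaFn_ga (r : R) :
    Red.gaFn (ga (𝟙 (SK K)) R r) = (Scheme.ΓSpecIso (CommRingCat.of R)).inv r :=
  GaPts.gaFn_ptOfElt _

end Affine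

section Core

variable {B : Type u} [CommRing B] [Algebra K B] [Module.Finite K B] [Nontrivial B]

theorem core_ga (i : TK K B ⟶ Red.Ga (SK K)) [Mono i]
    (m : TK K B ⊗ TK K B ⟶ TK K B) (hm : m ≫ i = (fst _ _ ≫ i) * (snd _ _ ≫ i)) :
    ∃ P : K[X], P.Monic ∧ 0 < P.natDegree ∧
      (∀ (D : Type u) [CommRing D] [Algebra K D] (c₁ c₂ : D),
        aeval (c₁ + c₂) P = aeval c₁ P + aeval c₂ P) ∧
      IsPullback i (toUnit _) (gaPoly P) η[Red.Ga (SK K)] := by
  obtain ⟨b, rfl⟩ := ga_surj (𝟙 (SK K)) B i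
  have hb : Algebra.adjoin K {b} = ⊤ := adjoin_eq_top b (hmono_ga b)
  have hasp := asp_ga b m hm (minpoly K b) (minpoly.aeval K b)
  have hadd := additive b hb hasp
  refine ⟨minpoly K b, minpoly.monic (isIntegral_b b), natDegree_pos b, hadd, ?_⟩
  haveI := mono_eta (Red.Ga (SK K))
  refine GrpFppf.isPullback_of_points _ (toUnit _) _ η[Red.Ga (SK K)] ?_ ?_
  · rw [comp_eta_eq_one]
    apply GaPts.eq_of_gaFn_eq
    rw [gaFn_comp_gaPoly, gaFn_ga, evP_TK, minpoly.aeval, map_zero, GaPts.gaFn_one]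
  · intro W g u hgu
    rw [comp_eta_eq_one] at hgu
    have h1 := congrArg (fun t => Red.gaFn t) hgu
    simp only [gaFn_comp_gaPoly, GaPts.gaFn_one] at h1
    letI : Algebra K Γ(W.left, ⊤) := (sigma W).toAlgebra
    have hc : aeval (Red.gaFn g) (minpoly K b) = 0 := h1
    obtain ⟨ρ, hρ⟩ := exists_algHom b hb Γ(W.left, ⊤) (Red.gaFn g) hc
    refine ⟨mkPt ρ.toRingHom (RingHom.ext fun k => ρ.commutes k), ?_⟩
    apply GaPts.eq_of_gaFn_eq
    rw [GaPts.gaFn_comp, gaFn_ga, mkPt_appTop]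
    exact hρ

end Core

section Coord

/-- the coordinate ring map `K[X] → Γ(𝔾_a)` -/
def theta : K[X] →+* Γ((Red.Ga (SK K)).left, ⊤) :=
  Polynomial.eval₂RingHom (sigma (Red.Ga (SK K))) (Red.gaFn (𝟙 (Red.Ga (SK K))))

/-- `𝔾_a → Spec K[X]` -/
def toLine : Red.Ga (SK K) ⟶ TK K K[X] :=
  mkPt theta (RingHom.ext fun k => by simp [theta])

/-- `Spec K[X] → 𝔾_a` -/
def ofLine : TK K K[X] ⟶ Red.Ga (SK K) := ga (𝟙 (SK K)) K[X] X

theorem toLine_ofLine : toLine (K := K) ≫ ofLine = 𝟙 _ := by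
  apply GaPts.eq_of_gaFn_eq
  unfold ofLine toLine
  rw [GaPts.gaFn_comp, gaFn_ga, mkPt_appTop]
  simp [theta]

theorem rr_id (R : Type u) [CommRing R] [Algebra K R] :
    rr (𝟙 (SK K)) (AlgHom.id K R) = 𝟙 (TK K R) := by
  apply Over.OverMorphism.ext
  rw [rr_left]
  exact Spec.map_id _

theorem ofLine_toLine : ofLine (K := K) ≫ toLine = 𝟙 _ := by
  obtain ⟨ρ, hρ⟩ := exists_rr (ofLine (K := K) ≫ toLine)
  have h1 : rr (𝟙 (SK K)) ρ ≫ ofLine = ofLine := by
    rw [hρ, Category.assoc, toLine_ofLine, Category.comp_id]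
  unfold ofLine at h1
  rw [rr_ga] at h1
  have h2 : ρ X = X := ga_inj (𝟙 (SK K)) K[X] h1
  have h3 : ρ = AlgHom.id K K[X] := Polynomial.algHom_ext h2
  rw [← hρ, h3, rr_id]

/-- `𝔾_a ≅ Spec K[X]` -/
def lineIso : Red.Ga (SK K) ≅ TK K K[X] := ⟨toLine, ofLine, toLine_ofLine, ofLine_toLine⟩

theorem ofLine_gaPoly (P : K[X]) :
    ofLine ≫ gaPoly P = rr (𝟙 (SK K)) (aeval P : K[X] →ₐ[K] K[X]) ≫ ofLine := by
  apply GaPts.eq_of_gaFn_eq
  unfold ofLine
  rw [gaFn_comp_gaPoly, gaFn_ga, evP_TK, rr_ga, gaFn_ga, aeval_X, aeval_X_left_apply]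

theorem gaPoly_eq (P : K[X]) :
    gaPoly P = toLine ≫ rr (𝟙 (SK K)) (aeval P : K[X] →ₐ[K] K[X]) ≫ ofLine := by
  rw [← ofLine_gaPoly, ← Category.assoc, toLine_ofLine, Category.id_comp]

theorem gaPoly_left (P : K[X]) :
    (gaPoly P).left = (toLine (K := K)).left ≫
      Spec.map (CommRingCat.ofHom (aeval P : K[X] →ₐ[K] K[X]).toRingHom) ≫ (ofLine (K := K)).left := by
  rw [gaPoly_eq]
  rfl

instance : IsIso (toLine (K := K)).left :=
  ((Over.forget _).mapIso (lineIso (K := K))).isIso_hom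

instance : IsIso (ofLine (K := K)).left :=
  ((Over.forget _).mapIso (lineIso (K := K))).isIso_inv

theorem flat_gaPoly (P : K[X]) (hd : 0 < P.natDegree) : Flat (gaPoly P).left := by
  rw [gaPoly_left]
  haveI : Flat (Spec.map (CommRingCat.ofHom (aeval P : K[X] →ₐ[K] K[X]).toRingHom)) :=
    Flat.SpecMap_iff.mpr (aeval_flat P hd)
  infer_instance

theorem surjective_gaPoly (P : K[X]) (hP : P.Monic) (hd : 0 < P.natDegree) :
    Surjective (gaPoly P).left := by
  rw [gaPoly_left]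
  haveI : Surjective (Spec.map (CommRingCat.ofHom (aeval P : K[X] →ₐ[K] K[X]).toRingHom)) :=
    (surjective_iff _).mpr ((aeval_isIntegral P hP hd).comap_surjective (aeval_injective P hd))
  infer_instance

end Coord

end Groth.Agent.Helper18.FinSub
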