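import Groth.Agent.Lib.Helper18.FinSub4

/-!
# Finite subgroup schemes of `𝔾_a`, `𝔾_m` over a field: assembly (helper18)
-/

set_option autoImplicit false
set_option linter.style.haveILetI false
universe u
open CategoryTheory CategoryTheory.Limits MonoidalCategory CartesianMonoidalCategory MonObj
  AlgebraicGeometry Polynomial

noncomputable section

namespace Groth.Agent.Helper18.FinSub

open Groth.Agent.Helper13 Groth.Agent.Helper18 Groth.Agent.Helper18.GaTorsor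

variable {K : Type u} [Field K]

/-- a finite `K`-scheme with a rational point is `Spec` of a nontrivial finite `K`-algebra -/
theorem exists_affine_model (H : Over (SK K)) [IsFinite H.hom] (x : 𝟙_ (Over (SK K)) ⟶ H) :
    ∃ (B : Type u) (_ : CommRing B) (_ : Algebra K B) (_ : Module.Finite K B) (_ : Nontrivial B),
      Nonempty (H ≅ TK K B) := by
  have hfin := (HasAffineProperty.iff_of_isAffine (P := @IsFinite)).mp (inferInstance : IsFinite H.hom)
  haveI : IsAffine H.left := hfin.1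
  letI : Algebra K Γ(H.left, ⊤) := (sigma H).toAlgebra
  have hσ : (sigma H).Finite := by
    unfold sigma
    refine RingHom.Finite.comp hfin.2 (RingHom.Finite.of_surjective _ ?_)
    exact (ConcreteCategory.bijective_of_isIso (Scheme.ΓSpecIso (CommRingCat.of K)).inv).2
  haveI : Module.Finite K Γ(H.left, ⊤) := hσ
  haveI : Nontrivial Γ(H.left, ⊤) := by
    have f : Γ(H.left, ⊤) →+* Γ((𝟙_ (Over (SK K))).left, ⊤) := x.left.appTop.hom
    haveI : Nontrivial Γ((𝟙_ (Over (SK K))).left, ⊤) := by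
      show Nontrivial Γ(SK K, ⊤)
      exact (Scheme.ΓSpecIso (CommRingCat.of K)).commRingCatIsoToRingEquiv.symm.injective.nontrivial
    exact f.domain_nontrivial
  refine ⟨Γ(H.left, ⊤), inferInstance, inferInstance, inferInstance, inferInstance, ⟨?_⟩⟩
  refine Over.isoMk H.left.isoSpec ?_
  show H.left.isoSpec.hom ≫ (Spec.map (CommRingCat.ofHom (algebraMap K Γ(H.left, ⊤))) ≫ 𝟙 _) = H.hom
  rw [Category.comp_id, Scheme.isoSpec_hom]
  exact toSpecΓ_sigma H

/-- transporting the subgroup structure to the affine model -/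
theorem exists_model {G₀ : Over (SK K)} [GrpObj G₀] (H : Over (SK K)) [GrpObj H] [IsFinite H.hom]
    (j : H ⟶ G₀) [IsMonHom j] :
    ∃ (B : Type u) (_ : CommRing B) (_ : Algebra K B) (_ : Module.Finite K B) (_ : Nontrivial B)
      (e : H ≅ TK K B) (m : TK K B ⊗ TK K B ⟶ TK K B),
      m ≫ (e.inv ≫ j) = (fst _ _ ≫ e.inv ≫ j) * (snd _ _ ≫ e.inv ≫ j) := by
  obtain ⟨B, i1, i2, i3, i4, ⟨e⟩⟩ := exists_affine_model H η[H]
  refine ⟨B, i1, i2, i3, i4, e, (e.inv ⊗ₘ e.inv) ≫ μ[H] ≫ e.hom, ?_⟩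
  rw [Hom.mul_def, Category.assoc, Category.assoc, e.hom_inv_id_assoc, IsMonHom.mul_hom,
    ← Category.assoc, tensorHom_comp_tensorHom, ← lift_fst_comp_snd_comp]

theorem main_gm (H : Over (SK K)) [GrpObj H] [IsFinite H.hom] (j : H ⟶ Red.Gm (SK K)) [IsMonHom j]
    [Mono j] :
    ∃ φ : Red.Gm (SK K) ⟶ Red.Gm (SK K), IsMonHom φ ∧ IsPullback j (toUnit H) φ η[Red.Gm (SK K)] ∧
      Flat φ.left ∧ Surjective φ.left := by
  obtain ⟨B, _, _, _, _, e, m, hm⟩ := exists_model H j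
  haveI : Mono (e.inv ≫ j) := mono_comp _ _
  obtain ⟨d, hd, hpb⟩ := core_gm (e.inv ≫ j) m hm
  refine ⟨Kummer.vK d, inferInstance, ?_, Kummer.flat_vK hd, Kummer.surj_vK hd⟩
  refine IsPullback.of_iso hpb e.symm (Iso.refl _) (Iso.refl _) (Iso.refl _) ?_ ?_ ?_ ?_
  · simp
  · exact toUnit_unique _ _
  · simp
  · simp

theorem main_ga (H : Over (SK K)) [GrpObj H] [IsFinite H.hom] (j : H ⟶ Red.Ga (SK K)) [IsMonHom j]
    [Mono j] :
    ∃ φ : Red.Ga (SK K) ⟶ Red.Ga (SK K), IsMonHom φ ∧ IsPullback j (toUnit H) φ η[Red.Ga (SK K)] ∧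
      Flat φ.left ∧ Surjective φ.left := by
  obtain ⟨B, _, _, _, _, e, m, hm⟩ := exists_model H j
  haveI : Mono (e.inv ≫ j) := mono_comp _ _
  obtain ⟨P, hP, hd, hadd, hpb⟩ := core_ga (e.inv ≫ j) m hm
  refine ⟨gaPoly P, isMonHom_gaPoly P hadd, ?_, flat_gaPoly P hd, surjective_gaPoly P hP hd⟩
  refine IsPullback.of_iso hpb e.symm (Iso.refl _) (Iso.refl _) (Iso.refl _) ?_ ?_ ?_ ?_
  · simp
  · exact toUnit_unique _ _
  · simp
  · simp

/-- transport along an isomorphism of group schemes -/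
theorem transport {S : Scheme.{u}} {G G₀ H : Over S} [GrpObj G] [GrpObj G₀]
    (ψ : G ≅ G₀) [IsMonHom ψ.hom] [IsMonHom ψ.inv] (i : H ⟶ G)
    (φ₀ : G₀ ⟶ G₀) (hφ₀ : IsMonHom φ₀) (hpb : IsPullback (i ≫ ψ.hom) (toUnit H) φ₀ η[G₀])
    (hf : Flat φ₀.left) (hs : Surjective φ₀.left) :
    ∃ φ : G ⟶ G, IsMonHom φ ∧ AlgGrp.IsKernel i φ ∧ Flat φ.left ∧ Surjective φ.left := by
  haveI : IsIso ψ.hom.left := ((Over.forget _).mapIso ψ).isIso_hom
  haveI : IsIso ψ.inv.left := ((Over.forget _).mapIso ψ).isIso_inv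
  refine ⟨ψ.hom ≫ φ₀ ≫ ψ.inv, inferInstance, ?_, ?_, ?_⟩
  · refine IsPullback.of_iso hpb (Iso.refl _) ψ.symm (Iso.refl _) ψ.symm ?_ ?_ ?_ ?_
    · simp
    · simp
    · simp
    · simp [IsMonHom.one_hom]
  · show Flat (ψ.hom.left ≫ φ₀.left ≫ ψ.inv.left)
    infer_instance
  · show Surjective (ψ.hom.left ≫ φ₀.left ≫ ψ.inv.left)
    infer_instance

end Groth.Agent.Helper18.FinSub
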