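import Mathlib
import Groth.Agent.Lib.Helper4.CurveExt

/-!
# Extending a morphism to a proper scheme over a puncture of a Dedekind scheme (helper18)
-/

set_option autoImplicit false
universe u
open CategoryTheory AlgebraicGeometry Limits

namespace Groth.Agent.Helper18.FixPt

theorem extend_dedekind (R : Type u) [CommRing R] [IsDomain R] [IsDedekindDomain R]
    (s : R) (hs : s ≠ 0) (R' : Type u) [CommRing R'] [Algebra R R'] [IsLocalization.Away s R']
    {S' Y : Scheme.{u}} (pR : Spec (CommRingCat.of R) ⟶ S') (pY : Y ⟶ S') [IsProper pY]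
    (g : Spec (CommRingCat.of R') ⟶ Y)
    (hg : g ≫ pY = Spec.map (CommRingCat.ofHom (algebraMap R R')) ≫ pR) :
    ∃ g' : Spec (CommRingCat.of R) ⟶ Y,
      Spec.map (CommRingCat.ofHom (algebraMap R R')) ≫ g' = g ∧ g' ≫ pY = pR := by
  haveI : IsDomain (CommRingCat.of R) := inferInstanceAs (IsDomain R)
  haveI : IsDedekindDomain (CommRingCat.of R) := inferInstanceAs (IsDedekindDomain R)
  haveI : IsNoetherianRing (CommRingCat.of R) := IsDedekindRing.toIsNoetherian
  let j : Spec (CommRingCat.of R') ⟶ Spec (CommRingCat.of R) :=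
    Spec.map (CommRingCat.ofHom (algebraMap R R'))
  haveI : IsOpenImmersion j := IsOpenImmersion.of_isLocalization s
  let U : (Spec (CommRingCat.of R)).Opens := j.opensRange
  let e : Spec (CommRingCat.of R') ≅ (U : Scheme.{u}) := j.isoOpensRange
  have he : e.hom ≫ U.ι = j := j.isoOpensRange_hom_ι
  let gU : (U : Scheme.{u}) ⟶ Y := e.inv ≫ g
  have hgU : gU ≫ pY = U.ι ≫ pR := by
    show (e.inv ≫ g) ≫ pY = U.ι ≫ pR
    rw [Category.assoc, hg]
    show e.inv ≫ j ≫ pR = U.ι ≫ pR
    rw [← he, Category.assoc, Iso.inv_hom_id_assoc]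
  have hξU : genericPoint (Spec (CommRingCat.of R)) ∈ U := by
    show genericPoint (Spec (CommRingCat.of R)) ∈ Set.range j
    have h1 : Set.range j = (PrimeSpectrum.basicOpen s : Set (PrimeSpectrum R)) :=
      PrimeSpectrum.localization_away_comap_range R' s
    rw [h1, genericPoint_eq_bot_of_affine]
    show s ∉ (⊥ : Ideal R)
    exact hs
  have hU : Dense (U : Set (Spec (CommRingCat.of R))) := U.isOpen.dense ⟨_, hξU⟩
  obtain ⟨g', ⟨hg'1, hg'2⟩, -⟩ :=
    Groth.Agent.Helper4.CurveExt.existsUnique_extension_of_local pR pY U hU gU hgU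
    (fun x => by
      by_cases hx : x ∈ U
      · refine ⟨U, gU, hx, hgU, ?_⟩
        intro Q a b hab
        rw [(cancel_mono U.ι).mp hab]
      · have hne : x.asIdeal ≠ ⊥ := by
          intro h0
          apply hx
          have : x = genericPoint (Spec (CommRingCat.of R)) := by
            rw [genericPoint_eq_bot_of_affine]
            exact PrimeSpectrum.ext h0
          rw [this]
          exact hξU
        haveI : IsDomain ((Spec (CommRingCat.of R)).presheaf.stalk x) := inferInstance
        letI : Algebra (CommRingCat.of R) ((Spec (CommRingCat.of R)).presheaf.stalk x) :=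
          StructureSheaf.stalkAlgebra (R := CommRingCat.of R) x
        haveI : IsLocalization.AtPrime ((Spec (CommRingCat.of R)).presheaf.stalk x) x.asIdeal :=
          StructureSheaf.IsLocalization.to_stalk (CommRingCat.of R) x
        haveI : IsDiscreteValuationRing ((Spec (CommRingCat.of R)).presheaf.stalk x) :=
          IsLocalization.AtPrime.isDiscreteValuationRing_of_dedekind_domain
            (A := CommRingCat.of R) hne ((Spec (CommRingCat.of R)).presheaf.stalk x)
        exact Groth.Agent.Helper4.CurveExt.exists_local_extension pR pY U hU gU hgU x)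
  refine ⟨g', ?_, hg'2⟩
  show j ≫ g' = g
  rw [← he, Category.assoc, hg'1]
  show e.hom ≫ e.inv ≫ g = g
  rw [Iso.hom_inv_id_assoc]

end Groth.Agent.Helper18.FixPt
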