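import Groth.Agent.Lib.Helper18.FixPt1
import Groth.Agent.Lib.Helper18.FinSub4

/-!
# Fixed points of one-dimensional groups on proper schemes: the abstract argument (helper18)
-/

set_option autoImplicit false
set_option linter.style.haveILetI false
universe u
open CategoryTheory CategoryTheory.Limits MonoidalCategory CartesianMonoidalCategory MonObj
  AlgebraicGeometry

noncomputable section

namespace Groth.Agent.Helper18.FixPt

open Groth.Agent.Helper18 Groth.Agent.Helper18.GaTorsor Groth.Agent.Helper18.FinSub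

variable {k : Type u} [Field k]

/-- rational points of affine test objects -/
def ptOf {R : Type u} [CommRing R] [Algebra k R] (ρ : R →ₐ[k] k) : 𝟙_ (Over (SK k)) ⟶ TK k R :=
  Over.homMk (Spec.map (CommRingCat.ofHom ρ.toRingHom)) (by
    show Spec.map (CommRingCat.ofHom ρ.toRingHom) ≫
      (Spec.map (CommRingCat.ofHom (algebraMap k R)) ≫ 𝟙 _) = 𝟙 _
    rw [Category.comp_id, ← Spec.map_comp, ← CommRingCat.ofHom_comp]
    have : ρ.toRingHom.comp (algebraMap k R) = RingHom.id k := by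
      ext c
      exact ρ.commutes c
    rw [this]
    exact Spec.map_id _)

theorem toUnit_ptOf {R C : Type u} [CommRing R] [Algebra k R] [CommRing C] [Algebra k C]
    (ρ : R →ₐ[k] k) : toUnit (TK k C) ≫ ptOf ρ = rr (𝟙 (SK k)) ((Algebra.ofId k C).comp ρ) := by
  apply Over.OverMorphism.ext
  rw [Over.comp_left, rr_left]
  show (Spec.map (CommRingCat.ofHom (algebraMap k C)) ≫ 𝟙 _) ≫
    Spec.map (CommRingCat.ofHom ρ.toRingHom) = _
  rw [Category.comp_id, ← Spec.map_comp, ← CommRingCat.ofHom_comp]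
  rfl

theorem isDominant_away {D D' : Type u} [CommRing D] [IsDomain D] [CommRing D'] [Algebra D D']
    (d : D) (hd : d ≠ 0) [IsLocalization.Away d D'] :
    IsDominant (Spec.map (CommRingCat.ofHom (algebraMap D D'))) := by
  refine ⟨?_⟩
  show Dense (Set.range (Spec.map (CommRingCat.ofHom (algebraMap D D'))))
  have h1 : Set.range (Spec.map (CommRingCat.ofHom (algebraMap D D'))) =
      (PrimeSpectrum.basicOpen d : Set (PrimeSpectrum D)) :=
    PrimeSpectrum.localization_away_comap_range D' d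
  rw [h1]
  exact (PrimeSpectrum.basicOpen d).isOpen.dense ⟨⟨⊥, Ideal.isPrime_bot⟩, hd⟩

section Abstract

variable {G X H : Over (SK k)} [GrpObj G] [GrpObj H] (a : AlgGrp.Action G X) [IsProper X.hom]
  (ε : H ⟶ G) [IsMonHom ε]

set_option maxHeartbeats 1600000 in
theorem abstract_fixed (x₀ : 𝟙_ (Over (SK k)) ⟶ X)
    (R : Type u) [CommRing R] [IsDedekindDomain R] [Algebra k R] (s : R) (hs : s ≠ 0)
    (R' : Type u) [CommRing R'] [Algebra R R'] [IsLocalization.Away s R'] [Algebra k R']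
    [IsScalarTower k R R']
    (h : TK k R' ⟶ H) (pt0 : R →ₐ[k] k)
    (Uv : Type u) [CommRing Uv] [Algebra k Uv] (c : TK k Uv ⟶ H)
    (huniv : ∀ (T : Over (SK k)) (g : T ⟶ H), ∃ θ : T ⟶ TK k Uv, θ ≫ c = g)
    (D : Type u) [CommRing D] [IsDomain D] [Algebra k D]
    (prc : Uv →ₐ[k] D) (prs m : R →ₐ[k] D) (hD : prs s ≠ 0)
    (D' : Type u) [CommRing D'] [Algebra D D'] [IsLocalization.Away (prs s) D'] [Algebra k D']
    [IsScalarTower k D D']
    (prs' m' : R' →ₐ[k] D')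
    (hprs' : prs'.comp (IsScalarTower.toAlgHom k R R') = (IsScalarTower.toAlgHom k D D').comp prs)
    (hm' : m'.comp (IsScalarTower.toAlgHom k R R') = (IsScalarTower.toAlgHom k D D').comp m)
    (hrel : (rr (𝟙 (SK k)) (IsScalarTower.toAlgHom k D D') ≫ rr (𝟙 (SK k)) prc ≫ c) *
      (rr (𝟙 (SK k)) prs' ≫ h) = rr (𝟙 (SK k)) m' ≫ h)
    (z : D →ₐ[k] Uv) (hz1 : z.comp prc = AlgHom.id k Uv)
    (hz2 : z.comp prs = (Algebra.ofId k Uv).comp pt0)
    (hz3 : z.comp m = (Algebra.ofId k Uv).comp pt0) :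
    ∃ x : 𝟙_ (Over (SK k)) ⟶ X, ∀ (T : Over (SK k)) (g : T ⟶ H),
      lift (g ≫ ε) (toUnit T ≫ x) ≫ a.act = toUnit T ≫ x := by
  -- the orbit map near infinity
  let o : TK k R' ⟶ X := lift (h ≫ ε) (toUnit _ ≫ x₀) ≫ a.act
  let jR : TK k R' ⟶ TK k R := rr (𝟙 (SK k)) (IsScalarTower.toAlgHom k R R')
  obtain ⟨φl, hφ1, hφ2⟩ := extend_dedekind R s hs R' (TK k R).hom X.hom o.left (by
    rw [Over.w o]
    exact (Over.w jR).symm)
  let φ : TK k R ⟶ X := Over.homMk φl hφ2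
  have hφ : jR ≫ φ = o := Over.OverMorphism.ext hφ1
  refine ⟨ptOf pt0 ≫ φ, ?_⟩
  -- the two maps on the big test object
  let jD : TK k D' ⟶ TK k D := rr (𝟙 (SK k)) (IsScalarTower.toAlgHom k D D')
  let F₁ : TK k D ⟶ X := lift (rr (𝟙 (SK k)) prc ≫ c ≫ ε) (rr (𝟙 (SK k)) prs ≫ φ) ≫ a.act
  let F₂ : TK k D ⟶ X := rr (𝟙 (SK k)) m ≫ φ
  have e1 : jD ≫ rr (𝟙 (SK k)) prs = rr (𝟙 (SK k)) prs' ≫ jR := by
    show rr _ _ ≫ rr _ _ = rr _ _ ≫ rr _ _
    rw [rr_comp, rr_comp, hprs']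
  have e2 : jD ≫ rr (𝟙 (SK k)) m = rr (𝟙 (SK k)) m' ≫ jR := by
    show rr _ _ ≫ rr _ _ = rr _ _ ≫ rr _ _
    rw [rr_comp, rr_comp, hm']
  have hjD : jD ≫ F₁ = jD ≫ F₂ := by
    show jD ≫ lift (rr (𝟙 (SK k)) prc ≫ c ≫ ε) (rr (𝟙 (SK k)) prs ≫ φ) ≫ a.act =
      jD ≫ rr (𝟙 (SK k)) m ≫ φ
    rw [comp_act, ← Category.assoc jD (rr (𝟙 (SK k)) prs), e1, Category.assoc, hφ,
      ← Category.assoc jD (rr (𝟙 (SK k)) m), e2, Category.assoc, hφ]
    show lift _ (rr (𝟙 (SK k)) prs' ≫ lift (h ≫ ε) (toUnit _ ≫ x₀) ≫ a.act) ≫ a.act =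
      rr (𝟙 (SK k)) m' ≫ lift (h ≫ ε) (toUnit _ ≫ x₀) ≫ a.act
    rw [comp_act, comp_act, ← GeomQuot.act_mul]
    have t1 : rr (𝟙 (SK k)) prs' ≫ toUnit (TK k R') ≫ x₀ = toUnit _ ≫ x₀ := by
      rw [← Category.assoc]
      congr 1
      exact toUnit_unique _ _
    have t2 : rr (𝟙 (SK k)) m' ≫ toUnit (TK k R') ≫ x₀ = toUnit _ ≫ x₀ := by
      rw [← Category.assoc]
      congr 1
      exact toUnit_unique _ _
    rw [t1, t2]
    congr 2
    rw [← Category.assoc (rr (𝟙 (SK k)) m') h ε, ← hrel, MonObj.mul_comp]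
    simp only [Category.assoc]
    rfl
  haveI : IsDominant jD.left := isDominant_away (prs s) hD
  haveI : IsReduced (TK k D).left := by
    show IsReduced (Spec (CommRingCat.of D))
    infer_instance
  have hF : F₁ = F₂ := by
    apply Over.OverMorphism.ext
    refine ext_of_isDominant_of_isSeparated X.hom ?_ jD.left (congrArg (fun q => q.left) hjD)
    rw [Over.w F₁, Over.w F₂]
  -- restrict to the point at infinity
  have hz : rr (𝟙 (SK k)) z ≫ F₁ = rr (𝟙 (SK k)) z ≫ F₂ := by rw [hF]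
  have key : lift (c ≫ ε) (toUnit _ ≫ ptOf pt0 ≫ φ) ≫ a.act = toUnit _ ≫ ptOf pt0 ≫ φ := by
    have l1 : rr (𝟙 (SK k)) z ≫ F₁ = lift (c ≫ ε) (toUnit _ ≫ ptOf pt0 ≫ φ) ≫ a.act := by
      show rr (𝟙 (SK k)) z ≫ lift (rr (𝟙 (SK k)) prc ≫ c ≫ ε) (rr (𝟙 (SK k)) prs ≫ φ) ≫ a.act = _
      rw [comp_act, ← Category.assoc (rr (𝟙 (SK k)) z) (rr (𝟙 (SK k)) prc), rr_comp, hz1, rr_id,
        Category.id_comp, ← Category.assoc (rr (𝟙 (SK k)) z) (rr (𝟙 (SK k)) prs), rr_comp, hz2,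
        ← toUnit_ptOf, Category.assoc]
    have l2 : rr (𝟙 (SK k)) z ≫ F₂ = toUnit _ ≫ ptOf pt0 ≫ φ := by
      show rr (𝟙 (SK k)) z ≫ rr (𝟙 (SK k)) m ≫ φ = _
      rw [← Category.assoc, rr_comp, hz3, ← toUnit_ptOf, Category.assoc]
    rw [← l1, ← l2, hz]
  intro T g
  obtain ⟨θ, hθ⟩ := huniv T g
  have h1 : toUnit T ≫ ptOf pt0 ≫ φ = θ ≫ toUnit (TK k Uv) ≫ ptOf pt0 ≫ φ := by
    rw [← Category.assoc θ]
    congr 1
    exact toUnit_unique _ _
  rw [h1, ← hθ, Category.assoc, ← comp_act, key]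

end Abstract

end Groth.Agent.Helper18.FixPt
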