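import Groth.Agent.Lib.Helper18.FixPt2

/-!
# Fixed points of the multiplicative group on proper schemes (helper18)
-/

set_option autoImplicit false
set_option linter.style.haveILetI false
universe u
open CategoryTheory CategoryTheory.Limits MonoidalCategory CartesianMonoidalCategory MonObj
  AlgebraicGeometry Polynomial

noncomputable section

namespace Groth.Agent.Helper18.FixPt

open Groth.Agent.Helper18 Groth.Agent.Helper18.GaTorsor Groth.Agent.Helper18.FinSub
  Groth.Agent.Helper18.GmTorsor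

variable {k : Type u} [Field k]

variable (k) in
/-- the `𝔾_m`-point of a unit of an affine test object -/
def gm (C : Type u) [CommRing C] [Algebra k C] (v : Cˣ) : TK k C ⟶ Red.Gm (SK k) :=
  GmPts.ptOfUnit (T := TK k C) (Units.map
    ((Scheme.ΓSpecIso (CommRingCat.of C)).inv.hom :
      C →+* Γ(Spec (CommRingCat.of C), ⊤)).toMonoidHom v)

theorem gmFn_gm (C : Type u) [CommRing C] [Algebra k C] (v : Cˣ) :
    Red.gmFn (gm k C v) = (Scheme.ΓSpecIso (CommRingCat.of C)).inv (v : C) := by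
  unfold gm
  rw [GmPts.gmFn_ptOfUnit]
  rfl

theorem fn_gm (C : Type u) [CommRing C] [Algebra k C] (v : Cˣ) :
    fn (𝟙 (SK k)) C (gm k C v) = v := by
  unfold fn
  rw [gmFn_gm]
  exact congrArg (fun q => q.hom (v : C)) (Scheme.ΓSpecIso (CommRingCat.of C)).inv_hom_id

theorem rr_gm {C C' : Type u} [CommRing C] [Algebra k C] [CommRing C'] [Algebra k C']
    (ρ : C →ₐ[k] C') (v : Cˣ) :
    rr (𝟙 (SK k)) ρ ≫ gm k C v = gm k C' (Units.map (ρ : C →* C') v) := by
  apply fn_inj
  rw [fn_rr, fn_gm, fn_gm]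
  rfl

section Univ

/-- the coordinate ring of `𝔾_m` -/
abbrev LR (k : Type u) [Field k] : Type u := Localization.Away (X : k[X])

/-- the universal unit -/
def uu (k : Type u) [Field k] : (LR k)ˣ := (IsLocalization.Away.algebraMap_isUnit (X : k[X])).unit

theorem uu_val : ((uu k : (LR k)ˣ) : LR k) = algebraMap k[X] (LR k) X := rfl

instance : IsDomain (LR k) :=
  IsLocalization.isDomain_localization (powers_le_nonZeroDivisors_of_noZeroDivisors X_ne_zero)

theorem univ_gm (T : Over (SK k)) (g : T ⟶ Red.Gm (SK k)) :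
    ∃ θ : T ⟶ TK k (LR k), θ ≫ gm k (LR k) (uu k) = g := by
  let ρ₀ : k[X] →+* Γ(T.left, ⊤) := Polynomial.eval₂RingHom (sigma T) (Red.gmFn g)
  have hρ₀X : ρ₀ X = Red.gmFn g := Polynomial.eval₂_X _ _
  have hunit : IsUnit (ρ₀ X) := by
    rw [hρ₀X]
    exact GmPts.isUnit_gmFn g
  let ρ : LR k →+* Γ(T.left, ⊤) := IsLocalization.Away.lift (X : k[X]) hunit
  have hρ0 : ∀ q : k[X], ρ (algebraMap k[X] (LR k) q) = ρ₀ q := fun q =>
    IsLocalization.Away.lift_eq (X : k[X]) hunit q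
  have hρ : ρ.comp (algebraMap k (LR k)) = sigma T := by
    ext c
    show ρ (algebraMap k (LR k) c) = sigma T c
    rw [IsScalarTower.algebraMap_apply k k[X] (LR k), hρ0]
    exact Polynomial.eval₂_C _ _
  refine ⟨mkPt ρ hρ, ?_⟩
  apply GmPts.gmFn_injective
  show Red.gmFn (mkPt ρ hρ ≫ gm k (LR k) (uu k)) = Red.gmFn g
  rw [GmPts.gmFn_comp, gmFn_gm, mkPt_appTop, uu_val, hρ0, hρ₀X]

end Univ

section Main

variable {G Y : Over (SK k)} [GrpObj G] (a : AlgGrp.Action G Y) [IsProper Y.hom]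
  (ε : Red.Gm (SK k) ⟶ G) [IsMonHom ε]

set_option maxHeartbeats 1600000 in
theorem fixed_gm (x₀ : 𝟙_ (Over (SK k)) ⟶ Y) :
    ∃ x : 𝟙_ (Over (SK k)) ⟶ Y, ∀ (T : Over (SK k)) (g : T ⟶ Red.Gm (SK k)),
      lift (g ≫ ε) (toUnit T ≫ x) ≫ a.act = toUnit T ≫ x := by
  let prc : LR k →ₐ[k] (LR k)[X] := Polynomial.CAlgHom
  let prs : k[X] →ₐ[k] (LR k)[X] := Polynomial.aeval (X : (LR k)[X])
  let m : k[X] →ₐ[k] (LR k)[X] := Polynomial.aeval (C ((uu k : (LR k)ˣ) : LR k) * X : (LR k)[X])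
  have hprsX : prs X = X := Polynomial.aeval_X _
  have hmX : m X = C ((uu k : (LR k)ˣ) : LR k) * X := Polynomial.aeval_X _
  have hD : prs X ≠ 0 := by
    rw [hprsX]
    exact X_ne_zero
  let D' : Type u := Localization.Away (X : (LR k)[X])
  haveI : IsLocalization.Away (prs X) D' := by
    rw [hprsX]
    infer_instance
  let jD : (LR k)[X] →ₐ[k] D' := IsScalarTower.toAlgHom k (LR k)[X] D'
  have hXu : IsUnit (jD X) := IsLocalization.Away.algebraMap_isUnit (S := D') (X : (LR k)[X])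
  have hf1 : ∀ y : Submonoid.powers (X : k[X]), IsUnit ((jD.comp prs) y) := by
    rintro ⟨_, n, rfl⟩
    show IsUnit (jD (prs (X ^ n)))
    rw [map_pow, map_pow, hprsX]
    exact hXu.pow n
  have hf2 : ∀ y : Submonoid.powers (X : k[X]), IsUnit ((jD.comp m) y) := by
    rintro ⟨_, n, rfl⟩
    show IsUnit (jD (m (X ^ n)))
    rw [map_pow, map_pow, hmX, map_mul]
    refine (IsUnit.mul ?_ hXu).pow n
    exact ((uu k).isUnit.map (C : LR k →+* (LR k)[X])).map jD
  let prs' : LR k →ₐ[k] D' := IsLocalization.liftAlgHom (M := Submonoid.powers (X : k[X])) hf1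
  let m' : LR k →ₐ[k] D' := IsLocalization.liftAlgHom (M := Submonoid.powers (X : k[X])) hf2
  have hprs'0 : ∀ q : k[X], prs' (algebraMap k[X] (LR k) q) = jD (prs q) := fun q =>
    IsLocalization.lift_eq (M := Submonoid.powers (X : k[X])) hf1 q
  have hm'0 : ∀ q : k[X], m' (algebraMap k[X] (LR k) q) = jD (m q) := fun q =>
    IsLocalization.lift_eq (M := Submonoid.powers (X : k[X])) hf2 q
  let z : (LR k)[X] →ₐ[k] LR k := (Polynomial.aeval (0 : LR k)).restrictScalars k
  have hzC : ∀ r : LR k, z (C r) = r := fun r => by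
    show Polynomial.aeval (0 : LR k) (C r) = r
    rw [Polynomial.aeval_C]
    rfl
  have hzX : z X = 0 := Polynomial.aeval_X _
  refine abstract_fixed a ε x₀ k[X] X X_ne_zero (LR k) (gm k (LR k) (uu k)) (Polynomial.aeval (0 : k))
    (LR k) (gm k (LR k) (uu k)) univ_gm (LR k)[X] prc prs m hD D' prs' m' ?_ ?_ ?_ z ?_ ?_ ?_
  · exact AlgHom.ext fun q => hprs'0 q
  · exact AlgHom.ext fun q => hm'0 q
  · rw [rr_gm, rr_gm, rr_gm, rr_gm]
    apply fn_inj
    rw [fn_mul, fn_gm, fn_gm, fn_gm]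
    show jD (prc (uu k : LR k)) * prs' (uu k : LR k) = m' (uu k : LR k)
    rw [uu_val, hprs'0, hm'0, hprsX, hmX, map_mul]
    rfl
  · exact AlgHom.ext fun r => hzC r
  · apply Polynomial.algHom_ext
    show z (prs X) = algebraMap k (LR k) (Polynomial.aeval (0 : k) X)
    rw [hprsX, hzX, Polynomial.aeval_X, map_zero]
  · apply Polynomial.algHom_ext
    show z (m X) = algebraMap k (LR k) (Polynomial.aeval (0 : k) X)
    rw [hmX, map_mul, hzX, mul_zero, Polynomial.aeval_X, map_zero]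

end Main

end Groth.Agent.Helper18.FixPt
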