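import Groth.Agent.Lib.Helper18.FixPt3

/-!
# Fixed points of the additive group on proper schemes (helper18)
-/

set_option autoImplicit false
set_option linter.style.haveILetI false
universe u
open CategoryTheory CategoryTheory.Limits MonoidalCategory CartesianMonoidalCategory MonObj
  AlgebraicGeometry Polynomial

noncomputable section

namespace Groth.Agent.Helper18.FixPt

open Groth.Agent.Helper13 Groth.Agent.Helper18 Groth.Agent.Helper18.GaTorsor
  Groth.Agent.Helper18.FinSub

variable {k : Type u} [Field k]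

theorem univ_ga (T : Over (SK k)) (g : T ⟶ Red.Ga (SK k)) :
    ∃ θ : T ⟶ TK k k[X], θ ≫ ga (𝟙 (SK k)) k[X] X = g := by
  let ρ : k[X] →+* Γ(T.left, ⊤) := Polynomial.eval₂RingHom (sigma T) (Red.gaFn g)
  have hρ : ρ.comp (algebraMap k k[X]) = sigma T := by
    ext c
    exact Polynomial.eval₂_C _ _
  refine ⟨mkPt ρ hρ, ?_⟩
  apply GaPts.eq_of_gaFn_eq
  rw [GaPts.gaFn_comp, gaFn_ga, mkPt_appTop]
  exact Polynomial.eval₂_X _ _

/-- the polynomial `1 + c s` -/
def ee (k : Type u) [Field k] : k[X][X] := 1 + C (X : k[X]) * X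

theorem ee_ne_zero : ee k ≠ 0 := by
  intro h
  have := congrArg (Polynomial.eval (0 : k[X])) h
  simp [ee] at this

/-- the big test ring for the additive group -/
abbrev DD (k : Type u) [Field k] : Type u := Localization.Away (ee k)

instance : IsDomain (DD k) :=
  IsLocalization.isDomain_localization (powers_le_nonZeroDivisors_of_noZeroDivisors ee_ne_zero)

theorem jP_injective : Function.Injective (algebraMap k[X][X] (DD k)) :=
  IsLocalization.injective (DD k) (powers_le_nonZeroDivisors_of_noZeroDivisors ee_ne_zero)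

section Main

variable {G Y : Over (SK k)} [GrpObj G] (a : AlgGrp.Action G Y) [IsProper Y.hom]
  (ε : Red.Ga (SK k) ⟶ G) [IsMonHom ε]

set_option maxHeartbeats 1600000 in
theorem fixed_ga (x₀ : 𝟙_ (Over (SK k)) ⟶ Y) :
    ∃ x : 𝟙_ (Over (SK k)) ⟶ Y, ∀ (T : Over (SK k)) (g : T ⟶ Red.Ga (SK k)),
      lift (g ≫ ε) (toUnit T ≫ x) ≫ a.act = toUnit T ≫ x := by
  let jP : k[X][X] →ₐ[k] DD k := IsScalarTower.toAlgHom k k[X][X] (DD k)
  let prc : k[X] →ₐ[k] DD k := jP.comp (Polynomial.CAlgHom : k[X] →ₐ[k] k[X][X])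
  let prs : k[X] →ₐ[k] DD k := jP.comp (Polynomial.aeval (X : k[X][X]))
  let ie : DD k := IsLocalization.Away.invSelf (ee k)
  have hie : jP (ee k) * ie = 1 := IsLocalization.Away.mul_invSelf (ee k)
  let m : k[X] →ₐ[k] DD k := Polynomial.aeval (jP X * ie)
  have hprsX : prs X = jP X := by
    show jP (Polynomial.aeval (X : k[X][X]) X) = jP X
    rw [Polynomial.aeval_X]
  have hmX : m X = jP X * ie := Polynomial.aeval_X _
  have hprcX : prc X = jP (C X) := rfl
  have hD : prs X ≠ 0 := by
    rw [hprsX]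
    intro h0
    have : (X : k[X][X]) = 0 := jP_injective (by rw [map_zero]; exact h0)
    exact X_ne_zero this
  let D' : Type u := Localization.Away (jP X : DD k)
  haveI : IsLocalization.Away (prs X) D' := by
    rw [hprsX]
    infer_instance
  let jD : DD k →ₐ[k] D' := IsScalarTower.toAlgHom k (DD k) D'
  have hSu : IsUnit (jD (jP X)) := IsLocalization.Away.algebraMap_isUnit (S := D') (jP X : DD k)
  have hieu : IsUnit ie := IsUnit.of_mul_eq_one (jP (ee k)) (by rw [mul_comm]; exact hie)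
  have hf1 : ∀ y : Submonoid.powers (X : k[X]), IsUnit ((jD.comp prs) y) := by
    rintro ⟨_, n, rfl⟩
    show IsUnit (jD (prs (X ^ n)))
    rw [map_pow, map_pow, hprsX]
    exact hSu.pow n
  have hf2 : ∀ y : Submonoid.powers (X : k[X]), IsUnit ((jD.comp m) y) := by
    rintro ⟨_, n, rfl⟩
    show IsUnit (jD (m (X ^ n)))
    rw [map_pow, map_pow, hmX, map_mul]
    exact (IsUnit.mul hSu (hieu.map jD)).pow n
  let prs' : LR k →ₐ[k] D' := IsLocalization.liftAlgHom (M := Submonoid.powers (X : k[X])) hf1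
  let m' : LR k →ₐ[k] D' := IsLocalization.liftAlgHom (M := Submonoid.powers (X : k[X])) hf2
  have hprs'0 : ∀ q : k[X], prs' (algebraMap k[X] (LR k) q) = jD (prs q) := fun q =>
    IsLocalization.lift_eq (M := Submonoid.powers (X : k[X])) hf1 q
  have hm'0 : ∀ q : k[X], m' (algebraMap k[X] (LR k) q) = jD (m q) := fun q =>
    IsLocalization.lift_eq (M := Submonoid.powers (X : k[X])) hf2 q
  let z₀ : k[X][X] →ₐ[k] k[X] := (Polynomial.aeval (0 : k[X])).restrictScalars k
  have hz₀C : ∀ r : k[X], z₀ (C r) = r := fun r => by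
    show Polynomial.aeval (0 : k[X]) (C r) = r
    rw [Polynomial.aeval_C]
    rfl
  have hz₀X : z₀ X = 0 := Polynomial.aeval_X _
  have hz₀e : z₀ (ee k) = 1 := by
    show z₀ (1 + C (X : k[X]) * X) = 1
    rw [map_add, map_one, map_mul, hz₀X, mul_zero, add_zero]
  have hf3 : ∀ y : Submonoid.powers (ee k), IsUnit (z₀ y) := by
    rintro ⟨_, n, rfl⟩
    show IsUnit (z₀ (ee k ^ n))
    rw [map_pow, hz₀e, one_pow]
    exact isUnit_one
  let z : DD k →ₐ[k] k[X] := IsLocalization.liftAlgHom (M := Submonoid.powers (ee k)) hf3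
  have hz0 : ∀ q : k[X][X], z (jP q) = z₀ q := fun q =>
    IsLocalization.lift_eq (M := Submonoid.powers (ee k)) hf3 q
  let inv0 : LR k := IsLocalization.Away.invSelf (X : k[X])
  have hinv0 : algebraMap k[X] (LR k) X * inv0 = 1 := IsLocalization.Away.mul_invSelf (X : k[X])
  refine abstract_fixed a ε x₀ k[X] X X_ne_zero (LR k) (ga (𝟙 (SK k)) (LR k) inv0)
    (Polynomial.aeval (0 : k)) k[X] (ga (𝟙 (SK k)) k[X] X) univ_ga (DD k) prc prs m hD D'
    prs' m' ?_ ?_ ?_ z ?_ ?_ ?_
  · exact AlgHom.ext fun q => hprs'0 q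
  · exact AlgHom.ext fun q => hm'0 q
  · rw [rr_ga, rr_ga, rr_ga, rr_ga, ← ga_add]
    congr 1
    show jD (prc X) + prs' inv0 = m' inv0
    have h1 : m' inv0 * (jD (jP X) * jD ie) = 1 := by
      rw [← map_mul, ← hmX, ← hm'0, ← map_mul, mul_comm, hinv0, map_one]
    have h2 : prs' inv0 * jD (jP X) = 1 := by
      have e : jD (jP X) = prs' (algebraMap k[X] (LR k) X) := by rw [hprs'0, hprsX]
      rw [e, ← map_mul, mul_comm, hinv0, map_one]
    have h3 : (1 + jD (prc X) * jD (jP X)) * jD ie = 1 := by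
      have e : (1 : D') + jD (prc X) * jD (jP X) = jD (jP (ee k)) := by
        rw [hprcX, ← map_mul, ← map_mul]
        show _ = jD (jP (1 + C X * X))
        rw [map_add, map_add, map_one, map_one]
      rw [e, ← map_mul, hie, map_one]
    linear_combination (-(jD (prc X) + prs' inv0)) * h1 + jD ie * (m' inv0) * h2 +
      (m' inv0) * h3
  · apply AlgHom.ext
    intro r
    show z (jP (C r)) = r
    rw [hz0, hz₀C]
  · apply Polynomial.algHom_ext
    show z (prs X) = algebraMap k k[X] (Polynomial.aeval (0 : k) X)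
    rw [hprsX, hz0, hz₀X, Polynomial.aeval_X, map_zero]
  · apply Polynomial.algHom_ext
    show z (m X) = algebraMap k k[X] (Polynomial.aeval (0 : k) X)
    rw [hmX, map_mul, hz0, hz₀X, zero_mul, Polynomial.aeval_X, map_zero]

end Main

end Groth.Agent.Helper18.FixPt
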