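import Mathlib
import Groth.Prelude
import Groth.Agent.Lib.Helper18.DenseHom
import Groth.Agent.Lib.Helper18.QuotGrp
import Groth.Agent.Lib.Helper7.FinPres

set_option autoImplicit false
universe u
open CategoryTheory MonoidalCategory CartesianMonoidalCategory MonObj GrpObj AlgebraicGeometry Limits
open Groth.Agent.Helper28.AlgGrpShear

namespace Groth.Agent.Helper18.FlatLocusCover

open Groth.Agent.Helper18.FlatEpi Groth.Agent.Helper18.DenseMulBase Groth.Agent.Helper18.DenseHom

/-- an open containing the maximal points of a fibre is dense in the fibre -/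
theorem dense_fiber_of_maxPts {G S : Scheme.{u}} (p : G ⟶ S) (U : G.Opens) (s : S)
    (h : ∀ g : ↥(p.base ⁻¹' {s}), closure {g} ∈ irreducibleComponents ↥(p.base ⁻¹' {s}) →
      g.1 ∈ U) :
    Dense (((pullback.fst p (S.fromSpecResidueField s)) ⁻¹ᵁ U :
      (pullback p (S.fromSpecResidueField s)).Opens) :
        Set ↥(pullback p (S.fromSpecResidueField s))) := by
  let F := p.fiber s
  let e : F ≃ₜ p ⁻¹' {s} := p.fiberHomeo s
  show Dense (((p.fiberι s) ⁻¹ᵁ U : F.Opens) : Set F)
  rw [dense_iff_inter_open]
  rintro W hWo ⟨w, hw⟩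
  have hZ := irreducibleComponent_mem_irreducibleComponents w
  obtain ⟨ξ, hξ⟩ := QuasiSober.sober hZ.1 isClosed_irreducibleComponent
  have hξW : ξ ∈ W := (hξ.mem_open_set_iff hWo).2 ⟨w, mem_irreducibleComponent, hw⟩
  refine ⟨ξ, hξW, ?_⟩
  have hcl : closure {e ξ} = e '' irreducibleComponent w := by
    rw [← hξ.def, Homeomorph.image_closure, Set.image_singleton]
  have hmem : closure {e ξ} ∈ irreducibleComponents ↥(p ⁻¹' {s}) := by
    rw [hcl]
    exact image_mem_irreducibleComponents_of_isPreirreducible_fiber e e.continuous e.isOpenMap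
      (fun x => (Set.subsingleton_singleton.preimage e.injective).isPreirreducible)
      e.surjective hZ
  have := h (e ξ) hmem
  exact this


variable {S : Scheme.{u}}

instance lofp_mul (G : Over S) [GrpObj G] [LocallyOfFinitePresentation G.hom] :
    LocallyOfFinitePresentation μ[G].left := by
  have h := act_left (NonAbH1.trivialAction G)
  have h' : μ[G].left = (shear (NonAbH1.trivialAction G)).hom.left ≫ (snd G G).left := h
  rw [h']
  haveI : LocallyOfFinitePresentation (snd G G).left := by
    show LocallyOfFinitePresentation (pullback.snd G.hom G.hom)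
    infer_instance
  haveI : IsIso (shear (NonAbH1.trivialAction G)).hom.left :=
    inferInstanceAs (IsIso ((CategoryTheory.Over.forget _).map (shear (NonAbH1.trivialAction G)).hom))
  infer_instance

theorem main5394 (S : Scheme.{u}) (G X : Over S) [GrpObj G] [LocallyOfFinitePresentation G.hom]
    [Flat G.hom] [LocallyOfFinitePresentation X.hom] (f : X ⟶ G)
    (hf : ∀ (s : S) (g : ↥(G.hom.base ⁻¹' {s})),
      closure {g} ∈ irreducibleComponents ↥(G.hom.base ⁻¹' {s}) →
      ∃ x : X.left, f.left.base x = g.1 ∧ (f.left.stalkMap x).hom.Flat)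
    (V : X.left.Opens) (hV : (V : Set X.left) = {x : X.left | (f.left.stalkMap x).hom.Flat})
    (fV : Over.mk (V.ι ≫ X.hom) ⟶ G) (hfV : fV.left = V.ι ≫ f.left) :
    Flat ((fV ⊗ₘ fV) ≫ μ[G]).left ∧ LocallyOfFinitePresentation ((fV ⊗ₘ fV) ≫ μ[G]).left ∧
      Surjective ((fV ⊗ₘ fV) ≫ μ[G]).left := by
  haveI : LocallyOfFinitePresentation f.left :=
    Groth.Agent.Helper7.locallyOfFinitePresentation_of_comp f.left G.hom
      (by rw [Over.w f]; infer_instance) inferInstance
  haveI : LocallyOfFinitePresentation fV.left := by rw [hfV]; infer_instance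
  haveI : Flat fV.left := by
    rw [hfV]
    apply Flat.of_stalkMap
    intro x
    have hx : (f.left.stalkMap (V.ι x)).hom.Flat := by
      have : V.ι x ∈ (V : Set X.left) := x.2
      rw [hV] at this
      exact this
    rw [Scheme.Hom.stalkMap_comp]
    haveI : IsIso (V.ι.stalkMap x) := inferInstance
    exact RingHom.Flat.comp hx (RingHom.Flat.of_bijective
      (ConcreteCategory.bijective_of_isIso (V.ι.stalkMap x)))
  have hopen : IsOpenMap fV.left := fV.left.isOpenMap
  let U : G.left.Opens := ⟨Set.range fV.left, hopen.isOpen_range⟩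
  have hdense : ∀ s : S, Dense (((pullback.fst G.hom (S.fromSpecResidueField s)) ⁻¹ᵁ U :
      (pullback G.hom (S.fromSpecResidueField s)).Opens) :
        Set ↥(pullback G.hom (S.fromSpecResidueField s))) := by
    intro s
    apply dense_fiber_of_maxPts
    intro g hg
    obtain ⟨x, hx, hflat⟩ := hf s g hg
    have hxV : x ∈ V := by
      show x ∈ (V : Set X.left)
      rw [hV]
      exact hflat
    refine ⟨⟨x, hxV⟩, ?_⟩
    rw [hfV]
    exact hx
  refine ⟨?_, ?_, ?_⟩
  · rw [Over.comp_left]; infer_instance
  · rw [Over.comp_left]; infer_instance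
  · constructor
    intro x
    obtain ⟨z, hz1, hz2, hz3⟩ := exists_mul_of_fibrewise_dense S G U hdense x
    obtain ⟨v, hv⟩ := mem_range_tensorHom fV fV z hz1 hz2
    refine ⟨v, ?_⟩
    rw [Over.comp_left, Scheme.Hom.comp_apply, hv]
    exact hz3

end Groth.Agent.Helper18.FlatLocusCover
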