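import Mathlib

set_option autoImplicit false
universe u
open TensorProduct

namespace Groth.Agent.Helper18.FormSm

set_option backward.isDefEq.respectTransparency false in
theorem exists_section_kerSquareLift (R P S : Type u) [CommRing R] [CommRing P] [CommRing S]
    [Algebra R P] [Algebra R S] [Algebra P S] [IsScalarTower R P S]
    [Algebra.FormallySmooth R S] (hf : Function.Surjective (algebraMap P S)) :
    ∃ g : S →ₐ[R] (P ⧸ RingHom.ker (IsScalarTower.toAlgHom R P S) ^ 2),
      (IsScalarTower.toAlgHom R P S).kerSquareLift.comp g = AlgHom.id R S := by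
  let f := IsScalarTower.toAlgHom R P S
  have surj : Function.Surjective f.kerSquareLift :=
    Ideal.Quotient.lift_surjective_of_surjective _ _ hf
  have sqz : RingHom.ker f.kerSquareLift.toRingHom ^ 2 = ⊥ := by
    rw [AlgHom.ker_kerSquareLift, Ideal.cotangentIdeal_square]
  dsimp only [AlgHom.toRingHom_eq_coe, RingHom.ker_coe_toRingHom] at sqz
  obtain ⟨g, hg⟩ := Algebra.FormallySmooth.comp_surjective R S _ sqz
    (Ideal.quotientKerAlgEquivOfSurjective surj).symm.toAlgHom
  refine ⟨g, AlgHom.ext fun x ↦ congr(f.kerSquareLift.kerLift ($hg x)).trans ?_⟩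
  obtain ⟨x, rfl⟩ := (Ideal.quotientKerAlgEquivOfSurjective surj).surjective x
  obtain ⟨x, rfl⟩ := Ideal.Quotient.mk_surjective x
  simp only [AlgHom.toRingHom_eq_coe, AlgEquiv.coe_toAlgHom, AlgEquiv.symm_apply_apply,
    AlgHom.coe_id, id_eq]
  simp only [Ideal.quotientKerAlgEquivOfSurjective_apply]


theorem exists_retraction_kerCotangentToTensor (R P S : Type u) [CommRing R] [CommRing P] [CommRing S]
    [Algebra R P] [Algebra R S] [Algebra P S] [IsScalarTower R P S]
    (hf : Function.Surjective (algebraMap P S))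
    (g : S →ₐ[R] (P ⧸ RingHom.ker (IsScalarTower.toAlgHom R P S) ^ 2))
    (hg : (IsScalarTower.toAlgHom R P S).kerSquareLift.comp g = AlgHom.id R S) :
    ∃ l : S ⊗[P] Ω[P⁄R] →ₗ[P] (RingHom.ker (algebraMap P S)).Cotangent,
      l ∘ₗ (KaehlerDifferential.kerCotangentToTensor R P S) = LinearMap.id := by
  obtain ⟨l, hl⟩ := (retractionKerCotangentToTensorEquivSection (R := R) hf).symm ⟨g, hg⟩
  exact ⟨l, hl⟩

/-- for `P → S` surjective with kernel `I` and `S` formally smooth over `R`, the map
`I/I² → S ⊗_P Ω_{P/R}` is injective. -/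
theorem injective_kerCotangentToTensor (R P S : Type u) [CommRing R] [CommRing P] [CommRing S]
    [Algebra R P] [Algebra R S] [Algebra P S] [IsScalarTower R P S]
    [Algebra.FormallySmooth R S] (hf : Function.Surjective (algebraMap P S)) :
    Function.Injective (KaehlerDifferential.kerCotangentToTensor R P S) := by
  obtain ⟨g, hg⟩ := exists_section_kerSquareLift R P S hf
  obtain ⟨l, hl⟩ := exists_retraction_kerCotangentToTensor R P S hf g hg
  exact Function.LeftInverse.injective (g := l) (fun x => congr($hl x))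

end Groth.Agent.Helper18.FormSm
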