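import Mathlib
import Groth.Agent.Lib.Helper18.RecBC
import Groth.Agent.Lib.Helper18.FormSm
import Groth.Agent.Lib.Helper13.LocFree3
import Groth.Agent.Lib.Helper18.FormSmAlg
import Groth.Agent.Lib.Helper18.NrmSeq

set_option autoImplicit false
set_option linter.style.haveILetI false
set_option linter.unusedSectionVars false
set_option maxRecDepth 8000
universe u
open CategoryTheory CategoryTheory.Limits AlgebraicGeometry TopologicalSpace Opposite TensorProduct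

namespace Groth.Agent.Helper18.FormSm

open OmegaSh Groth.Agent.Helper18.DerLib Groth.Agent.Helper18.OmegaSec
  Groth.Agent.Helper18.Rec Groth.Agent.Helper13.Pullback Groth.Agent.Helper18.RecCS
  Groth.Agent.Helper18.RecSq

/-- for `T` formally smooth over `S`, `T ⊗_S Ω_{S/R} → Ω_{T/R}` is injective. -/
theorem injective_mapBaseChange (R S T : Type u) [CommRing R] [CommRing S] [CommRing T]
    [Algebra R S] [Algebra R T] [Algebra S T] [IsScalarTower R S T]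
    [Algebra.FormallySmooth S T] :
    Function.Injective (KaehlerDifferential.mapBaseChange R S T) := by
  rw [injective_iff_map_eq_zero]
  intro x hx
  obtain ⟨y, rfl⟩ := (Algebra.H1Cotangent.exact_δ_mapBaseChange (R := R) (S := S) (T := T) x).1 hx
  rw [Subsingleton.elim y 0, map_zero]

section Inj

variable {X S X' S' : Scheme.{u}} {f : X ⟶ S} {f' : X' ⟶ S'} (h : X' ⟶ X)
  {Ω : X.Modules} (d : Der f Ω) (hd : IsUniversal d)
  {Ω' : X'.Modules} (d' : Der f' Ω') (hd' : IsUniversal d')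
  (c : (Scheme.Modules.pullback h).obj Ω ⟶ Ω') (hc : IsDiffCompat h d d' c)
  {W : S.Opens} {W' : S'.Opens} {U : X.Opens} {U' : X'.Opens}
  (hW : IsAffineOpen W) (hW' : IsAffineOpen W') (hU : IsAffineOpen U) (hU' : IsAffineOpen U')
  (eU : U ≤ f ⁻¹ᵁ W) (eU' : U' ≤ f' ⁻¹ᵁ W') (eh : U' ≤ h ⁻¹ᵁ U)

include hd hd' hc hW hW' hU hU' in
theorem injective_app_of_injective :
    letI := algUV f eU
    letI := algUV f' eU'
    letI : Algebra Γ(X, U) Γ(X', U') := (h.appLE U U' eh).hom.toAlgebra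
    ∀ (κ : Γ(X', U') ⊗[Γ(X, U)] Ω[Γ(X, U)⁄Γ(S, W)] →+ Ω[Γ(X', U')⁄Γ(S', W')])
      (_ : ∀ (b' : Γ(X', U')) (b : Γ(X, U)),
        κ (b' ⊗ₜ[Γ(X, U)] KaehlerDifferential.D Γ(S, W) Γ(X, U) b) =
          b' • KaehlerDifferential.D Γ(S', W') Γ(X', U') (h.appLE U U' eh b)),
      Function.Injective κ → Function.Injective (c.app U') := by
  letI := algUV f eU
  letI := algUV f' eU'
  letI : Algebra Γ(X, U) Γ(X', U') := (h.appLE U U' eh).hom.toAlgebra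
  haveI := isQuasicoherent_of_isUniversal d hd
  intro κ hκ hinj
  have key := chart_square h d hd d' hd' c hc hW hW' hU hU' eU eU' eh κ hκ
  let β := (TensorProduct.AlgebraTensorModule.congr (LinearEquiv.refl Γ(X', U') Γ(X', U'))
            (recSec d eU hd hU hW))
  let α := sectionsPullbackEquiv h Ω hU' hU eh
  intro m m' hmm
  have h1 : κ (β (α m)) = κ (β (α m')) := by
    rw [← key m, ← key m', hmm]
  exact α.injective (β.injective (hinj h1))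

end Inj


section S5016

variable {X Y S : Scheme.{u}} (g : Y ⟶ S) (f : X ⟶ Y) (hf : MoreMor.IsFormallySmoothHom f)
    (ΩY : Y.Modules) (dY : OmegaSh.Der g ΩY) (hY : OmegaSh.IsUniversal dY)
    (ΩX : X.Modules) (dX : OmegaSh.Der (f ≫ g) ΩX) (hX : OmegaSh.IsUniversal dX)
    (c : (Scheme.Modules.pullback f).obj ΩY ⟶ ΩX) (hc : OmegaSh.IsDiffCompat f dY dX c)

include hf hY hX hc in
theorem injective_c_app {W : S.Opens} {V : Y.Opens} {U : X.Opens} (hW : IsAffineOpen W)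
    (hV : IsAffineOpen V) (hU : IsAffineOpen U) (eV : V ≤ g ⁻¹ᵁ W) (eU : U ≤ f ⁻¹ᵁ V) :
    Function.Injective (c.app U) := by
  have eU' : U ≤ (f ≫ g) ⁻¹ᵁ W := fun x hx => eV (eU hx)
  letI algAB : Algebra Γ(S, W) Γ(Y, V) := algUV g eV
  letI algAC : Algebra Γ(S, W) Γ(X, U) := algUV (f ≫ g) eU'
  letI algBC : Algebra Γ(Y, V) Γ(X, U) := (f.appLE V U eU).hom.toAlgebra
  haveI : IsScalarTower Γ(S, W) Γ(Y, V) Γ(X, U) := IsScalarTower.of_algebraMap_eq (fun a => by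
    change (f ≫ g).appLE W U eU' a = f.appLE V U eU (g.appLE W V eV a)
    have := Scheme.Hom.appLE_comp_appLE f g W V U eV eU
    exact (congr($this a)).symm)
  haveI : Algebra.FormallySmooth Γ(Y, V) Γ(X, U) := formallySmooth_appLE_of_hom f hf hU hV eU
  refine injective_app_of_injective f dY hY dX hX c hc hW hW hV hU eV eU' eU
    (KaehlerDifferential.mapBaseChange Γ(S, W) Γ(Y, V) Γ(X, U)).toAddMonoidHom ?_
    (injective_mapBaseChange Γ(S, W) Γ(Y, V) Γ(X, U))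
  intro b' b
  change KaehlerDifferential.mapBaseChange Γ(S, W) Γ(Y, V) Γ(X, U) (b' ⊗ₜ _) = _
  rw [KaehlerDifferential.mapBaseChange_tmul, KaehlerDifferential.map_D]
  rfl

include hf hY hX hc in
theorem mono_c : Mono c := by
  haveI := isQuasicoherent_of_isUniversal dY hY
  haveI := isQuasicoherent_of_isUniversal dX hX
  haveI : ((Scheme.Modules.pullback f).obj ΩY).IsQuasicoherent := isQuasicoherent_pullback f ΩY
  apply Groth.Agent.Helper18.QCBasic.mono_of_cover c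
    {U | ∃ (W : S.Opens) (V : Y.Opens), IsAffineOpen W ∧ IsAffineOpen V ∧ IsAffineOpen U ∧
      V ≤ g ⁻¹ᵁ W ∧ U ≤ f ⁻¹ᵁ V}
  · rintro U ⟨W, V, -, -, hU, -, -⟩
    exact hU
  · intro x
    obtain ⟨W, hW, hxW⟩ : ∃ W : S.Opens, IsAffineOpen W ∧ g (f x) ∈ W := by
      obtain ⟨_, ⟨W, hW, rfl⟩, hxW, -⟩ :=
        S.isBasis_affineOpens.exists_subset_of_mem_open (Set.mem_univ (g (f x))) isOpen_univ
      exact ⟨W, hW, hxW⟩
    obtain ⟨V, hV, hxV, hVle⟩ : ∃ V : Y.Opens, IsAffineOpen V ∧ f x ∈ V ∧ V ≤ g ⁻¹ᵁ W := by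
      obtain ⟨_, ⟨V, hV, rfl⟩, hxV, hVle⟩ :=
        Y.isBasis_affineOpens.exists_subset_of_mem_open (show f x ∈ g ⁻¹ᵁ W from hxW)
          (g ⁻¹ᵁ W).2
      exact ⟨V, hV, hxV, hVle⟩
    obtain ⟨U, hU, hxU, hUle⟩ : ∃ U : X.Opens, IsAffineOpen U ∧ x ∈ U ∧ U ≤ f ⁻¹ᵁ V := by
      obtain ⟨_, ⟨U, hU, rfl⟩, hxU, hUle⟩ :=
        X.isBasis_affineOpens.exists_subset_of_mem_open (show x ∈ f ⁻¹ᵁ V from hxV)
          (f ⁻¹ᵁ V).2
      exact ⟨U, hU, hxU, hUle⟩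
    exact ⟨U, ⟨W, V, hW, hV, hU, hVle, hUle⟩, hxU⟩
  · rintro U ⟨W, V, hW, hV, hU, eV, eU⟩
    exact injective_c_app g f hf ΩY dY hY ΩX dX hX c hc hW hV hU eV eU

end S5016


section S5018

variable {X Y : Scheme.{u}} (f : X ⟶ Y) (hf : MoreMor.IsFormallySmoothHom f)
    [LocallyOfFiniteType f] (Ω' : X.Modules) (d : OmegaSh.Der f Ω') (hd : OmegaSh.IsUniversal d)

include hf hd in
theorem isFinLocFree_of_formallySmooth : FlatMod.IsFinLocFree Ω' := by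
  haveI := isQuasicoherent_of_isUniversal d hd
  apply Groth.Agent.Helper13.LocFree.isFinLocFree_of_projective_sections Ω'
  intro x
  obtain ⟨V, hV, hxV⟩ : ∃ V : Y.Opens, IsAffineOpen V ∧ f x ∈ V := by
    obtain ⟨_, ⟨V, hV, rfl⟩, hxV, -⟩ :=
      Y.isBasis_affineOpens.exists_subset_of_mem_open (Set.mem_univ (f x)) isOpen_univ
    exact ⟨V, hV, hxV⟩
  obtain ⟨U, hU, hxU, e⟩ : ∃ U : X.Opens, IsAffineOpen U ∧ x ∈ U ∧ U ≤ f ⁻¹ᵁ V := by
    obtain ⟨_, ⟨U, hU, rfl⟩, hxU, hUle⟩ :=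
      X.isBasis_affineOpens.exists_subset_of_mem_open (show x ∈ f ⁻¹ᵁ V from hxV)
        (f ⁻¹ᵁ V).2
    exact ⟨U, hU, hxU, hUle⟩
  letI := algUV f e
  haveI : Algebra.FormallySmooth Γ(Y, V) Γ(X, U) := formallySmooth_appLE_of_hom f hf hU hV e
  haveI : Algebra.FiniteType Γ(Y, V) Γ(X, U) := Scheme.Hom.finiteType_appLE f hV hU e
  let ρ := recSec d e hd hU hV
  exact ⟨U, hU, hxU, Module.Finite.equiv ρ.symm, Module.Projective.of_equiv ρ.symm⟩

end S5018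


section S5020

open Groth.Agent.Helper18.ConormalImm Groth.Agent.Helper18.CnSeq Groth.Agent.Helper18.NrmSeq

variable {X' X Y : Scheme.{u}} (j : X' ⟶ X) [IsImmersion j] [QuasiCompact j] (f : X ⟶ Y)
    (hf : MoreMor.IsFormallySmoothHom (j ≫ f))
    (Ω' : X.Modules) (d : OmegaSh.Der f Ω') (hd : OmegaSh.IsUniversal d)
    (φ : Omega.conormal j ⟶ (Scheme.Modules.pullback j).obj Ω') (hφ : OmegaSh.IsConormalDiff j d φ)

include hf hd hφ in
theorem injective_phi_app {V : X.Opens} {W : Y.Opens} (hV : IsAffineOpen V)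
    (hle : V ≤ j.coborderRange) (hW : IsAffineOpen W) (e : V ≤ f ⁻¹ᵁ W) :
    Function.Injective (φ.app (j ⁻¹ᵁ V)) := by
  have hT : IsAffineOpen (j ⁻¹ᵁ V) := isAffineOpen_preimage j hV hle
  have eT : j ⁻¹ᵁ V ≤ (j ≫ f) ⁻¹ᵁ W := fun x hx => e hx
  letI algAB : Algebra Γ(Y, W) Γ(X, V) := algUV f e
  letI algBC : Algebra Γ(X, V) Γ(X', j ⁻¹ᵁ V) := (j.appLE V (j ⁻¹ᵁ V) le_rfl).hom.toAlgebra
  letI algAC : Algebra Γ(Y, W) Γ(X', j ⁻¹ᵁ V) := algUV (j ≫ f) eT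
  haveI : IsScalarTower Γ(Y, W) Γ(X, V) Γ(X', j ⁻¹ᵁ V) := IsScalarTower.of_algebraMap_eq (fun a => by
    change (j ≫ f).appLE W (j ⁻¹ᵁ V) eT a = j.appLE V (j ⁻¹ᵁ V) le_rfl (f.appLE W V e a)
    have := Scheme.Hom.appLE_comp_appLE j f W V (j ⁻¹ᵁ V) e le_rfl
    exact (congr($this a)).symm)
  haveI : Algebra.FormallySmooth Γ(Y, W) Γ(X', j ⁻¹ᵁ V) :=
    formallySmooth_appLE_of_hom (j ≫ f) hf hT hW eT
  have halg : ∀ b : Γ(X, V), algebraMap Γ(X, V) Γ(X', j ⁻¹ᵁ V) b = j.app V b := fun b => by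
    change j.appLE V (j ⁻¹ᵁ V) le_rfl b = _
    rw [Scheme.Hom.appLE_eq_app]
  have hsurj : Function.Surjective (algebraMap Γ(X, V) Γ(X', j ⁻¹ᵁ V)) := by
    intro c
    obtain ⟨b, hb⟩ := app_surjective j hV hle c
    exact ⟨b, (halg b).trans hb⟩
  have hker : RingHom.ker (algebraMap Γ(X, V) Γ(X', j ⁻¹ᵁ V)) = RingHom.ker (j.app V).hom := by
    ext b
    rw [RingHom.mem_ker, RingHom.mem_ker, halg]
  haveI qcΩ : Ω'.IsQuasicoherent := isQuasicoherent_of_isUniversal d hd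
  rw [← AddMonoidHom.coe_coe, injective_iff_map_eq_zero]
  intro m hm
  obtain ⟨s, rfl⟩ := exists_conormalSect_eq j hV hle m
  set x := idealSect j.ker V s with hx_def
  have hxmem : x ∈ RingHom.ker (algebraMap Γ(X, V) Γ(X', j ⁻¹ᵁ V)) := by
    rw [hker]
    exact Groth.Agent.Helper18.RecCS.app_idealSect j V s
  have hφm : pullSect j Ω' V (Der.app d V x) = 0 := by
    rw [← hφ V s]
    exact hm
  let α := sectionsPullbackEquiv j Ω' hT hV le_rfl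
  let ρ := recSec d e hd hV hW
  let β : Γ(X', j ⁻¹ᵁ V) ⊗[Γ(X, V)] Γ(Ω', V) ≃ₗ[Γ(X', j ⁻¹ᵁ V)]
      Γ(X', j ⁻¹ᵁ V) ⊗[Γ(X, V)] Ω[Γ(X, V)⁄Γ(Y, W)] :=
    TensorProduct.AlgebraTensorModule.congr (LinearEquiv.refl _ _) ρ
  have hαβ : β (α (pullSect j Ω' V (Der.app d V x))) =
      (1 : Γ(X', j ⁻¹ᵁ V)) ⊗ₜ[Γ(X, V)] KaehlerDifferential.D Γ(Y, W) Γ(X, V) x := by
    have h1 : α (pullSect j Ω' V (Der.app d V x)) =
        (1 : Γ(X', j ⁻¹ᵁ V)) ⊗ₜ[Γ(X, V)] (Der.app d V x) := by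
      rw [← pullRes_refl j Ω' (Der.app d V x)]
      exact sectionsPullbackEquiv_pullRes j Ω' hT hV le_rfl _
    rw [h1]
    change (1 : Γ(X', j ⁻¹ᵁ V)) ⊗ₜ[Γ(X, V)] ρ (Der.app d V x) = _
    rw [recSec_d]
  have h1D : (1 : Γ(X', j ⁻¹ᵁ V)) ⊗ₜ[Γ(X, V)] KaehlerDifferential.D Γ(Y, W) Γ(X, V) x = 0 := by
    rw [← hαβ, hφm, map_zero, map_zero]
  have hcot : (RingHom.ker (algebraMap Γ(X, V) Γ(X', j ⁻¹ᵁ V))).toCotangent ⟨x, hxmem⟩ = 0 := by
    apply injective_kerCotangentToTensor Γ(Y, W) Γ(X, V) Γ(X', j ⁻¹ᵁ V) hsurj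
    rw [KaehlerDifferential.kerCotangentToTensor_toCotangent, map_zero]
    exact h1D
  rw [Ideal.toCotangent_eq_zero] at hcot
  apply conormalSect_eq_zero_of_sq j hV s
  rw [← hker]
  exact hcot

include hf hd hφ in
theorem mono_phi : Mono φ := by
  apply Groth.Agent.Helper18.BasisCrit.mono_of_basis φ
    (Groth.Agent.Helper18.RecCS.isBasis_chartSet f j)
  rintro T ⟨V, W, hV, hle, hW, e, rfl⟩
  exact injective_phi_app j f hf Ω' d hd φ hφ hV hle hW e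

end S5020

end Groth.Agent.Helper18.FormSm
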