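import Mathlib
import Groth.Prelude
import Groth.Agent.Lib.Helper18.FpqcTorsor

set_option autoImplicit false
universe u
open CategoryTheory MonoidalCategory CartesianMonoidalCategory MonObj GrpObj AlgebraicGeometry Limits
open MorphismProperty

namespace Groth.Agent.Helper18.FppfTorsor

open Groth.Agent.Helper18.FpqcTorsor

variable {S : Scheme.{u}}

set_option backward.isDefEq.respectTransparency.types false in
theorem descends_fppf (P : MorphismProperty Scheme.{u})
    [P.DescendsAlong (@Surjective ⊓ @Flat ⊓ @QuasiCompact)] [IsZariskiLocalAtTarget P]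
    {X Y Z A : Scheme.{u}} {f : X ⟶ Y} {q : Z ⟶ Y} [Surjective q] [Flat q]
    [LocallyOfFinitePresentation q] {a : A ⟶ Z} {b : A ⟶ X}
    (sq : IsPullback a b q f) (hP : P a) : P f :=
  MorphismProperty.of_isPullback_of_descendsAlong
    (Q := @Surjective ⊓ @Flat ⊓ @LocallyOfFinitePresentation) sq
    ⟨⟨inferInstance, inferInstance⟩, inferInstance⟩ hP

set_option backward.isDefEq.respectTransparency.types false in
theorem flat_of_section (G X : Over S) [GrpObj G] (a : AlgGrp.Action G X)
    (hps : IsIso (lift a.act (snd G X))) [Flat G.hom]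
    (S' : Over S) [Surjective S'.hom] [Flat S'.hom] [LocallyOfFinitePresentation S'.hom]
    (s : S' ⟶ X) : Flat X.hom :=
  descends_fppf @Flat (IsPullback.of_hasPullback X.hom S'.hom).flip
    (prop_pullback_of_section @Flat G X a hps inferInstance S'.hom s.left (Over.w s))

set_option backward.isDefEq.respectTransparency.types false in
theorem lofp_of_section (G X : Over S) [GrpObj G] (a : AlgGrp.Action G X)
    (hps : IsIso (lift a.act (snd G X))) [LocallyOfFinitePresentation G.hom]
    (S' : Over S) [Surjective S'.hom] [Flat S'.hom] [LocallyOfFinitePresentation S'.hom]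
    (s : S' ⟶ X) : LocallyOfFinitePresentation X.hom :=
  descends_fppf @LocallyOfFinitePresentation (IsPullback.of_hasPullback X.hom S'.hom).flip
    (prop_pullback_of_section @LocallyOfFinitePresentation G X a hps inferInstance S'.hom s.left
      (Over.w s))

theorem surjective_of_section (X : Over S)
    (S' : Over S) [Surjective S'.hom] (s : S' ⟶ X) : Surjective X.hom := by
  haveI : Surjective (s.left ≫ X.hom) := by rw [CategoryTheory.Over.w]; infer_instance
  exact Surjective.of_comp s.left X.hom

theorem main5234 {S : Scheme.{u}} {G X : Over S} [GrpObj G]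
    (a : AlgGrp.Action G X)
    [Flat G.hom] [Surjective G.hom] [LocallyOfFinitePresentation G.hom]
    (hX : IsIso (lift a.act (snd G X))) :
    RedSub.IsTorsor a ↔
      ∃ S' : Over S, Surjective S'.hom ∧ Flat S'.hom ∧ LocallyOfFinitePresentation S'.hom ∧
        Nonempty (S' ⟶ X) := by
  constructor
  · rintro ⟨h1, h2, h3, -⟩
    exact ⟨X, h1, h2, h3, ⟨𝟙 X⟩⟩
  · rintro ⟨S', h1, h2, h3, ⟨s⟩⟩
    haveI := h1
    haveI := h2
    haveI := h3
    exact ⟨surjective_of_section X S' s, flat_of_section G X a hX S' s,
      lofp_of_section G X a hX S' s, hX⟩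

end Groth.Agent.Helper18.FppfTorsor
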