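import Mathlib
import Groth.Prelude
import Groth.Agent.Lib.Helper18.FpqcDesc
import Groth.Agent.Lib.Helper18.FpqcCov

set_option autoImplicit false
universe u
open CategoryTheory AlgebraicGeometry Limits

namespace Groth.Agent.Helper18.FpqcDesc

/-- single fpqc coverings in Mathlib's sense -/
def IsCov {Z Y : Scheme.{u}} (q : Z ⟶ Y) : Prop :=
  Presieve.singleton q ∈ Scheme.fpqcPrecoverage Y

theorem GenFpqc.isCov {Z Y : Scheme.{u}} {q : Z ⟶ Y} (h : GenFpqc q) : IsCov q := by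
  obtain ⟨hs, hf, hqc⟩ := h
  haveI := hs
  haveI := hf
  exact Groth.Agent.Helper18.FpqcCov.singleton_mem_fpqcPrecoverage q hqc

set_option backward.isDefEq.respectTransparency.types false in
theorem IsCov.genFpqc {Z Y : Scheme.{u}} {q : Z ⟶ Y} (h : IsCov q) : GenFpqc q := by
  obtain ⟨h1, h2⟩ := h
  rw [Scheme.singleton_mem_precoverage_iff] at h2
  obtain ⟨hs, hf⟩ := h2
  refine ⟨⟨hs⟩, hf, ?_⟩
  rw [← PreZeroHypercover.presieve₀_singleton.{_, _, 0}, Scheme.presieve₀_mem_qcPrecoverage_iff]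
    at h1
  intro V hV
  obtain ⟨s, -, W, hWc, hWV⟩ := hV.isCompactOpenCovered (PreZeroHypercover.singleton q)
  by_cases hmem : PUnit.unit ∈ s
  · refine ⟨W PUnit.unit hmem, hWc _ hmem, ?_⟩
    rw [← hWV]
    ext y
    simp only [Set.mem_iUnion]
    constructor
    · intro hy
      exact ⟨PUnit.unit, hmem, hy⟩
    · rintro ⟨i, hi, hy⟩
      exact hy
  · refine ⟨⊥, by simp, ?_⟩
    rw [← hWV]
    ext y
    simp only [Set.mem_iUnion]
    constructor
    · rintro ⟨z, hz, -⟩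
      exact absurd hz (by simp)
    · rintro ⟨i, hi, hy⟩
      exact absurd hi hmem

theorem IsCov.of_isPullback {X Y X' Y' : Scheme.{u}} {f : X ⟶ Y} {g : Y' ⟶ Y} {f' : X' ⟶ Y'}
    {g' : X' ⟶ X} (sq : IsPullback f' g' g f) (hf : IsCov f) : IsCov f' := by
  unfold IsCov at *
  rw [← Presieve.ofArrows_pUnit.{0}] at hf ⊢
  exact Precoverage.mem_coverings_of_isPullback _ hf g (fun _ => f') (fun _ => g') (fun _ => sq)

theorem IsCov.comp {X Y W : Scheme.{u}} {f : X ⟶ Y} {g : Y ⟶ W} (hf : IsCov f)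
    (hg : IsCov g) : IsCov (f ≫ g) := by
  unfold IsCov at *
  rw [← Presieve.ofArrows_pUnit.{0}] at hf hg
  have key := Precoverage.comp_mem_coverings (J := Scheme.fpqcPrecoverage) (fun _ : PUnit.{1} => g) hg
    (σ := fun _ => PUnit.{1}) (fun _ _ => f) (fun _ => hf)
  haveI : Unique ((_ : PUnit.{1}) × PUnit.{1}) :=
    ⟨⟨⟨PUnit.unit, PUnit.unit⟩⟩, fun ⟨_, _⟩ => rfl⟩
  rw [Presieve.ofArrows_of_unique] at key
  exact key

end Groth.Agent.Helper18.FpqcDesc
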