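import Mathlib
import Groth.Prelude
import Groth.Agent.Lib.Helper18.FpqcDesc
import Groth.Agent.Lib.Helper18.FpqcCov
import Groth.Agent.Lib.Helper18.GrpFppf2
import Groth.Agent.Lib.Helper15.AlgSpDescent

set_option autoImplicit false
universe u
open CategoryTheory MonoidalCategory CartesianMonoidalCategory MonObj GrpObj AlgebraicGeometry Limits
open Groth.Agent.Helper28.AlgGrpShear

namespace Groth.Agent.Helper18.FpqcQuot

open Groth.Agent.Helper18.FpqcDesc

variable {S : Scheme.{u}}

/-- base change square along the unit section -/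
theorem isPullback_unit (G X : Over S) [GrpObj G] :
    IsPullback (lift (toUnit X ≫ η[G]) (𝟙 X)) (toUnit X) (fst G X) η[G] := by
  refine ⟨⟨by simp⟩, ⟨PullbackCone.IsLimit.mk _ (fun s => s.fst ≫ snd G X) ?_ ?_ ?_⟩⟩
  · intro s
    apply CartesianMonoidalCategory.hom_ext
    · simp only [Category.assoc, lift_fst]
      rw [s.condition, ← Category.assoc, ← Category.assoc,
        toUnit_unique ((s.fst ≫ snd G X) ≫ toUnit X) s.snd]
    · simp
  · intro s
    exact toUnit_unique (C := Over S) _ _
  · intro s m h1 _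
    rw [← h1]
    simp

section
variable {G G' G'' : Over S} [GrpObj G] (u : G' ⟶ G) (p : G ⟶ G'')

theorem prop_fst_of_prop_p (P : MorphismProperty Scheme.{u}) [P.IsStableUnderBaseChange]
    (hsq : IsPullback ((G ◁ u) ≫ μ[G]) (fst G G') p p) (hp : P p.left) : P (fst G G').left :=
  MorphismProperty.of_isPullback (P := P) (Groth.Agent.Helper18.GrpFppf.isPullback_left hsq) hp

omit [GrpObj G] in
theorem prop_fst_of_prop_hom (P : MorphismProperty Scheme.{u}) [P.IsStableUnderBaseChange]
    (h : P G'.hom) : P (fst G G').left := by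
  show P (pullback.fst G.hom G'.hom)
  exact P.pullback_fst _ _ h

theorem prop_hom_of_prop_fst (P : MorphismProperty Scheme.{u}) [P.IsStableUnderBaseChange]
    (h : P (fst G G').left) : P G'.hom := by
  have sq := Groth.Agent.Helper18.GrpFppf.isPullback_left (isPullback_unit G G')
  have := MorphismProperty.of_isPullback (P := P) sq h
  exact this

theorem prop_p_of_prop_fst (P : MorphismProperty Scheme.{u}) [P.IsStableUnderBaseChange]
    [P.DescendsAlong (@Surjective ⊓ @Flat ⊓ @QuasiCompact)] [IsZariskiLocalAtTarget P]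
    {Z : Scheme.{u}} (q : Z ⟶ G''.left) (r : Z ⟶ G.left) (hrq : r ≫ p.left = q) (hq : GenFpqc q)
    (hsq : IsPullback ((G ◁ u) ≫ μ[G]) (fst G G') p p) (h : P (fst G G').left) : P p.left := by
  have sq1 := Groth.Agent.Helper18.GrpFppf.isPullback_left hsq
  -- IsPullback ((G ◁ u) ≫ μ).left (fst G G').left p.left p.left
  have sq2 := IsPullback.of_hasPullback r (fst G G').left
  -- paste: pullback r fst → G ⊗ G' → G over Z → G → G''
  have big : IsPullback (pullback.fst r (fst G G').left)
      (pullback.snd r (fst G G').left ≫ ((G ◁ u) ≫ μ[G]).left) (r ≫ p.left) p.left :=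
    sq2.paste_vert sq1.flip
  rw [hrq] at big
  exact descends P hq big (P.pullback_fst _ _ h)

end

theorem surjective_of_factor {Z X Y : Scheme.{u}} (q : Z ⟶ Y) (r : Z ⟶ X) (p : X ⟶ Y)
    (h : r ≫ p = q) [Surjective q] : Surjective p := by
  constructor
  intro y
  obtain ⟨z, rfl⟩ := q.surjective y
  exact ⟨r z, by rw [← h]; rfl⟩

/-- reducedness passes to the target of a morphism through which a flat surjective morphism
factors -/
theorem isReduced_of_factor {Z X Y : Scheme.{u}} (q : Z ⟶ Y) (r : Z ⟶ X) (p : X ⟶ Y)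
    (h : r ≫ p = q) [Surjective q] [Flat q] [IsReduced X] : IsReduced Y := by
  subst h
  refine @isReduced_of_isReduced_stalk Y (fun y => ?_)
  obtain ⟨z, rfl⟩ := (r ≫ p).surjective y
  have hflat := Flat.stalkMap (r ≫ p) z
  have e := Scheme.Hom.stalkMap_comp r p z
  have hinj : Function.Injective ((r ≫ p).stalkMap z).hom := by
    algebraize [((r ≫ p).stalkMap z).hom]
    have : IsLocalHom (algebraMap (Y.presheaf.stalk ((r ≫ p) z)) (Z.presheaf.stalk z)) :=
      inferInstanceAs (IsLocalHom ((r ≫ p).stalkMap z).hom)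
    have : Module.FaithfullyFlat (Y.presheaf.stalk ((r ≫ p) z)) (Z.presheaf.stalk z) :=
      Module.FaithfullyFlat.of_flat_of_isLocalHom
    exact FaithfulSMul.algebraMap_injective _ _
  have hinj' : Function.Injective (p.stalkMap (r z)).hom := by
    have key : ∀ a, ((r ≫ p).stalkMap z).hom a =
        (r.stalkMap z).hom ((p.stalkMap (r z)).hom a) := by
      intro a
      rw [e]
      rfl
    intro a b hab
    apply hinj
    exact (key a).trans ((congrArg _ hab).trans (key b).symm)
  exact isReduced_of_injective (p.stalkMap (r z)).hom hinj'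

set_option backward.isDefEq.respectTransparency.types false in
theorem main5370 (S : Scheme.{u}) (G G' G'' : Over S) [GrpObj G]
    (u : G' ⟶ G) (p : G ⟶ G'')
    (hcov : (∃ (Z : Scheme.{u}) (q : Z ⟶ G''.left) (r : Z ⟶ G.left), r ≫ p.left = q ∧
      Surjective q ∧ Flat q ∧
        ∀ V : G''.left.Opens, IsAffineOpen V →
          ∃ W : Z.Opens, IsCompact (W : Set Z) ∧ q.base '' (W : Set Z) = (V : Set G''.left)))
    (hsq : IsPullback ((G ◁ u) ≫ μ[G]) (fst G G') p p) :
    (IsReduced G.left → IsReduced G''.left) ∧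
    (Flat G'.hom ↔ Flat p.left) ∧ (Flat p.left → (Flat G''.hom ↔ Flat G.hom)) := by
  obtain ⟨Z, q, r, hrq, hs, hf, hqc⟩ := hcov
  have hq : GenFpqc q := ⟨hs, hf, hqc⟩
  haveI := hs
  haveI := hf
  haveI : Surjective p.left := surjective_of_factor q r p.left hrq
  refine ⟨fun hG => ?_, ⟨fun h => ?_, fun h => ?_⟩, fun hp => ⟨fun h => ?_, fun h => ?_⟩⟩
  · haveI := hG
    exact isReduced_of_factor q r p.left hrq
  · exact prop_p_of_prop_fst u p @Flat q r hrq hq hsq (prop_fst_of_prop_hom @Flat h)
  · exact prop_hom_of_prop_fst @Flat (prop_fst_of_prop_p u p @Flat hsq h)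
  · haveI := hp
    haveI := h
    rw [← Over.w p]
    infer_instance
  · haveI := hp
    haveI : Flat (p.left ≫ G''.hom) := by rw [Over.w p]; exact h
    exact Groth.Agent.Helper18.GrpFppf.flat_of_comp_of_surjective p.left G''.hom

end Groth.Agent.Helper18.FpqcQuot
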