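import Mathlib
import Groth.Prelude
import Groth.Agent.Lib.Helper18.FpqcQuot
import Groth.Agent.Lib.Helper18.FpqcCov2

set_option autoImplicit false
universe u
open CategoryTheory MonoidalCategory CartesianMonoidalCategory MonObj GrpObj AlgebraicGeometry Limits
open Groth.Agent.Helper28.AlgGrpShear

namespace Groth.Agent.Helper18.FpqcQuot

open Groth.Agent.Helper18.FpqcDesc

variable {S : Scheme.{u}}

/-- descent along a morphism through which a generalized fpqc covering factors -/
theorem descends_of_factor (P : MorphismProperty Scheme.{u}) [P.IsStableUnderBaseChange]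
    [P.DescendsAlong (@Surjective ⊓ @Flat ⊓ @QuasiCompact)] [IsZariskiLocalAtTarget P]
    {X Y Z : Scheme.{u}} (q : Z ⟶ Y) (r : Z ⟶ X) (p : X ⟶ Y) (hrq : r ≫ p = q) (hq : GenFpqc q)
    {A B : Scheme.{u}} {f : B ⟶ Y} {a : A ⟶ X} {b : A ⟶ B} (sq : IsPullback a b p f)
    (ha : P a) : P f := by
  have sq2 := IsPullback.of_hasPullback r a
  have big : IsPullback (pullback.fst r a) (pullback.snd r a ≫ b) (r ≫ p) f := sq2.paste_vert sq
  rw [hrq] at big
  exact descends P hq big (P.pullback_fst _ _ ha)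

end Groth.Agent.Helper18.FpqcQuot

namespace Groth.Agent.Helper18.FpqcDesc

variable {S : Scheme.{u}}

theorem IsCov.whiskerRight {A B : Over S} {i : A ⟶ B} (hi : IsCov i.left) (Z : Over S) :
    IsCov (i ▷ Z).left :=
  IsCov.of_isPullback
    (Groth.Agent.Helper18.GrpFppf.isPullback_left (isPullback_fst i Z)).flip hi

theorem IsCov.whiskerLeft {A B : Over S} {i : A ⟶ B} (hi : IsCov i.left) (Z : Over S) :
    IsCov (Z ◁ i).left :=
  IsCov.of_isPullback
    (Groth.Agent.Helper18.GrpFppf.isPullback_left (isPullback_snd Z i)).flip hi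

theorem IsCov.tensorHom {A B A' B' : Over S} {i : A ⟶ B} {j : A' ⟶ B'}
    (hi : IsCov i.left) (hj : IsCov j.left) : IsCov (i ⊗ₘ j).left := by
  rw [MonoidalCategory.tensorHom_def, Over.comp_left]
  exact (hi.whiskerRight A').comp (hj.whiskerLeft B)

end Groth.Agent.Helper18.FpqcDesc

namespace Groth.Agent.Helper18.FpqcQuot

open Groth.Agent.Helper18.FpqcDesc

variable {S : Scheme.{u}}

section
variable {G G' G'' : Over S} [GrpObj G] (u : G' ⟶ G) (p : G ⟶ G'')

/-- the kernel square of the quotient map -/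
theorem isPullback_unit_quot [Mono u] (hsq : IsPullback ((G ◁ u) ≫ μ[G]) (fst G G') p p) :
    IsPullback u (toUnit G') p (η[G] ≫ p) := by
  have hw : u ≫ p = toUnit G' ≫ η[G] ≫ p := by
    have := Groth.Agent.Helper18.QuotGrp.mul_comp_eq u p hsq.flip (1 : G' ⟶ G) (𝟙 G')
    rw [Category.id_comp, _root_.one_mul] at this
    rw [this, Hom.one_def, Category.assoc]
  have key : ∀ s : PullbackCone p (η[G] ≫ p), ∃ h : s.pt ⟶ G', h ≫ u = s.fst := by
    intro s
    have h1 : (1 : s.pt ⟶ G) ≫ p = s.fst ≫ p := by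
      rw [s.condition, Hom.one_def, Category.assoc, toUnit_unique s.snd (toUnit _)]
    obtain ⟨h, hh⟩ := Groth.Agent.Helper18.QuotGrp.exists_of_comp_eq u p hsq.flip _ _ h1
    exact ⟨h, by rw [hh, _root_.one_mul]⟩
  refine ⟨⟨hw⟩, ⟨PullbackCone.IsLimit.mk _ (fun s => (key s).choose)
    (fun s => (key s).choose_spec) (fun s => toUnit_unique _ _) (fun s m h1 _ => ?_)⟩⟩
  rw [← cancel_mono u, h1]
  exact (key s).choose_spec.symm

/-- the diagonal of the quotient pulls back to the graph of the equivalence relation -/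
theorem isPullback_diag_quot (hsq : IsPullback ((G ◁ u) ≫ μ[G]) (fst G G') p p) :
    IsPullback (lift ((G ◁ u) ≫ μ[G]) (fst G G')) (fst G G' ≫ p) (p ⊗ₘ p)
      (lift (𝟙 G'') (𝟙 G'')) := by
  have hw : lift ((G ◁ u) ≫ μ[G]) (fst G G') ≫ (p ⊗ₘ p) =
      (fst G G' ≫ p) ≫ lift (𝟙 G'') (𝟙 G'') := by
    apply CartesianMonoidalCategory.hom_ext
    · simp only [Category.assoc, tensorHom_fst, lift_fst_assoc, lift_fst, Category.comp_id]
      exact hsq.w
    · simp
  have key : ∀ s : PullbackCone (p ⊗ₘ p) (lift (𝟙 G'') (𝟙 G'')),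
      ∃ l : s.pt ⟶ G ⊗ G', l ≫ lift ((G ◁ u) ≫ μ[G]) (fst G G') = s.fst ∧
        l ≫ fst G G' ≫ p = s.snd := by
    intro s
    have h1 : (s.fst ≫ fst G G) ≫ p = s.snd := by
      have := congrArg (· ≫ fst G'' G'') s.condition
      simpa using this
    have h2 : (s.fst ≫ snd G G) ≫ p = s.snd := by
      have := congrArg (· ≫ snd G'' G'') s.condition
      simpa using this
    obtain ⟨l, hl1, hl2⟩ : ∃ l : s.pt ⟶ G ⊗ G', l ≫ (G ◁ u) ≫ μ[G] = s.fst ≫ fst G G ∧
        l ≫ fst G G' = s.fst ≫ snd G G :=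
      ⟨hsq.lift _ _ (h1.trans h2.symm), hsq.lift_fst _ _ _, hsq.lift_snd _ _ _⟩
    refine ⟨l, ?_, ?_⟩
    · apply CartesianMonoidalCategory.hom_ext
      · simp [hl1]
      · simp [hl2]
    · rw [← Category.assoc, hl2, h2]
  refine ⟨⟨hw⟩, ⟨PullbackCone.IsLimit.mk _ (fun s => (key s).choose)
    (fun s => (key s).choose_spec.1) (fun s => (key s).choose_spec.2) (fun s m h1 _ => ?_)⟩⟩
  apply hsq.hom_ext
  · have e1 := congrArg (· ≫ fst G G) h1
    have e2 := congrArg (· ≫ fst G G) (key s).choose_spec.1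
    simp only [Category.assoc, lift_fst] at e1 e2
    rw [e1, e2]
  · have e1 := congrArg (· ≫ snd G G) h1
    have e2 := congrArg (· ≫ snd G G) (key s).choose_spec.1
    simp only [Category.assoc, lift_snd] at e1 e2
    rw [e1, e2]

/-- the graph of the equivalence relation is a base change of `u` -/
theorem isPullback_graph :
    IsPullback (lift ((G ◁ u) ≫ μ[G]) (fst G G')) (snd G G') ((snd G G)⁻¹ * (fst G G)) u := by
  have hmul : (G ◁ u) ≫ μ[G] = fst G G' * (snd G G' ≫ u) := by
    have : (G ◁ u) = lift (fst G G') (snd G G' ≫ u) := by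
      apply CartesianMonoidalCategory.hom_ext <;> simp
    rw [this]
    rfl
  have hw : lift ((G ◁ u) ≫ μ[G]) (fst G G') ≫ ((snd G G)⁻¹ * (fst G G)) = snd G G' ≫ u := by
    rw [MonObj.comp_mul, GrpObj.comp_inv, lift_fst, lift_snd, hmul]
    group
  have key : ∀ s : PullbackCone ((snd G G)⁻¹ * (fst G G)) u,
      lift (s.fst ≫ snd G G) s.snd ≫ lift ((G ◁ u) ≫ μ[G]) (fst G G') = s.fst := by
    intro s
    have hc := s.condition
    rw [MonObj.comp_mul, GrpObj.comp_inv] at hc
    apply CartesianMonoidalCategory.hom_ext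
    · rw [Category.assoc, lift_fst, hmul, MonObj.comp_mul, lift_fst, ← Category.assoc, lift_snd,
        ← hc]
      group
    · rw [Category.assoc, lift_snd, lift_fst]
  refine ⟨⟨hw⟩, ⟨PullbackCone.IsLimit.mk _ (fun s => lift (s.fst ≫ snd G G) s.snd)
    key (fun s => lift_snd _ _) (fun s m h1 h2 => ?_)⟩⟩
  apply CartesianMonoidalCategory.hom_ext
  · rw [lift_fst, ← h1, Category.assoc, lift_snd]
  · rw [lift_snd, h2]

end

set_option backward.isDefEq.respectTransparency.types false in
theorem main5369 (S : Scheme.{u}) (G G' G'' : Over S) [GrpObj G]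
    (u : G' ⟶ G) [Mono u] (p : G ⟶ G'')
    (hcov : (∃ (Z : Scheme.{u}) (q : Z ⟶ G''.left) (r : Z ⟶ G.left), r ≫ p.left = q ∧
      Surjective q ∧ Flat q ∧
        ∀ V : G''.left.Opens, IsAffineOpen V →
          ∃ W : Z.Opens, IsCompact (W : Set Z) ∧ q.base '' (W : Set Z) = (V : Set G''.left)))
    (hsq : IsPullback ((G ◁ u) ≫ μ[G]) (fst G G') p p) :
    IsPullback u (toUnit G') p (η[G] ≫ p) ∧ IsImmersion u.left ∧
    (IsSeparated G''.hom ↔ IsClosedImmersion u.left) ∧
    (IsClosedImmersion u.left ↔ IsClosedImmersion (η[G] ≫ p).left) := by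
  obtain ⟨Z, q, r, hrq, hs, hf, hqc⟩ := hcov
  have hq : GenFpqc q := ⟨hs, hf, hqc⟩
  have sqa := isPullback_unit_quot u p hsq
  have sqaL := Groth.Agent.Helper18.GrpFppf.isPullback_left sqa
  have hε : IsImmersion (η[G] ≫ p).left := by
    haveI : IsImmersion ((η[G] ≫ p).left ≫ G''.hom) := by
      rw [Over.w]
      show IsImmersion (𝟙 S)
      infer_instance
    exact IsImmersion.of_comp _ G''.hom
  have hu : IsImmersion u.left :=
    MorphismProperty.of_isPullback (P := @IsImmersion) sqaL.flip hε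
  have h1 : IsClosedImmersion (η[G] ≫ p).left → IsClosedImmersion u.left := fun h =>
    MorphismProperty.of_isPullback (P := @IsClosedImmersion) sqaL.flip h
  have h2 : IsClosedImmersion u.left → IsClosedImmersion (η[G] ≫ p).left := fun h =>
    descends_of_factor @IsClosedImmersion q r p.left hrq hq sqaL h
  refine ⟨sqa, hu, ⟨fun hsep => ?_, fun hcl => ?_⟩, h2, h1⟩
  · apply h1
    haveI := hsep
    haveI : IsClosedImmersion ((η[G] ≫ p).left ≫ G''.hom) := by
      rw [Over.w]
      show IsClosedImmersion (𝟙 S)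
      infer_instance
    exact IsClosedImmersion.of_comp _ G''.hom
  · -- the product covering
    let Zo : Over S := Over.mk (q ≫ G''.hom)
    let qo : Zo ⟶ G'' := Over.homMk q rfl
    let ro : Zo ⟶ G := Over.homMk r (by
      show r ≫ G.hom = q ≫ G''.hom
      rw [← hrq, Category.assoc, Over.w])
    have hro : ro ≫ p = qo := by
      ext
      exact hrq
    have hqo : IsCov qo.left := hq.isCov
    have hqq : GenFpqc (qo ⊗ₘ qo).left := (hqo.tensorHom hqo).genFpqc
    have hfac : (ro ⊗ₘ ro).left ≫ (p ⊗ₘ p).left = (qo ⊗ₘ qo).left := by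
      rw [← Over.comp_left, tensorHom_comp_tensorHom, hro]
    have hj : IsClosedImmersion (lift ((G ◁ u) ≫ μ[G]) (fst G G')).left :=
      MorphismProperty.of_isPullback (P := @IsClosedImmersion)
        (Groth.Agent.Helper18.GrpFppf.isPullback_left (isPullback_graph u)).flip hcl
    have hd : IsClosedImmersion (lift (𝟙 G'') (𝟙 G'')).left :=
      descends_of_factor @IsClosedImmersion _ _ _ hfac hqq
        (Groth.Agent.Helper18.GrpFppf.isPullback_left (isPullback_diag_quot u p hsq)) hj
    constructor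
    exact hd

end Groth.Agent.Helper18.FpqcQuot
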