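import Mathlib
import Groth.Prelude
import Groth.Agent.Lib.Helper18.FpqcTorsor

set_option autoImplicit false
universe u
open CategoryTheory MonoidalCategory CartesianMonoidalCategory MonObj GrpObj AlgebraicGeometry Limits
open MorphismProperty

namespace Groth.Agent.Helper18.FpqcTorsor

open Groth.Agent.Helper18.FpqcDesc

variable {S : Scheme.{u}}

set_option backward.isDefEq.respectTransparency.types false in
theorem main18860 {S : Scheme.{u}} {G X : Over S} [GrpObj G]
    (a : AlgGrp.Action G X) (ha : NonAbH1.IsTorsorFor Scheme.fpqcPrecoverage a) :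
    (LocallyOfFiniteType G.hom → LocallyOfFiniteType X.hom) ∧
      (QuasiCompact G.hom → QuasiCompact X.hom) ∧
      (IsFinite G.hom → IsFinite X.hom) ∧ (Smooth G.hom → Smooth X.hom) ∧
      (Etale G.hom → Etale X.hom) := by
  haveI := Groth.Agent.Helper21.AffDesc.affine.{u}
  refine ⟨fun h => prop_of_isTorsorFor @LocallyOfFiniteType G X a ha h,
    fun h => prop_of_isTorsorFor @QuasiCompact G X a ha h, ?_,
    fun h => prop_of_isTorsorFor @Smooth G X a ha h,
    fun h => prop_of_isTorsorFor @Etale G X a ha h⟩
  intro h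
  rw [IsFinite.iff_isProper_and_isAffineHom] at h ⊢
  exact ⟨prop_of_isTorsorFor @IsProper G X a ha h.1,
    prop_of_isTorsorFor @IsAffineHom G X a ha h.2⟩

end Groth.Agent.Helper18.FpqcTorsor
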