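import Mathlib
import Groth.Prelude
import Groth.Agent.Lib.Helper18.FpqcTorsor

set_option autoImplicit false
universe u
open CategoryTheory MonoidalCategory CartesianMonoidalCategory MonObj GrpObj AlgebraicGeometry Limits
open MorphismProperty

namespace Groth.Agent.Helper18.FpqcTorsor

open Groth.Agent.Helper18.FpqcDesc

variable {S : Scheme.{u}}

set_option backward.isDefEq.respectTransparency.types false in
theorem main12837 {S : Scheme.{u}}
    (G X : Over S) [GrpObj G] [Flat G.hom] [LocallyOfFinitePresentation G.hom]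
    (a : AlgGrp.Action G X)
    (h : NonAbH1.IsTorsorFor Scheme.fpqcPrecoverage a) :
    NonAbH1.IsTorsorFor Scheme.fppfPrecoverage a := by
  haveI : Surjective X.hom := prop_of_isTorsorFor @Surjective G X a h (surjective_hom_of_monObj G)
  haveI : Flat X.hom := prop_of_isTorsorFor @Flat G X a h inferInstance
  haveI : LocallyOfFinitePresentation X.hom :=
    prop_of_isTorsorFor @LocallyOfFinitePresentation G X a h inferInstance
  refine ⟨h.1, Presieve.singleton X.hom, X.hom.singleton_mem_fppfPrecoverage, ?_⟩
  rintro S' f ⟨⟩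
  exact ⟨𝟙 _, Category.id_comp _⟩

/-- if the base change of `π` along itself has `P` then so has any base change of `π` along a
map factoring through `π` -/
theorem prop_pullback_of_section' (P : MorphismProperty Scheme.{u}) [P.IsStableUnderBaseChange]
    {A B W : Scheme.{u}} (π : A ⟶ B) {a b : W ⟶ A} (t : IsPullback b a π π) (ha : P a)
    {U : Scheme.{u}} (f : U ⟶ B) (s : U ⟶ A) (hs : s ≫ π = f) :
    P (pullback.snd π f) := by
  subst hs
  have big := IsPullback.of_hasPullback π (s ≫ π)
  have left := IsPullback.of_right' big t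
  exact P.of_isPullback left ha

theorem main19965 (S : Scheme.{u})
    (G H : Over S) [GrpObj G] [GrpObj H] (i : H ⟶ G)
    (Q : Over S) (aQ : AlgGrp.Action G Q) (q₀ : 𝟙_ (Over S) ⟶ Q)
    (hQ : ChGrp.IsHomog Scheme.fppfPrecoverage i aQ q₀)
    (P : MorphismProperty Scheme.{u}) [P.IsStableUnderBaseChange]
    [P.IsLocalAtTarget Scheme.fppfPrecoverage]
    (hP : P H.hom) : P (aQ.orbitMap q₀).left := by
  obtain ⟨_, hsq, R, hR, hsec⟩ := hQ
  have hsq' := (hsq.map (CategoryTheory.Over.forget _)).flip
  have hfst : P (fst G H).left := by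
    show P (pullback.fst G.hom H.hom)
    exact P.pullback_fst _ _ hP
  refine IsLocalAtTarget.of_forall_pullbackSnd (P := P) (K := Scheme.fppfPrecoverage) hR ?_
  intro U g _ hg
  obtain ⟨s, hs⟩ := hsec g hg
  exact prop_pullback_of_section' P (aQ.orbitMap q₀).left hsq' hfst g s hs

end Groth.Agent.Helper18.FpqcTorsor
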