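import Groth.Agent.Lib.Helper18.FinSub5
import Groth.Agent.Lib.Helper18.GrpFppf3
import Groth.Agent.Lib.Helper9.RatSec

/-!
# A smooth affine group isogenous to the additive group is the additive group (helper18)
-/

set_option autoImplicit false
set_option linter.style.haveILetI false
universe u
open CategoryTheory CategoryTheory.Limits MonoidalCategory CartesianMonoidalCategory MonObj
  AlgebraicGeometry Polynomial

noncomputable section

namespace Groth.Agent.Helper18.GaIsog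

open Groth.Agent.Helper13 Groth.Agent.Helper18 Groth.Agent.Helper18.GaTorsor
  Groth.Agent.Helper18.FinSub

variable {k : Type u} [Field k]

instance isAffine_Ga : IsAffine (Red.Ga (SK k)).left :=
  haveI : IsAffine (TK k k[X]).left := inferInstanceAs (IsAffine (Spec (CommRingCat.of k[X])))
  IsAffine.of_isIso (toLine (K := k)).left

theorem lft_Ga : LocallyOfFiniteType (Red.Ga (SK k)).hom := by
  have h : (Red.Ga (SK k)).hom = (toLine (K := k)).left ≫ (TK k k[X]).hom :=
    (Over.w (toLine (K := k))).symm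
  rw [h]
  haveI : LocallyOfFiniteType (TK k k[X]).hom := by
    show LocallyOfFiniteType (Spec.map (CommRingCat.ofHom (algebraMap k k[X])) ≫ 𝟙 _)
    rw [Category.comp_id, HasRingHomProperty.Spec_iff (P := @LocallyOfFiniteType)]
    exact (RingHom.finiteType_algebraMap).mpr inferInstance
  infer_instance

theorem inv_comp' {S : Scheme.{u}} {G H : Over S} [GrpObj G] [GrpObj H] (φ : G ⟶ H) [IsMonHom φ]
    {T : Over S} (g : T ⟶ G) : g⁻¹ ≫ φ = (g ≫ φ)⁻¹ := by
  apply eq_inv_of_mul_eq_one_left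
  rw [← MonObj.mul_comp, inv_mul_cancel, MonObj.one_comp]

section Main

variable (H : Over (SK k)) [GrpObj H] [IsAffine H.left] [Smooth H.hom]

set_option maxHeartbeats 1600000 in
theorem main (f : Red.Ga (SK k) ⟶ H) [IsMonHom f] [IsFinite f.left] [Surjective f.left] :
    Nonempty (Grp.mk H ≅ Grp.mk (Red.Ga (SK k))) := by
  haveI := mono_eta H
  haveI := mono_eta (Red.Ga (SK k))
  -- the kernel
  let K : Over (SK k) := pullback f η[H]
  let iK : K ⟶ Red.Ga (SK k) := pullback.fst f η[H]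
  have hK : IsPullback iK (toUnit K) f η[H] := by
    have h0 := IsPullback.of_hasPullback f η[H]
    have e : pullback.snd f η[H] = toUnit K := toUnit_unique _ _
    rw [e] at h0
    exact h0
  haveI : Mono iK := inferInstanceAs (Mono (pullback.fst f η[H]))
  have hKl : IsPullback iK.left (toUnit K).left f.left η[H].left := hK.map (Over.forget _)
  haveI : IsFinite K.hom := by
    have h1 : IsFinite (toUnit K).left :=
      MorphismProperty.of_isPullback (P := @IsFinite) hKl inferInstance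
    have h2 : (toUnit K).left = K.hom := by
      have := Over.w (toUnit K)
      rw [← this]
      exact (Category.comp_id _).symm
    rw [← h2]
    exact h1
  have hone : η[Red.Ga (SK k)] ≫ f = 𝟙 _ ≫ η[H] := by
    rw [Category.id_comp]
    exact IsMonHom.one_hom (f := f)
  let xK : 𝟙_ (Over (SK k)) ⟶ K := hK.lift η[Red.Ga (SK k)] (𝟙 _) hone
  obtain ⟨B, _, _, _, _, ⟨e⟩⟩ := exists_affine_model K xK
  have hif : ∀ {T : Over (SK k)} (t : T ⟶ K), t ≫ iK ≫ f = 1 := by
    intro T t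
    rw [hK.w, ← Category.assoc, comp_eta_eq_one]
  let a₁ : TK k B ⊗ TK k B ⟶ Red.Ga (SK k) := fst _ _ ≫ e.inv ≫ iK
  let a₂ : TK k B ⊗ TK k B ⟶ Red.Ga (SK k) := snd _ _ ≫ e.inv ≫ iK
  have ha : (a₁ * a₂) ≫ f = toUnit _ ≫ η[H] := by
    rw [MonObj.mul_comp, comp_eta_eq_one]
    show ((fst _ _ ≫ e.inv ≫ iK) ≫ f) * ((snd _ _ ≫ e.inv ≫ iK) ≫ f) = 1
    have h1 : (fst (TK k B) (TK k B) ≫ e.inv ≫ iK) ≫ f = 1 := by
      have := hif (fst (TK k B) (TK k B) ≫ e.inv)
      simpa only [Category.assoc] using this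
    have h2 : (snd (TK k B) (TK k B) ≫ e.inv ≫ iK) ≫ f = 1 := by
      have := hif (snd (TK k B) (TK k B) ≫ e.inv)
      simpa only [Category.assoc] using this
    rw [h1, h2, _root_.mul_one]
  let m : TK k B ⊗ TK k B ⟶ TK k B := hK.lift (a₁ * a₂) (toUnit _) ha ≫ e.hom
  have hm : m ≫ (e.inv ≫ iK) = (fst _ _ ≫ e.inv ≫ iK) * (snd _ _ ≫ e.inv ≫ iK) := by
    show (hK.lift (a₁ * a₂) (toUnit _) ha ≫ e.hom) ≫ e.inv ≫ iK = a₁ * a₂
    rw [Category.assoc, e.hom_inv_id_assoc, hK.lift_fst]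
  haveI : Mono (e.inv ≫ iK) := mono_comp _ _
  obtain ⟨P, hP, hd, hadd, hpb⟩ := core_ga (e.inv ≫ iK) m hm
  obtain ⟨φ₀, hφ₀⟩ : ∃ φ : Red.Ga (SK k) ⟶ Red.Ga (SK k), φ = gaPoly P := ⟨_, rfl⟩
  haveI : IsMonHom φ₀ := hφ₀ ▸ isMonHom_gaPoly P hadd
  haveI : Flat φ₀.left := hφ₀ ▸ flat_gaPoly P hd
  haveI : Surjective φ₀.left := hφ₀ ▸ surjective_gaPoly P hP hd
  rw [← hφ₀] at hpb
  have hKφ : IsPullback iK (toUnit K) φ₀ η[Red.Ga (SK k)] := by
    refine IsPullback.of_iso hpb e.symm (Iso.refl _) (Iso.refl _) (Iso.refl _) ?_ ?_ ?_ ?_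
    · simp
    · exact toUnit_unique _ _
    · simp
    · simp
  have hiφ : ∀ {T : Over (SK k)} (t : T ⟶ K), t ≫ iK ≫ φ₀ = 1 := by
    intro T t
    rw [hKφ.w, ← Category.assoc, comp_eta_eq_one]
  -- descent of `f` along `φ₀`
  obtain ⟨fb, hfb⟩ := GrpFppf.exists_desc_of_cover φ₀ f (by
    intro T g₁ g₂ hg
    have h1 : (g₁ * g₂⁻¹) ≫ φ₀ = toUnit _ ≫ η[Red.Ga (SK k)] := by
      have e0 := inv_comp' φ₀ g₂
      rw [MonObj.mul_comp, e0, hg, mul_inv_cancel, comp_eta_eq_one]
    have h2 : (g₁ * g₂⁻¹) ≫ f = 1 := by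
      rw [← hKφ.lift_fst _ _ h1]
      have := hif (hKφ.lift _ _ h1)
      simpa only [Category.assoc] using this
    rw [MonObj.mul_comp, inv_comp', mul_inv_eq_one] at h2
    exact h2)
  haveI : IsMonHom (φ₀ ≫ fb) := by
    rw [hfb]
    infer_instance
  haveI : IsMonHom fb := GrpFppf.isMonHom_of_comp φ₀ fb
  -- `fb` is a monomorphism
  haveI : Mono fb := by
    refine ⟨fun {T} g₁ g₂ hg => ?_⟩
    have hd1 : (g₁ * g₂⁻¹) ≫ fb = 1 := by
      rw [MonObj.mul_comp, inv_comp', hg, mul_inv_cancel]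
    obtain ⟨T', c, d', -, hcf, hcs, -, hd'⟩ := GrpFppf.exists_cover_lift φ₀ (g₁ * g₂⁻¹)
    haveI := hcf
    haveI := hcs
    haveI : Epi c := GrpFppf.epi_of_flat_surjective c
    have h1 : d' ≫ f = toUnit _ ≫ η[H] := by
      rw [← hfb, ← Category.assoc, hd', Category.assoc, hd1, comp_eta_eq_one]
      exact MonObj.comp_one c
    have h2 : d' ≫ φ₀ = 1 := by
      rw [← hK.lift_fst _ _ h1]
      have := hiφ (hK.lift _ _ h1)
      simpa only [Category.assoc] using this
    have h3 : c ≫ (g₁ * g₂⁻¹) = c ≫ 1 := by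
      rw [← hd', h2]
      exact (MonObj.comp_one c).symm
    have h4 : g₁ * g₂⁻¹ = 1 := (cancel_epi c).mp h3
    exact mul_inv_eq_one.mp h4
  haveI : Mono fb.left := (Over.forget _).map_mono fb
  -- `fb` is finite
  have hcomp : φ₀.left ≫ fb.left = f.left := congrArg (fun q => q.left) hfb
  haveI : UniversallyClosed (φ₀.left ≫ fb.left) := by
    rw [hcomp]
    infer_instance
  haveI : UniversallyClosed fb.left := UniversallyClosed.of_comp_surjective φ₀.left fb.left
  haveI : LocallyOfFiniteType (fb.left ≫ H.hom) := by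
    rw [Over.w fb]
    exact lft_Ga
  haveI : LocallyOfFiniteType fb.left := locallyOfFiniteType_of_comp fb.left H.hom
  haveI : IsFinite fb.left :=
    IsFinite.iff_isProper_and_isAffineHom.mpr ⟨{}, inferInstance⟩
  haveI : IsClosedImmersion fb.left := (IsClosedImmersion.iff_isFinite_and_mono _).mpr
    ⟨inferInstance, inferInstance⟩
  haveI : Surjective fb.left := by
    refine ⟨fun y => ?_⟩
    obtain ⟨x, hx⟩ := f.left.surjective y
    refine ⟨φ₀.left x, ?_⟩
    rw [← hx, ← hcomp]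
    rfl
  haveI : IsReduced H.left := Groth.Agent.Helper9.RatSec.isReduced_of_smooth H.hom
  haveI : IsIso fb.left := isIso_of_isClosedImmersion_of_surjective fb.left
  haveI : IsIso ((Over.forget _).map fb) := inferInstanceAs (IsIso fb.left)
  haveI : IsIso fb := isIso_of_reflects_iso fb (Over.forget _)
  let ψ : Red.Ga (SK k) ≅ H := asIso fb
  haveI : IsMonHom ψ.hom := inferInstanceAs (IsMonHom fb)
  exact ⟨(Grp.mkIso' ψ).symm⟩

end Main

end Groth.Agent.Helper18.GaIsog
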