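import Groth.Agent.Lib.Helper18.AmitsurH1
import Groth.Agent.Lib.Helper18.GeomQuot
import Groth.Agent.Lib.Helper18.PseudoTorsPts
import Groth.Agent.Lib.Helper13.GaPts
import Groth.Agent.Lib.Helper18.FpqcTorsor

/-!
# Torsors under the additive group are Zariski locally trivial (helper18)
-/

set_option autoImplicit false
set_option linter.style.haveILetI false
universe u
open CategoryTheory CategoryTheory.Limits MonoidalCategory CartesianMonoidalCategory MonObj
  AlgebraicGeometry TensorProduct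

noncomputable section

namespace Groth.Agent.Helper18.GaTorsor

open Groth.Agent.Helper13 Groth.Agent.Helper18

section Cech

variable {S : Scheme.{u}} {G X : Over S} [GrpObj G] (a : AlgGrp.Action G X)

theorem comp_act {T T' : Over S} (c : T' ⟶ T) (g : T ⟶ G) (x : T ⟶ X) :
    c ≫ lift g x ≫ a.act = lift (c ≫ g) (c ≫ x) ≫ a.act := by
  rw [← Category.assoc, comp_lift]

/-- the transition element of a point is a cocycle -/
theorem cocycle (hps : NonAbH1.IsPseudoTorsorSch a) {T₁ T₂ T₃ : Over S} (p₁ p₂ : T₂ ⟶ T₁)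
    (q₁₂ q₁₃ q₂₃ : T₃ ⟶ T₂) (e₁ : q₁₂ ≫ p₁ = q₁₃ ≫ p₁) (e₂ : q₁₂ ≫ p₂ = q₂₃ ≫ p₁)
    (e₃ : q₁₃ ≫ p₂ = q₂₃ ≫ p₂) (x : T₁ ⟶ X) (g : T₂ ⟶ G)
    (hg : lift g (p₂ ≫ x) ≫ a.act = p₁ ≫ x) :
    (q₁₂ ≫ g) * (q₂₃ ≫ g) = q₁₃ ≫ g := by
  apply PseudoTorsPts.pt_unique a hps _ _ (q₂₃ ≫ p₂ ≫ x)
  rw [GeomQuot.act_mul, ← comp_act, hg, ← Category.assoc q₂₃, ← e₂, Category.assoc, ← comp_act, hg,
    ← Category.assoc q₂₃, ← e₃, Category.assoc, ← comp_act, hg, ← Category.assoc, e₁,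
    Category.assoc]

/-- modifying a point by a coboundary makes it descend -/
theorem modify {T₁ T₂ : Over S} (p₁ p₂ : T₂ ⟶ T₁) (x : T₁ ⟶ X) (g : T₂ ⟶ G)
    (hg : lift g (p₂ ≫ x) ≫ a.act = p₁ ≫ x) (b : T₁ ⟶ G)
    (hb : g = (p₁ ≫ b) * (p₂ ≫ b)⁻¹) :
    p₁ ≫ lift b⁻¹ x ≫ a.act = p₂ ≫ lift b⁻¹ x ≫ a.act := by
  rw [comp_act, comp_act, ← hg, ← GeomQuot.act_mul, hb, GrpObj.comp_inv, GrpObj.comp_inv,
    inv_mul_cancel_left]

end Cech

section Affine

variable {S : Scheme.{u}} {A : Type u} [CommRing A] (f : Spec (CommRingCat.of A) ⟶ S)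

/-- affine test objects over `S` -/
abbrev TT (R : Type u) [CommRing R] [Algebra A R] : Over S :=
  Over.mk (Spec.map (CommRingCat.ofHom (algebraMap A R)) ≫ f)

/-- restriction along an `A`-algebra homomorphism -/
def rr {R R' : Type u} [CommRing R] [CommRing R'] [Algebra A R] [Algebra A R'] (h : R →ₐ[A] R') :
    TT f R' ⟶ TT f R :=
  Over.homMk (Spec.map (CommRingCat.ofHom h.toRingHom)) (by
    show Spec.map (CommRingCat.ofHom h.toRingHom) ≫
      Spec.map (CommRingCat.ofHom (algebraMap A R)) ≫ f =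
        Spec.map (CommRingCat.ofHom (algebraMap A R')) ≫ f
    rw [← Spec.map_comp_assoc, ← CommRingCat.ofHom_comp]
    congr 3
    exact h.comp_algebraMap)

theorem rr_left {R R' : Type u} [CommRing R] [CommRing R'] [Algebra A R] [Algebra A R']
    (h : R →ₐ[A] R') : (rr f h).left = Spec.map (CommRingCat.ofHom h.toRingHom) := rfl

theorem rr_comp {R R' R'' : Type u} [CommRing R] [CommRing R'] [CommRing R''] [Algebra A R]
    [Algebra A R'] [Algebra A R''] (h : R →ₐ[A] R') (h' : R' →ₐ[A] R'') :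
    rr f h' ≫ rr f h = rr f (h'.comp h) := by
  apply Over.OverMorphism.ext
  rw [Over.comp_left, rr_left, rr_left, rr_left, ← Spec.map_comp, ← CommRingCat.ofHom_comp]
  rfl

/-- points of the additive group over an affine test object -/
def ga (R : Type u) [CommRing R] [Algebra A R] (r : R) : TT f R ⟶ Red.Ga S :=
  GaPts.ptOfElt ((Scheme.ΓSpecIso (CommRingCat.of R)).inv r)

variable (R : Type u) [CommRing R] [Algebra A R]

theorem ga_add (r r' : R) : ga f R (r + r') = ga f R r * ga f R r' := by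
  unfold ga
  rw [map_add, GaPts.ptOfElt_add]

theorem ga_neg (r : R) : ga f R (-r) = (ga f R r)⁻¹ := by
  unfold ga
  rw [map_neg, GaPts.ptOfElt_neg]

theorem ga_sub (r r' : R) : ga f R (r - r') = ga f R r * (ga f R r')⁻¹ := by
  rw [sub_eq_add_neg, ga_add, ga_neg]

theorem ga_surj (t : TT f R ⟶ Red.Ga S) : ∃ r : R, ga f R r = t := by
  refine ⟨(Scheme.ΓSpecIso (CommRingCat.of R)).hom (Red.gaFn t), ?_⟩
  unfold ga
  have : (Scheme.ΓSpecIso (CommRingCat.of R)).inv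
      ((Scheme.ΓSpecIso (CommRingCat.of R)).hom (Red.gaFn t)) = Red.gaFn t :=
    congrArg (fun k => k.hom (Red.gaFn t)) (Scheme.ΓSpecIso (CommRingCat.of R)).hom_inv_id
  rw [this, GaPts.ptOfElt_gaFn]

theorem ga_inj {r r' : R} (h : ga f R r = ga f R r') : r = r' := by
  have h1 := congrArg (fun t => Red.gaFn t) h
  simp only [ga, GaPts.gaFn_ptOfElt] at h1
  have h2 := congrArg (Scheme.ΓSpecIso (CommRingCat.of R)).hom h1
  have e : ∀ s : R, (Scheme.ΓSpecIso (CommRingCat.of R)).hom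
      ((Scheme.ΓSpecIso (CommRingCat.of R)).inv s) = s := fun s =>
    congrArg (fun k => k.hom s) (Scheme.ΓSpecIso (CommRingCat.of R)).inv_hom_id
  rw [e, e] at h2
  exact h2

theorem rr_ga {R' : Type u} [CommRing R'] [Algebra A R'] (h : R →ₐ[A] R') (r : R) :
    rr f h ≫ ga f R r = ga f R' (h r) := by
  apply GaPts.eq_of_gaFn_eq
  rw [GaPts.gaFn_comp]
  simp only [ga, GaPts.gaFn_ptOfElt]
  rw [rr_left]
  exact (congrArg (fun k => k.hom r)
    (Scheme.ΓSpecIso_inv_naturality (CommRingCat.ofHom h.toRingHom))).symm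

end Affine

section Descent

variable {S : Scheme.{u}} (A B : Type u) [CommRing A] [CommRing B] [Algebra A B]
  [Module.FaithfullyFlat A B]
  (f : Spec (CommRingCat.of A) ⟶ S) {X : Over S} (a : AlgGrp.Action (Red.Ga S) X)

theorem exists_section (hps : NonAbH1.IsPseudoTorsorSch a) (x : TT f B ⟶ X) :
    ∃ s : Spec (CommRingCat.of A) ⟶ X.left, s ≫ X.hom = f := by
  let iL : B →ₐ[A] B ⊗[A] B := Algebra.TensorProduct.includeLeft
  let iR : B →ₐ[A] B ⊗[A] B := Algebra.TensorProduct.includeRight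
  let p₁ := rr f iL
  let p₂ := rr f iR
  let q₁₂ := rr f (AmitsurH1.q12 A B)
  let q₁₃ := rr f (AmitsurH1.q13 A B)
  let q₂₃ := rr f (AmitsurH1.q23 A B)
  have e₁ : q₁₂ ≫ p₁ = q₁₃ ≫ p₁ := by
    rw [rr_comp, rr_comp]
    congr 1
  have e₂ : q₁₂ ≫ p₂ = q₂₃ ≫ p₁ := by
    rw [rr_comp, rr_comp]
    congr 1
  have e₃ : q₁₃ ≫ p₂ = q₂₃ ≫ p₂ := by
    rw [rr_comp, rr_comp]
    congr 1
  obtain ⟨g, hg⟩ := PseudoTorsPts.pt_exists a hps (p₂ ≫ x) (p₁ ≫ x)
  obtain ⟨γ', rfl⟩ := ga_surj f (B ⊗[A] B) g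
  have hc := cocycle a hps p₁ p₂ q₁₂ q₁₃ q₂₃ e₁ e₂ e₃ x _ hg
  rw [rr_ga, rr_ga, rr_ga, ← ga_add] at hc
  have hc' := ga_inj f _ hc
  obtain ⟨β, hβ⟩ := AmitsurH1.exists_eq_of_cocycle A B γ' hc'
  let b := ga f B β
  have hb : ga f _ γ' = (p₁ ≫ b) * (p₂ ≫ b)⁻¹ := by
    rw [rr_ga, rr_ga, ← ga_sub, hβ]
    rfl
  have hx' := modify a p₁ p₂ x _ hg b hb
  let π : Spec (CommRingCat.of B) ⟶ Spec (CommRingCat.of A) :=
    Spec.map (CommRingCat.ofHom (algebraMap A B))
  have hfs : Flat π ∧ Surjective π :=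
    (flat_and_surjective_SpecMap_iff _).mpr
      ((RingHom.faithfullyFlat_algebraMap_iff (R := A) (S := B)).mpr inferInstance)
  haveI := hfs.1
  haveI := hfs.2
  have hxl : Spec.map (CommRingCat.ofHom iL.toRingHom) ≫ (lift b⁻¹ x ≫ a.act).left =
      Spec.map (CommRingCat.ofHom iR.toRingHom) ≫ (lift b⁻¹ x ≫ a.act).left :=
    congrArg (fun k => k.left) hx'
  have hcond : ∀ {Z : Scheme.{u}} (g₁ g₂ : Z ⟶ Spec (CommRingCat.of B)), g₁ ≫ π = g₂ ≫ π →
      g₁ ≫ (lift b⁻¹ x ≫ a.act).left = g₂ ≫ (lift b⁻¹ x ≫ a.act).left := by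
    intro Z g₁ g₂ hgg
    obtain ⟨t, ht1, ht2⟩ : ∃ t : Z ⟶ Spec (CommRingCat.of (B ⊗[A] B)),
        t ≫ Spec.map (CommRingCat.ofHom iL.toRingHom) = g₁ ∧
        t ≫ Spec.map (CommRingCat.ofHom iR.toRingHom) = g₂ := by
      refine ⟨pullback.lift g₁ g₂ hgg ≫ (pullbackSpecIso A B B).hom, ?_, ?_⟩
      · have := pullbackSpecIso_hom_fst A B B
        rw [Category.assoc]
        erw [this]
        exact pullback.lift_fst _ _ _
      · have := pullbackSpecIso_hom_snd A B B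
        rw [Category.assoc]
        erw [this]
        exact pullback.lift_snd _ _ _
    calc g₁ ≫ (lift b⁻¹ x ≫ a.act).left
        = (t ≫ Spec.map (CommRingCat.ofHom iL.toRingHom)) ≫ (lift b⁻¹ x ≫ a.act).left := by
          rw [ht1]
      _ = (t ≫ Spec.map (CommRingCat.ofHom iR.toRingHom)) ≫ (lift b⁻¹ x ≫ a.act).left := by
          rw [Category.assoc, hxl, ← Category.assoc]
      _ = g₂ ≫ (lift b⁻¹ x ≫ a.act).left := by rw [ht2]
  refine ⟨EffectiveEpi.desc π (lift b⁻¹ x ≫ a.act).left hcond, ?_⟩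
  rw [← cancel_epi π, EffectiveEpi.fac_assoc]
  exact Over.w (lift b⁻¹ x ≫ a.act)

end Descent

section Main

theorem flat_GaZ : Flat (Red.GaZ.{u}).hom := by
  show Flat (Spec.map (CommRingCat.ofHom (algebraMap (ULift.{u} ℤ)
    (SymmetricAlgebra (ULift.{u} ℤ) (ULift.{u} ℤ)))))
  rw [Flat.SpecMap_iff]
  exact (RingHom.flat_algebraMap_iff).mpr inferInstance

theorem flat_Ga (S : Scheme.{u}) : Flat (Red.Ga S).hom := by
  haveI := flat_GaZ.{u}
  show Flat (pullback.snd (Red.GaZ.{u}).hom _)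
  infer_instance

theorem isAffineHom_Ga (S : Scheme.{u}) : IsAffineHom (Red.Ga S).hom := by
  haveI : IsAffineHom (Red.GaZ.{u}).hom := by
    show IsAffineHom (Spec.map (CommRingCat.ofHom (algebraMap (ULift.{u} ℤ)
      (SymmetricAlgebra (ULift.{u} ℤ) (ULift.{u} ℤ)))))
    infer_instance
  exact MorphismProperty.pullback_snd (P := @IsAffineHom) _ _ this

theorem hasSection_of_affine {S : Scheme.{u}} (X : Over S) (a : AlgGrp.Action (Red.Ga S) X)
    (hps : NonAbH1.IsPseudoTorsorSch a) [IsAffineHom X.hom] [Flat X.hom] [Surjective X.hom]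
    (R : CommRingCat.{u}) (f : Spec R ⟶ S) : ∃ s : Spec R ⟶ X.left, s ≫ X.hom = f := by
  haveI : IsAffine (pullback X.hom f) := isAffine_of_isAffineHom (pullback.snd X.hom f)
  let B : CommRingCat.{u} := Γ(pullback X.hom f, ⊤)
  let e : pullback X.hom f ≅ Spec B := (pullback X.hom f).isoSpec
  let φ : R ⟶ B := Spec.preimage (e.inv ≫ pullback.snd X.hom f)
  have hφ : Spec.map φ = e.inv ≫ pullback.snd X.hom f := Spec.map_preimage _
  letI : Algebra R B := φ.hom.toAlgebra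
  have hff : Module.FaithfullyFlat R B := by
    have h1 : Flat (Spec.map φ) ∧ Surjective (Spec.map φ) := by
      rw [hφ]
      exact ⟨inferInstance, inferInstance⟩
    exact (RingHom.faithfullyFlat_algebraMap_iff).mp ((flat_and_surjective_SpecMap_iff φ).mp h1)
  let x : TT (A := R) f B ⟶ X := Over.homMk (e.inv ≫ pullback.fst X.hom f) (by
    show (e.inv ≫ pullback.fst X.hom f) ≫ X.hom = Spec.map φ ≫ f
    rw [hφ, Category.assoc, Category.assoc, pullback.condition])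
  exact exists_section R B f a hps x

theorem main {S : Scheme.{u}} (X : Over S) (a : AlgGrp.Action (Red.Ga S) X)
    (h : NonAbH1.IsTorsorFor Scheme.fpqcPrecoverage a) :
    NonAbH1.IsTorsorFor Scheme.zariskiPrecoverage a := by
  haveI := flat_Ga S
  haveI := isAffineHom_Ga S
  obtain ⟨haff, hflat⟩ := FpqcTorsor.main6004 (Red.Ga S) X a h
  haveI : Surjective X.hom := ((FpqcTorsor.main6003 (Red.Ga S) X a).mp h).2.1
  refine ⟨h.1, S.affineCover.presieve₀, S.affineCover.mem₀, ?_⟩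
  rintro S' f ⟨i⟩
  exact hasSection_of_affine X a h.1 _ _

end Main

end Groth.Agent.Helper18.GaTorsor
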