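import Mathlib
import Groth.Prelude
import Groth.Agent.Lib.Helper18.SchImgGrp2

/-!
# Scheme-theoretic images of morphisms with multiplicative image (helper18)

A generalisation of `SchImgGrp.main2`: if `f : X ⟶ G` is a quasi-compact morphism to a group scheme
over a field whose functor-of-points image is stable under the group operations (through morphisms
on `X`), then its scheme-theoretic image is a closed subgroup scheme onto which `X` surjects.
-/

set_option autoImplicit false
set_option linter.style.haveILetI false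
universe u
open CategoryTheory MonoidalCategory CartesianMonoidalCategory MonObj GrpObj AlgebraicGeometry Limits
open Groth.Agent.Helper28.AlgGrpShear

namespace Groth.Agent.Helper18.GenImg

open Groth.Agent.Helper18.SchImgGrp

theorem genImg (k : Type u) [Field k]
    (X G K : Over (Spec (CommRingCat.of k))) [GrpObj G]
    (f : X ⟶ G) [QuasiCompact f.left]
    (i : K ⟶ G) [IsClosedImmersion i.left] (g : X ⟶ K) (hgi : g ≫ i = f)
    [IsSchemeTheoreticallyDominant g.left]
    (e₀ : 𝟙_ (Over (Spec (CommRingCat.of k))) ⟶ X) (he₀ : e₀ ≫ f = η[G])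
    (d : X ⊗ X ⟶ X) (hd : d ≫ f = (fst X X ≫ f)⁻¹ * (snd X X ≫ f))
    (m : X ⊗ X ⟶ X) (hm : m ≫ f = (fst X X ≫ f) * (snd X X ≫ f)) :
    ∃ (_ : GrpObj K), IsMonHom i ∧ Surjective g.left := by
  haveI : Mono i.left := inferInstance
  haveI : Mono i := Over.mono_of_mono_left _
  haveI : QuasiCompact (g.left ≫ i.left) := by
    rw [← Over.comp_left, hgi]; infer_instance
  haveI : QuasiCompact g.left := QuasiCompact.of_comp g.left i.left
  haveI : Flat X.hom := inferInstance
  haveI : Flat K.hom := inferInstance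
  haveI : Flat (fst K X).left := by
    show Flat (pullback.fst K.hom X.hom); infer_instance
  haveI : Flat (snd K K).left := by
    show Flat (pullback.snd K.hom K.hom); infer_instance
  haveI : IsSchemeTheoreticallyDominant (g ▷ X).left :=
    IsSchemeTheoreticallyDominant.of_isPullback
      (Groth.Agent.Helper18.GrpFppf.isPullback_left (isPullback_fst g X))
  haveI : IsSchemeTheoreticallyDominant (K ◁ g).left :=
    IsSchemeTheoreticallyDominant.of_isPullback
      (Groth.Agent.Helper18.GrpFppf.isPullback_left (isPullback_snd K g))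
  haveI : IsSchemeTheoreticallyDominant (g ⊗ₘ g).left := by
    rw [MonoidalCategory.tensorHom_def, Over.comp_left]
    infer_instance
  -- the unit
  have he : (e₀ ≫ g) ≫ i = η[G] := by rw [Category.assoc, hgi, he₀]
  set e := e₀ ≫ g with he_def
  -- the division morphism
  obtain ⟨δ', hδ'⟩ := exists_factor_of_schDominant (g ⊗ₘ g) i
    ((fst K K ≫ i)⁻¹ * (snd K K ≫ i)) (d ≫ g) (by
      rw [Category.assoc, hgi, hd, MonObj.comp_mul, GrpObj.comp_inv,
        ← Category.assoc, tensorHom_fst, ← Category.assoc (g ⊗ₘ g), tensorHom_snd,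
        Category.assoc, Category.assoc, hgi])
  have hdiv : ∀ (T : Over (Spec (CommRingCat.of k))) (k₁ k₂ : T ⟶ K),
      (lift k₁ k₂ ≫ δ') ≫ i = (k₁ ≫ i)⁻¹ * (k₂ ≫ i) := by
    intro T k₁ k₂
    rw [Category.assoc, hδ', MonObj.comp_mul, GrpObj.comp_inv, lift_fst_assoc, lift_snd_assoc]
  -- group structure on K
  let jK : K ⟶ K := lift (𝟙 K) (toUnit K ≫ e) ≫ δ'
  have hjK : jK ≫ i = i ≫ ι[G] := by
    rw [hdiv, Category.id_comp, Category.assoc, he]
    show i⁻¹ * (1 : K ⟶ G) = i⁻¹
    rw [_root_.mul_one]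
  let mK : K ⊗ K ⟶ K := lift (fst K K ≫ jK) (snd K K) ≫ δ'
  have hmK : mK ≫ i = (i ⊗ₘ i) ≫ μ[G] := by
    rw [hdiv, Category.assoc, hjK]
    show ((fst K K ≫ i)⁻¹)⁻¹ * (snd K K ≫ i) = lift (fst K K ≫ i) (snd K K ≫ i) ≫ μ[G]
    rw [_root_.inv_inv]
    rfl
  letI instK : GrpObj K := Groth.Agent.Helper18.SubGrpObj.grpObjOfMono i e he mK hmK jK hjK
  have hgmul : (g ⊗ₘ g) ≫ μ[K] = m ≫ g := by
    rw [← cancel_mono i, Category.assoc, Category.assoc, hgi, hm]
    show (g ⊗ₘ g) ≫ mK ≫ i = _
    rw [hmK, ← Category.assoc, tensorHom_comp_tensorHom, hgi]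
    show lift (fst X X ≫ f) (snd X X ≫ f) ≫ μ[G] = _
    rfl
  refine ⟨instK, ⟨he, hmK⟩, ?_⟩
  constructor
  intro x
  haveI : Nonempty (Spec (K.left.residueField x)) :=
    inferInstanceAs (Nonempty (PrimeSpectrum (K.left.residueField x)))
  haveI : Subsingleton (Spec (CommRingCat.of k)) :=
    inferInstanceAs (Subsingleton (PrimeSpectrum k))
  obtain ⟨z, hz, hz1, hz2⟩ :=
    Groth.Agent.Helper18.MaxMul.exists_mul_of_maximal (G := K) x inferInstance inferInstance
  have hmaxl : ∀ p : K.left, closure {p} ∈ irreducibleComponents ↥K.left →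
      ∀ y : K.left, y ⤳ p → y = p := by
    intro p hp y hy
    have h1 : closure {p} ⊆ closure {y} :=
      closure_minimal (Set.singleton_subset_iff.mpr hy.mem_closure) isClosed_closure
    have h2 : closure {y} ⊆ closure {p} := hp.2 isIrreducible_singleton.closure h1
    have h3 : p ⤳ y := specializes_iff_mem_closure.mpr (h2 (subset_closure rfl))
    exact (h3.antisymm hy).symm.eq
  obtain ⟨a₁, ha₁⟩ := Groth.Agent.Helper18.MaxPtImage2.mem_range_of_maximal g.left _
    (hmaxl _ hz1)
  obtain ⟨a₂, ha₂⟩ := Groth.Agent.Helper18.MaxPtImage2.mem_range_of_maximal g.left _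
    (hmaxl _ hz2)
  obtain ⟨z', hz'1, hz'2⟩ := Scheme.exists_preimage_of_isPullback
    (Groth.Agent.Helper18.GrpFppf.isPullback_left (isPullback_snd K g)) a₂ z ha₂
  have hz'3 : (fst K X).left z' = g.left a₁ := by
    have : (fst K X) = (K ◁ g) ≫ fst K K := by simp
    rw [this, ha₁]
    show (fst K K).left ((K ◁ g).left z') = _
    rw [hz'2]
  obtain ⟨z'', hz''1, hz''2⟩ := Scheme.exists_preimage_of_isPullback
    (Groth.Agent.Helper18.GrpFppf.isPullback_left (isPullback_fst g X)) a₁ z' hz'3.symm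
  refine ⟨m.left z'', ?_⟩
  show (m ≫ g).left z'' = x
  rw [← hgmul, MonoidalCategory.tensorHom_def]
  show μ[K].left ((K ◁ g).left ((g ▷ X).left z'')) = x
  rw [hz''2, hz'2]
  exact hz

end Groth.Agent.Helper18.GenImg
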