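import Mathlib
import Groth.Prelude
import Groth.Agent.Lib.Helper18.GenImg
import Groth.Agent.Lib.Helper18.KerToImage
import Groth.Agent.Lib.Helper12.GrpSchSep
import Groth.Agent.Lib.Helper9.RatSec

/-!
# The subgroup generated by two smooth subgroups one of which normalises the other (helper18)
-/

set_option autoImplicit false
set_option linter.style.haveILetI false
universe u
open CategoryTheory MonoidalCategory CartesianMonoidalCategory MonObj GrpObj AlgebraicGeometry Limits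

namespace Groth.Agent.Helper18.GenAB

open Groth.Agent.Helper18.SchImgGrp

theorem main (k : Type u) [Field k] (G A B : Over (Spec (CommRingCat.of k))) [GrpObj G] [GrpObj A]
    [GrpObj B]
    (a : A ⟶ G) [IsMonHom a] (b : B ⟶ G) [IsMonHom b]
    [Smooth A.hom] [QuasiCompact A.hom] [Smooth B.hom] [QuasiCompact B.hom]
    (hN : ∀ (T : Over (Spec (CommRingCat.of k))) (y : T ⟶ B) (x : T ⟶ A),
      ∃ x' : T ⟶ A, (y ≫ b) * (x ≫ a) * (y ≫ b)⁻¹ = x' ≫ a)
    (Γ : Over (Spec (CommRingCat.of k))) [GrpObj Γ] (i : Γ ⟶ G) [IsMonHom i]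
    [IsClosedImmersion i.left]
    (ha : ∃ a' : A ⟶ Γ, a' ≫ i = a) (hb : ∃ b' : B ⟶ Γ, b' ≫ i = b)
    (hmin : ∀ (Γ' : Over (Spec (CommRingCat.of k))) (_ : GrpObj Γ') (i' : Γ' ⟶ G), IsMonHom i' →
        IsClosedImmersion i'.left →
        (∃ a'' : A ⟶ Γ', a'' ≫ i' = a) → (∃ b'' : B ⟶ Γ', b'' ≫ i' = b) →
        ∃ j : Γ ⟶ Γ', j ≫ i' = i) :
    IsReduced Γ.left ∧ Set.range i.left.base = Set.range ((a ⊗ₘ b) ≫ μ[G]).left.base := by
  let X : Over (Spec (CommRingCat.of k)) := A ⊗ B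
  let f : X ⟶ G := (fst A B ≫ a) * (snd A B ≫ b)
  have hf_eq : (a ⊗ₘ b) ≫ μ[G] = f := by
    show _ = lift (fst A B ≫ a) (snd A B ≫ b) ≫ μ[G]
    congr 1
  have hfpt : ∀ {T : Over (Spec (CommRingCat.of k))} (x : T ⟶ A) (y : T ⟶ B),
      lift x y ≫ f = (x ≫ a) * (y ≫ b) := by
    intro T x y
    show lift x y ≫ ((fst A B ≫ a) * (snd A B ≫ b)) = _
    rw [MonObj.comp_mul, lift_fst_assoc, lift_snd_assoc]
  -- conjugation
  obtain ⟨c, hc⟩ := hN (B ⊗ A) (fst B A) (snd B A)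
  have hcpt : ∀ {T : Over (Spec (CommRingCat.of k))} (y : T ⟶ B) (x : T ⟶ A),
      (lift y x ≫ c) ≫ a = (y ≫ b) * (x ≫ a) * (y ≫ b)⁻¹ := by
    intro T y x
    rw [Category.assoc, ← hc, MonObj.comp_mul, MonObj.comp_mul, GrpObj.comp_inv, lift_fst_assoc,
      lift_snd_assoc]
  -- coordinates on X ⊗ X
  let x₁ : X ⊗ X ⟶ A := fst X X ≫ fst A B
  let y₁ : X ⊗ X ⟶ B := fst X X ≫ snd A B
  let x₂ : X ⊗ X ⟶ A := snd X X ≫ fst A B
  let y₂ : X ⊗ X ⟶ B := snd X X ≫ snd A B
  have hf1 : fst X X ≫ f = (x₁ ≫ a) * (y₁ ≫ b) := by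
    show fst X X ≫ ((fst A B ≫ a) * (snd A B ≫ b)) = _
    rw [MonObj.comp_mul]
    simp only [Category.assoc, x₁, y₁]
  have hf2 : snd X X ≫ f = (x₂ ≫ a) * (y₂ ≫ b) := by
    show snd X X ≫ ((fst A B ≫ a) * (snd A B ≫ b)) = _
    rw [MonObj.comp_mul]
    simp only [Category.assoc, x₂, y₂]
  let m : X ⊗ X ⟶ X := lift (x₁ * (lift y₁ x₂ ≫ c)) (y₁ * y₂)
  have hm : m ≫ f = (fst X X ≫ f) * (snd X X ≫ f) := by
    rw [hfpt, MonObj.mul_comp, MonObj.mul_comp, hcpt, hf1, hf2]
    group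
  let d : X ⊗ X ⟶ X := lift (lift y₁⁻¹ (x₁⁻¹ * x₂) ≫ c) (y₁⁻¹ * y₂)
  have hd : d ≫ f = (fst X X ≫ f)⁻¹ * (snd X X ≫ f) := by
    rw [hfpt, hcpt, MonObj.mul_comp, MonObj.mul_comp, GrpObj.inv_comp, GrpObj.inv_comp, hf1, hf2]
    group
  let e₀ : 𝟙_ (Over (Spec (CommRingCat.of k))) ⟶ X := lift η[A] η[B]
  have he₀ : e₀ ≫ f = η[G] := by
    rw [hfpt, IsMonHom.one_hom, IsMonHom.one_hom, MonObj.one_eq_one, _root_.mul_one]
  -- quasi-compactness of f
  haveI : IsSeparated G.hom := Groth.Agent.Helper12.isSeparated_of_grpObj G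
  haveI : QuasiCompact X.hom := by
    show QuasiCompact (A ⊗ B).hom
    rw [Over.tensorObj_hom]
    infer_instance
  haveI : QuasiCompact (f.left ≫ G.hom) := by
    rw [CategoryTheory.Over.w f]; infer_instance
  haveI : QuasiCompact f.left := QuasiCompact.of_comp f.left G.hom
  -- the scheme-theoretic image
  let K : Over (Spec (CommRingCat.of k)) := Over.mk (f.left.imageι ≫ G.hom)
  let iK : K ⟶ G := Over.homMk f.left.imageι rfl
  let g : X ⟶ K := Over.homMk f.left.toImage (by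
    show f.left.toImage ≫ f.left.imageι ≫ G.hom = X.hom
    rw [← Category.assoc, Scheme.Hom.toImage_imageι, CategoryTheory.Over.w f])
  have hgi : g ≫ iK = f := by
    ext
    exact Scheme.Hom.toImage_imageι f.left
  haveI : IsClosedImmersion iK.left := inferInstanceAs (IsClosedImmersion f.left.imageι)
  haveI : IsSchemeTheoreticallyDominant g.left :=
    inferInstanceAs (IsSchemeTheoreticallyDominant f.left.toImage)
  obtain ⟨instK, hiK, hsurj⟩ := Groth.Agent.Helper18.GenImg.genImg k X G K f iK g hgi e₀ he₀ d hd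
    m hm
  haveI : Mono iK.left := inferInstance
  haveI : Mono iK := Over.mono_of_mono_left _
  haveI : Mono i.left := inferInstance
  haveI : Mono i := Over.mono_of_mono_left _
  -- a and b factor through K
  have haK : ∃ a'' : A ⟶ K, a'' ≫ iK = a := by
    refine ⟨lift (𝟙 A) (toUnit A ≫ η[B]) ≫ g, ?_⟩
    rw [Category.assoc, hgi, hfpt, Category.id_comp, Category.assoc, IsMonHom.one_hom]
    show a * (1 : A ⟶ G) = a
    rw [_root_.mul_one]
  have hbK : ∃ b'' : B ⟶ K, b'' ≫ iK = b := by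
    refine ⟨lift (toUnit B ≫ η[A]) (𝟙 B) ≫ g, ?_⟩
    rw [Category.assoc, hgi, hfpt, Category.id_comp, Category.assoc, IsMonHom.one_hom]
    show (1 : B ⟶ G) * b = b
    rw [_root_.one_mul]
  obtain ⟨j, hj⟩ := hmin K instK iK hiK inferInstance haK hbK
  -- f factors through Γ
  obtain ⟨a', ha'⟩ := ha
  obtain ⟨b', hb'⟩ := hb
  obtain ⟨φ, hφ⟩ := exists_factor_of_schDominant g i iK ((fst A B ≫ a') * (snd A B ≫ b')) (by
    rw [hgi, MonObj.mul_comp, Category.assoc, Category.assoc, ha', hb'])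
  -- the comparison
  have hjφ : j ≫ φ = 𝟙 Γ := by
    rw [← cancel_mono i, Category.assoc, hφ, hj, Category.id_comp]
  have hφj : φ ≫ j = 𝟙 K := by
    rw [← cancel_mono iK, Category.assoc, hj, hφ, Category.id_comp]
  constructor
  · haveI : QuasiCompact (g.left ≫ iK.left) := by
      rw [← Over.comp_left, hgi]; infer_instance
    haveI : QuasiCompact g.left := QuasiCompact.of_comp g.left iK.left
    haveI : Smooth X.hom := by
      show Smooth (A ⊗ B).hom
      rw [Over.tensorObj_hom]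
      infer_instance
    haveI : IsReduced (Spec (CommRingCat.of k)) := inferInstance
    haveI : IsReduced X.left := Groth.Agent.Helper9.RatSec.isReduced_of_smooth X.hom
    haveI : IsReduced K.left := IsSchemeTheoreticallyDominant.isReduced g.left
    haveI : IsIso j.left := ⟨φ.left, by rw [← Over.comp_left, hjφ]; rfl,
      by rw [← Over.comp_left, hφj]; rfl⟩
    exact isReduced_of_isOpenImmersion j.left
  · rw [hf_eq]
    apply Set.Subset.antisymm
    · rintro _ ⟨z, rfl⟩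
      obtain ⟨w, hw⟩ := hsurj.surj (j.left.base z)
      refine ⟨w, ?_⟩
      rw [← hgi, ← hj]
      show iK.left.base (g.left.base w) = iK.left.base (j.left.base z)
      rw [← hw]
    · rintro _ ⟨w, rfl⟩
      refine ⟨φ.left.base (g.left.base w), ?_⟩
      rw [← hgi]
      show (φ ≫ i).left.base (g.left.base w) = _
      rw [hφ]
      rfl

end Groth.Agent.Helper18.GenAB
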