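import Mathlib
import Groth.Agent.Lib.Helper7.FinPres

/-!
# Points under words of bounded length (helper18)

Images of morphisms locally of finite presentation are locally unions of constructible sets, and a
quasi-compact scheme covered by countably many such sets is covered by finitely many.
-/

set_option autoImplicit false
set_option linter.style.haveILetI false
universe u
open CategoryTheory CategoryTheory.Limits MonoidalCategory CartesianMonoidalCategory MonObj GrpObj
  AlgebraicGeometry
open Topology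

namespace Groth.Agent.Helper18.WordCons

section Top

variable {Z : Type*} [TopologicalSpace Z]

/-- constructible sets of a quasi-compact space are open for the constructible topology -/
theorem isOpen_ct_of_isConstructible [CompactSpace Z] {s : Set Z} (hs : IsConstructible s) :
    IsOpen[constructibleTopology Z] s := by
  suffices h : IsOpen[constructibleTopology Z] s ∧ IsOpen[constructibleTopology Z] sᶜ from h.1
  induction hs using IsConstructible.empty_union_induction with
  | open_retrocompact U hUo hUc =>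
    refine ⟨hUc.isCompact.isOpen_constructibleTopology_of_isOpen hUo, ?_⟩
    apply IsCompact.isOpen_constructibleTopology_of_isClosed _ hUo.isClosed_compl
    rw [compl_compl]
    exact hUc.isCompact
  | union s hs t ht ihs iht =>
    refine ⟨@IsOpen.union Z _ _ (constructibleTopology Z) ihs.1 iht.1, ?_⟩
    rw [Set.compl_union]
    exact @IsOpen.inter Z (constructibleTopology Z) _ _ ihs.2 iht.2
  | compl s hs ih => exact ⟨ih.2, by rw [compl_compl]; exact ih.1⟩

/-- a spectral space covered by countably many ind-constructible sets is covered by finitely many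
of them -/
theorem exists_bound [CompactSpace Z] [QuasiSober Z] [PrespectralSpace Z] [QuasiSeparatedSpace Z]
    (W : ℕ → Set Z) (hW : ∀ n, ∀ z ∈ W n, ∃ C, IsConstructible C ∧ z ∈ C ∧ C ⊆ W n)
    (hcov : ∀ z, ∃ n, z ∈ W n) : ∃ N, ∀ z, ∃ n ≤ N, z ∈ W n := by
  have hopen : ∀ n, IsOpen[constructibleTopology Z] (W n) := by
    intro n
    have h1 : W n = ⋃₀ {C | IsConstructible C ∧ C ⊆ W n} := by
      apply Set.Subset.antisymm
      · intro z hz
        obtain ⟨C, hC, hzC, hCW⟩ := hW n z hz
        exact ⟨C, ⟨hC, hCW⟩, hzC⟩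
      · rintro z ⟨C, ⟨_, hCW⟩, hzC⟩
        exact hCW hzC
    rw [h1]
    exact @isOpen_sUnion Z (constructibleTopology Z) _
      (fun C hC => isOpen_ct_of_isConstructible hC.1)
  let O : ℕ → Set (WithConstructibleTopology Z) := fun n => WithTopology.ofTopology ⁻¹' (W n)
  have hO : ∀ n, IsOpen (O n) := fun n => (WithTopology.isOpen_iff _).mpr (hopen n)
  obtain ⟨t, ht⟩ := isCompact_univ.elim_finite_subcover O hO (fun z _ => by
    obtain ⟨n, hn⟩ := hcov (WithTopology.ofTopology z)
    exact Set.mem_iUnion.mpr ⟨n, hn⟩)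
  refine ⟨t.sup id, fun z => ?_⟩
  have := ht (Set.mem_univ (WithTopology.toTopology _ z))
  simp only [Set.mem_iUnion] at this
  obtain ⟨n, hn, hz⟩ := this
  exact ⟨n, Finset.le_sup (f := id) hn, hz⟩

end Top

section Sch

/-- Chevalley's theorem, local form: near a point of its image, the image of a morphism locally of
finite presentation contains a constructible subset of any given affine open -/
theorem exists_constructible_of_lfp {Y H : Scheme.{u}} (c : Y ⟶ H) [LocallyOfFinitePresentation c]
    (y₀ : Y) (U : H.Opens) (hU : IsAffineOpen U) (hy : c.base y₀ ∈ U) :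
    ∃ C : Set ↥U, IsConstructible C ∧ (⟨c.base y₀, hy⟩ : ↥U) ∈ C ∧
      ∀ z ∈ C, (z : H) ∈ Set.range c.base := by
  obtain ⟨_, ⟨V, hV, rfl⟩, hyV, hVU⟩ := Y.isBasis_affineOpens.exists_subset_of_mem_open
    (show y₀ ∈ ((c ⁻¹ᵁ U : Y.Opens) : Set Y) from hy) (c ⁻¹ᵁ U).2
  haveI : IsAffine U := hU
  haveI : IsAffine V := hV
  let g : (V : Scheme) ⟶ (U : Scheme) := c.resLE U V hVU
  haveI : LocallyOfFinitePresentation g := inferInstance
  haveI : QuasiCompact g := inferInstance
  have hg : g ≫ U.ι = Scheme.Opens.ι V ≫ c := Scheme.Hom.resLE_comp_ι _ _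
  refine ⟨Set.range g.base, ?_, ⟨⟨y₀, hyV⟩, ?_⟩, ?_⟩
  · have := g.isConstructible_image (s := Set.univ) IsConstructible.univ
    rwa [Set.image_univ] at this
  · apply Subtype.ext
    have := congrArg (fun m => m.base ⟨y₀, hyV⟩) hg
    exact this
  · rintro z ⟨v, rfl⟩
    refine ⟨(Scheme.Opens.ι V).base v, ?_⟩
    have := congrArg (fun m => m.base v) hg
    exact this.symm

end Sch

section Word

variable {S : Scheme.{u}} {H X : Over S} [GrpObj H] (f : X ⟶ H)

/-- a letter: `f(x)` or its inverse -/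
noncomputable def letter {T : Over S} (q : (T ⟶ X) × Bool) : T ⟶ H :=
  if q.2 then q.1 ≫ f else (q.1 ≫ f)⁻¹

/-- a word in `f` -/
noncomputable def word {T : Over S} (l : List ((T ⟶ X) × Bool)) : T ⟶ H :=
  (l.map (letter f)).prod

theorem comp_letter {T' T : Over S} (a : T' ⟶ T) (q : (T ⟶ X) × Bool) :
    a ≫ letter f q = letter f (a ≫ q.1, q.2) := by
  unfold letter
  by_cases hq : q.2
  · simp only [hq, if_true, Category.assoc]
  · simp only [hq, Category.assoc]
    exact GrpObj.comp_inv a (q.1 ≫ f)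

@[simp] theorem word_nil {T : Over S} : word f ([] : List ((T ⟶ X) × Bool)) = 1 := rfl

theorem word_cons {T : Over S} (q : (T ⟶ X) × Bool) (l : List ((T ⟶ X) × Bool)) :
    word f (q :: l) = letter f q * word f l := by
  unfold word
  rw [List.map_cons, List.prod_cons]

/-- `h` lies under `c(y) · w` for a word `w` of length `n` in `f` -/
def Under {Y : Over S} (c : Y ⟶ H) (n : ℕ) (h : H.left) : Prop :=
  ∃ (T : Over S) (p : T.left) (y : T ⟶ Y) (l : List ((T ⟶ X) × Bool)),
    l.length = n ∧ ((y ≫ c) * word f l).left.base p = h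

/-- absorbing one letter into the coefficient -/
noncomputable def absorb {Y : Over S} (c : Y ⟶ H) (ε : Bool) : Y ⊗ X ⟶ H :=
  (fst Y X ≫ c) * letter f (snd Y X, ε)

theorem comp_absorb {T Y : Over S} (c : Y ⟶ H) (ε : Bool) (a : T ⟶ Y ⊗ X) :
    a ≫ absorb f c ε = ((a ≫ fst Y X) ≫ c) * letter f (a ≫ snd Y X, ε) := by
  unfold absorb
  rw [MonObj.comp_mul, comp_letter, Category.assoc]

theorem under_zero {Y : Over S} (c : Y ⟶ H) (h : H.left) :
    Under f c 0 h ↔ h ∈ Set.range c.left.base := by
  constructor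
  · rintro ⟨T, p, y, l, hl, rfl⟩
    rw [List.length_eq_zero_iff] at hl
    subst hl
    rw [word_nil, _root_.mul_one]
    exact ⟨y.left.base p, rfl⟩
  · rintro ⟨y₀, rfl⟩
    refine ⟨Y, y₀, 𝟙 Y, [], rfl, ?_⟩
    rw [word_nil, _root_.mul_one, Category.id_comp]

theorem under_succ {Y : Over S} (c : Y ⟶ H) (n : ℕ) (h : H.left) :
    Under f c (n + 1) h ↔ ∃ ε, Under f (absorb f c ε) n h := by
  constructor
  · rintro ⟨T, p, y, l, hl, rfl⟩
    match l, hl with
    | q :: l', hl =>
      refine ⟨q.2, T, p, lift y q.1, l', by simpa using hl, ?_⟩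
      rw [comp_absorb, lift_fst, lift_snd, _root_.mul_assoc, ← word_cons]
  · rintro ⟨ε, T, p, y, l, hl, rfl⟩
    refine ⟨T, p, y ≫ fst Y X, (y ≫ snd Y X, ε) :: l, by simp [hl], ?_⟩
    rw [comp_absorb, word_cons, _root_.mul_assoc]

/-- the set of points under `c(y) · w`, `w` of length `n`, is locally a union of constructible
sets -/
theorem exists_constructible [LocallyOfFinitePresentation X.hom]
    [LocallyOfFinitePresentation H.hom] :
    ∀ (n : ℕ) (Y : Over S) [LocallyOfFinitePresentation Y.hom] (c : Y ⟶ H) (h : H.left),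
      Under f c n h → ∀ (U : H.left.Opens), IsAffineOpen U → ∀ hU : h ∈ U,
      ∃ C : Set ↥U, IsConstructible C ∧ (⟨h, hU⟩ : ↥U) ∈ C ∧
        ∀ z ∈ C, Under f c n (z : H.left) := by
  intro n
  induction n with
  | zero =>
    intro Y _ c h hh U hUa hU
    rw [under_zero] at hh
    obtain ⟨y₀, rfl⟩ := hh
    haveI : LocallyOfFinitePresentation c.left :=
      Groth.Agent.Helper7.locallyOfFinitePresentation_of_comp c.left H.hom
        (by rw [CategoryTheory.Over.w c]; infer_instance) inferInstance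
    obtain ⟨C, hC, hmem, hsub⟩ := exists_constructible_of_lfp c.left y₀ U hUa hU
    exact ⟨C, hC, hmem, fun z hz => (under_zero f c _).mpr (hsub z hz)⟩
  | succ n ih =>
    intro Y _ c h hh U hUa hU
    rw [under_succ] at hh
    obtain ⟨ε, hh⟩ := hh
    haveI : LocallyOfFinitePresentation (Y ⊗ X).hom := by
      rw [Over.tensorObj_hom]
      infer_instance
    obtain ⟨C, hC, hmem, hsub⟩ := ih (Y ⊗ X) (absorb f c ε) h hh U hUa hU
    exact ⟨C, hC, hmem, fun z hz => (under_succ f c n _).mpr ⟨ε, hsub z hz⟩⟩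

/-- points under words of length `n`, in terms of `Under` with trivial coefficient -/
theorem under_one_iff (n : ℕ) (h : H.left) :
    Under f (1 : 𝟙_ (Over S) ⟶ H) n h ↔
      ∃ (T : Over S) (p : T.left) (x : Fin n → (T ⟶ X)) (ε : Fin n → Bool),
        ((List.ofFn fun j : Fin n => if ε j then x j ≫ f else (x j ≫ f)⁻¹).prod :
          T ⟶ H).left.base p = h := by
  constructor
  · rintro ⟨T, p, y, l, rfl, rfl⟩
    refine ⟨T, p, fun j => (l.get j).1, fun j => (l.get j).2, ?_⟩
    have h0 : (List.ofFn fun j : Fin l.length =>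
        if (l.get j).2 then (l.get j).1 ≫ f else ((l.get j).1 ≫ f)⁻¹) = l.map (letter f) := by
      have h1 : (fun j : Fin l.length =>
          if (l.get j).2 then (l.get j).1 ≫ f else ((l.get j).1 ≫ f)⁻¹) = letter f ∘ l.get := rfl
      rw [h1, ← List.map_ofFn, List.ofFn_get]
    rw [h0, MonObj.comp_one, _root_.one_mul]
    rfl
  · rintro ⟨T, p, x, ε, rfl⟩
    refine ⟨T, p, toUnit T, List.ofFn fun j => (x j, ε j), List.length_ofFn, ?_⟩
    rw [MonObj.comp_one, _root_.one_mul]
    unfold word
    rw [List.map_ofFn]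
    rfl

/-- if every point of a quasi-compact `H` lies under a word in `f`, the lengths are bounded -/
theorem main [LocallyOfFinitePresentation X.hom] [LocallyOfFinitePresentation H.hom]
    [CompactSpace H.left]
    (hsurj : ∀ h : H.left, ∃ (n : ℕ) (T : Over S) (p : T.left) (x : Fin n → (T ⟶ X))
      (ε : Fin n → Bool),
      ((List.ofFn fun j : Fin n => if ε j then x j ≫ f else (x j ≫ f)⁻¹).prod :
        T ⟶ H).left.base p = h) :
    ∃ n : ℕ, ∀ h : H.left, ∃ (m : ℕ) (_ : m ≤ n) (T : Over S) (p : T.left)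
      (x : Fin m → (T ⟶ X)) (ε : Fin m → Bool),
      ((List.ofFn fun j : Fin m => if ε j then x j ≫ f else (x j ≫ f)⁻¹).prod :
        T ⟶ H).left.base p = h := by
  haveI : LocallyOfFinitePresentation (𝟙_ (Over S)).hom := by
    show LocallyOfFinitePresentation (𝟙 _)
    infer_instance
  have hcov : ∀ h : H.left, ∃ n, Under f (1 : 𝟙_ (Over S) ⟶ H) n h := by
    intro h
    obtain ⟨n, hn⟩ := hsurj h
    exact ⟨n, (under_one_iff f n h).mpr hn⟩
  -- bound on each affine open
  have hloc : ∀ U : H.left.affineOpens, ∃ N : ℕ, ∀ z : ↥U.1, ∃ n ≤ N,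
      Under f (1 : 𝟙_ (Over S) ⟶ H) n (z : H.left) := by
    intro U
    haveI : IsAffine U.1 := U.2
    haveI : CompactSpace ↥U.1 := inferInstanceAs (CompactSpace (U.1 : Scheme))
    haveI : QuasiSeparatedSpace ↥U.1 := inferInstanceAs (QuasiSeparatedSpace (U.1 : Scheme))
    haveI : QuasiSober ↥U.1 := inferInstanceAs (QuasiSober (U.1 : Scheme))
    haveI : PrespectralSpace ↥U.1 := inferInstanceAs (PrespectralSpace (U.1 : Scheme))
    refine exists_bound (fun n => {z : ↥U.1 | Under f (1 : 𝟙_ (Over S) ⟶ H) n (z : H.left)})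
      ?_ (fun z => hcov z)
    intro n z hz
    obtain ⟨C, hC, hmem, hsub⟩ := exists_constructible f n (𝟙_ (Over S)) 1 (z : H.left) hz
      U.1 U.2 z.2
    exact ⟨C, hC, hmem, hsub⟩
  choose NU hNU using hloc
  -- finite affine cover
  obtain ⟨t, ht⟩ := isCompact_univ.elim_finite_subcover
    (fun U : H.left.affineOpens => ((U.1 : H.left.Opens) : Set H.left)) (fun U => U.1.2)
    (fun h _ => by
      obtain ⟨_, ⟨V, hV, rfl⟩, hhV, -⟩ := H.left.isBasis_affineOpens.exists_subset_of_mem_open
        (Set.mem_univ h) isOpen_univ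
      exact Set.mem_iUnion.mpr ⟨⟨V, hV⟩, hhV⟩)
  refine ⟨t.sup NU, fun h => ?_⟩
  have := ht (Set.mem_univ h)
  simp only [Set.mem_iUnion] at this
  obtain ⟨U, hUt, hhU⟩ := this
  obtain ⟨n, hn, hun⟩ := hNU U ⟨h, hhU⟩
  obtain ⟨T, p, x, ε, hh⟩ := (under_one_iff f n h).mp hun
  exact ⟨n, hn.trans (Finset.le_sup hUt), T, p, x, ε, hh⟩

end Word

end Groth.Agent.Helper18.WordCons
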