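import Mathlib
import Groth.Prelude
import Groth.Agent.Lib.Helper16.Sch.GrpSurj
import Groth.Agent.Lib.Helper21.FL9
import Groth.Agent.Lib.Helper18.WordCons

/-!
# Generic flatness over a reduced qcqs scheme with quasi-compact set of maximal points (helper18)
-/

set_option autoImplicit false
set_option linter.style.haveILetI false
universe u
open CategoryTheory CategoryTheory.Limits AlgebraicGeometry
open Topology

namespace Groth.Agent.Helper18.GenFlatQc

section Top

variable {Z : Type*} [TopologicalSpace Z]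

theorem isOpen_ct_of_isOpen [PrespectralSpace Z] {s : Set Z} (hs : IsOpen s) :
    IsOpen[constructibleTopology Z] s := by
  rw [@isOpen_iff_forall_mem_open _ (constructibleTopology Z)]
  intro x hx
  obtain ⟨U₀, ⟨hU₀o, hU₀c⟩, hxU₀, hU₀s⟩ :=
    PrespectralSpace.isTopologicalBasis.exists_subset_of_mem_open hx hs
  exact ⟨U₀, hU₀s, hU₀c.isOpen_constructibleTopology_of_isOpen hU₀o, hxU₀⟩

/-- a spectral map: an open set containing the fibre over a maximal point contains the preimage of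
a quasi-compact open neighbourhood of that point -/
theorem exists_nbhd {T : Type*} [TopologicalSpace T] [CompactSpace Z] [QuasiSober Z]
    [PrespectralSpace Z] [QuasiSeparatedSpace Z] [CompactSpace T] [PrespectralSpace T]
    [QuasiSeparatedSpace T]
    (g : Z → T) (hg : Continuous g) (hgc : ∀ U : Set T, IsOpen U → IsCompact U →
      IsCompact (g ⁻¹' U))
    (W : Set Z) (hW : IsOpen W) (y : T) (hy : ∀ y' : T, y' ⤳ y → y' = y)
    (hyW : g ⁻¹' {y} ⊆ W) :
    ∃ U : Set T, IsOpen U ∧ IsCompact U ∧ y ∈ U ∧ g ⁻¹' U ⊆ W := by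
  by_contra hcon
  push Not at hcon
  let 𝒜 : Set (Set T) := {U | IsOpen U ∧ IsCompact U ∧ y ∈ U}
  let t : 𝒜 → Set (WithConstructibleTopology Z) := fun A =>
    WithTopology.ofTopology ⁻¹' (g ⁻¹' A.1 ∩ Wᶜ)
  have htc : ∀ A, IsClosed (t A) := by
    intro A
    rw [← isOpen_compl_iff]
    have h1 : (t A)ᶜ = WithTopology.ofTopology ⁻¹' ((g ⁻¹' A.1)ᶜ ∪ W) := by
      ext z
      simp only [t, Set.mem_compl_iff, Set.mem_preimage, Set.mem_inter_iff, Set.mem_union,
        not_and, not_not]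
      tauto
    rw [h1]
    refine (WithTopology.isOpen_iff _).mpr ?_
    refine @IsOpen.union _ _ _ (constructibleTopology Z) ?_ (isOpen_ct_of_isOpen hW)
    have hcomp : IsCompact (g ⁻¹' A.1) := hgc _ A.2.1 A.2.2.1
    have hop : IsOpen (g ⁻¹' A.1) := A.2.1.preimage hg
    exact WordCons.isOpen_ct_of_isConstructible
      ((hcomp.isRetrocompact hop).isConstructible hop).compl
  have hfin : ∀ u : Finset 𝒜, (⋂ i ∈ u, (i : Set T)) ∈ 𝒜 := by
    intro u
    induction u using Finset.induction_on with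
    | empty => exact ⟨by simp, by simpa using isCompact_univ, by simp⟩
    | insert a s _ ih =>
      simp only [Finset.mem_insert, Set.iInter_iInter_eq_or_left]
      exact ⟨a.2.1.inter ih.1,
        QuasiSeparatedSpace.inter_isCompact _ _ a.2.1 a.2.2.1 ih.1 ih.2.1, a.2.2.2, ih.2.2⟩
  obtain ⟨x₀, -, hx₀⟩ := isCompact_univ.inter_iInter_nonempty t htc (fun u => by
    obtain ⟨x, hx⟩ := Set.not_subset.mp (hcon _ (hfin u).1 (hfin u).2.1 (hfin u).2.2)
    refine ⟨WithTopology.toTopology _ x, Set.mem_univ _, ?_⟩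
    simp only [Set.mem_iInter]
    intro i hi
    refine ⟨?_, hx.2⟩
    have := hx.1
    simp only [Set.mem_preimage, Set.mem_iInter] at this
    exact this i hi)
  have hx₀' : ∀ A : Set T, A ∈ 𝒜 → g (WithTopology.ofTopology x₀) ∈ A ∧
      WithTopology.ofTopology x₀ ∉ W := by
    intro A hA
    have := Set.mem_iInter.mp hx₀ ⟨A, hA⟩
    exact this
  have hsp : g (WithTopology.ofTopology x₀) ⤳ y := by
    rw [specializes_iff_forall_open]
    intro U hU hyU
    obtain ⟨U₀, ⟨hU₀o, hU₀c⟩, hyU₀, hU₀U⟩ :=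
      PrespectralSpace.isTopologicalBasis.exists_subset_of_mem_open hyU hU
    exact hU₀U (hx₀' U₀ ⟨hU₀o, hU₀c, hyU₀⟩).1
  have hne : (Set.univ : Set T) ∈ 𝒜 := ⟨isOpen_univ, isCompact_univ, trivial⟩
  exact (hx₀' _ hne).2 (hyW (hy _ hsp))

end Top

section Sch

theorem exists_open_flat {X Y : Scheme.{u}} [IsReduced Y] [CompactSpace Y] [QuasiSeparatedSpace Y]
    (f : X ⟶ Y) [LocallyOfFinitePresentation f] [QuasiCompact f] [QuasiSeparated f]
    (y : Y) (hy : ∀ y' : Y, y' ⤳ y → y' = y) :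
    ∃ U : Y.Opens, IsCompact (U : Set Y) ∧ y ∈ U ∧
      ∀ x : X, f x ∈ U → (f.stalkMap x).hom.Flat := by
  haveI : CompactSpace X := QuasiCompact.compactSpace_of_compactSpace f
  haveI : QuasiSeparatedSpace X := quasiSeparatedSpace_of_quasiSeparated f
  have hW := Groth.Agent.Helper21.FL.isOpen_flatLocus_scheme f
  obtain ⟨U, hUo, hUc, hyU, hUW⟩ := exists_nbhd (fun x => f x) f.continuous
    (fun U hUo hUc => QuasiCompact.isCompact_preimage U hUo hUc) _ hW y hy (by
      intro x hx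
      have hx' : f x = y := hx
      have hF : IsField (Y.presheaf.stalk (f x)) := by
        apply Groth.Agent.Helper16.GrpSurj.isField_stalk_of_isMaxPt
        intro y' hy'
        rw [hx'] at hy' ⊢
        exact hy y' hy'
      show (f.stalkMap x).hom.Flat
      letI := hF.toField
      algebraize [(f.stalkMap x).hom]
      show Module.Flat (Y.presheaf.stalk (f x)) (X.presheaf.stalk x)
      infer_instance)
  exact ⟨⟨U, hUo⟩, hUc, hyU, fun x hx => hUW hx⟩

theorem main {X Y : Scheme.{u}} [IsReduced Y] [CompactSpace Y] [QuasiSeparatedSpace Y]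
    (hgen : IsCompact {y : Y | ∀ y' : Y, y' ⤳ y → y' = y})
    (f : X ⟶ Y) [LocallyOfFinitePresentation f] [QuasiCompact f] [QuasiSeparated f] :
    ∃ U : Y.Opens, Dense (U : Set Y) ∧ IsCompact (U : Set Y) ∧ Flat (f ∣_ U) := by
  choose V hVc hyV hVf using fun (i : {y : Y | ∀ y' : Y, y' ⤳ y → y' = y}) =>
    exists_open_flat f i.1 i.2
  obtain ⟨t, ht⟩ := hgen.elim_finite_subcover (fun i => (V i : Set Y)) (fun i => (V i).2)
    (fun y hy => Set.mem_iUnion.mpr ⟨⟨y, hy⟩, hyV ⟨y, hy⟩⟩)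
  refine ⟨⟨⋃ i ∈ t, (V i : Set Y), isOpen_biUnion fun i _ => (V i).2⟩, ?_, ?_, ?_⟩
  · intro z
    obtain ⟨ζ, hζz, hζ⟩ := Groth.Agent.Helper16.GrpSurj.exists_isMaxPt z
    have h1 : ζ ∈ ⋃ i ∈ t, (V i : Set Y) := ht hζ
    exact closure_mono (Set.singleton_subset_iff.mpr h1) (specializes_iff_mem_closure.mp hζz)
  · exact t.isCompact_biUnion fun i _ => hVc i
  · rw [Flat.iff_flat_stalkMap]
    intro x
    rw [RingHom.Flat.respectsIso.arrow_mk_iso_iff (morphismRestrictStalkMap f _ x)]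
    have hx : f x.1 ∈ ⋃ i ∈ t, (V i : Set Y) := x.2
    simp only [Set.mem_iUnion] at hx
    obtain ⟨i, -, hi⟩ := hx
    exact hVf i x.1 hi

end Sch

end Groth.Agent.Helper18.GenFlatQc
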