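import Mathlib
import Groth.Agent.Lib.Helper16.Alg.GenRF5

/-!
# Generic freeness in universally-projective form (helper18)
-/

set_option autoImplicit false
set_option linter.unusedSectionVars false
set_option linter.style.haveILetI false
universe u

open TensorProduct

noncomputable section

namespace Groth.Agent.Helper18.GenFree

/-- generic freeness over a domain: after inverting some `s ≠ 0`, every base change of `B` is
projective -/
theorem exists_univ_projective (A B : Type u) [CommRing A] [CommRing B] [Algebra A B] [IsDomain A]
    [Algebra.FiniteType A B] :
    ∃ s : A, s ≠ 0 ∧ ∀ (D : Type u) [CommRing D] [Algebra A D],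
      IsUnit (algebraMap A D s) → Module.Projective D (D ⊗[A] B) := by
  obtain ⟨s, hs, hfree, -⟩ := Groth.Agent.Helper16.GenRF.exists_free_fp_away A B
  refine ⟨s, fun h => hs (h ▸ IsNilpotent.zero), fun D _ _ hu => ?_⟩
  let φ : Localization.Away s →+* D := IsLocalization.Away.lift s (g := algebraMap A D) hu
  letI : Algebra (Localization.Away s) D := φ.toAlgebra
  haveI : IsScalarTower A (Localization.Away s) D := IsScalarTower.of_algebraMap_eq' (by
    ext x
    exact (IsLocalization.Away.lift_eq s hu x).symm)
  haveI := hfree
  exact Module.Projective.of_equiv
    (TensorProduct.AlgebraTensorModule.cancelBaseChange A (Localization.Away s) D D B)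

end Groth.Agent.Helper18.GenFree
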