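import Mathlib
import Groth.Agent.Lib.Helper18.EssFree7
import Groth.Agent.Lib.Helper18.ChartFree
import Groth.Agent.Lib.Helper18.GenFreeAlg

/-!
# Charts which are projective after inverting a function of the base (helper18)
-/

set_option autoImplicit false
set_option linter.unusedSectionVars false
set_option linter.style.haveILetI false
universe u

open CategoryTheory AlgebraicGeometry TopologicalSpace Opposite TensorProduct
open MonoidalCategory CartesianMonoidalCategory CategoryTheory.Limits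

noncomputable section

namespace Groth.Agent.Helper18.EssFree

variable {S : Scheme.{u}} (Y : Over S)

/-- the chart of `Y ×_S U` given by an open `W` of `Y` -/
def bcChart (U : S.Opens) (W : Y.left.Opens) :
    pullback (W.ι ≫ Y.hom) U.ι ⟶ pullback Y.hom U.ι :=
  pullback.map (W.ι ≫ Y.hom) U.ι Y.hom U.ι W.ι (𝟙 _) (𝟙 _) (by simp) (by simp)

instance (U : S.Opens) (W : Y.left.Opens) : IsOpenImmersion (bcChart Y U W) := by
  dsimp only [bcChart]
  infer_instance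

theorem bcChart_snd (U : S.Opens) (W : Y.left.Opens) :
    bcChart Y U W ≫ pullback.snd Y.hom U.ι = pullback.snd _ _ := by
  dsimp only [bcChart]
  rw [pullback.lift_snd, Category.comp_id]

theorem range_bcChart (U : S.Opens) (W : Y.left.Opens) :
    Set.range (bcChart Y U W).base = (pullback.fst Y.hom U.ι).base ⁻¹' (W : Set Y.left) := by
  have hr := Scheme.Pullback.range_map (W.ι ≫ Y.hom) U.ι Y.hom U.ι W.ι (𝟙 _) (𝟙 _)
    (by simp) (by simp)
  change Set.range (bcChart Y U W).base = _ at hr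
  rw [hr]
  ext z
  simp only [Set.mem_inter_iff, Set.mem_preimage, Set.mem_range]
  constructor
  · rintro ⟨⟨w, hw⟩, -⟩
    rw [← hw]
    exact w.2
  · intro hz
    exact ⟨⟨⟨_, hz⟩, rfl⟩, ⟨_, rfl⟩⟩

/-- the key chart statement -/
theorem univProj_bcChart (U₀ : S.Opens) (hU₀ : IsAffineOpen U₀) (W : Y.left.Opens)
    (hW : IsAffineOpen W) (hWU : W ≤ Y.hom ⁻¹ᵁ U₀) (s : Γ(S, U₀))
    (hproj : letI := (Y.hom.appLE U₀ W hWU).hom.toAlgebra
      ∀ (D : Type u) [CommRing D] [Algebra Γ(S, U₀) D], IsUnit (algebraMap Γ(S, U₀) D s) →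
        Module.Projective D (D ⊗[Γ(S, U₀)] Γ(Y.left, W)))
    (U : S.Opens) (hU : U ≤ S.basicOpen s) (T : Scheme.{u}) [IsAffine T]
    (t : T ⟶ (U : Scheme.{u})) :
    IsAffine (pullback (bcChart Y U W ≫ pullback.snd Y.hom U.ι) t) ∧
      (letI := (pullback.snd (bcChart Y U W ≫ pullback.snd Y.hom U.ι) t).appTop.hom.toAlgebra
       Module.Projective Γ(T, ⊤) Γ(pullback (bcChart Y U W ≫ pullback.snd Y.hom U.ι) t, ⊤)) := by
  letI : Algebra Γ(S, U₀) Γ(Y.left, W) := (Y.hom.appLE U₀ W hWU).hom.toAlgebra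
  have hUU₀ : U ≤ U₀ := hU.trans (S.basicOpen_le s)
  -- the structure map of `T` to `Spec Γ(S, U₀)`
  have hrange : Set.range (t ≫ U.ι).base ⊆ Set.range hU₀.fromSpec.base := by
    rw [hU₀.range_fromSpec]
    rintro _ ⟨x, rfl⟩
    exact hUU₀ (t.base x).2
  let τ : T ⟶ Spec Γ(S, U₀) := IsOpenImmersion.lift hU₀.fromSpec (t ≫ U.ι) hrange
  have hτ : τ ≫ hU₀.fromSpec = t ≫ U.ι := IsOpenImmersion.lift_fac _ _ _
  have hτs : ∀ x : T, τ.base x ∈ PrimeSpectrum.basicOpen s := by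
    intro x
    have h1 : τ.base x ∈ hU₀.fromSpec ⁻¹ᵁ S.basicOpen s := by
      change hU₀.fromSpec.base (τ.base x) ∈ S.basicOpen s
      rw [← Scheme.Hom.comp_apply, hτ]
      exact hU (t.base x).2
    rw [hU₀.fromSpec_preimage_basicOpen] at h1
    exact h1
  -- the chain of isomorphisms
  have hφ : Spec.map (Y.hom.appLE U₀ W hWU) ≫ hU₀.fromSpec = hW.fromSpec ≫ Y.hom :=
    hU₀.SpecMap_appLE_fromSpec Y.hom hW hWU
  have hW' : W.ι ≫ Y.hom = hW.isoSpec.hom ≫ Spec.map (Y.hom.appLE U₀ W hWU) ≫ hU₀.fromSpec := by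
    rw [hφ, ← Category.assoc, hW.isoSpec_hom_fromSpec]
  let εa : pullback (bcChart Y U W ≫ pullback.snd Y.hom U.ι) t ≅
      pullback (pullback.snd (W.ι ≫ Y.hom) U.ι) t := pullback.congrHom (bcChart_snd Y U W) rfl
  let εb : pullback (pullback.snd (W.ι ≫ Y.hom) U.ι) t ≅ pullback (W.ι ≫ Y.hom) (t ≫ U.ι) :=
    pullbackLeftPullbackSndIso (W.ι ≫ Y.hom) U.ι t
  let m : pullback (W.ι ≫ Y.hom) (t ≫ U.ι) ⟶
      pullback (Spec.map (Y.hom.appLE U₀ W hWU) ≫ hU₀.fromSpec) (τ ≫ hU₀.fromSpec) :=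
    pullback.map _ _ _ _ hW.isoSpec.hom (𝟙 _) (𝟙 _)
      (by rw [Category.comp_id, hW']) (by rw [Category.comp_id, Category.id_comp, hτ])
  haveI : IsIso m := by
    dsimp only [m]
    infer_instance
  let εd : pullback (Spec.map (Y.hom.appLE U₀ W hWU) ≫ hU₀.fromSpec) (τ ≫ hU₀.fromSpec) ≅
      pullback (Spec.map (Y.hom.appLE U₀ W hWU)) τ :=
    RelBase.pbIso (Spec.map (Y.hom.appLE U₀ W hWU)) τ hU₀.fromSpec
  have hd : εd.hom ≫ pullback.snd (Spec.map (Y.hom.appLE U₀ W hWU)) τ = pullback.snd _ _ :=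
    pullback.lift_snd _ _ _
  have hm : m ≫ pullback.snd _ _ = pullback.snd _ _ := by
    dsimp only [m]
    rw [pullback.lift_snd, Category.comp_id]
  have hb : εb.hom ≫ pullback.snd (W.ι ≫ Y.hom) (t ≫ U.ι) = pullback.snd _ t :=
    pullbackLeftPullbackSndIso_hom_snd _ _ _
  have ha : εa.hom ≫ pullback.snd (pullback.snd (W.ι ≫ Y.hom) U.ι) t = pullback.snd _ t := by
    dsimp only [εa]
    rw [pullback.congrHom_hom, pullback.lift_snd, Category.comp_id]
  have hcomp : (εa ≪≫ εb ≪≫ asIso m ≪≫ εd).hom ≫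
      pullback.snd (Spec.map (Y.hom.appLE U₀ W hWU)) τ =
      pullback.snd (bcChart Y U W ≫ pullback.snd Y.hom U.ι) t := by
    simp only [Iso.trans_hom, Category.assoc, asIso_hom]
    rw [hd, hm, hb, ha]
  obtain ⟨h1, h2⟩ := projective_of_iso_pullback_Spec_of_isUnit Γ(S, U₀) Γ(Y.left, W) s hproj τ
    (pullback.snd (bcChart Y U W ≫ pullback.snd Y.hom U.ι) t) (εa ≪≫ εb ≪≫ asIso m ≪≫ εd)
    hcomp hτs
  exact ⟨h1, projective_top _ h2⟩

/-- **Generic freeness, geometric form**: over a neighbourhood of the generic point of an integral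
base, a quasi-compact scheme locally of finite type has universally projective charts. -/
theorem exists_open_univProjCharts [IsIntegral S] [LocallyOfFiniteType Y.hom] [QuasiCompact Y.hom] :
    ∃ V : S.Opens, genericPoint S ∈ V ∧
      ∀ U : S.Opens, U ≤ V → UnivProjCharts ((Over.pullback U.ι).obj Y) := by
  classical
  obtain ⟨U₀, hU₀, hξ, -⟩ := exists_affine_nbhd (⊤ : S.Opens) (genericPoint S) trivial
  haveI : Nonempty (U₀ : Scheme.{u}) := ⟨⟨genericPoint S, hξ⟩⟩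
  haveI : IsIntegral (U₀ : Scheme.{u}) := isIntegral_of_isOpenImmersion U₀.ι
  haveI : Nonempty ↥U₀ := ⟨⟨genericPoint S, hξ⟩⟩
  haveI : IsDomain Γ(S, U₀) := inferInstance
  have hc : IsCompact ((Y.hom ⁻¹ᵁ U₀ : Y.left.Opens) : Set Y.left) :=
    Y.hom.isCompact_preimage hU₀.isCompact
  have hA : ∀ y : (Y.hom ⁻¹ᵁ U₀ : Y.left.Opens), ∃ W : Y.left.Opens, IsAffineOpen W ∧
      (y : Y.left) ∈ W ∧ W ≤ Y.hom ⁻¹ᵁ U₀ :=
    fun y => exists_affine_nbhd (Y.hom ⁻¹ᵁ U₀) (y : Y.left) y.2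
  choose W hWaff hyW hWle using hA
  obtain ⟨t, ht⟩ := hc.elim_finite_subcover (fun y => (W y : Set Y.left))
    (fun y => (W y).isOpen) (by
      intro z hz
      exact Set.mem_iUnion.mpr ⟨⟨z, hz⟩, hyW ⟨z, hz⟩⟩)
  have hs : ∀ y : (Y.hom ⁻¹ᵁ U₀ : Y.left.Opens), ∃ s : Γ(S, U₀), s ≠ 0 ∧
      (letI := (Y.hom.appLE U₀ (W y) (hWle y)).hom.toAlgebra
       ∀ (D : Type u) [CommRing D] [Algebra Γ(S, U₀) D], IsUnit (algebraMap Γ(S, U₀) D s) →
        Module.Projective D (D ⊗[Γ(S, U₀)] Γ(Y.left, W y))) := by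
    intro y
    letI := (Y.hom.appLE U₀ (W y) (hWle y)).hom.toAlgebra
    haveI : Algebra.FiniteType Γ(S, U₀) Γ(Y.left, W y) :=
      Y.hom.finiteType_appLE hU₀ (hWaff y) (hWle y)
    exact GenFree.exists_univ_projective Γ(S, U₀) Γ(Y.left, W y)
  choose s hs0 hsproj using hs
  let σ : Γ(S, U₀) := ∏ y ∈ t, s y
  have hσ : σ ≠ 0 := Finset.prod_ne_zero_iff.mpr (fun y _ => hs0 y)
  have hσle : ∀ y ∈ t, S.basicOpen σ ≤ S.basicOpen (s y) := by
    intro y hy
    have : σ = s y * ∏ z ∈ t.erase y, s z := (Finset.mul_prod_erase t s hy).symm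
    rw [this, Scheme.basicOpen_mul]
    exact inf_le_left
  refine ⟨S.basicOpen σ, ?_, ?_⟩
  · have hne : S.basicOpen σ ≠ ⊥ := fun h => hσ ((basicOpen_eq_bot_iff σ).mp h)
    have hne' : ((S.basicOpen σ : S.Opens) : Set S).Nonempty := by
      rw [Set.nonempty_iff_ne_empty]
      intro h
      exact hne (Opens.ext h)
    obtain ⟨x, hx⟩ := hne'
    exact (genericPoint_spec S).mem_open_set_iff (S.basicOpen σ).isOpen |>.mpr
      ⟨x, trivial, hx⟩
  · intro U hU y'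
    have hy0 : (pullback.fst Y.hom U.ι).base y' ∈ Y.hom ⁻¹ᵁ U₀ := by
      change Y.hom.base ((pullback.fst Y.hom U.ι).base y') ∈ U₀
      rw [← Scheme.Hom.comp_apply, pullback.condition, Scheme.Hom.comp_apply]
      exact S.basicOpen_le σ (hU ((pullback.snd Y.hom U.ι).base y').2)
    obtain ⟨y, hyt, hyW'⟩ := Set.mem_iUnion₂.mp (ht hy0)
    refine ⟨pullback ((W y).ι ≫ Y.hom) U.ι, bcChart Y U (W y), inferInstance, ?_, ?_⟩
    · rw [range_bcChart]
      exact hyW'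
    · intro T _ τ
      exact univProj_bcChart Y U₀ hU₀ (W y) (hWaff y) (hWle y) (s y) (hsproj y) U
        (hU.trans (hσle y hyt)) T τ

end Groth.Agent.Helper18.EssFree
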