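import Mathlib
import Groth.Agent.S9821

/-!
# Generic sections of integral morphisms to normal integral schemes extend (helper18)
-/

set_option autoImplicit false
set_option linter.style.haveILetI false
universe u
open CategoryTheory CategoryTheory.Limits AlgebraicGeometry

namespace Groth.Agent.Helper18.GenSection

/-- ring-level core: an integral `A`-algebra `B` with an `A`-point in `Frac A` has an `A`-point,
for `A` integrally closed -/
theorem exists_retraction {A B K : Type*} [CommRing A] [IsDomain A] [IsIntegrallyClosed A]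
    [CommRing B] [Field K] [Algebra A K] [IsFractionRing A K] (φ : A →+* B) (hφ : φ.IsIntegral)
    (ev : B →+* K) (hc : ∀ a, ev (φ a) = algebraMap A K a) :
    ∃ τ : B →+* A, (∀ b, algebraMap A K (τ b) = ev b) ∧ ∀ a, τ (φ a) = a := by
  have hinj : Function.Injective (algebraMap A K) := IsFractionRing.injective A K
  have hint : ∀ b, ∃ a, algebraMap A K a = ev b := by
    intro b
    obtain ⟨p, hp, hpb⟩ := hφ b
    have h1 : ev.comp φ = algebraMap A K := RingHom.ext hc
    have : IsIntegral A (ev b) := by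
      refine ⟨p, hp, ?_⟩
      rw [← h1, ← Polynomial.hom_eval₂, hpb, map_zero]
    exact IsIntegrallyClosed.algebraMap_eq_of_integral this
  choose t ht using hint
  refine ⟨{ toFun := t, map_one' := ?_, map_mul' := ?_, map_zero' := ?_, map_add' := ?_ }, ht, ?_⟩
  · apply hinj
    rw [ht, map_one, map_one]
  · intro x y
    apply hinj
    rw [ht, map_mul, map_mul, ht, ht]
  · apply hinj
    rw [ht, map_zero, map_zero]
  · intro x y
    apply hinj
    rw [ht, map_add, map_add, ht, ht]
  · intro a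
    apply hinj
    show algebraMap A K (t (φ a)) = _
    rw [ht, hc]

variable {X Y : Scheme.{u}} [IsIntegral X]

theorem genericPoint_mem (W : X.Opens) (x : X) (hx : x ∈ W) : genericPoint X ∈ W :=
  ((genericPoint_spec X).mem_open_set_iff W.isOpen).mpr ⟨x, trivial, hx⟩

theorem range_fromSpecStalk_subset (W : X.Opens) (hη : genericPoint X ∈ W) :
    Set.range (X.fromSpecStalk (genericPoint X)) ⊆ (W : Set X) := by
  rw [Scheme.range_fromSpecStalk]
  intro y hy
  exact hy.mem_open W.isOpen hη

variable (hX : Pi1.IsNormalScheme X) (f : Y ⟶ X) [IsIntegralHom f]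
  (σ : Spec (X.presheaf.stalk (genericPoint X)) ⟶ Y)
  (hσ : σ ≫ f = X.fromSpecStalk (genericPoint X))

include hX hσ in
theorem local_section (W : X.Opens) (hW : IsAffineOpen W) (hη : genericPoint X ∈ W) :
    ∃ t : (W : Scheme.{u}) ⟶ Y, t ≫ f = W.ι ∧
      ∀ (j : Spec (X.presheaf.stalk (genericPoint X)) ⟶ W),
        j ≫ W.ι = X.fromSpecStalk (genericPoint X) → j ≫ t = σ := by
  haveI : Nonempty W := ⟨⟨_, hη⟩⟩
  haveI : IsIntegrallyClosed Γ(X, W) := Groth.Agent.S9821.affine_of_normal X hX W hW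
  haveI : IsFractionRing Γ(X, W) X.functionField :=
    functionField_isFractionRing_of_isAffineOpen X W hW
  have hV : IsAffineOpen (f ⁻¹ᵁ W) := hW.preimage f
  have hσV : (⊤ : (Spec (X.presheaf.stalk (genericPoint X))).Opens) ≤ σ ⁻¹ᵁ (f ⁻¹ᵁ W) := by
    intro z _
    show f.base (σ.base z) ∈ W
    have : f.base (σ.base z) = (X.fromSpecStalk (genericPoint X)).base z := by
      rw [← hσ]; rfl
    rw [this]
    exact range_fromSpecStalk_subset W hη ⟨z, rfl⟩
  let evC : Γ(Y, f ⁻¹ᵁ W) ⟶ X.presheaf.stalk (genericPoint X) :=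
    σ.appLE (f ⁻¹ᵁ W) ⊤ hσV ≫ (Scheme.ΓSpecIso (X.presheaf.stalk (genericPoint X))).hom
  have e2 : ∀ (g : Spec (X.presheaf.stalk (genericPoint X)) ⟶ X)
      (_ : g = X.fromSpecStalk (genericPoint X)) (e : ⊤ ≤ g ⁻¹ᵁ W),
      g.appLE W ⊤ e ≫ (Scheme.ΓSpecIso (X.presheaf.stalk (genericPoint X))).hom =
        X.presheaf.germ W (genericPoint X) hη := by
    rintro g rfl e
    rw [Scheme.Hom.appLE, Scheme.fromSpecStalk_app hη]
    simp only [Category.assoc]
    rw [← Functor.map_comp_assoc]
    have : ((homOfLE le_top).op ≫ (homOfLE e).op :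
        Opposite.op (⊤ : (Spec (X.presheaf.stalk (genericPoint X))).Opens) ⟶ Opposite.op ⊤) =
        𝟙 _ := Subsingleton.elim _ _
    rw [this, CategoryTheory.Functor.map_id, Category.id_comp, Iso.inv_hom_id, Category.comp_id]
  have hcC : f.app W ≫ evC = X.presheaf.germ W (genericPoint X) hη := by
    show f.app W ≫ σ.appLE (f ⁻¹ᵁ W) ⊤ hσV ≫ _ = _
    rw [← Category.assoc, ← Scheme.Hom.comp_appLE σ f W ⊤ hσV]
    exact e2 _ hσ _
  obtain ⟨τ, hτ, hτφ⟩ := exists_retraction (K := X.functionField) (f.app W).hom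
    (IsIntegralHom.isIntegral_app f W hW) evC.hom
    (fun a => congrArg (fun k => k.hom a) hcC)
  let τC : Γ(Y, f ⁻¹ᵁ W) ⟶ Γ(X, W) := CommRingCat.ofHom τ
  have h1 : f.app W ≫ τC = 𝟙 _ := by
    apply CommRingCat.hom_ext
    apply RingHom.ext
    intro a
    exact hτφ a
  have h2 : τC ≫ X.presheaf.germ W (genericPoint X) hη = evC := by
    apply CommRingCat.hom_ext
    apply RingHom.ext
    intro b
    exact hτ b
  refine ⟨hW.isoSpec.hom ≫ Spec.map τC ≫ hV.fromSpec, ?_, ?_⟩
  · rw [Category.assoc, Category.assoc, ← IsAffineOpen.SpecMap_appLE_fromSpec f hW hV le_rfl,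
      Scheme.Hom.appLE_eq_app, ← Spec.map_comp_assoc, h1, Spec.map_id, Category.id_comp,
      IsAffineOpen.isoSpec_hom_fromSpec]
  · intro j hj
    have hj' : j ≫ hW.isoSpec.hom = Spec.map (X.presheaf.germ W (genericPoint X) hη) := by
      rw [← cancel_mono hW.fromSpec, Category.assoc, IsAffineOpen.isoSpec_hom_fromSpec, hj,
        ← hW.fromSpecStalk_eq_fromSpecStalk hη]
      rfl
    rw [← Category.assoc, hj', ← Spec.map_comp_assoc, h2]
    show Spec.map (σ.appLE (f ⁻¹ᵁ W) ⊤ hσV ≫ (Scheme.ΓSpecIso _).hom) ≫ hV.fromSpec = σ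
    rw [Spec.map_comp, Category.assoc,
      IsAffineOpen.SpecMap_appLE_fromSpec σ hV (isAffineOpen_top _) hσV,
      IsAffineOpen.fromSpec_top, Scheme.isoSpec_Spec_inv, ← Spec.map_comp_assoc, Iso.inv_hom_id,
      Spec.map_id, Category.id_comp]

theorem isDominant_of_generic {P : Scheme.{u}} (o : P ⟶ X) [IsOpenImmersion o]
    (k : Spec (X.presheaf.stalk (genericPoint X)) ⟶ P)
    (hk : k ≫ o = X.fromSpecStalk (genericPoint X)) : IsDominant k := by
  constructor
  let z := IsLocalRing.closedPoint (X.presheaf.stalk (genericPoint X))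
  have hp : o.base (k.base z) = genericPoint X := by
    have : o.base (k.base z) = (X.fromSpecStalk (genericPoint X)).base z := by
      rw [← hk]; rfl
    rw [this]
    exact Scheme.fromSpecStalk_closedPoint
  have hd : Dense ({k.base z} : Set P) := by
    rw [dense_iff_closure_eq, o.isOpenEmbedding.isInducing.closure_eq_preimage_closure_image,
      Set.image_singleton, hp, (genericPoint_spec X).def]
    rfl
  exact hd.mono (Set.singleton_subset_iff.mpr ⟨z, rfl⟩)

include hX hσ in
theorem exists_section : ∃ s : X ⟶ Y, s ≫ f = 𝟙 X := by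
  have hex : ∀ x : X, ∃ W : X.Opens, IsAffineOpen W ∧ x ∈ W := fun x => by
    obtain ⟨W, hW, hxW, -⟩ := exists_isAffineOpen_mem_and_subset (x := x) (U := ⊤) trivial
    exact ⟨W, hW, hxW⟩
  choose W hW hxW using hex
  have hη : ∀ x, genericPoint X ∈ W x := fun x => genericPoint_mem (W x) x (hxW x)
  have hloc := fun x => local_section hX f σ hσ (W x) (hW x) (hη x)
  choose t ht htσ using hloc
  let 𝒰 : X.OpenCover := {
    I₀ := X, X i := (W i), f i := (W i).ι,
    mem₀ := by
      rw [Scheme.presieve₀_mem_precoverage_iff]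
      refine ⟨fun x ↦ ⟨x, by simpa using hxW x⟩, inferInstance⟩ }
  let jj : ∀ x : X, Spec (X.presheaf.stalk (genericPoint X)) ⟶ (W x : Scheme.{u}) := fun x =>
    IsOpenImmersion.lift (W x).ι (X.fromSpecStalk (genericPoint X)) (by
      rw [Scheme.Opens.range_ι]
      exact range_fromSpecStalk_subset (W x) (hη x))
  have hjj : ∀ x, jj x ≫ (W x).ι = X.fromSpecStalk (genericPoint X) := fun x =>
    IsOpenImmersion.lift_fac _ _ _
  have hf : ∀ x y : X, pullback.fst (𝒰.f x) (𝒰.f y) ≫ t x = pullback.snd _ _ ≫ t y := by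
    intro x y
    show pullback.fst (W x).ι (W y).ι ≫ t x = pullback.snd (W x).ι (W y).ι ≫ t y
    haveI : IsReduced (pullback (W x).ι (W y).ι) :=
      isReduced_of_isOpenImmersion (pullback.fst (W x).ι (W y).ι ≫ (W x).ι)
    let k : Spec (X.presheaf.stalk (genericPoint X)) ⟶ pullback (W x).ι (W y).ι :=
      pullback.lift (jj x) (jj y) (by rw [hjj, hjj])
    haveI : IsDominant k := isDominant_of_generic (pullback.fst (W x).ι (W y).ι ≫ (W x).ι) k (by
      rw [← Category.assoc, pullback.lift_fst, hjj])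
    refine ext_of_isDominant_of_isSeparated f ?_ k ?_
    · rw [Category.assoc, Category.assoc, ht, ht, pullback.condition]
    · rw [← Category.assoc, ← Category.assoc, pullback.lift_fst, pullback.lift_snd,
        htσ x _ (hjj x), htσ y _ (hjj y)]
  refine ⟨𝒰.glueMorphisms t hf, ?_⟩
  apply 𝒰.hom_ext
  intro x
  rw [← Category.assoc, Scheme.Cover.ι_glueMorphisms, Category.comp_id]
  exact ht x

end Groth.Agent.Helper18.GenSection
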