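import Mathlib
import Groth.Agent.Lib.Helper18.MultTypeFree

/-!
# Generic point in the image of a quasi-compact morphism (helper18)
-/

set_option autoImplicit false
set_option linter.unusedSectionVars false
set_option linter.style.haveILetI false
universe u

open CategoryTheory AlgebraicGeometry TopologicalSpace Opposite
open CategoryTheory.Limits

noncomputable section

namespace Groth.Agent.Helper18.GenSep

/-- affine case -/
theorem bot_mem_range_SpecMap {R D : CommRingCat.{u}} [IsDomain R] (φ : R ⟶ D)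
    (h : (⊥ : PrimeSpectrum R) ∈ closure (Set.range (Spec.map φ).base)) :
    (⊥ : PrimeSpectrum R) ∈ Set.range (Spec.map φ).base := by
  have h1 : closure (Set.range (PrimeSpectrum.comap φ.hom)) =
      PrimeSpectrum.zeroLocus (RingHom.ker φ.hom) := PrimeSpectrum.closure_range_comap φ.hom
  have h2 : (⊥ : PrimeSpectrum R) ∈ PrimeSpectrum.zeroLocus (RingHom.ker φ.hom : Set R) := by
    rw [← h1]
    exact h
  have hinj : Function.Injective φ.hom := by
    rw [injective_iff_map_eq_zero]
    intro a ha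
    have := h2 (show a ∈ (RingHom.ker φ.hom : Set R) from ha)
    simpa using this
  have hmin : (⊥ : Ideal R) ∈ minimalPrimes R := by
    rw [IsDomain.minimalPrimes_eq_singleton_bot]
    rfl
  obtain ⟨p', hp', hc⟩ := Ideal.exists_comap_eq_of_mem_minimalPrimes_of_injective hinj ⊥ hmin
  refine ⟨⟨p', hp'⟩, ?_⟩
  apply PrimeSpectrum.ext
  exact hc

/-- affine source and target -/
theorem genericPoint_mem_range_of_affine {Y X : Scheme.{u}} [IsAffine Y] [IsAffine X] [IsIntegral X]
    (g : Y ⟶ X) (h : genericPoint X ∈ closure (Set.range g.base)) :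
    genericPoint X ∈ Set.range g.base := by
  have hnat : Y.isoSpec.hom ≫ Spec.map g.appTop = g ≫ X.isoSpec.hom :=
    Scheme.isoSpec_hom_naturality g
  have hgen : X.isoSpec.hom.base (genericPoint X) = (⊥ : PrimeSpectrum Γ(X, ⊤)) := by
    rw [genericPoint_eq_of_isOpenImmersion X.isoSpec.hom]
    exact genericPoint_eq_bot_of_affine Γ(X, ⊤)
  have hpt : ∀ y : Y, (Spec.map g.appTop).base (Y.isoSpec.hom.base y) =
      X.isoSpec.hom.base (g.base y) := by
    intro y
    rw [← Scheme.Hom.comp_apply, ← Scheme.Hom.comp_apply, hnat]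
  have h1 : (⊥ : PrimeSpectrum Γ(X, ⊤)) ∈ closure (Set.range (Spec.map g.appTop).base) := by
    rw [← hgen]
    have hcont : Continuous X.isoSpec.hom.base := X.isoSpec.hom.continuous
    have h2 := image_closure_subset_closure_image hcont ⟨_, h, rfl⟩
    refine closure_mono ?_ h2
    rintro _ ⟨_, ⟨y, rfl⟩, rfl⟩
    exact ⟨Y.isoSpec.hom.base y, hpt y⟩
  obtain ⟨q, hq⟩ := bot_mem_range_SpecMap g.appTop h1
  refine ⟨Y.isoSpec.inv.base q, ?_⟩
  have h3 : Y.isoSpec.hom.base (Y.isoSpec.inv.base q) = q := by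
    rw [← Scheme.Hom.comp_apply, Iso.inv_hom_id]
    rfl
  have h4 := hpt (Y.isoSpec.inv.base q)
  rw [h3, hq, ← hgen] at h4
  have hinj : Function.Injective X.isoSpec.hom.base :=
    (X.isoSpec.hom.homeomorph).injective
  exact (hinj h4).symm

/-- **A quasi-compact morphism whose image closure contains the generic point hits it.** -/
theorem genericPoint_mem_range {Z S : Scheme.{u}} [IsIntegral S] (f : Z ⟶ S) [QuasiCompact f]
    (h : genericPoint S ∈ closure (Set.range f.base)) : genericPoint S ∈ Set.range f.base := by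
  obtain ⟨U₀, hU₀, hξ, -⟩ := EssFree.exists_affine_nbhd (⊤ : S.Opens) (genericPoint S) trivial
  haveI : IsAffine (U₀ : Scheme.{u}) := hU₀
  haveI : Nonempty (U₀ : Scheme.{u}) := ⟨⟨genericPoint S, hξ⟩⟩
  haveI : IsIntegral (U₀ : Scheme.{u}) := isIntegral_of_isOpenImmersion U₀.ι
  have hc : IsCompact ((f ⁻¹ᵁ U₀ : Z.Opens) : Set Z) := f.isCompact_preimage hU₀.isCompact
  haveI : CompactSpace ((f ⁻¹ᵁ U₀ : Z.Opens) : Scheme.{u}) := isCompact_iff_compactSpace.mp hc
  obtain ⟨Y, p, hp, -, hY⟩ :=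
    Scheme.exists_hom_isAffine_of_isZariskiLocalAtSource @Flat ((f ⁻¹ᵁ U₀ : Z.Opens) : Scheme.{u})
  haveI := hY
  let g : Y ⟶ (U₀ : Scheme.{u}) := p ≫ (f ∣_ U₀)
  have hg : g ≫ U₀.ι = p ≫ (f ⁻¹ᵁ U₀).ι ≫ f := by
    simp only [g, Category.assoc, morphismRestrict_ι]
  have hξ' : U₀.ι.base (genericPoint (U₀ : Scheme.{u})) = genericPoint S :=
    genericPoint_eq_of_isOpenImmersion U₀.ι
  have h1 : genericPoint (U₀ : Scheme.{u}) ∈ closure (Set.range g.base) := by
    rw [mem_closure_iff]
    intro O hO hξO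
    -- the image of `O` in `S` is open and contains the generic point
    have hO' : IsOpen (U₀.ι.base '' O) := U₀.ι.isOpenEmbedding.isOpenMap O hO
    have hmem : genericPoint S ∈ U₀.ι.base '' O := ⟨_, hξO, hξ'⟩
    obtain ⟨s, hsO, z, rfl⟩ := mem_closure_iff.mp h _ hO' hmem
    obtain ⟨o, hoO, ho⟩ := hsO
    have hz : z ∈ f ⁻¹ᵁ U₀ := by
      change f.base z ∈ U₀
      rw [← ho]
      exact o.2
    obtain ⟨y, hy⟩ := hp.surj ⟨z, hz⟩
    refine ⟨o, hoO, y, ?_⟩
    apply U₀.ι.isOpenEmbedding.injective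
    rw [ho, ← Scheme.Hom.comp_apply, hg, Scheme.Hom.comp_apply, Scheme.Hom.comp_apply, hy]
    rfl
  obtain ⟨y, hy⟩ := genericPoint_mem_range_of_affine g h1
  refine ⟨((f ⁻¹ᵁ U₀).ι.base (p.base y)), ?_⟩
  rw [← hξ', ← hy, ← Scheme.Hom.comp_apply, ← Scheme.Hom.comp_apply, ← Scheme.Hom.comp_apply, hg]

/-- a closed subset missing the generic fibre of a quasi-compact morphism misses the preimage of
a neighbourhood of the generic point -/
theorem exists_open_disjoint {X S : Scheme.{u}} [IsIntegral S] (π : X ⟶ S) [QuasiCompact π]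
    (B : Set X) (hB : IsClosed B) (hξ : ∀ z ∈ B, π.base z ≠ genericPoint S) :
    ∃ U : S.Opens, genericPoint S ∈ U ∧ ∀ z ∈ B, π.base z ∉ U := by
  let I : Scheme.IdealSheafData X := Scheme.IdealSheafData.vanishingIdeal ⟨B, hB⟩
  let f : I.subscheme ⟶ S := I.subschemeι ≫ π
  have hr : Set.range f.base = π.base '' B := by
    have h1 : Set.range I.subschemeι.base = B := by
      rw [Scheme.IdealSheafData.range_subschemeι]
      rfl
    change Set.range (I.subschemeι ≫ π).base = _
    rw [Scheme.Hom.comp_base, TopCat.coe_comp, Set.range_comp, h1]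
  have h : genericPoint S ∉ closure (Set.range f.base) := by
    intro hc
    obtain ⟨z, hz⟩ := genericPoint_mem_range f hc
    have : genericPoint S ∈ π.base '' B := by
      rw [← hr]
      exact ⟨z, hz⟩
    obtain ⟨b, hb, hb'⟩ := this
    exact hξ b hb hb'
  refine ⟨⟨(closure (Set.range f.base))ᶜ, isClosed_closure.isOpen_compl⟩, h, ?_⟩
  intro z hz hzU
  apply hzU
  apply subset_closure
  rw [hr]
  exact ⟨z, hz, rfl⟩

end Groth.Agent.Helper18.GenSep
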