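import Mathlib
import Groth.Prelude.Def_Red
import Groth.Agent.Lib.Helper18.GenSep
import Groth.Agent.Lib.Helper18.GrpSchT
import Groth.Agent.Lib.Helper12.GrpSchSep

/-!
# Generic separatedness of group schemes over an integral base (helper18)
-/

set_option autoImplicit false
set_option linter.unusedSectionVars false
set_option linter.style.haveILetI false
universe u

open CategoryTheory AlgebraicGeometry TopologicalSpace Opposite
open MonoidalCategory CartesianMonoidalCategory CategoryTheory.Limits MonObj GrpObj

noncomputable section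

namespace Groth.Agent.Helper18.GenSep

variable {S : Scheme.{u}} (G : Over S) [GrpObj G]

theorem map_left_fst {S' : Scheme.{u}} (f : S' ⟶ S) {X Y : Over S} (g : X ⟶ Y) :
    ((Over.pullback f).map g).left ≫ pullback.fst Y.hom f = pullback.fst X.hom f ≫ g.left := by
  simp only [Over.pullback_map_left]
  exact pullback.lift_fst _ _ _

/-- the unit section of a base change -/
theorem unit_bc_fst {S' : Scheme.{u}} (f : S' ⟶ S) :
    η[(Over.pullback f).obj G].left ≫ pullback.fst G.hom f = f ≫ η[G].left := by
  rw [Functor.obj.η_def, Over.comp_left, Category.assoc, map_left_fst, ← Category.assoc]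
  congr 1
  have h1 : (Functor.LaxMonoidal.ε (Over.pullback f)).left ≫
      ((Over.pullback f).obj (𝟙_ (Over S))).hom = 𝟙 S' :=
    Over.w (Functor.LaxMonoidal.ε (Over.pullback f))
  have h2 : pullback.fst (𝟙_ (Over S)).hom f ≫ (𝟙_ (Over S)).hom = pullback.snd _ _ ≫ f :=
    pullback.condition
  have h2' : pullback.fst (𝟙_ (Over S)).hom f = pullback.snd (𝟙_ (Over S)).hom f ≫ f := by
    have := Category.comp_id (pullback.fst (𝟙_ (Over S)).hom f)
    exact this.symm.trans h2
  rw [h2', ← Category.assoc]
  change ((Functor.LaxMonoidal.ε (Over.pullback f)).left ≫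
      ((Over.pullback f).obj (𝟙_ (Over S))).hom) ≫ f = f
  rw [h1]
  exact Category.id_comp f

/-- in the generic fibre the unit point is closed: a specialization of `e ξ` lying over the
generic point `ξ` equals `e ξ` -/
theorem eq_unit_of_specializes [IsIntegral S] (z : G.left)
    (hz : z ∈ closure ({η[G].left.base (genericPoint S)} : Set G.left))
    (hπ : G.hom.base z = genericPoint S) : z = η[G].left.base (genericPoint S) := by
  set ξ := genericPoint S with hξdef
  let Gξ : Over (Spec (S.residueField ξ)) := (Over.pullback (S.fromSpecResidueField ξ)).obj G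
  let ιF : Gξ.left ⟶ G.left := pullback.fst G.hom (S.fromSpecResidueField ξ)
  haveI : IsPreimmersion ιF := inferInstanceAs (IsPreimmersion (G.hom.fiberι ξ))
  have hsep : IsSeparated Gξ.hom :=
    Groth.Agent.Helper12.isSeparated_of_grpObj (K := S.residueField ξ) Gξ
  haveI hcl : IsClosedImmersion η[Gξ].left := (GrpSchOm.isSeparated_iff Gξ).mp hsep
  have hfst : η[Gξ].left ≫ ιF = S.fromSpecResidueField ξ ≫ η[G].left := unit_bc_fst G _
  -- the point of `Spec κ(ξ)`
  obtain ⟨pt⟩ : Nonempty (Spec (S.residueField ξ)) := inferInstance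
  have hpt : ιF.base (η[Gξ].left.base pt) = η[G].left.base ξ := by
    rw [← Scheme.Hom.comp_apply, hfst, Scheme.Hom.comp_apply, Scheme.fromSpecResidueField_apply]
  have hrange : Set.range η[Gξ].left.base = {η[Gξ].left.base pt} := by
    ext w
    constructor
    · rintro ⟨q, rfl⟩
      have : q = pt :=
        @Subsingleton.elim (PrimeSpectrum (S.residueField ξ)) inferInstance q pt
      rw [this]
      rfl
    · rintro rfl
      exact ⟨pt, rfl⟩
  have hclosed : IsClosed ({η[Gξ].left.base pt} : Set Gξ.left) := by
    rw [← hrange]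
    exact η[Gξ].left.isClosedEmbedding.isClosed_range
  -- `z` lies in the fibre
  have hzr : z ∈ Set.range ιF.base := by
    have := Scheme.Hom.range_fiberι G.hom ξ
    change Set.range ιF.base = _ at this
    rw [this]
    exact hπ
  obtain ⟨z', rfl⟩ := hzr
  have hind : Topology.IsInducing ιF.base := ιF.isEmbedding.isInducing
  have h1 : z' ∈ closure ({η[Gξ].left.base pt} : Set Gξ.left) := by
    rw [hind.closure_eq_preimage_closure_image, Set.image_singleton, hpt]
    exact hz
  rw [hclosed.closure_eq] at h1
  rw [Set.mem_singleton_iff.mp h1, hpt]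

/-- **Generic separatedness**: a quasi-compact quasi-separated group scheme over an integral
base is separated over a neighbourhood of the generic point. -/
theorem exists_open_isSeparated [IsIntegral S] [QuasiCompact G.hom] [QuasiSeparated G.hom] :
    ∃ U₀ : S.Opens, genericPoint S ∈ U₀ ∧
      ∀ U : S.Opens, U ≤ U₀ → IsSeparated ((Over.pullback U.ι).obj G).hom := by
  set ξ := genericPoint S with hξdef
  let e : S ⟶ G.left := η[G].left
  have he : e ≫ G.hom = 𝟙 S := GrpSchOm.unit_section G
  haveI := Groth.Agent.Helper18.GrpdOm.isImmersion_section G.hom e he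
  let B : Set G.left := closure (Set.range e.base) \ Set.range e.base
  have hB : IsClosed B := by
    have := e.isLocallyClosed_range.isOpen_coborder
    rw [coborder] at this
    exact isOpen_compl_iff.mp this
  have hsub : closure (Set.range e.base) ⊆ closure ({e.base ξ} : Set G.left) := by
    apply closure_minimal _ isClosed_closure
    rintro _ ⟨s, rfl⟩
    have h1 : ξ ⤳ s := genericPoint_specializes s
    exact (h1.map e.continuous).mem_closed isClosed_closure (subset_closure rfl)
  have hξB : ∀ z ∈ B, G.hom.base z ≠ ξ := by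
    intro z hz hπ
    exact hz.2 ⟨ξ, (eq_unit_of_specializes G z (hsub hz.1) hπ).symm⟩
  obtain ⟨U₀, hξU, hU₀⟩ := exists_open_disjoint G.hom B hB hξB
  refine ⟨U₀, hξU, fun U hUU => ?_⟩
  have hU : ∀ z ∈ B, G.hom.base z ∉ U := fun z hz h => hU₀ z hz (hUU h)
  let GU : Over (U : Scheme.{u}) := (Over.pullback U.ι).obj G
  rw [GrpSchOm.isSeparated_iff GU]
  haveI := Groth.Agent.Helper18.GrpdOm.isImmersion_section GU.hom η[GU].left
    (GrpSchOm.unit_section GU)
  have hfst : η[GU].left ≫ pullback.fst G.hom U.ι = U.ι ≫ e := unit_bc_fst G U.ι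
  have hsnd : η[GU].left ≫ pullback.snd G.hom U.ι = 𝟙 _ := GrpSchOm.unit_section GU
  have hinj : Function.Injective (pullback.fst G.hom U.ι).base :=
    (pullback.fst G.hom U.ι).isOpenEmbedding.injective
  have hr : Set.range η[GU].left.base =
      (pullback.fst G.hom U.ι).base ⁻¹' closure (Set.range e.base) := by
    ext w
    constructor
    · rintro ⟨q, rfl⟩
      apply subset_closure
      refine ⟨U.ι.base q, ?_⟩
      change _ = (pullback.fst G.hom U.ι).base (η[GU].left.base q)
      rw [← Scheme.Hom.comp_apply, ← Scheme.Hom.comp_apply, hfst]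
    · intro hw
      have hw' : (pullback.fst G.hom U.ι).base w ∈ closure (Set.range e.base) := hw
      have hπ : G.hom.base ((pullback.fst G.hom U.ι).base w) =
          U.ι.base ((pullback.snd G.hom U.ι).base w) := by
        rw [← Scheme.Hom.comp_apply, ← Scheme.Hom.comp_apply, pullback.condition]
      by_cases hmem : (pullback.fst G.hom U.ι).base w ∈ Set.range e.base
      · obtain ⟨s, hs⟩ := hmem
        have hs' : s = U.ι.base ((pullback.snd G.hom U.ι).base w) := by
          rw [← hπ, ← hs, ← Scheme.Hom.comp_apply, he]
          rfl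
        refine ⟨(pullback.snd G.hom U.ι).base w, ?_⟩
        apply hinj
        rw [← Scheme.Hom.comp_apply, hfst, Scheme.Hom.comp_apply, ← hs', hs]
      · exfalso
        apply hU _ ⟨hw', hmem⟩
        rw [hπ]
        exact ((pullback.snd G.hom U.ι).base w).2
  apply IsClosedImmersion.of_isPreimmersion
  rw [hr]
  exact isClosed_closure.preimage (pullback.fst G.hom U.ι).continuous

end Groth.Agent.Helper18.GenSep
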