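import Groth.Agent.Lib.Helper18.GaTorsor
import Groth.Agent.Lib.Helper18.H90
import Groth.Prelude.Def_GmPts

/-!
# Torsors under the multiplicative group are Zariski locally trivial (helper18)
-/

set_option autoImplicit false
set_option linter.style.haveILetI false
universe u
open CategoryTheory CategoryTheory.Limits MonoidalCategory CartesianMonoidalCategory MonObj
  AlgebraicGeometry TensorProduct

noncomputable section

namespace Groth.Agent.Helper18.GmTorsor

open Groth.Agent.Helper18 Groth.Agent.Helper18.GaTorsor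

theorem isUnit_of_basicOpen_eq_top {Z : Scheme.{u}} (s : Γ(Z, ⊤)) (h : Z.basicOpen s = ⊤) :
    IsUnit s := by
  apply Z.toRingedSpace.isUnit_of_isUnit_germ ⊤ s
  intro x hx
  have hx' : x ∈ Z.basicOpen s := by rw [h]; trivial
  exact (Z.mem_basicOpen_top s x).1 hx'

section Affine

variable {S : Scheme.{u}} {A : Type u} [CommRing A] (f : Spec (CommRingCat.of A) ⟶ S)

/-- the unit function of a `𝔾_m`-point of an affine test object, as a ring element -/
def fn (R : Type u) [CommRing R] [Algebra A R] (t : TT f R ⟶ Red.Gm S) : R :=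
  (Scheme.ΓSpecIso (CommRingCat.of R)).hom (Red.gmFn t)

theorem fn_mul (R : Type u) [CommRing R] [Algebra A R] (t t' : TT f R ⟶ Red.Gm S) :
    fn f R (t * t') = fn f R t * fn f R t' := by
  unfold fn
  rw [GmPts.gmFn_mul, map_mul]

theorem fn_inv_mul (R : Type u) [CommRing R] [Algebra A R] (t : TT f R ⟶ Red.Gm S) :
    fn f R t * fn f R t⁻¹ = 1 := by
  unfold fn
  rw [mul_comm, ← map_mul, GmPts.gmFn_inv, map_one]

theorem fn_rr {R R' : Type u} [CommRing R] [CommRing R'] [Algebra A R] [Algebra A R']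
    (h : R →ₐ[A] R') (t : TT f R ⟶ Red.Gm S) : fn f R' (rr f h ≫ t) = h (fn f R t) := by
  unfold fn
  rw [GmPts.gmFn_comp, rr_left]
  exact congrArg (fun k => k.hom (Red.gmFn t))
    (Scheme.ΓSpecIso_naturality (CommRingCat.ofHom h.toRingHom))

end Affine

section Descent

variable {S : Scheme.{u}} (A B : Type u) [CommRing A] [CommRing B] [Algebra A B]
  [Module.FaithfullyFlat A B]
  (f : Spec (CommRingCat.of A) ⟶ S) {X : Over S} (a : AlgGrp.Action (Red.Gm S) X)

set_option maxHeartbeats 1600000 in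
theorem exists_local_section (hps : NonAbH1.IsPseudoTorsorSch a) (x : TT f B ⟶ X)
    (𝔭 : ↥(Spec (CommRingCat.of A))) :
    ∃ (U : (Spec (CommRingCat.of A)).Opens) (s : (U : Scheme.{u}) ⟶ X.left),
      𝔭 ∈ U ∧ s ≫ X.hom = U.ι ≫ f := by
  let iL : B →ₐ[A] B ⊗[A] B := Algebra.TensorProduct.includeLeft
  let iR : B →ₐ[A] B ⊗[A] B := Algebra.TensorProduct.includeRight
  let p₁ := rr f iL
  let p₂ := rr f iR
  let q₁₂ := rr f (AmitsurH1.q12 A B)
  let q₁₃ := rr f (AmitsurH1.q13 A B)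
  let q₂₃ := rr f (AmitsurH1.q23 A B)
  have e₁ : q₁₂ ≫ p₁ = q₁₃ ≫ p₁ := by
    rw [rr_comp, rr_comp]
    congr 1
  have e₂ : q₁₂ ≫ p₂ = q₂₃ ≫ p₁ := by
    rw [rr_comp, rr_comp]
    congr 1
  have e₃ : q₁₃ ≫ p₂ = q₂₃ ≫ p₂ := by
    rw [rr_comp, rr_comp]
    congr 1
  obtain ⟨g, hg⟩ := PseudoTorsPts.pt_exists a hps (p₂ ≫ x) (p₁ ≫ x)
  have hc := cocycle a hps p₁ p₂ q₁₂ q₁₃ q₂₃ e₁ e₂ e₃ x g hg
  have hu : AmitsurH1.q12 A B (fn f _ g) * AmitsurH1.q23 A B (fn f _ g) =
      AmitsurH1.q13 A B (fn f _ g) := by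
    have := congrArg (fn f _) hc
    rw [fn_mul, fn_rr, fn_rr, fn_rr] at this
    exact this
  let 𝔭' : PrimeSpectrum A := 𝔭
  haveI := 𝔭'.isPrime
  obtain ⟨l, l', g₀, hg₀, hl, hll⟩ := H90.main A B (fn f _ g) (fn f _ g⁻¹) (fn_inv_mul f _ g) hu
    𝔭'.asIdeal
  let sA : Γ(Spec (CommRingCat.of A), ⊤) := (Scheme.ΓSpecIso (CommRingCat.of A)).inv g₀
  let U : (Spec (CommRingCat.of A)).Opens := (Spec (CommRingCat.of A)).basicOpen sA
  have h𝔭U : 𝔭 ∈ U := by
    show 𝔭 ∈ (Spec (CommRingCat.of A)).basicOpen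
      ((Scheme.ΓSpecIso (CommRingCat.of A)).inv g₀)
    rw [basicOpen_eq_of_affine]
    exact hg₀
  let π : Spec (CommRingCat.of B) ⟶ Spec (CommRingCat.of A) :=
    Spec.map (CommRingCat.ofHom (algebraMap A B))
  have hfs : Flat π ∧ Surjective π :=
    (flat_and_surjective_SpecMap_iff _).mpr
      ((RingHom.faithfullyFlat_algebraMap_iff (R := A) (S := B)).mpr inferInstance)
  haveI := hfs.1
  haveI := hfs.2
  let V : (Spec (CommRingCat.of B)).Opens := π ⁻¹ᵁ U
  let lt : Γ(Spec (CommRingCat.of B), ⊤) := (Scheme.ΓSpecIso (CommRingCat.of B)).inv l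
  let lt' : Γ(Spec (CommRingCat.of B), ⊤) := (Scheme.ΓSpecIso (CommRingCat.of B)).inv l'
  have hunit : IsUnit (V.ι.appTop lt) := by
    have h1 : V.ι.appTop lt * V.ι.appTop lt' = V.ι.appTop (π.appTop sA) := by
      rw [← map_mul]
      congr 1
      show (Scheme.ΓSpecIso (CommRingCat.of B)).inv l *
        (Scheme.ΓSpecIso (CommRingCat.of B)).inv l' =
          π.appTop ((Scheme.ΓSpecIso (CommRingCat.of A)).inv g₀)
      rw [← map_mul, hll]
      exact congrArg (fun k => k.hom g₀)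
        (Scheme.ΓSpecIso_inv_naturality (CommRingCat.ofHom (algebraMap A B)))
    have h2 : IsUnit (V.ι.appTop (π.appTop sA)) := by
      apply isUnit_of_basicOpen_eq_top
      rw [← Scheme.preimage_basicOpen_top, ← Scheme.preimage_basicOpen_top]
      exact V.ι_preimage_self
    rw [← h1] at h2
    exact isUnit_of_mul_isUnit_left h2
  let TV : Over S := Over.mk (V.ι ≫ π ≫ f)
  let iV : TV ⟶ TT f B := Over.homMk V.ι rfl
  let xV : TV ⟶ X := iV ≫ x
  let b : TV ⟶ Red.Gm S := GmPts.ptOfUnit hunit.unit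
  let πV : (V : Scheme.{u}) ⟶ (U : Scheme.{u}) := π ∣_ U
  haveI : Surjective πV :=
    MorphismProperty.of_isPullback (P := @Surjective) (isPullback_morphismRestrict π U).flip
      inferInstance
  haveI : Flat πV := by
    show Flat (π ∣_ U)
    infer_instance
  haveI : QuasiCompact πV := by
    show QuasiCompact (π ∣_ U)
    infer_instance
  have hπV : πV ≫ U.ι = V.ι ≫ π := morphismRestrict_ι π U
  have hcond : ∀ {Z : Scheme.{u}} (g₁ g₂ : Z ⟶ (V : Scheme.{u})), g₁ ≫ πV = g₂ ≫ πV →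
      g₁ ≫ (lift b⁻¹ xV ≫ a.act).left = g₂ ≫ (lift b⁻¹ xV ≫ a.act).left := by
    intro Z g₁ g₂ hgg
    have hh : (g₁ ≫ V.ι) ≫ π = (g₂ ≫ V.ι) ≫ π := by
      rw [Category.assoc, Category.assoc, ← hπV, ← Category.assoc, hgg, Category.assoc]
    obtain ⟨t, ht1, ht2⟩ : ∃ t : Z ⟶ Spec (CommRingCat.of (B ⊗[A] B)),
        t ≫ Spec.map (CommRingCat.ofHom iL.toRingHom) = g₁ ≫ V.ι ∧
        t ≫ Spec.map (CommRingCat.ofHom iR.toRingHom) = g₂ ≫ V.ι := by
      refine ⟨pullback.lift (g₁ ≫ V.ι) (g₂ ≫ V.ι) hh ≫ (pullbackSpecIso A B B).hom, ?_, ?_⟩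
      · have := pullbackSpecIso_hom_fst A B B
        rw [Category.assoc]
        erw [this]
        exact pullback.lift_fst _ _ _
      · have := pullbackSpecIso_hom_snd A B B
        rw [Category.assoc]
        erw [this]
        exact pullback.lift_snd _ _ _
    let Z' : Over S := Over.mk (t ≫ (TT f (B ⊗[A] B)).hom)
    let t' : Z' ⟶ TT f (B ⊗[A] B) := Over.homMk t rfl
    let G₁ : Z' ⟶ TV := Over.homMk g₁ (by
      show g₁ ≫ V.ι ≫ π ≫ f = t ≫ (TT f (B ⊗[A] B)).hom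
      rw [← Over.w p₁, ← Category.assoc g₁, ← ht1, Category.assoc]
      rfl)
    let G₂ : Z' ⟶ TV := Over.homMk g₂ (by
      show g₂ ≫ V.ι ≫ π ≫ f = t ≫ (TT f (B ⊗[A] B)).hom
      rw [← Over.w p₂, ← Category.assoc g₂, ← ht2, Category.assoc]
      rfl)
    have h1 : t' ≫ p₁ = G₁ ≫ iV := Over.OverMorphism.ext ht1
    have h2 : t' ≫ p₂ = G₂ ≫ iV := Over.OverMorphism.ext ht2
    have hg' : lift (t' ≫ g) (G₂ ≫ xV) ≫ a.act = G₁ ≫ xV := by
      have := congrArg (fun k => t' ≫ k) hg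
      rw [comp_act, ← Category.assoc t' p₂, h2, ← Category.assoc t' p₁, h1, Category.assoc,
        Category.assoc] at this
      exact this
    have hb : t' ≫ g = (G₁ ≫ b) * (G₂ ≫ b)⁻¹ := by
      rw [eq_mul_inv_iff_mul_eq]
      apply GmPts.gmFn_injective
      show Red.gmFn ((t' ≫ g) * (G₂ ≫ b)) = Red.gmFn (G₁ ≫ b)
      rw [GmPts.gmFn_mul, GmPts.gmFn_comp, GmPts.gmFn_comp, GmPts.gmFn_comp,
        GmPts.gmFn_ptOfUnit]
      have key0 : Red.gmFn g = (Scheme.ΓSpecIso (CommRingCat.of (B ⊗[A] B))).inv (fn f _ g) := by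
        unfold fn
        exact (congrArg (fun k => k.hom (Red.gmFn g))
          (Scheme.ΓSpecIso (CommRingCat.of (B ⊗[A] B))).hom_inv_id).symm
      have key1 : g₁.appTop (V.ι.appTop lt) =
          t.appTop ((Scheme.ΓSpecIso (CommRingCat.of (B ⊗[A] B))).inv (iL l)) := by
        have e : g₁.appTop (V.ι.appTop lt) = (g₁ ≫ V.ι).appTop lt := by
          rw [Scheme.Hom.comp_appTop]; rfl
        rw [e, ← ht1, Scheme.Hom.comp_appTop]
        show t.appTop ((Spec.map (CommRingCat.ofHom iL.toRingHom)).appTop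
          ((Scheme.ΓSpecIso (CommRingCat.of B)).inv l)) = _
        congr 1
        exact (congrArg (fun k => k.hom l)
          (Scheme.ΓSpecIso_inv_naturality (CommRingCat.ofHom iL.toRingHom))).symm
      have key2 : g₂.appTop (V.ι.appTop lt) =
          t.appTop ((Scheme.ΓSpecIso (CommRingCat.of (B ⊗[A] B))).inv (iR l)) := by
        have e : g₂.appTop (V.ι.appTop lt) = (g₂ ≫ V.ι).appTop lt := by
          rw [Scheme.Hom.comp_appTop]; rfl
        rw [e, ← ht2, Scheme.Hom.comp_appTop]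
        show t.appTop ((Spec.map (CommRingCat.ofHom iR.toRingHom)).appTop
          ((Scheme.ΓSpecIso (CommRingCat.of B)).inv l)) = _
        congr 1
        exact (congrArg (fun k => k.hom l)
          (Scheme.ΓSpecIso_inv_naturality (CommRingCat.ofHom iR.toRingHom))).symm
      show t.appTop (Red.gmFn g) * g₂.appTop (V.ι.appTop lt) = g₁.appTop (V.ι.appTop lt)
      rw [key0, key1, key2, ← map_mul, ← map_mul]
      congr 2
    exact congrArg (fun k => k.left) (modify a G₁ G₂ xV (t' ≫ g) hg' b hb)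
  refine ⟨U, EffectiveEpi.desc πV (lift b⁻¹ xV ≫ a.act).left hcond, h𝔭U, ?_⟩
  rw [← cancel_epi πV, EffectiveEpi.fac_assoc, Over.w]
  show V.ι ≫ π ≫ f = πV ≫ U.ι ≫ f
  rw [← Category.assoc πV, hπV, Category.assoc]

end Descent

section Main

theorem flat_GmZ : Flat (GmPts.GmZ.{u}).hom := by
  show Flat (Spec.map (CommRingCat.ofHom (algebraMap (ULift.{u} ℤ)
    (MonoidAlgebra (ULift.{u} ℤ) (Multiplicative ℤ)))))
  rw [Flat.SpecMap_iff]
  exact (RingHom.flat_algebraMap_iff).mpr inferInstance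

theorem flat_Gm (S : Scheme.{u}) : Flat (Red.Gm S).hom := by
  haveI := flat_GmZ.{u}
  show Flat (pullback.snd (GmPts.GmZ.{u}).hom _)
  infer_instance

theorem isAffineHom_Gm (S : Scheme.{u}) : IsAffineHom (Red.Gm S).hom := by
  haveI : IsAffineHom (GmPts.GmZ.{u}).hom := by
    show IsAffineHom (Spec.map (CommRingCat.ofHom (algebraMap (ULift.{u} ℤ)
      (MonoidAlgebra (ULift.{u} ℤ) (Multiplicative ℤ)))))
    infer_instance
  exact MorphismProperty.pullback_snd (P := @IsAffineHom) _ _ this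

theorem hasLocalSection_of_affine {S : Scheme.{u}} (X : Over S) (a : AlgGrp.Action (Red.Gm S) X)
    (hps : NonAbH1.IsPseudoTorsorSch a) [IsAffineHom X.hom] [Flat X.hom] [Surjective X.hom]
    (R : CommRingCat.{u}) (f : Spec R ⟶ S) (𝔭 : ↥(Spec R)) :
    ∃ (U : (Spec R).Opens) (s : (U : Scheme.{u}) ⟶ X.left), 𝔭 ∈ U ∧ s ≫ X.hom = U.ι ≫ f := by
  haveI : IsAffine (pullback X.hom f) := isAffine_of_isAffineHom (pullback.snd X.hom f)
  let B : CommRingCat.{u} := Γ(pullback X.hom f, ⊤)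
  let e : pullback X.hom f ≅ Spec B := (pullback X.hom f).isoSpec
  let φ : R ⟶ B := Spec.preimage (e.inv ≫ pullback.snd X.hom f)
  have hφ : Spec.map φ = e.inv ≫ pullback.snd X.hom f := Spec.map_preimage _
  letI : Algebra R B := φ.hom.toAlgebra
  have hff : Module.FaithfullyFlat R B := by
    have h1 : Flat (Spec.map φ) ∧ Surjective (Spec.map φ) := by
      rw [hφ]
      exact ⟨inferInstance, inferInstance⟩
    exact (RingHom.faithfullyFlat_algebraMap_iff).mp ((flat_and_surjective_SpecMap_iff φ).mp h1)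
  let x : TT (A := R) f B ⟶ X := Over.homMk (e.inv ≫ pullback.fst X.hom f) (by
    show (e.inv ≫ pullback.fst X.hom f) ≫ X.hom = Spec.map φ ≫ f
    rw [hφ, Category.assoc, Category.assoc, pullback.condition])
  exact exists_local_section R B f a hps x 𝔭

theorem main {S : Scheme.{u}} (X : Over S) (a : AlgGrp.Action (Red.Gm S) X)
    (h : NonAbH1.IsTorsorFor Scheme.fpqcPrecoverage a) :
    NonAbH1.IsTorsorFor Scheme.zariskiPrecoverage a := by
  haveI := flat_Gm S
  haveI := isAffineHom_Gm S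
  obtain ⟨haff, hflat⟩ := FpqcTorsor.main6004 (Red.Gm S) X a h
  haveI : Surjective X.hom := ((FpqcTorsor.main6003 (Red.Gm S) X a).mp h).2.1
  have hloc : ∀ s : S, ∃ (W : Scheme.{u}) (j : W ⟶ S) (_ : IsOpenImmersion j) (σ : W ⟶ X.left),
      s ∈ Set.range j ∧ σ ≫ X.hom = j := by
    intro s
    obtain ⟨i, 𝔭, h𝔭⟩ := S.affineCover.exists_eq s
    obtain ⟨U, σ, hU, hσ⟩ := hasLocalSection_of_affine X a h.1 _ (S.affineCover.f i) 𝔭
    have hoi : IsOpenImmersion (S.affineCover.f i) := S.affineCover.map_prop i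
    refine ⟨U, U.ι ≫ S.affineCover.f i, @IsOpenImmersion.comp _ _ _ U.ι (S.affineCover.f i) inferInstance hoi, σ,
      ⟨⟨𝔭, hU⟩, ?_⟩, hσ⟩
    rw [Scheme.Hom.comp_apply]
    exact h𝔭
  choose W j hj σ hs hσ using hloc
  let 𝒰 : S.OpenCover := {
    I₀ := S, X := W, f := j,
    mem₀ := by
      rw [Scheme.presieve₀_mem_precoverage_iff]
      exact ⟨fun s => ⟨s, hs s⟩, hj⟩ }
  refine ⟨h.1, 𝒰.presieve₀, 𝒰.mem₀, ?_⟩
  rintro S' f ⟨s⟩
  exact ⟨σ s, hσ s⟩

end Main

end Groth.Agent.Helper18.GmTorsor
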