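import Mathlib
import Groth.Prelude
import Groth.Agent.Lib.Helper18.OrbitClosed

set_option autoImplicit false
set_option linter.style.haveILetI false
universe u
open CategoryTheory MonoidalCategory CartesianMonoidalCategory MonObj GrpObj AlgebraicGeometry Limits
open Groth.Agent.Helper28.AlgGrpShear
open Topology TopologicalSpace

namespace Groth.Agent.Helper18.GoodQuotOpen

open Groth.Agent.Helper18.OrbitLC Groth.Agent.Helper18.OrbitClosed

variable {k : Type u} [Field k]
variable {G X Y : Over (Spec (CommRingCat.of k))} [GrpObj G]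

section Top

variable (a : AlgGrp.Action G X) (φ : X ⟶ Y) (U : Y.left.Opens)
  (aU : AlgGrp.Action G (Over.mk ((φ.left ⁻¹ᵁ U).ι ≫ X.hom)))
  (jU : Over.mk ((φ.left ⁻¹ᵁ U).ι ≫ X.hom) ⟶ X) (hjU : jU.left = (φ.left ⁻¹ᵁ U).ι)
  (haU : aU.act ≫ jU = (G ◁ jU) ≫ a.act)
  (φU : Over.mk ((φ.left ⁻¹ᵁ U).ι ≫ X.hom) ⟶ Over.mk (U.ι ≫ Y.hom))
  (hφU : φU.left ≫ U.ι = (φ.left ⁻¹ᵁ U).ι ≫ φ.left)

include hjU in
theorem range_jU : Set.range jU.left.base = ((φ.left ⁻¹ᵁ U : X.left.Opens) : Set X.left) := by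
  rw [hjU]
  exact Scheme.Opens.range_ι _

include hjU in
theorem jU_injective : Function.Injective jU.left.base := by
  rw [hjU]
  exact (φ.left ⁻¹ᵁ U).ι.isOpenEmbedding.injective

include hjU hφU in
theorem phiU_apply (w : (Over.mk ((φ.left ⁻¹ᵁ U).ι ≫ X.hom)).left) :
    U.ι.base (φU.left.base w) = φ.left.base (jU.left.base w) := by
  have := congrArg (fun m => m.base w) hφU
  rw [hjU]
  simpa using this

include hjU in
theorem mem_range_of_phi_mem (x : X.left) (hx : φ.left.base x ∈ U) :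
    ∃ w, jU.left.base w = x := by
  have : x ∈ Set.range jU.left.base := by
    rw [range_jU φ U jU hjU]
    exact hx
  exact this

include haU in
theorem invariant_image (W : Set (Over.mk ((φ.left ⁻¹ᵁ U).ι ≫ X.hom)).left)
    (hW : NRQuot.IsInvariantSet aU W) : Stable a (jU.left.base '' W) := by
  intro p hp
  obtain ⟨w, hwW, hw⟩ := hp
  obtain ⟨p', hp1, hp2⟩ := Scheme.exists_preimage_of_isPullback
    ((isPullback_snd G jU).map (Over.forget _)) w p hw
  have hp1' : (snd G (Over.mk ((φ.left ⁻¹ᵁ U).ι ≫ X.hom))).left.base p' = w := hp1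
  have hp2' : (G ◁ jU).left.base p' = p := hp2
  refine ⟨aU.act.left.base p', hW p' (by rw [hp1']; exact hwW), ?_⟩
  have e := congrArg (fun m => m.left.base p') haU
  simp only [Over.comp_left, Scheme.Hom.comp_base, TopCat.comp_app] at e
  rw [← hp2']
  exact e

include hjU in
theorem mem_of_mem_closure_image (W : Set (Over.mk ((φ.left ⁻¹ᵁ U).ι ≫ X.hom)).left)
    (hWc : IsClosed W) (w : (Over.mk ((φ.left ⁻¹ᵁ U).ι ≫ X.hom)).left)
    (hw : jU.left.base w ∈ closure (jU.left.base '' W)) : w ∈ W := by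
  have hind : Topology.IsInducing jU.left.base := by
    rw [hjU]
    exact (φ.left ⁻¹ᵁ U).ι.isOpenEmbedding.isInducing
  have := hind.closure_eq_preimage_closure_image W
  rw [hWc.closure_eq] at this
  rw [this]
  exact hw

theorem mem_U_of_eq (x : X.left) (y : (Over.mk (U.ι ≫ Y.hom)).left)
    (hxy : φ.left.base x = U.ι.base y) : φ.left.base x ∈ U := by
  rw [hxy]
  have : U.ι.base y ∈ Set.range U.ι.base := ⟨y, rfl⟩
  rw [Scheme.Opens.range_ι] at this
  exact this

include hjU haU hφU in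
theorem closed_image (h : NRQuot.IsGoodQuot a φ)
    (W : Set (Over.mk ((φ.left ⁻¹ᵁ U).ι ≫ X.hom)).left)
    (hWc : IsClosed W) (hW : NRQuot.IsInvariantSet aU W) :
    IsClosed (φU.left.base '' W) := by
  have hst : Stable a (closure (jU.left.base '' W)) :=
    (invariant_image a φ U aU jU haU W hW).cl
  have hcl : IsClosed (φ.left.base '' closure (jU.left.base '' W)) :=
    h.closed _ isClosed_closure hst
  have heq : φU.left.base '' W = U.ι.base ⁻¹' (φ.left.base '' closure (jU.left.base '' W)) := by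
    ext y
    constructor
    · rintro ⟨w, hw, rfl⟩
      exact ⟨jU.left.base w, subset_closure ⟨w, hw, rfl⟩,
        (phiU_apply φ U jU hjU φU hφU w).symm⟩
    · rintro ⟨x, hx, hxy⟩
      have hxU : φ.left.base x ∈ U := mem_U_of_eq φ U x y hxy
      obtain ⟨w, rfl⟩ := mem_range_of_phi_mem φ U jU hjU x hxU
      have hwW : w ∈ W := mem_of_mem_closure_image φ U jU hjU W hWc w hx
      refine ⟨w, hwW, ?_⟩
      apply U.ι.isOpenEmbedding.injective
      rw [phiU_apply φ U jU hjU φU hφU, hxy]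
  rw [heq]
  exact hcl.preimage U.ι.continuous

include hjU haU hφU in
theorem inter_image (h : NRQuot.IsGoodQuot a φ) (J : Type u)
    (W : J → Set (Over.mk ((φ.left ⁻¹ᵁ U).ι ≫ X.hom)).left)
    (hWc : ∀ i, IsClosed (W i)) (hW : ∀ i, NRQuot.IsInvariantSet aU (W i)) :
    φU.left.base '' (⋂ i, W i) = ⋂ i, φU.left.base '' (W i) := by
  apply Set.Subset.antisymm
  · exact Set.image_iInter_subset _ _
  · intro y hy
    rw [Set.mem_iInter] at hy
    have hkey := h.inter J (fun i => closure (jU.left.base '' W i)) (fun i => isClosed_closure)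
      (fun i => (invariant_image a φ U aU jU haU (W i) (hW i)).cl)
    have hy' : U.ι.base y ∈ ⋂ i, φ.left.base '' closure (jU.left.base '' W i) := by
      rw [Set.mem_iInter]
      intro i
      obtain ⟨w, hw, rfl⟩ := hy i
      exact ⟨jU.left.base w, subset_closure ⟨w, hw, rfl⟩,
        (phiU_apply φ U jU hjU φU hφU w).symm⟩
    rw [← hkey] at hy'
    obtain ⟨x, hx, hxy⟩ := hy'
    rw [Set.mem_iInter] at hx
    have hxU : φ.left.base x ∈ U := mem_U_of_eq φ U x y hxy
    obtain ⟨w, rfl⟩ := mem_range_of_phi_mem φ U jU hjU x hxU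
    refine ⟨w, ?_, ?_⟩
    · rw [Set.mem_iInter]
      intro i
      exact mem_of_mem_closure_image φ U jU hjU (W i) (hWc i) w (hx i)
    · apply U.ι.isOpenEmbedding.injective
      rw [phiU_apply φ U jU hjU φU hφU, hxy]

end Top

end Groth.Agent.Helper18.GoodQuotOpen
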