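import Mathlib
import Groth.Prelude
import Groth.Agent.Lib.Helper18.GoodQuotOpen

set_option autoImplicit false
set_option linter.style.haveILetI false
universe u
open CategoryTheory MonoidalCategory CartesianMonoidalCategory MonObj GrpObj AlgebraicGeometry Limits
open Groth.Agent.Helper28.AlgGrpShear
open Topology TopologicalSpace

namespace Groth.Agent.Helper18.GoodQuotOpen

theorem appLE_congr' {A B : Scheme.{u}} {f g : A ⟶ B} (h : f = g) (U : B.Opens) (V : A.Opens)
    (e : V ≤ f ⁻¹ᵁ U) (e' : V ≤ g ⁻¹ᵁ U) :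
    f.appLE U V e = g.appLE U V e' := by
  subst h; rfl

theorem appLE_bijective {A B : Scheme.{u}} (j : A ⟶ B) [IsOpenImmersion j] (W' : B.Opens)
    (W : A.Opens) (hW : W = j ⁻¹ᵁ W') (hW' : W' ≤ j.opensRange) (e : W ≤ j ⁻¹ᵁ W') :
    Function.Bijective (j.appLE W' W e) := by
  subst hW
  have h1 : j.appLE W' (j ⁻¹ᵁ W') e = j.app W' := (Scheme.Hom.app_eq_appLE j).symm
  rw [h1]
  haveI := j.isIso_app W' hW'
  exact ConcreteCategory.bijective_of_isIso (j.app W')

variable {k : Type u} [Field k]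
variable {G X Y : Over (Spec (CommRingCat.of k))} [GrpObj G]

section Sec

variable (a : AlgGrp.Action G X) (φ : X ⟶ Y) (U : Y.left.Opens)
  (aU : AlgGrp.Action G (Over.mk ((φ.left ⁻¹ᵁ U).ι ≫ X.hom)))
  (jU : Over.mk ((φ.left ⁻¹ᵁ U).ι ≫ X.hom) ⟶ X) (hjU : jU.left = (φ.left ⁻¹ᵁ U).ι)
  (haU : aU.act ≫ jU = (G ◁ jU) ≫ a.act)
  (φU : Over.mk ((φ.left ⁻¹ᵁ U).ι ≫ X.hom) ⟶ Over.mk (U.ι ≫ Y.hom))
  (hφU : φU.left ≫ U.ι = (φ.left ⁻¹ᵁ U).ι ≫ φ.left)

include hjU hφU in
theorem comm_left : φU.left ≫ U.ι = jU.left ≫ φ.left := by rw [hjU]; exact hφU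

include hjU hφU in
theorem affine_restrict [IsAffineHom φ.left] : IsAffineHom φU.left := by
  have e : φU.left = φ.left ∣_ U := by
    rw [← cancel_mono U.ι, morphismRestrict_ι]
    exact hφU
  rw [e]
  exact IsZariskiLocalAtTarget.restrict (P := @IsAffineHom) inferInstance U

include hjU haU hφU in
theorem inv_restrict (hinv : GIT.IsInvariant a φ) : GIT.IsInvariant aU φU := by
  let jY : Over.mk (U.ι ≫ Y.hom) ⟶ Y := Over.homMk U.ι rfl
  haveI : Mono jY := by
    haveI : Mono ((Over.forget _).map jY) := inferInstanceAs (Mono U.ι)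
    exact (Over.forget _).mono_of_mono_map inferInstance
  have e1 : φU ≫ jY = jU ≫ φ := by
    ext1
    exact comm_left φ U jU hjU φU hφU
  unfold GIT.IsInvariant at hinv ⊢
  rw [← cancel_mono jY, Category.assoc, Category.assoc, e1, ← Category.assoc, haU, Category.assoc,
    hinv, ← Category.assoc (G ◁ jU), whiskerLeft_snd, Category.assoc]

end Sec

end Groth.Agent.Helper18.GoodQuotOpen
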