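import Mathlib
import Groth.Prelude
import Groth.Agent.Lib.Helper18.GoodQuotOpen2

set_option autoImplicit false
set_option linter.style.haveILetI false
universe u
open CategoryTheory MonoidalCategory CartesianMonoidalCategory MonObj GrpObj AlgebraicGeometry Limits
open Groth.Agent.Helper28.AlgGrpShear
open Topology TopologicalSpace

namespace Groth.Agent.Helper18.GoodQuotOpen

variable {k : Type u} [Field k]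
variable {G X Y : Over (Spec (CommRingCat.of k))} [GrpObj G]

section Sec

variable (a : AlgGrp.Action G X) (φ : X ⟶ Y) (U : Y.left.Opens)
  (aU : AlgGrp.Action G (Over.mk ((φ.left ⁻¹ᵁ U).ι ≫ X.hom)))
  (jU : Over.mk ((φ.left ⁻¹ᵁ U).ι ≫ X.hom) ⟶ X) (hjU : jU.left = (φ.left ⁻¹ᵁ U).ι)
  (haU : aU.act ≫ jU = (G ◁ jU) ≫ a.act)
  (φU : Over.mk ((φ.left ⁻¹ᵁ U).ι ≫ X.hom) ⟶ Over.mk (U.ι ≫ Y.hom))
  (hφU : φU.left ≫ U.ι = (φ.left ⁻¹ᵁ U).ι ≫ φ.left)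
  (V : (Over.mk (U.ι ≫ Y.hom)).left.Opens)

include hjU in
theorem isOpenImmersion_jU : IsOpenImmersion jU.left := by
  rw [hjU]; infer_instance

include hjU in
theorem isOpenImmersion_J : IsOpenImmersion (G ◁ jU).left := by
  haveI := isOpenImmersion_jU φ U jU hjU
  exact MorphismProperty.of_isPullback (P := @IsOpenImmersion)
    ((isPullback_snd G jU).map (Over.forget _)) (inferInstanceAs (IsOpenImmersion jU.left))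

include hjU hφU in
theorem preim_X : jU.left ⁻¹ᵁ (φ.left ⁻¹ᵁ (U.ι ''ᵁ V)) = φU.left ⁻¹ᵁ V := by
  have e := comm_left φ U jU hjU φU hφU
  calc jU.left ⁻¹ᵁ (φ.left ⁻¹ᵁ (U.ι ''ᵁ V)) = (jU.left ≫ φ.left) ⁻¹ᵁ (U.ι ''ᵁ V) := rfl
    _ = (φU.left ≫ U.ι) ⁻¹ᵁ (U.ι ''ᵁ V) := by rw [e]
    _ = φU.left ⁻¹ᵁ (U.ι ⁻¹ᵁ (U.ι ''ᵁ V)) := rfl
    _ = φU.left ⁻¹ᵁ V := by rw [Scheme.Hom.preimage_image_eq]

include hjU in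
theorem le_range_X : ((φ.left ⁻¹ᵁ (U.ι ''ᵁ V) : X.left.Opens) : Set X.left) ⊆
    Set.range jU.left.base := by
  intro x hx
  have h1 : φ.left.base x ∈ U := by
    have : φ.left.base x ∈ (U.ι ''ᵁ V : Y.left.Opens) := hx
    have h2 := U.ι.image_le_opensRange V this
    rw [Scheme.Opens.opensRange_ι] at h2
    exact h2
  obtain ⟨w, hw⟩ := mem_range_of_phi_mem φ U jU hjU x h1
  exact ⟨w, hw⟩

/-- the open `W'` of `G × X` -/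
noncomputable def W' : (G ⊗ X).left.Opens :=
  a.act.left ⁻¹ᵁ (φ.left ⁻¹ᵁ (U.ι ''ᵁ V)) ⊓ (snd G X).left ⁻¹ᵁ (φ.left ⁻¹ᵁ (U.ι ''ᵁ V))

/-- the open `W` of `G × X_U` -/
noncomputable def W : (G ⊗ (Over.mk ((φ.left ⁻¹ᵁ U).ι ≫ X.hom))).left.Opens :=
  aU.act.left ⁻¹ᵁ (φU.left ⁻¹ᵁ V) ⊓
    (snd G (Over.mk ((φ.left ⁻¹ᵁ U).ι ≫ X.hom))).left ⁻¹ᵁ (φU.left ⁻¹ᵁ V)

include hjU haU hφU in
theorem W_eq : W φ U aU φU V = (G ◁ jU).left ⁻¹ᵁ (W' a φ U V) := by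
  have e1 : (G ◁ jU).left ≫ a.act.left = aU.act.left ≫ jU.left := by
    have := congrArg (fun m => m.left) haU
    simpa using this.symm
  have e2 : (G ◁ jU).left ≫ (snd G X).left =
      (snd G (Over.mk ((φ.left ⁻¹ᵁ U).ι ≫ X.hom))).left ≫ jU.left := by
    have := congrArg (fun m => m.left) (whiskerLeft_snd G jU)
    simpa using this
  have hp := preim_X φ U jU hjU φU hφU V
  unfold W W'
  have h1 : (G ◁ jU).left ⁻¹ᵁ (a.act.left ⁻¹ᵁ (φ.left ⁻¹ᵁ (U.ι ''ᵁ V))) =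
      aU.act.left ⁻¹ᵁ (φU.left ⁻¹ᵁ V) := by
    calc (G ◁ jU).left ⁻¹ᵁ (a.act.left ⁻¹ᵁ (φ.left ⁻¹ᵁ (U.ι ''ᵁ V)))
        = ((G ◁ jU).left ≫ a.act.left) ⁻¹ᵁ (φ.left ⁻¹ᵁ (U.ι ''ᵁ V)) := rfl
      _ = (aU.act.left ≫ jU.left) ⁻¹ᵁ (φ.left ⁻¹ᵁ (U.ι ''ᵁ V)) := by rw [e1]
      _ = aU.act.left ⁻¹ᵁ (jU.left ⁻¹ᵁ (φ.left ⁻¹ᵁ (U.ι ''ᵁ V))) := rfl
      _ = _ := by rw [hp]
  have h2 : (G ◁ jU).left ⁻¹ᵁ ((snd G X).left ⁻¹ᵁ (φ.left ⁻¹ᵁ (U.ι ''ᵁ V))) =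
      (snd G (Over.mk ((φ.left ⁻¹ᵁ U).ι ≫ X.hom))).left ⁻¹ᵁ (φU.left ⁻¹ᵁ V) := by
    calc (G ◁ jU).left ⁻¹ᵁ ((snd G X).left ⁻¹ᵁ (φ.left ⁻¹ᵁ (U.ι ''ᵁ V)))
        = ((G ◁ jU).left ≫ (snd G X).left) ⁻¹ᵁ (φ.left ⁻¹ᵁ (U.ι ''ᵁ V)) := rfl
      _ = ((snd G (Over.mk ((φ.left ⁻¹ᵁ U).ι ≫ X.hom))).left ≫ jU.left) ⁻¹ᵁ
            (φ.left ⁻¹ᵁ (U.ι ''ᵁ V)) := by rw [e2]
      _ = (snd G (Over.mk ((φ.left ⁻¹ᵁ U).ι ≫ X.hom))).left ⁻¹ᵁ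
            (jU.left ⁻¹ᵁ (φ.left ⁻¹ᵁ (U.ι ''ᵁ V))) := rfl
      _ = _ := by rw [hp]
  rw [← h1, ← h2]
  rfl

include hjU in
theorem W'_le : ((W' a φ U V : (G ⊗ X).left.Opens) : Set (G ⊗ X).left) ⊆
    Set.range (G ◁ jU).left.base := by
  intro p hp
  have hp2 : (snd G X).left.base p ∈ (φ.left ⁻¹ᵁ (U.ι ''ᵁ V) : X.left.Opens) := hp.2
  obtain ⟨w, hw⟩ := le_range_X φ U jU hjU V hp2
  obtain ⟨p', hp1', hp2'⟩ := Scheme.exists_preimage_of_isPullback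
    ((isPullback_snd G jU).map (Over.forget _)) w p hw
  exact ⟨p', hp2'⟩

end Sec

end Groth.Agent.Helper18.GoodQuotOpen
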