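import Mathlib
import Groth.Prelude
import Groth.Agent.Lib.Helper18.GoodQuotOpen3

set_option autoImplicit false
set_option linter.style.haveILetI false
universe u
open CategoryTheory MonoidalCategory CartesianMonoidalCategory MonObj GrpObj AlgebraicGeometry Limits
open Groth.Agent.Helper28.AlgGrpShear
open Topology TopologicalSpace

namespace Groth.Agent.Helper18.GoodQuotOpen

variable {k : Type u} [Field k]
variable {G X Y : Over (Spec (CommRingCat.of k))} [GrpObj G]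

section Sec

variable (a : AlgGrp.Action G X) (φ : X ⟶ Y) (U : Y.left.Opens)
  (aU : AlgGrp.Action G (Over.mk ((φ.left ⁻¹ᵁ U).ι ≫ X.hom)))
  (jU : Over.mk ((φ.left ⁻¹ᵁ U).ι ≫ X.hom) ⟶ X) (hjU : jU.left = (φ.left ⁻¹ᵁ U).ι)
  (haU : aU.act ≫ jU = (G ◁ jU) ≫ a.act)
  (φU : Over.mk ((φ.left ⁻¹ᵁ U).ι ≫ X.hom) ⟶ Over.mk (U.ι ≫ Y.hom))
  (hφU : φU.left ≫ U.ι = (φ.left ⁻¹ᵁ U).ι ≫ φ.left)
  (V : (Over.mk (U.ι ≫ Y.hom)).left.Opens)

include hjU haU hφU in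
theorem inv_iff (eX : φU.left ⁻¹ᵁ V ≤ jU.left ⁻¹ᵁ (φ.left ⁻¹ᵁ (U.ι ''ᵁ V)))
    (f' : Γ(X.left, φ.left ⁻¹ᵁ (U.ι ''ᵁ V))) :
    GIT.IsInvSection (G := G) aU φU V
      ((jU.left.appLE (φ.left ⁻¹ᵁ (U.ι ''ᵁ V)) (φU.left ⁻¹ᵁ V) eX).hom f') ↔
    GIT.IsInvSection (G := G) a φ (U.ι ''ᵁ V) f' := by
  haveI := isOpenImmersion_jU φ U jU hjU
  haveI := isOpenImmersion_J (G := G) φ U jU hjU
  have hWeq := W_eq a φ U aU jU hjU haU φU hφU V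
  have eJ : W φ U aU φU V ≤ (G ◁ jU).left ⁻¹ᵁ (W' a φ U V) := by rw [hWeq]
  have hJ : Function.Injective ((G ◁ jU).left.appLE (W' a φ U V) (W φ U aU φU V) eJ) :=
    (appLE_bijective (G ◁ jU).left _ _ hWeq
      (fun p hp => W'_le a φ U jU hjU V hp) eJ).1
  have e1 : aU.act.left ≫ jU.left = (G ◁ jU).left ≫ a.act.left := by
    have := congrArg (fun m => m.left) haU
    simpa using this
  have e2 : (snd G (Over.mk ((φ.left ⁻¹ᵁ U).ι ≫ X.hom))).left ≫ jU.left =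
      (G ◁ jU).left ≫ (snd G X).left := by
    have := congrArg (fun m => m.left) (whiskerLeft_snd G jU)
    simpa using this.symm
  have key1 : jU.left.appLE (φ.left ⁻¹ᵁ (U.ι ''ᵁ V)) (φU.left ⁻¹ᵁ V) eX ≫
      aU.act.left.appLE (φU.left ⁻¹ᵁ V) (W φ U aU φU V) inf_le_left =
      a.act.left.appLE (φ.left ⁻¹ᵁ (U.ι ''ᵁ V)) (W' a φ U V) inf_le_left ≫
        (G ◁ jU).left.appLE (W' a φ U V) (W φ U aU φU V) eJ := by
    rw [Scheme.Hom.appLE_comp_appLE, Scheme.Hom.appLE_comp_appLE]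
    exact appLE_congr' e1 _ _ _ _
  have key2 : jU.left.appLE (φ.left ⁻¹ᵁ (U.ι ''ᵁ V)) (φU.left ⁻¹ᵁ V) eX ≫
      (snd G (Over.mk ((φ.left ⁻¹ᵁ U).ι ≫ X.hom))).left.appLE (φU.left ⁻¹ᵁ V)
        (W φ U aU φU V) inf_le_right =
      (snd G X).left.appLE (φ.left ⁻¹ᵁ (U.ι ''ᵁ V)) (W' a φ U V) inf_le_right ≫
        (G ◁ jU).left.appLE (W' a φ U V) (W φ U aU φU V) eJ := by
    rw [Scheme.Hom.appLE_comp_appLE, Scheme.Hom.appLE_comp_appLE]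
    exact appLE_congr' e2 _ _ _ _
  have k1 := congrArg (fun m => m.hom f') key1
  have k2 := congrArg (fun m => m.hom f') key2
  simp only [CommRingCat.hom_comp, RingHom.coe_comp, Function.comp_apply] at k1 k2
  unfold GIT.IsInvSection
  constructor
  · intro h
    apply hJ
    have h' : (aU.act.left.appLE (φU.left ⁻¹ᵁ V) (W φ U aU φU V) inf_le_left).hom
        ((jU.left.appLE (φ.left ⁻¹ᵁ (U.ι ''ᵁ V)) (φU.left ⁻¹ᵁ V) eX).hom f') =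
        ((snd G (Over.mk ((φ.left ⁻¹ᵁ U).ι ≫ X.hom))).left.appLE (φU.left ⁻¹ᵁ V)
          (W φ U aU φU V) inf_le_right).hom
        ((jU.left.appLE (φ.left ⁻¹ᵁ (U.ι ''ᵁ V)) (φU.left ⁻¹ᵁ V) eX).hom f') := h
    rw [k1, k2] at h'
    exact h'
  · intro h
    have h' : (a.act.left.appLE (φ.left ⁻¹ᵁ (U.ι ''ᵁ V)) (W' a φ U V) inf_le_left).hom f' =
        ((snd G X).left.appLE (φ.left ⁻¹ᵁ (U.ι ''ᵁ V)) (W' a φ U V) inf_le_right).hom f' := h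
    show (aU.act.left.appLE (φU.left ⁻¹ᵁ V) (W φ U aU φU V) inf_le_left).hom
        ((jU.left.appLE (φ.left ⁻¹ᵁ (U.ι ''ᵁ V)) (φU.left ⁻¹ᵁ V) eX).hom f') =
        ((snd G (Over.mk ((φ.left ⁻¹ᵁ U).ι ≫ X.hom))).left.appLE (φU.left ⁻¹ᵁ V)
          (W φ U aU φU V) inf_le_right).hom
        ((jU.left.appLE (φ.left ⁻¹ᵁ (U.ι ''ᵁ V)) (φU.left ⁻¹ᵁ V) eX).hom f')
    rw [k1, k2, h']

end Sec

end Groth.Agent.Helper18.GoodQuotOpen
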