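import Mathlib
import Groth.Prelude
import Groth.Agent.Lib.Helper18.GoodQuotOpen4

set_option autoImplicit false
set_option linter.style.haveILetI false
universe u
open CategoryTheory MonoidalCategory CartesianMonoidalCategory MonObj GrpObj AlgebraicGeometry Limits
open Groth.Agent.Helper28.AlgGrpShear
open Topology TopologicalSpace

namespace Groth.Agent.Helper18.GoodQuotOpen

variable {k : Type u} [Field k]
variable {G X Y : Over (Spec (CommRingCat.of k))} [GrpObj G]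

section Sec

variable (a : AlgGrp.Action G X) (φ : X ⟶ Y) (U : Y.left.Opens)
  (aU : AlgGrp.Action G (Over.mk ((φ.left ⁻¹ᵁ U).ι ≫ X.hom)))
  (jU : Over.mk ((φ.left ⁻¹ᵁ U).ι ≫ X.hom) ⟶ X) (hjU : jU.left = (φ.left ⁻¹ᵁ U).ι)
  (haU : aU.act ≫ jU = (G ◁ jU) ≫ a.act)
  (φU : Over.mk ((φ.left ⁻¹ᵁ U).ι ≫ X.hom) ⟶ Over.mk (U.ι ≫ Y.hom))
  (hφU : φU.left ≫ U.ι = (φ.left ⁻¹ᵁ U).ι ≫ φ.left)
  (V : (Over.mk (U.ι ≫ Y.hom)).left.Opens)

include hjU haU hφU in
theorem sections_restrict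
    (hsec : Function.Injective (φ.left.app (U.ι ''ᵁ V)) ∧
      Set.range (φ.left.app (U.ι ''ᵁ V)) = {f | GIT.IsInvSection a φ (U.ι ''ᵁ V) f}) :
    Function.Injective (φU.left.app V) ∧
      Set.range (φU.left.app V) = {f | GIT.IsInvSection aU φU V f} := by
  haveI := isOpenImmersion_jU φ U jU hjU
  have eY : V ≤ U.ι ⁻¹ᵁ (U.ι ''ᵁ V) := by rw [Scheme.Hom.preimage_image_eq]
  have hrY : Function.Bijective (U.ι.appLE (U.ι ''ᵁ V) V eY) :=
    appLE_bijective U.ι _ _ (Scheme.Hom.preimage_image_eq _ _).symm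
      (U.ι.image_le_opensRange V) eY
  have hpX := preim_X φ U jU hjU φU hφU V
  have eX : φU.left ⁻¹ᵁ V ≤ jU.left ⁻¹ᵁ (φ.left ⁻¹ᵁ (U.ι ''ᵁ V)) := by rw [hpX]
  have hrX : Function.Bijective
      (jU.left.appLE (φ.left ⁻¹ᵁ (U.ι ''ᵁ V)) (φU.left ⁻¹ᵁ V) eX) :=
    appLE_bijective jU.left _ _ hpX.symm
      (fun x hx => le_range_X φ U jU hjU V hx) eX
  have hsq : φ.left.app (U.ι ''ᵁ V) ≫
      jU.left.appLE (φ.left ⁻¹ᵁ (U.ι ''ᵁ V)) (φU.left ⁻¹ᵁ V) eX =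
      U.ι.appLE (U.ι ''ᵁ V) V eY ≫ φU.left.app V := by
    rw [Scheme.Hom.app_eq_appLE, Scheme.Hom.appLE_comp_appLE,
      Scheme.Hom.app_eq_appLE (f := φU.left), Scheme.Hom.appLE_comp_appLE]
    exact appLE_congr' (comm_left φ U jU hjU φU hφU).symm _ _ _ _
  have hsq_apply : ∀ t, (jU.left.appLE (φ.left ⁻¹ᵁ (U.ι ''ᵁ V)) (φU.left ⁻¹ᵁ V) eX).hom
      ((φ.left.app (U.ι ''ᵁ V)).hom t) =
      (φU.left.app V).hom ((U.ι.appLE (U.ι ''ᵁ V) V eY).hom t) := by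
    intro t
    have := congrArg (fun m => m.hom t) hsq
    simpa using this
  have hiff := inv_iff a φ U aU jU hjU haU φU hφU V eX
  constructor
  · intro s s' h
    obtain ⟨t, rfl⟩ := hrY.2 s
    obtain ⟨t', rfl⟩ := hrY.2 s'
    have h' : (φU.left.app V).hom ((U.ι.appLE (U.ι ''ᵁ V) V eY).hom t) =
        (φU.left.app V).hom ((U.ι.appLE (U.ι ''ᵁ V) V eY).hom t') := h
    rw [← hsq_apply, ← hsq_apply] at h'
    have := hsec.1 (hrX.1 h')
    rw [this]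
  · ext f
    obtain ⟨f', rfl⟩ := hrX.2 f
    constructor
    · rintro ⟨s, hs⟩
      obtain ⟨t, rfl⟩ := hrY.2 s
      have hs' : (φU.left.app V).hom ((U.ι.appLE (U.ι ''ᵁ V) V eY).hom t) =
        (jU.left.appLE (φ.left ⁻¹ᵁ (U.ι ''ᵁ V)) (φU.left ⁻¹ᵁ V) eX).hom f' := hs
      rw [← hsq_apply] at hs'
      have h1 := hrX.1 hs'
      have h2 : (φ.left.app (U.ι ''ᵁ V)).hom t ∈ Set.range (φ.left.app (U.ι ''ᵁ V)) := ⟨t, rfl⟩
      rw [hsec.2, h1] at h2
      exact (hiff f').2 h2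
    · intro hf
      have hinv' := (hiff f').1 hf
      have h2 : f' ∈ Set.range (φ.left.app (U.ι ''ᵁ V)) := by rw [hsec.2]; exact hinv'
      obtain ⟨t, rfl⟩ := h2
      exact ⟨(U.ι.appLE (U.ι ''ᵁ V) V eY).hom t, (hsq_apply t).symm⟩

include hjU haU hφU in
theorem main (h : NRQuot.IsGoodQuot a φ) : NRQuot.IsGoodQuot aU φU where
  affine := by
    haveI := h.affine
    exact affine_restrict φ U jU hjU φU hφU
  inv := inv_restrict a φ U aU jU hjU haU φU hφU h.inv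
  sections := fun V =>
    sections_restrict a φ U aU jU hjU haU φU hφU V (h.sections (U.ι ''ᵁ V))
  closed := fun W hWc hW => closed_image a φ U aU jU hjU haU φU hφU h W hWc hW
  inter := fun J W hWc hW => inter_image a φ U aU jU hjU haU φU hφU h J W hWc hW

end Sec

end Groth.Agent.Helper18.GoodQuotOpen
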