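import Groth.Agent.Lib.Helper18.OrbMapSmooth

/-!
# Orbit maps of homogeneous spaces in characteristic zero are smooth, part 2 (helper18)
-/

set_option autoImplicit false
set_option linter.style.haveILetI false
universe u
open CategoryTheory CategoryTheory.Limits MonoidalCategory CartesianMonoidalCategory MonObj
  AlgebraicGeometry

namespace Groth.Agent.Helper18.OrbMapSmooth

open Groth.Agent.Helper18.GrpFppf

section Trans
variable {S : Scheme.{u}} {G X : Over S} [GrpObj G]

/-- left translation by a rational point -/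
noncomputable def ltrans (τ : 𝟙_ (Over S) ⟶ G) : G ≅ G where
  hom := (toUnit G ≫ τ) * 𝟙 G
  inv := (toUnit G ≫ τ)⁻¹ * 𝟙 G
  hom_inv_id := by
    rw [MonObj.comp_mul, GrpObj.comp_inv, Category.comp_id, ← Category.assoc,
      toUnit_unique (_ ≫ toUnit G) (toUnit G), inv_mul_cancel_left]
  inv_hom_id := by
    rw [MonObj.comp_mul, Category.comp_id, ← Category.assoc,
      toUnit_unique (_ ≫ toUnit G) (toUnit G), mul_inv_cancel_left]

/-- translation of `X` by a rational point of `G` -/
noncomputable def xtrans (a : AlgGrp.Action G X) (τ : 𝟙_ (Over S) ⟶ G) : X ≅ X where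
  hom := lift (toUnit X ≫ τ) (𝟙 X) ≫ a.act
  inv := lift (toUnit X ≫ τ)⁻¹ (𝟙 X) ≫ a.act
  hom_inv_id := by
    rw [← Category.assoc, comp_lift, GrpObj.comp_inv, Category.comp_id, ← Category.assoc,
      toUnit_unique (_ ≫ toUnit X) (toUnit X), ← AlgGrp.Action.lift_mul_act, inv_mul_cancel,
      AlgGrp.Action.lift_one_act]
  inv_hom_id := by
    rw [← Category.assoc, comp_lift, Category.comp_id, ← Category.assoc,
      toUnit_unique (_ ≫ toUnit X) (toUnit X), ← AlgGrp.Action.lift_mul_act, mul_inv_cancel,
      AlgGrp.Action.lift_one_act]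

theorem ltrans_orbitMap (a : AlgGrp.Action G X) (o : 𝟙_ (Over S) ⟶ X) (τ : 𝟙_ (Over S) ⟶ G) :
    (ltrans τ).hom ≫ a.orbitMap o = a.orbitMap o ≫ (xtrans a τ).hom := by
  show ((toUnit G ≫ τ) * 𝟙 G) ≫ a.orbitMap o = a.orbitMap o ≫ lift (toUnit X ≫ τ) (𝟙 X) ≫ a.act
  rw [orbitMap_mul', Category.id_comp, ← Category.assoc, comp_lift, Category.comp_id,
    ← Category.assoc, toUnit_unique (_ ≫ toUnit X) (toUnit G)]

theorem unit_ltrans (τ : 𝟙_ (Over S) ⟶ G) : η[G] ≫ (ltrans τ).hom = τ := by
  show η[G] ≫ ((toUnit G ≫ τ) * 𝟙 G) = τ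
  rw [MonObj.comp_mul, Category.comp_id, ← Category.assoc,
    toUnit_unique (η[G] ≫ toUnit G) (𝟙 _), Category.id_comp]
  have : (η[G] : 𝟙_ (Over S) ⟶ G) = 1 := by
    rw [Hom.one_def, toUnit_unique (toUnit (𝟙_ (Over S))) (𝟙 _), Category.id_comp]
  rw [this, _root_.mul_one]

theorem unit_orbitMap (a : AlgGrp.Action G X) (o : 𝟙_ (Over S) ⟶ X) :
    η[G] ≫ a.orbitMap o = o := by
  have : (η[G] : 𝟙_ (Over S) ⟶ G) = 1 := by
    rw [Hom.one_def, toUnit_unique (toUnit (𝟙_ (Over S))) (𝟙 _), Category.id_comp]
  rw [this, one_orbitMap, toUnit_unique (toUnit (𝟙_ (Over S))) (𝟙 _), Category.id_comp]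

end Trans

section Field
variable {k : Type u} [Field k] [IsAlgClosed k] [CharZero k]

theorem tensorUnit_hom_eq {Y : Over (Spec (CommRingCat.of k))}
    (o : 𝟙_ (Over (Spec (CommRingCat.of k))) ⟶ Y) : o.left ≫ Y.hom = 𝟙 _ := by
  have := Over.w o
  simpa using this

/-- the fibre of an orbit map over the base point is smooth in characteristic zero -/
theorem smooth_fiber (G X : Over (Spec (CommRingCat.of k))) [GrpObj G]
    [LocallyOfFiniteType G.hom] [LocallyOfFiniteType X.hom]
    (a : AlgGrp.Action G X) (o : 𝟙_ (Over (Spec (CommRingCat.of k))) ⟶ X)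
    (y : X.left) (hy' : y = o.left (IsLocalRing.closedPoint k)) :
    Smooth ((a.orbitMap o).left.fiberToSpecResidueField y) := by
  subst hy'
  set f : G ⟶ X := a.orbitMap o with hf
  haveI : LocallyOfFiniteType f.left := by
    haveI : LocallyOfFiniteType (f.left ≫ X.hom) := by rw [Over.w]; infer_instance
    exact locallyOfFiniteType_of_comp f.left X.hom
  obtain ⟨N, hN, n, hn, hpb⟩ := exists_stabilizer a o
  have hpb' : IsPullback n.left (toUnit N).left f.left o.left :=
    hpb.map (Over.forget _)
  have hNhom : (toUnit N).left = N.hom := by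
    have := Over.w (toUnit N)
    simpa using this
  haveI : LocallyOfFiniteType N.hom := by
    rw [← hNhom]
    exact MorphismProperty.of_isPullback (P := @LocallyOfFiniteType) hpb' inferInstance
  haveI : Smooth N.hom := Groth.Agent.S0353.result k N
  have ho : o.left ≫ X.hom = 𝟙 _ := tensorUnit_hom_eq o
  set y := o.left (IsLocalRing.closedPoint k) with hydef
  have hy : IsClosed ({y} : Set X.left) := ((pointEquivClosedPoint X.hom) ⟨o.left, ho⟩).2
  have hpt : pointOfClosedPoint X.hom y hy = o.left :=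
    ext_of_apply_closedPoint_eq X.hom (pointOfClosedPoint_comp _ _ _) ho
      (pointOfClosedPoint_apply _ _ _ _)
  let e := residueFieldIsoBase X.hom y hy
  have hj : Spec.map e.inv ≫ o.left = X.left.fromSpecResidueField y := by
    rw [← hpt, pointOfClosedPoint, ← Category.assoc, ← Spec.map_comp, e.hom_inv_id, Spec.map_id,
      Category.id_comp]
  let j := X.left.fromSpecResidueField y
  let θ : pullback f.left j ⟶ N.left :=
    hpb'.lift (pullback.fst f.left j) (pullback.snd f.left j ≫ Spec.map e.inv) (by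
      rw [pullback.condition, Category.assoc, hj])
  have hθ1 : θ ≫ n.left = pullback.fst f.left j := hpb'.lift_fst _ _ _
  have hθ2 : θ ≫ (toUnit N).left = pullback.snd f.left j ≫ Spec.map e.inv := hpb'.lift_snd _ _ _
  have big : IsPullback (θ ≫ n.left) (pullback.snd f.left j) f.left (Spec.map e.inv ≫ o.left) := by
    rw [hθ1, hj]; exact IsPullback.of_hasPullback _ _
  have top : IsPullback θ (pullback.snd f.left j) (toUnit N).left (Spec.map e.inv) :=
    IsPullback.of_right big hθ2 hpb'
  show Smooth (pullback.snd f.left j)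
  exact MorphismProperty.of_isPullback (P := @Smooth) top (by rw [hNhom]; infer_instance)

theorem smoothLocus_congr {A B : Scheme.{u}} (g₁ g₂ : A ⟶ B) [LocallyOfFinitePresentation g₁]
    [LocallyOfFinitePresentation g₂] (h : g₁ = g₂) : g₁.smoothLocus = g₂.smoothLocus := by
  subst h; rfl

/-- orbit maps of homogeneous spaces are smooth in characteristic zero -/
theorem main (G X : Over (Spec (CommRingCat.of k))) [GrpObj G]
    [LocallyOfFiniteType G.hom] [QuasiCompact G.hom] [LocallyOfFiniteType X.hom]
    [IsReduced X.left] (a : AlgGrp.Action G X)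
    (htrans : ∀ x x' : 𝟙_ (Over (Spec (CommRingCat.of k))) ⟶ X,
      ∃ σ : 𝟙_ (Over (Spec (CommRingCat.of k))) ⟶ G, lift σ x ≫ a.act = x')
    (o : 𝟙_ (Over (Spec (CommRingCat.of k))) ⟶ X) : Smooth (a.orbitMap o).left := by
  set f : G ⟶ X := a.orbitMap o with hf
  let pt : ↥(𝟙_ (Over (Spec (CommRingCat.of k)))).left := (IsLocalRing.closedPoint k : PrimeSpectrum k)
  haveI : JacobsonSpace ↥(Spec (CommRingCat.of k)) :=
    inferInstanceAs (JacobsonSpace (PrimeSpectrum k))
  haveI : JacobsonSpace X.left := LocallyOfFiniteType.jacobsonSpace X.hom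
  haveI : JacobsonSpace G.left := LocallyOfFiniteType.jacobsonSpace G.hom
  haveI : LocallyOfFiniteType f.left := by
    haveI : LocallyOfFiniteType (f.left ≫ X.hom) := by rw [Over.w]; infer_instance
    exact locallyOfFiniteType_of_comp f.left X.hom
  haveI : IsLocallyNoetherian X.left := LocallyOfFiniteType.isLocallyNoetherian X.hom
  haveI : LocallyOfFinitePresentation f.left := inferInstance
  -- dominance
  have hdom : ∀ U : X.left.Opens, Dense (U : Set X.left) → ∃ v : G.left, f.left v ∈ U := by
    intro U hUd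
    haveI : Nonempty X.left := ⟨o.left pt⟩
    obtain ⟨u, huU, hu⟩ := nonempty_inter_closedPoints (X := X.left) (Z := (U : Set X.left))
      hUd.nonempty U.2.isLocallyClosed
    have hu' : IsClosed ({u} : Set X.left) := hu
    let x' : 𝟙_ (Over (Spec (CommRingCat.of k))) ⟶ X :=
      Over.homMk (pointOfClosedPoint X.hom u hu') (by simp)
    obtain ⟨σ, hσ⟩ := htrans o x'
    refine ⟨σ.left pt, ?_⟩
    have h1 : σ ≫ f = x' := by
      rw [hf, AlgGrp.Action.comp_orbitMap, toUnit_unique (toUnit _) (𝟙 _), Category.id_comp, hσ]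
    have h2 : f.left (σ.left pt) = u := by
      rw [← Scheme.Hom.comp_apply, ← Over.comp_left, h1]
      exact pointOfClosedPoint_apply _ _ _ _
    rw [h2]; exact huU
  haveI hflat : Flat f.left := flat_orbitMap G X a o hdom
  -- the unit point is in the smooth locus
  let e₀ : G.left := η[G].left pt
  have he₀ : f.left e₀ = o.left pt := by
    rw [← Scheme.Hom.comp_apply, ← Over.comp_left, unit_orbitMap]
  haveI : Smooth (f.left.fiberToSpecResidueField (f.left e₀)) := smooth_fiber G X a o _ he₀
  haveI : LocallyOfFinitePresentation (f.left.fiberToSpecResidueField (f.left e₀)) := inferInstance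
  have hmem : e₀ ∈ f.left.smoothLocus := by
    rw [Groth.Agent.Helper16.SmoothFibreSch.mem_smoothLocus_iff_flat_and_fiber]
    refine ⟨Flat.stalkMap f.left e₀, ?_⟩
    rw [Scheme.Hom.smoothLocus_eq_top]; trivial
  -- translation
  have hall : closedPoints G.left ⊆ (f.left.smoothLocus : Set G.left) := by
    intro h hh
    have hh' : IsClosed ({h} : Set G.left) := hh
    let τ : 𝟙_ (Over (Spec (CommRingCat.of k))) ⟶ G :=
      Over.homMk (pointOfClosedPoint G.hom h hh') (by simp)
    have heq := ltrans_orbitMap a o τ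
    have heq' : (ltrans τ).hom.left ≫ f.left = f.left ≫ (xtrans a τ).hom.left := by
      rw [← Over.comp_left, ← Over.comp_left, heq]
    haveI : IsIso (ltrans τ).hom.left :=
      inferInstanceAs (IsIso ((Over.forget (Spec (CommRingCat.of k))).map (ltrans τ).hom))
    haveI : IsIso (xtrans a τ).hom.left :=
      inferInstanceAs (IsIso ((Over.forget (Spec (CommRingCat.of k))).map (xtrans a τ).hom))
    have hLe : (ltrans τ).hom.left e₀ = h := by
      rw [← Scheme.Hom.comp_apply, ← Over.comp_left, unit_ltrans]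
      exact pointOfClosedPoint_apply _ _ _ _
    have h1 : e₀ ∈ (f.left ≫ (xtrans a τ).hom.left).smoothLocus := by
      rw [Scheme.Hom.mem_smoothLocus, Scheme.Hom.stalkMap_comp]
      exact (RingHom.FormallySmooth.respectsIso.cancel_left_isIso _ _).mpr hmem
    have h2 : e₀ ∈ ((ltrans τ).hom.left ≫ f.left).smoothLocus := by
      rw [smoothLocus_congr _ _ heq']; exact h1
    rw [← Scheme.Hom.preimage_smoothLocus_eq] at h2
    rw [← hLe]
    exact h2
  have htop : f.left.smoothLocus = ⊤ := by
    apply TopologicalSpace.Opens.ext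
    exact eq_univ_of_isOpen_of_closedPoints _ f.left.smoothLocus.2 hall
  exact Scheme.Hom.smoothLocus_eq_top_iff.mp htop

end Field

end Groth.Agent.Helper18.OrbMapSmooth
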