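import Groth.Agent.Lib.Helper18.OrbitClosed
import Groth.Agent.Lib.Helper18.OrbitSmooth
import Groth.Agent.Lib.Helper18.OrbMapSmooth2
import Groth.Agent.Lib.Helper18.GrpdOm
import Groth.Agent.Lib.Helper28.KPoint
import Groth.Prelude.Def_W4c6nonredquotmfGoodQuot

/-!
# Orbits and good quotients over an algebraically closed field (helper18)
-/

set_option autoImplicit false
set_option linter.style.haveILetI false
universe u
open CategoryTheory MonoidalCategory CartesianMonoidalCategory MonObj GrpObj AlgebraicGeometry Limits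

namespace Groth.Agent.Helper18.GoodQuotOrb

section Pts
variable {k : Type u} [Field k]

/-- a rational point of an arbitrary `k`-scheme is a closed point -/
theorem isClosed_singleton_of_section {Y : Scheme.{u}} (p : Y ⟶ Spec (CommRingCat.of k))
    (s : Spec (CommRingCat.of k) ⟶ Y) (hs : s ≫ p = 𝟙 _) (t : ↥(Spec (CommRingCat.of k))) :
    IsClosed ({s t} : Set Y) := by
  haveI : Subsingleton ↥(Spec (CommRingCat.of k)) :=
    inferInstanceAs (Subsingleton (PrimeSpectrum k))
  rw [← closure_subset_iff_isClosed]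
  intro c' hc'
  have hsp : s t ⤳ c' := specializes_iff_mem_closure.mpr hc'
  obtain ⟨U, hU, hc'U, -⟩ := exists_isAffineOpen_mem_and_subset (x := c') (U := (⊤ : Y.Opens)) trivial
  have hcU : s t ∈ U := hsp.mem_open U.2 hc'U
  have hr : Set.range s ⊆ Set.range U.ι := by
    rintro _ ⟨t', rfl⟩
    rw [Scheme.Opens.range_ι, Subsingleton.elim t' t]
    exact hcU
  let s' : Spec (CommRingCat.of k) ⟶ U := IsOpenImmersion.lift U.ι s hr
  have hs' : s' ≫ U.ι = s := IsOpenImmersion.lift_fac _ _ _
  haveI : IsAffine U.toScheme := hU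
  have hq : s' ≫ (U.ι ≫ p) = 𝟙 _ := by rw [← Category.assoc, hs', hs]
  haveI : IsClosedImmersion s' := isClosedImmersion_of_comp_eq_id (U.ι ≫ p) s' hq
  have hcl : IsClosed (Set.range s') := s'.isClosedEmbedding.isClosed_range
  have hrange : Set.range s' = {s' t} := by
    ext w
    constructor
    · rintro ⟨t', rfl⟩
      rw [Subsingleton.elim t' t]; rfl
    · rintro rfl
      exact ⟨t, rfl⟩
  rw [hrange] at hcl
  have h1 : U.ι (s' t) = s t := by rw [← Scheme.Hom.comp_apply, hs']
  let c'' : U.toScheme := ⟨c', hc'U⟩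
  have h0 : U.ι c'' = c' := rfl
  have hsp' : s' t ⤳ c'' := by
    rw [← U.ι.isEmbedding.isInducing.specializes_iff, h1, h0]
    exact hsp
  have h2 : c'' = s' t := hsp'.mem_closed hcl rfl
  rw [← h0, h2, h1]; rfl

/-- two sections of a `k`-scheme through the same point are equal -/
theorem section_ext {Y : Scheme.{u}} (p : Y ⟶ Spec (CommRingCat.of k))
    (s₁ s₂ : Spec (CommRingCat.of k) ⟶ Y) (h₁ : s₁ ≫ p = 𝟙 _) (h₂ : s₂ ≫ p = 𝟙 _)
    (t : ↥(Spec (CommRingCat.of k))) (h : s₁ t = s₂ t) : s₁ = s₂ := by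
  haveI : Subsingleton ↥(Spec (CommRingCat.of k)) :=
    inferInstanceAs (Subsingleton (PrimeSpectrum k))
  haveI : IsImmersion s₂ := Groth.Agent.Helper18.GrpdOm.isImmersion_section p s₂ h₂
  obtain ⟨e, he⟩ := Groth.Agent.Helper18.OrbitSmooth.exists_lift_of_isReduced_immersion s₂ s₁ (by
    rintro _ ⟨t', rfl⟩
    exact ⟨t, by rw [← h, Subsingleton.elim t' t]⟩)
  have he1 : e = 𝟙 _ := by
    have := congrArg (fun f => f ≫ p) he
    simp only [Category.assoc, h₂, h₁, Category.comp_id] at this
    exact this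
  rw [← he, he1, Category.id_comp]

end Pts

section GQ
variable {k : Type u} [Field k]
variable {G X Y : Over (Spec (CommRingCat.of k))} [GrpObj G]

open Groth.Agent.Helper18.OrbitClosed Groth.Agent.Helper18.OrbMapSmooth

/-- the base point -/
noncomputable abbrev pt (k : Type u) [Field k] : ↥(𝟙_ (Over (Spec (CommRingCat.of k)))).left :=
  (show ↥(Spec (CommRingCat.of k)) from IsLocalRing.closedPoint k)

theorem orbitMap_comp_inv {a : AlgGrp.Action G X} {φ : X ⟶ Y} (h : NRQuot.IsGoodQuot a φ)
    (x : 𝟙_ (Over (Spec (CommRingCat.of k))) ⟶ X) : a.orbitMap x ≫ φ = toUnit G ≫ x ≫ φ := by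
  have hi : a.act ≫ φ = snd G X ≫ φ := h.inv
  rw [AlgGrp.Action.orbitMap, Category.assoc, hi, ← Category.assoc, lift_snd, Category.assoc]

theorem image_orbit {a : AlgGrp.Action G X} {φ : X ⟶ Y} (h : NRQuot.IsGoodQuot a φ)
    (x : 𝟙_ (Over (Spec (CommRingCat.of k))) ⟶ X) (g : G.left) :
    φ.left.base ((a.orbitMap x).left.base g) = (x ≫ φ).left.base (pt k) := by
  haveI : Subsingleton ↥(𝟙_ (Over (Spec (CommRingCat.of k)))).left :=
    inferInstanceAs (Subsingleton (PrimeSpectrum k))
  show ((a.orbitMap x).left ≫ φ.left).base g = _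
  rw [← Over.comp_left, orbitMap_comp_inv h]
  show (x ≫ φ).left.base ((toUnit G).left.base g) = _
  congr 1
  exact Subsingleton.elim _ _

theorem base_mem_orbit (a : AlgGrp.Action G X) (x : 𝟙_ (Over (Spec (CommRingCat.of k))) ⟶ X) :
    x.left.base (pt k) ∈ Set.range (a.orbitMap x).left.base := by
  refine ⟨η[G].left.base (pt k), ?_⟩
  show (η[G].left ≫ (a.orbitMap x).left).base (pt k) = _
  rw [← Over.comp_left, unit_orbitMap]

theorem section_left {Z : Over (Spec (CommRingCat.of k))}
    (s : 𝟙_ (Over (Spec (CommRingCat.of k))) ⟶ Z) : s.left ≫ Z.hom = 𝟙 _ := by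
  have := Over.w s
  simpa using this

/-- invariant closed subsets meeting the same fibre of a good quotient intersect -/
theorem inter_nonempty {a : AlgGrp.Action G X} {φ : X ⟶ Y} (h : NRQuot.IsGoodQuot a φ)
    (W₁ W₂ : Set X.left) (hc₁ : IsClosed W₁) (hc₂ : IsClosed W₂)
    (hi₁ : NRQuot.IsInvariantSet a W₁) (hi₂ : NRQuot.IsInvariantSet a W₂) (c : Y.left)
    (h₁ : c ∈ φ.left.base '' W₁) (h₂ : c ∈ φ.left.base '' W₂) : (W₁ ∩ W₂).Nonempty := by
  classical
  let W : ULift.{u} Bool → Set ↥X.left := fun j => if j.down then W₁ else W₂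
  have hWc : ∀ j, IsClosed (W j) := by
    intro j; dsimp only [W]; split_ifs
    · exact hc₁
    · exact hc₂
  have hWi : ∀ j, NRQuot.IsInvariantSet a (W j) := by
    intro j; dsimp only [W]; split_ifs
    · exact hi₁
    · exact hi₂
  have hint := h.inter (ULift.{u} Bool) W hWc hWi
  have hc : c ∈ ⋂ j, φ.left.base '' W j := by
    rw [Set.mem_iInter]
    intro j
    dsimp only [W]; split_ifs
    · exact h₁
    · exact h₂
  rw [← hint] at hc
  obtain ⟨z, hz, -⟩ := hc
  rw [Set.mem_iInter] at hz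
  have hz1 : z ∈ W₁ := by simpa [W] using hz ⟨true⟩
  have hz2 : z ∈ W₂ := by simpa [W] using hz ⟨false⟩
  exact ⟨z, hz1, hz2⟩

theorem invariant_closure_orbit (a : AlgGrp.Action G X)
    (x : 𝟙_ (Over (Spec (CommRingCat.of k))) ⟶ X) :
    NRQuot.IsInvariantSet a (closure (Set.range (a.orbitMap x).left.base)) :=
  (stable_range_orbit a x).cl

theorem invariant_orbit (a : AlgGrp.Action G X)
    (x : 𝟙_ (Over (Spec (CommRingCat.of k))) ⟶ X) :
    NRQuot.IsInvariantSet a (Set.range (a.orbitMap x).left.base) :=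
  stable_range_orbit a x

/-- orbit closures meet iff the points have the same image in a good quotient -/
theorem main19424 (a : AlgGrp.Action G X) (φ : X ⟶ Y) (h : NRQuot.IsGoodQuot a φ)
    (x₁ x₂ : 𝟙_ (Over (Spec (CommRingCat.of k))) ⟶ X) :
    (closure (Set.range (a.orbitMap x₁).left.base) ∩
      closure (Set.range (a.orbitMap x₂).left.base)).Nonempty ↔ x₁ ≫ φ = x₂ ≫ φ := by
  constructor
  · rintro ⟨z, hz₁, hz₂⟩
    have key : ∀ (x : 𝟙_ (Over (Spec (CommRingCat.of k))) ⟶ X),
        z ∈ closure (Set.range (a.orbitMap x).left.base) →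
          φ.left.base z = (x ≫ φ).left.base (pt k) := by
      intro x hz
      have hcl : IsClosed ({(x ≫ φ).left.base (pt k)} : Set Y.left) :=
        isClosed_singleton_of_section Y.hom (x ≫ φ).left (section_left _) (pt k)
      have hsub : Set.range (a.orbitMap x).left.base ⊆
          φ.left.base ⁻¹' {(x ≫ φ).left.base (pt k)} := by
        rintro _ ⟨g, rfl⟩
        exact image_orbit h x g
      have := closure_minimal hsub (hcl.preimage φ.left.continuous) hz
      exact this
    have e : (x₁ ≫ φ).left.base (pt k) = (x₂ ≫ φ).left.base (pt k) := by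
      rw [← key x₁ hz₁, ← key x₂ hz₂]
    apply Over.OverMorphism.ext
    exact section_ext Y.hom _ _ (section_left _) (section_left _) (pt k) e
  · intro hφ
    refine inter_nonempty h _ _ isClosed_closure isClosed_closure (invariant_closure_orbit a x₁)
      (invariant_closure_orbit a x₂) ((x₁ ≫ φ).left.base (pt k)) ?_ ?_
    · exact ⟨x₁.left.base (pt k), subset_closure (base_mem_orbit a x₁), rfl⟩
    · refine ⟨x₂.left.base (pt k), subset_closure (base_mem_orbit a x₂), ?_⟩
      rw [hφ]; rfl

end GQ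

end Groth.Agent.Helper18.GoodQuotOrb
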