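import Groth.Agent.Lib.Helper18.GoodQuotOrb

/-!
# Unique closed orbit in the fibres of a good quotient (helper18)
-/

set_option autoImplicit false
set_option linter.style.haveILetI false
universe u
open CategoryTheory MonoidalCategory CartesianMonoidalCategory MonObj GrpObj AlgebraicGeometry Limits
open Groth.Agent.Helper28.AlgGrpShear

namespace Groth.Agent.Helper18.GoodQuotOrb

section ActMono
variable {S : Scheme.{u}} {G X F : Over S} [GrpObj G]

/-- an action restricts to a subobject through which the restricted action map factors -/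
theorem exists_action_of_mono (a : AlgGrp.Action G X) (j : F ⟶ X) [Mono j] (act : G ⊗ F ⟶ F)
    (hact : act ≫ j = (G ◁ j) ≫ a.act) : ∃ aF : AlgGrp.Action G F, aF.act = act := by
  have key : ∀ {W : Over S} (φ : W ⟶ G ⊗ F),
      φ ≫ act ≫ j = lift (φ ≫ fst G F) (φ ≫ snd G F ≫ j) ≫ a.act := by
    intro W φ
    rw [hact, ← Category.assoc]
    congr 1
    apply CartesianMonoidalCategory.hom_ext <;> simp
  refine ⟨{ act := act, one_act := ?_, mul_act := ?_ }, rfl⟩
  · rw [← cancel_mono j, Category.assoc, key]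
    have e1 : (η[G] ▷ F) ≫ fst G F = fst _ F ≫ η[G] := whiskerRight_fst _ _
    have e2 : (η[G] ▷ F) ≫ snd G F ≫ j = snd _ F ≫ j := by
      rw [← Category.assoc, whiskerRight_snd]
    have : fst (𝟙_ _) F ≫ η[G] = (1 : _ ⟶ G) := by
      rw [Hom.one_def, toUnit_unique (toUnit _) (fst (𝟙_ _) F)]
    rw [e1, e2, leftUnitor_hom, this, act_one]
  · rw [← cancel_mono j, Category.assoc, key, Category.assoc, Category.assoc,
      ← Category.assoc (α_ G G F).hom, key]
    simp only [Category.assoc, whiskerRight_fst_assoc, whiskerRight_snd_assoc,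
      whiskerLeft_fst_assoc, whiskerLeft_snd_assoc, whiskerRight_fst, whiskerLeft_fst]
    rw [key]
    simp only [comp_lift_assoc, Category.assoc, associator_hom_fst_assoc,
      associator_hom_snd_fst_assoc, associator_hom_snd_snd_assoc, associator_hom_fst,
      associator_hom_snd_fst, associator_hom_snd_snd]
    rw [← act_mul]
    congr 2
    show fst (G ⊗ G) F ≫ μ[G] = (fst (G ⊗ G) F ≫ fst G G) * (fst (G ⊗ G) F ≫ snd G G)
    rw [← MonObj.comp_mul]
    congr 1
    show μ[G] = lift (fst G G) (snd G G) ≫ μ[G]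
    rw [lift_fst_snd, Category.id_comp]

end ActMono

section GQ
variable {k : Type u} [Field k] [IsAlgClosed k]
variable {G X Y : Over (Spec (CommRingCat.of k))} [GrpObj G]

open Groth.Agent.Helper18.OrbitClosed Groth.Agent.Helper18.OrbMapSmooth
open Groth.Agent.Helper28.KPoint

/-- two points with closed orbits and the same image in a good quotient are translates -/
theorem exists_act_eq [LocallyOfFiniteType G.hom] [LocallyOfFiniteType X.hom]
    (a : AlgGrp.Action G X) (φ : X ⟶ Y) (h : NRQuot.IsGoodQuot a φ)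
    (x₁ x₂ : 𝟙_ (Over (Spec (CommRingCat.of k))) ⟶ X) (hφ : x₁ ≫ φ = x₂ ≫ φ)
    (hc₁ : IsClosed (Set.range (a.orbitMap x₁).left.base))
    (hc₂ : IsClosed (Set.range (a.orbitMap x₂).left.base)) :
    ∃ g : 𝟙_ (Over (Spec (CommRingCat.of k))) ⟶ G, lift g x₁ ≫ a.act = x₂ := by
  obtain ⟨z, hz1, hz2⟩ := inter_nonempty h _ _ hc₁ hc₂ (invariant_orbit a x₁) (invariant_orbit a x₂)
    ((x₁ ≫ φ).left.base (pt k))
    ⟨x₁.left.base (pt k), base_mem_orbit a x₁, rfl⟩
    ⟨x₂.left.base (pt k), base_mem_orbit a x₂, by rw [hφ]; rfl⟩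
  obtain ⟨p, hp, hmem⟩ := exists_point_mem X.hom
    (Set.range (a.orbitMap x₁).left.base ∩ Set.range (a.orbitMap x₂).left.base)
    (hc₁.inter hc₂) ⟨z, hz1, hz2⟩
  haveI : LocallyOfFiniteType ((a.orbitMap x₁).left ≫ X.hom) := by rw [Over.w]; infer_instance
  haveI : LocallyOfFiniteType ((a.orbitMap x₂).left ≫ X.hom) := by rw [Over.w]; infer_instance
  obtain ⟨g₁, hg₁⟩ := exists_point_lift (a.orbitMap x₁).left X.hom p hp (fun t => (hmem t).1)
  obtain ⟨g₂, hg₂⟩ := exists_point_lift (a.orbitMap x₂).left X.hom p hp (fun t => (hmem t).2)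
  have hG₁ : g₁ ≫ G.hom = (𝟙_ (Over (Spec (CommRingCat.of k)))).hom := by
    rw [← Over.w (a.orbitMap x₁), reassoc_of% hg₁, hp]; rfl
  have hG₂ : g₂ ≫ G.hom = (𝟙_ (Over (Spec (CommRingCat.of k)))).hom := by
    rw [← Over.w (a.orbitMap x₂), reassoc_of% hg₂, hp]; rfl
  let γ₁ : 𝟙_ (Over (Spec (CommRingCat.of k))) ⟶ G := Over.homMk g₁ hG₁
  let γ₂ : 𝟙_ (Over (Spec (CommRingCat.of k))) ⟶ G := Over.homMk g₂ hG₂
  have hE : γ₁ ≫ a.orbitMap x₁ = γ₂ ≫ a.orbitMap x₂ := by
    apply Over.OverMorphism.ext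
    show g₁ ≫ (a.orbitMap x₁).left = g₂ ≫ (a.orbitMap x₂).left
    rw [hg₁, hg₂]
  have hun : toUnit (𝟙_ (Over (Spec (CommRingCat.of k)))) = 𝟙 _ := toUnit_unique _ _
  rw [AlgGrp.Action.comp_orbitMap, AlgGrp.Action.comp_orbitMap, hun, Category.id_comp,
    Category.id_comp] at hE
  refine ⟨γ₂⁻¹ * γ₁, ?_⟩
  rw [act_mul, hE, ← act_mul, inv_mul_cancel, act_one]

omit [IsAlgClosed k] in
/-- a good quotient is surjective -/
theorem surjective_of_isGoodQuot (a : AlgGrp.Action G X) (φ : X ⟶ Y) (h : NRQuot.IsGoodQuot a φ) :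
    Function.Surjective φ.left.base := by
  have := h.inter PEmpty.{u+1} (fun i => i.elim) (fun i => i.elim) (fun i => i.elim)
  simp only [Set.iInter_of_empty, Set.image_univ] at this
  intro c
  have hc : c ∈ Set.range φ.left.base := by rw [this]; trivial
  exact hc

end GQ

end Groth.Agent.Helper18.GoodQuotOrb
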