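import Groth.Agent.Lib.Helper18.GoodQuotOrb2

/-!
# Unique closed orbit in the fibres of a good quotient, part 2 (helper18)
-/

set_option autoImplicit false
set_option linter.style.haveILetI false
universe u
open CategoryTheory MonoidalCategory CartesianMonoidalCategory MonObj GrpObj AlgebraicGeometry Limits
open Groth.Agent.Helper28.AlgGrpShear

namespace Groth.Agent.Helper18.GoodQuotOrb

variable {k : Type u} [Field k] [IsAlgClosed k]
variable {G X Y : Over (Spec (CommRingCat.of k))} [GrpObj G]

theorem main19409 [IsAffine G.left] [LocallyOfFiniteType G.hom] [LocallyOfFiniteType X.hom]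
    (a : AlgGrp.Action G X) (φ : X ⟶ Y) (h : NRQuot.IsGoodQuot a φ)
    (y : 𝟙_ (Over (Spec (CommRingCat.of k))) ⟶ Y) :
    ∃ x : 𝟙_ (Over (Spec (CommRingCat.of k))) ⟶ X, x ≫ φ = y ∧
      IsClosed (Set.range (a.orbitMap x).left.base) ∧
      ∀ x' : 𝟙_ (Over (Spec (CommRingCat.of k))) ⟶ X, x' ≫ φ = y →
        IsClosed (Set.range (a.orbitMap x').left.base) →
        ∃ g : 𝟙_ (Over (Spec (CommRingCat.of k))) ⟶ G, lift g x ≫ a.act = x' := by
  classical
  haveI : Subsingleton ↥(𝟙_ (Over (Spec (CommRingCat.of k)))).left :=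
    inferInstanceAs (Subsingleton (PrimeSpectrum k))
  haveI : Mono y := ⟨fun u v _ => toUnit_unique u v⟩
  let F : Over (Spec (CommRingCat.of k)) := pullback φ y
  let pr₁ : F ⟶ X := pullback.fst φ y
  let pr₂ : F ⟶ 𝟙_ _ := pullback.snd φ y
  haveI : Mono pr₁ := pullback.fst_of_mono
  have hcond : pr₁ ≫ φ = pr₂ ≫ y := pullback.condition
  have hinv : a.act ≫ φ = snd G X ≫ φ := h.inv
  let actF : G ⊗ F ⟶ F := pullback.lift ((G ◁ pr₁) ≫ a.act) (toUnit _) (by
    rw [Category.assoc, hinv, ← Category.assoc, whiskerLeft_snd, Category.assoc, hcond,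
      ← Category.assoc]
    congr 1; exact toUnit_unique _ _)
  have hactF : actF ≫ pr₁ = (G ◁ pr₁) ≫ a.act := pullback.lift_fst _ _ _
  obtain ⟨aF, haF⟩ := exists_action_of_mono a pr₁ actF hactF
  have hpb : IsPullback pr₁.left pr₂.left φ.left y.left :=
    (IsPullback.of_hasPullback φ y).map (Over.forget _)
  have hy : y.left ≫ Y.hom = 𝟙 _ := section_left y
  haveI : IsImmersion y.left := Groth.Agent.Helper18.GrpdOm.isImmersion_section Y.hom y.left hy
  haveI : IsClosedImmersion y.left := .of_isPreimmersion _ (by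
    have hr : Set.range y.left = {y.left (pt k)} := by
      ext w
      constructor
      · rintro ⟨t', rfl⟩
        rw [Subsingleton.elim t' (pt k)]; rfl
      · rintro rfl
        exact ⟨pt k, rfl⟩
    rw [hr]
    exact isClosed_singleton_of_section Y.hom y.left hy (pt k))
  haveI : IsClosedImmersion pr₁.left :=
    MorphismProperty.of_isPullback (P := @IsClosedImmersion) hpb.flip inferInstance
  haveI : IsAffineHom φ.left := h.affine
  haveI : IsAffineHom pr₂.left :=
    MorphismProperty.of_isPullback (P := @IsAffineHom) hpb inferInstance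
  have hFhom : F.hom = pr₂.left := by
    have := Over.w pr₂
    simpa using this.symm
  haveI : QuasiCompact F.hom := by rw [hFhom]; infer_instance
  haveI : LocallyOfFiniteType F.hom := by rw [← Over.w pr₁]; infer_instance
  haveI : QuasiCompact G.hom := inferInstance
  obtain ⟨x₀, hx₀⟩ := surjective_of_isGoodQuot a φ h (y.left.base (pt k))
  obtain ⟨w, -, -⟩ := Scheme.Pullback.exists_preimage_pullback (f := φ.left) (g := y.left) x₀
    (pt k) hx₀
  haveI : Nonempty F.left := ⟨hpb.isoPullback.inv.base w⟩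
  obtain ⟨x', hx'⟩ := Groth.Agent.Helper18.OrbitClosed.main k G F aF
  have hxφ : (x' ≫ pr₁) ≫ φ = y := by
    rw [Category.assoc, hcond, ← Category.assoc, toUnit_unique (x' ≫ pr₂) (𝟙 _), Category.id_comp]
  have hcl : IsClosed (Set.range (a.orbitMap (x' ≫ pr₁)).left.base) := by
    have horb : a.orbitMap (x' ≫ pr₁) = aF.orbitMap x' ≫ pr₁ := by
      rw [AlgGrp.Action.orbitMap, AlgGrp.Action.orbitMap, Category.assoc, haF, hactF,
        ← Category.assoc (lift _ _), lift_whiskerLeft, Category.assoc]
    rw [horb]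
    have : Set.range (aF.orbitMap x' ≫ pr₁).left.base =
        pr₁.left.base '' Set.range (aF.orbitMap x').left.base := by
      rw [Over.comp_left, Scheme.Hom.comp_base, TopCat.coe_comp, Set.range_comp]
    rw [this]
    exact pr₁.left.isClosedEmbedding.isClosedMap _ hx'
  refine ⟨x' ≫ pr₁, hxφ, hcl, ?_⟩
  intro x'' hx'' hcl''
  exact exists_act_eq a φ h _ _ (by rw [hxφ, hx'']) hcl hcl''

end Groth.Agent.Helper18.GoodQuotOrb
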