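import Groth.Agent.Lib.Helper18.GrpGenFlat
import Groth.Agent.Lib.Helper18.KPts

/-!
# Homomorphisms onto reduced group schemes hitting all closed points (helper18)
-/

set_option autoImplicit false
universe u
open CategoryTheory CategoryTheory.Limits MonoidalCategory CartesianMonoidalCategory MonObj
  AlgebraicGeometry

namespace Groth.Agent.Helper18.GrpFppf

variable {k : Type u} [Field k]

/-- an open subset of a Jacobson space containing all closed points is everything -/
theorem eq_univ_of_isOpen_of_closedPoints {X : Type*} [TopologicalSpace X] [JacobsonSpace X]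
    (W : Set X) (hW : IsOpen W) (h : closedPoints X ⊆ W) : W = Set.univ := by
  by_contra hne
  have hne' : (Wᶜ).Nonempty := by
    rw [Set.nonempty_compl]; exact hne
  obtain ⟨y, hyW, hy⟩ := nonempty_inter_closedPoints hne' hW.isClosed_compl.isLocallyClosed
  exact hyW (h hy)

/-- a homomorphism to a reduced group scheme of finite type over a field whose image contains
all closed points is flat and surjective -/
theorem flat_surjective_of_hom_of_isReduced (G H : Over (Spec (CommRingCat.of k))) [GrpObj G]
    [GrpObj H] [LocallyOfFiniteType G.hom] [QuasiCompact G.hom] [LocallyOfFiniteType H.hom]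
    [IsReduced H.left] (f : G ⟶ H) [IsMonHom f]
    (hcl : closedPoints H.left ⊆ Set.range f.left) : Flat f.left ∧ Surjective f.left := by
  haveI : QuasiCompact f.left := quasiCompact_left f
  haveI : LocallyOfFiniteType f.left := by
    haveI : LocallyOfFiniteType (f.left ≫ H.hom) := by rw [Over.w]; infer_instance
    exact locallyOfFiniteType_of_comp f.left H.hom
  haveI : JacobsonSpace H.left := Groth.Agent.Helper18.KPts.jacobsonSpace_of_lft H
  obtain ⟨U, hUd, hUf, -⟩ := Groth.Agent.S0414.result f.left
  haveI : Nonempty H.left := ⟨η[H].left (IsLocalRing.closedPoint k)⟩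
  obtain ⟨u, huU, hu⟩ := nonempty_inter_closedPoints hUd.nonempty U.isOpen.isLocallyClosed
  obtain ⟨v, rfl⟩ := hcl hu
  let V : G.left.Opens := f.left ⁻¹ᵁ U
  let V' : Over (Spec (CommRingCat.of k)) := Over.mk (V.ι ≫ G.hom)
  let U' : Over (Spec (CommRingCat.of k)) := Over.mk (U.ι ≫ H.hom)
  let jV : V' ⟶ G := Over.homMk V.ι rfl
  let jU : U' ⟶ H := Over.homMk U.ι rfl
  let fU : V' ⟶ U' := Over.homMk (f.left ∣_ U) (by
    show (f.left ∣_ U) ≫ U.ι ≫ H.hom = V.ι ≫ G.hom
    rw [← Category.assoc, morphismRestrict_ι, Category.assoc, Over.w])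
  have hfj : fU ≫ jU = jV ≫ f := by
    ext
    show (f.left ∣_ U) ≫ U.ι = V.ι ≫ f.left
    exact morphismRestrict_ι _ _
  haveI : Nonempty V'.left := ⟨⟨v, huU⟩⟩
  haveI := surjective_hom_of_nonempty V'
  let m : G ⊗ V' ⟶ G := (G ◁ jV) ≫ μ[G]
  have hm : m = (rshear jV).hom ≫ fst G V' := (rshear_hom_fst jV).symm
  haveI : IsIso (rshear jV).hom.left :=
    inferInstanceAs (IsIso ((Over.forget (Spec (CommRingCat.of k))).map (rshear jV).hom))
  haveI : Surjective (fst G V').left := by
    show Surjective (pullback.fst G.hom V'.hom); infer_instance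
  haveI : Flat m.left := by rw [hm, Over.comp_left]; infer_instance
  haveI : Surjective m.left := by rw [hm, Over.comp_left]; infer_instance
  let aH : AlgGrp.Action G H := (NonAbH1.trivialAction H).restrict f
  have hmf : m ≫ f = (G ◁ fU) ≫ (G ◁ jU) ≫ aH.act := by
    show ((G ◁ jV) ≫ μ[G]) ≫ f = (G ◁ fU) ≫ (G ◁ jU) ≫ (f ▷ H) ≫ μ[H]
    rw [Category.assoc, IsMonHom.mul_hom, ← MonoidalCategory.whiskerLeft_comp_assoc, hfj,
      MonoidalCategory.whiskerLeft_comp_assoc, tensorHom_def'_assoc]
  haveI : Flat aH.act.left := flat_act aH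
  haveI : Flat (G ◁ fU).left := whiskerLeft_left_of_property @Flat G fU hUf
  haveI : Flat (G ◁ jU).left :=
    whiskerLeft_left_of_property @Flat G jU (inferInstanceAs (Flat U.ι))
  haveI hflat : Flat (m.left ≫ f.left) := by
    rw [← Over.comp_left, hmf, Over.comp_left, Over.comp_left]; infer_instance
  haveI : Flat f.left := flat_of_comp_of_surjective m.left f.left
  refine ⟨inferInstance, ?_⟩
  -- the image is open
  haveI : IsLocallyNoetherian H.left := LocallyOfFiniteType.isLocallyNoetherian H.hom
  haveI : LocallyOfFinitePresentation f.left := inferInstance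
  have hopen : IsOpen (Set.range f.left) := f.left.isOpenMap.isOpen_range
  have huniv := eq_univ_of_isOpen_of_closedPoints _ hopen hcl
  exact ⟨Set.range_eq_univ.mp huniv⟩

end Groth.Agent.Helper18.GrpFppf
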