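import Mathlib
import Groth.Agent.Lib.Helper18.GrpSchT

set_option autoImplicit false
set_option linter.style.haveILetI false
set_option linter.unusedSectionVars false
set_option maxRecDepth 8000
universe u v
open CategoryTheory CategoryTheory.Limits AlgebraicGeometry MonoidalCategory CartesianMonoidalCategory
  MonObj GrpObj

namespace Groth.Agent.Helper18.GrpSchOm

theorem isOpenMap_mul (K : Type u) [Field K] (G : Over (Spec (CommRingCat.of K))) [GrpObj G] :
    IsOpenMap (μ[G].left : (G ⊗ G).left ⟶ G.left) := by
  haveI : UniversallyOpen G.hom := inferInstance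
  have h1 : μ[G].left = (shear G).hom.left ≫ pullback.fst G.hom G.hom :=
    (congrArg (fun k => k.left) (shear_hom_fst G)).symm
  haveI : IsIso (shear G).hom.left :=
    inferInstanceAs (IsIso ((Over.forget _).map (shear G).hom))
  haveI : UniversallyOpen ((shear G).hom.left ≫ pullback.fst G.hom G.hom) := inferInstance
  rw [h1]
  exact Scheme.Hom.isOpenMap _

end Groth.Agent.Helper18.GrpSchOm
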