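import Mathlib
import Groth.Agent.Lib.Helper18.GrpSchOpen

set_option autoImplicit false
set_option linter.style.haveILetI false
set_option linter.unusedSectionVars false
set_option maxRecDepth 8000
universe u v
open CategoryTheory CategoryTheory.Limits AlgebraicGeometry MonoidalCategory CartesianMonoidalCategory
  MonObj GrpObj

/-!
# A group scheme over a field has an open and closed subgroup which is a countable union of affines
-/

namespace Groth.Agent.Helper18.GrpSchCtbl

open Groth.Agent.Helper18.GrpSchOm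

section Cat

variable {C : Type u} [Category.{v} C] [CartesianMonoidalCategory C] (G : C) [GrpObj G]

/-- `(a, b) ↦ a⁻¹ b` -/
def dd : G ⊗ G ⟶ G := (fst G G)⁻¹ * snd G G

/-- `(a, b) ↦ (b, (a⁻¹ b)⁻¹)` -/
def rho : G ⊗ G ⟶ G ⊗ G := lift (snd G G) ((dd G)⁻¹)

theorem rho_fst : rho G ≫ fst G G = snd G G := lift_fst _ _

theorem rho_snd : rho G ≫ snd G G = dd G ≫ ι[G] := by
  rw [rho, lift_snd, Hom.inv_def]

theorem rho_mul : rho G ≫ μ[G] = fst G G := by
  rw [rho, ← Hom.mul_def, dd]
  group

theorem diag_dd : lift (𝟙 G) (𝟙 G) ≫ dd G = toUnit G ≫ η[G] := by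
  rw [dd, MonObj.comp_mul, GrpObj.comp_inv, lift_fst, lift_snd, inv_mul_cancel, Hom.one_def]

theorem inv_inv : ι[G] ≫ ι[G] = 𝟙 G := by
  have h : ((𝟙 G : G ⟶ G)⁻¹)⁻¹ = 𝟙 G := _root_.inv_inv _
  rw [Hom.inv_def, Hom.inv_def, Category.id_comp] at h
  exact h

end Cat

section Sch

variable (K : Type u) [Field K] (G : Over (Spec (CommRingCat.of K))) [GrpObj G]

theorem invL_invL (x : G.left) : ι[G].left (ι[G].left x) = x := by
  have h := congrArg (fun k => k.left) (inv_inv G)
  have h2 := congrArg (fun (k : G.left ⟶ G.left) => k x) h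
  exact h2

instance isIso_invL : IsIso ι[G].left :=
  ⟨ι[G].left, congrArg (fun k => k.left) (inv_inv G), congrArg (fun k => k.left) (inv_inv G)⟩

/-- the set-theoretic product `A · B` -/
def prodSet (A B : Set G.left) : Set G.left :=
  μ[G].left '' ((fst G G).left ⁻¹' A ∩ (snd G G).left ⁻¹' B)

theorem isOpen_prodSet {A B : Set G.left} (hA : IsOpen A) (hB : IsOpen B) :
    IsOpen (prodSet K G A B) :=
  isOpenMap_mul K G _ ((hA.preimage (fst G G).left.continuous).inter
    (hB.preimage (snd G G).left.continuous))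

theorem prodSet_iUnion {J : Type*} (A : J → Set G.left) (B : Set G.left) :
    prodSet K G (⋃ i, A i) B = ⋃ i, prodSet K G (A i) B := by
  unfold prodSet
  rw [Set.preimage_iUnion, Set.iUnion_inter, Set.image_iUnion]

theorem isCompact_prodSet (A B : G.left.Opens) (hA : IsCompact (A : Set G.left))
    (hB : IsCompact (B : Set G.left)) : IsCompact (prodSet K G (A : Set G.left) B) := by
  haveI hAc : CompactSpace A.toScheme := isCompact_iff_compactSpace.mp hA
  haveI hBc : CompactSpace B.toScheme := isCompact_iff_compactSpace.mp hB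
  haveI : QuasiCompact (A.ι ≫ G.hom) :=
    (quasiCompact_iff_compactSpace (A.ι ≫ G.hom)).mpr hAc
  let φ : pullback (A.ι ≫ G.hom) (B.ι ≫ G.hom) ⟶ pullback G.hom G.hom :=
    pullback.map (A.ι ≫ G.hom) (B.ι ≫ G.hom) G.hom G.hom A.ι B.ι (𝟙 _)
      (by rw [Category.comp_id]) (by rw [Category.comp_id])
  have hr : Set.range φ = (fst G G).left ⁻¹' A ∩ (snd G G).left ⁻¹' B := by
    rw [Scheme.Pullback.range_map, Scheme.Opens.range_ι, Scheme.Opens.range_ι]
    rfl
  have hc : IsCompact (Set.range φ) := isCompact_range φ.continuous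
  rw [hr] at hc
  exact hc.image μ[G].left.continuous

theorem closure_subset_prodSet (U : G.left.Opens)
    (heU : η[G].left (IsLocalRing.closedPoint K) ∈ U)
    (hUsymm : ∀ z, z ∈ U → ι[G].left z ∈ U) (A : Set G.left) :
    closure A ⊆ prodSet K G A U := by
  intro x hx
  let j : Spec (G.left.residueField x) ⟶ G.left := G.left.fromSpecResidueField x
  let pr' : pullback (j ≫ G.hom) G.hom ⟶ G.left := pullback.snd _ _
  let φ : pullback (j ≫ G.hom) G.hom ⟶ pullback G.hom G.hom :=
    pullback.map (j ≫ G.hom) G.hom G.hom G.hom j (𝟙 _) (𝟙 _)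
      (by rw [Category.comp_id]) (by rw [Category.comp_id, Category.id_comp])
  have hφ1 : φ ≫ (fst G G).left = pullback.fst _ _ ≫ j := pullback.lift_fst _ _ _
  have hφ2 : φ ≫ (snd G G).left = pr' := (pullback.lift_snd _ _ _).trans (Category.comp_id _)
  have hopen : IsOpenMap pr' := Scheme.Hom.isOpenMap pr'
  let N : Set G.left := pr' '' (φ ⁻¹' ((dd G).left ⁻¹' U))
  have hNo : IsOpen N :=
    hopen _ ((U.2.preimage (dd G).left.continuous).preimage φ.continuous)
  have hxN : x ∈ N := by
    let l0 : Spec (G.left.residueField x) ⟶ pullback (j ≫ G.hom) G.hom :=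
      pullback.lift (𝟙 _) j (by rw [Category.id_comp])
    obtain ⟨pt⟩ : Nonempty (Spec (G.left.residueField x)) := inferInstance
    have hjpt : j pt = x := Scheme.fromSpecResidueField_apply _ _
    refine ⟨l0 pt, ?_, ?_⟩
    · show (dd G).left (φ (l0 pt)) ∈ U
      have h1 : l0 ≫ φ = j ≫ (lift (𝟙 G) (𝟙 G)).left := by
        apply pullback.hom_ext
        · have hfst : φ ≫ pullback.fst G.hom G.hom = pullback.fst _ _ ≫ j := hφ1
          have : (lift (𝟙 G) (𝟙 G)).left ≫ pullback.fst G.hom G.hom = 𝟙 _ :=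
            congrArg (fun k => k.left) (lift_fst (𝟙 G) (𝟙 G))
          rw [Category.assoc, Category.assoc, hfst, this, Category.comp_id,
            ← Category.assoc, pullback.lift_fst, Category.id_comp]
        · have hsnd : φ ≫ pullback.snd G.hom G.hom = pr' := hφ2
          have : (lift (𝟙 G) (𝟙 G)).left ≫ pullback.snd G.hom G.hom = 𝟙 _ :=
            congrArg (fun k => k.left) (lift_snd (𝟙 G) (𝟙 G))
          rw [Category.assoc, Category.assoc, hsnd, this, Category.comp_id,
            pullback.lift_snd]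
      have h2 : (dd G).left (φ (l0 pt)) = (toUnit G ≫ η[G]).left x := by
        have h3 := congrArg (fun k => k.left) (diag_dd G)
        have h4 : (l0 ≫ φ) ≫ (dd G).left = j ≫ (toUnit G ≫ η[G]).left := by
          rw [h1, Category.assoc]
          exact congrArg (fun k => j ≫ k) h3
        have h5 := congrArg (fun (k : Spec (G.left.residueField x) ⟶ G.left) => k pt) h4
        simp only [Scheme.Hom.comp_apply] at h5
        rw [hjpt] at h5
        exact h5
      rw [h2]
      have h6 : (toUnit G).left x = IsLocalRing.closedPoint K := by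
        haveI : Subsingleton (Spec (CommRingCat.of K)) :=
          inferInstanceAs (Subsingleton (PrimeSpectrum K))
        exact Subsingleton.elim (α := Spec (CommRingCat.of K)) _ _
      show η[G].left ((toUnit G).left x) ∈ U
      rw [h6]
      exact heU
    · show pr' (l0 pt) = x
      have : l0 ≫ pr' = j := pullback.lift_snd _ _ _
      have h7 := congrArg (fun (k : Spec (G.left.residueField x) ⟶ G.left) => k pt) this
      simp only [Scheme.Hom.comp_apply] at h7
      rw [h7, hjpt]
  obtain ⟨y, hyN, hyA⟩ := mem_closure_iff.mp hx N hNo hxN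
  obtain ⟨v, hv, rfl⟩ := hyN
  have hv' : (dd G).left (φ v) ∈ U := hv
  refine ⟨(rho G).left (φ v), ⟨?_, ?_⟩, ?_⟩
  · show (fst G G).left ((rho G).left (φ v)) ∈ A
    have h1 : (rho G).left ≫ (fst G G).left = (snd G G).left :=
      congrArg (fun k => k.left) (rho_fst G)
    have h2 := congrArg (fun (k : (G ⊗ G).left ⟶ G.left) => k (φ v)) h1
    simp only [Scheme.Hom.comp_apply] at h2
    rw [h2]
    have h3 := congrArg (fun (k : pullback (j ≫ G.hom) G.hom ⟶ G.left) => k v) hφ2
    simp only [Scheme.Hom.comp_apply] at h3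
    rw [h3]
    exact hyA
  · show (snd G G).left ((rho G).left (φ v)) ∈ U
    have h1 : (rho G).left ≫ (snd G G).left = (dd G).left ≫ ι[G].left :=
      congrArg (fun k => k.left) (rho_snd G)
    have h2 := congrArg (fun (k : (G ⊗ G).left ⟶ G.left) => k (φ v)) h1
    simp only [Scheme.Hom.comp_apply] at h2
    rw [h2]
    exact hUsymm _ hv'
  · have h1 : (rho G).left ≫ μ[G].left = (fst G G).left :=
      congrArg (fun k => k.left) (rho_mul G)
    have h2 := congrArg (fun (k : (G ⊗ G).left ⟶ G.left) => k (φ v)) h1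
    simp only [Scheme.Hom.comp_apply] at h2
    rw [h2]
    have h3 := congrArg (fun (k : pullback (j ≫ G.hom) G.hom ⟶ G.left) => k v) hφ1
    simp only [Scheme.Hom.comp_apply] at h3
    rw [h3]
    exact Scheme.fromSpecResidueField_apply _ _

/-- the increasing sequence of powers of `U` -/
noncomputable def pw (U : G.left.Opens) : ℕ → G.left.Opens
  | 0 => U
  | n + 1 => ⟨prodSet K G (pw U n : Set G.left) U, isOpen_prodSet K G (pw U n).2 U.2⟩

theorem isCompact_pw (U : G.left.Opens) (hU : IsCompact (U : Set G.left)) (n : ℕ) :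
    IsCompact (pw K G U n : Set G.left) := by
  induction n with
  | zero => exact hU
  | succ n ih => exact isCompact_prodSet K G (pw K G U n) U ih hU

theorem main : ∃ U : G.left.Opens, IsClosed (U : Set G.left) ∧
    η[G].left (IsLocalRing.closedPoint K) ∈ U ∧ ∃ V : ℕ → G.left.Opens,
      (∀ n, IsAffineOpen (V n)) ∧ (U : Set G.left) = ⋃ n, (V n : Set G.left) := by
  obtain ⟨_, ⟨W0, hW0, rfl⟩, heW0, -⟩ := G.left.isBasis_affineOpens.exists_subset_of_mem_open
    (Set.mem_univ (η[G].left (IsLocalRing.closedPoint K))) isOpen_univ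
  have hW0a : IsAffineOpen W0 := hW0
  have hW1a : IsAffineOpen (ι[G].left ⁻¹ᵁ W0) := hW0a.preimage_of_isIso ι[G].left
  let U : G.left.Opens := W0 ⊔ ι[G].left ⁻¹ᵁ W0
  have hUc : IsCompact (U : Set G.left) := by
    show IsCompact ((W0 : Set G.left) ∪ (ι[G].left ⁻¹ᵁ W0 : G.left.Opens))
    exact hW0a.isCompact.union hW1a.isCompact
  have heU : η[G].left (IsLocalRing.closedPoint K) ∈ U := Or.inl heW0
  have hUsymm : ∀ z, z ∈ U → ι[G].left z ∈ U := by
    rintro z (hz | hz)
    · refine Or.inr ?_
      show ι[G].left (ι[G].left z) ∈ W0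
      rw [invL_invL]
      exact hz
    · exact Or.inl hz
  let H : G.left.Opens := ⨆ n, pw K G U n
  have hHcoe : (H : Set G.left) = ⋃ n, (pw K G U n : Set G.left) := by
    simp only [H, TopologicalSpace.Opens.coe_iSup]
  refine ⟨H, ?_, ?_, ?_⟩
  · rw [← closure_subset_iff_isClosed]
    refine (closure_subset_prodSet K G U heU hUsymm _).trans ?_
    rw [hHcoe, prodSet_iUnion]
    refine Set.iUnion_subset fun n => ?_
    exact Set.subset_iUnion (fun n => (pw K G U n : Set G.left)) (n + 1)
  · rw [← SetLike.mem_coe, hHcoe]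
    exact Set.mem_iUnion.mpr ⟨0, heU⟩
  · have hex : ∀ n, ∃ s : Set G.left.affineOpens, s.Finite ∧
        (pw K G U n : Set G.left) = ⋃ i ∈ s, (i : Set G.left) := fun n =>
      isCompact_and_isOpen_iff_finite_and_eq_biUnion_affineOpens.mp
        ⟨isCompact_pw K G U hUc n, (pw K G U n).2⟩
    choose s hsf hs using hex
    let S : Set G.left.affineOpens := insert ⟨W0, hW0a⟩ (⋃ n, s n)
    have hSc : S.Countable :=
      (Set.countable_iUnion fun n => (hsf n).countable).insert _
    have hSn : S.Nonempty := ⟨_, Set.mem_insert _ _⟩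
    obtain ⟨f, hf⟩ := hSc.exists_eq_range hSn
    refine ⟨fun n => (f n).1, fun n => (f n).2, ?_⟩
    rw [hHcoe]
    apply Set.Subset.antisymm
    · refine Set.iUnion_subset fun n => ?_
      rw [hs n]
      refine Set.iUnion₂_subset fun i hi => ?_
      have hiS : i ∈ S := Set.mem_insert_of_mem _ (Set.mem_iUnion.mpr ⟨n, hi⟩)
      rw [hf] at hiS
      obtain ⟨m, rfl⟩ := hiS
      exact Set.subset_iUnion (fun n => ((f n).1 : Set G.left)) m
    · refine Set.iUnion_subset fun m => ?_
      have hm : f m ∈ S := by rw [hf]; exact ⟨m, rfl⟩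
      rcases hm with hm | hm
      · show (((f m).1 : G.left.Opens) : Set G.left) ⊆ _
        rw [hm]
        intro z hz
        exact Set.mem_iUnion.mpr ⟨0, Or.inl hz⟩
      · obtain ⟨n, hn⟩ := Set.mem_iUnion.mp hm
        show (((f m).1 : G.left.Opens) : Set G.left) ⊆ _
        refine Set.Subset.trans ?_ (Set.subset_iUnion (fun n => (pw K G U n : Set G.left)) n)
        rw [hs n]
        exact Set.subset_biUnion_of_mem (u := fun i : G.left.affineOpens => (i : Set G.left)) hn

end Sch

end Groth.Agent.Helper18.GrpSchCtbl
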