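import Groth.Agent.Lib.Helper18.GrpFppf3
import Groth.Agent.Lib.Helper28.AlgGrpShear

/-!
# Equivariant maps of torsors are isomorphisms (helper18)
-/

set_option autoImplicit false
universe u
open CategoryTheory CategoryTheory.Limits MonoidalCategory CartesianMonoidalCategory MonObj
  AlgebraicGeometry

namespace Groth.Agent.Helper18.GrpFppf

open Groth.Agent.Helper28.AlgGrpShear

variable {S : Scheme.{u}} {G X X' : Over S} [GrpObj G]

/-- points of a (pseudo-)torsor differ by a unique group element -/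
theorem exists_act_eq (a : AlgGrp.Action G X) (hX : IsIso (lift a.act (snd G X)))
    {T : Over S} (x₁ x₂ : T ⟶ X) : ∃ g : T ⟶ G, lift g x₂ ≫ a.act = x₁ := by
  let w : T ⟶ G ⊗ X := lift x₁ x₂ ≫ inv (lift a.act (snd G X))
  have hw : w ≫ lift a.act (snd G X) = lift x₁ x₂ := by
    simp only [w, Category.assoc, IsIso.inv_hom_id, Category.comp_id]
  have h1 : w ≫ a.act = x₁ := by
    have := congrArg (fun z => z ≫ fst X X) hw
    simpa using this
  have h2 : w ≫ snd G X = x₂ := by
    have := congrArg (fun z => z ≫ snd X X) hw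
    simpa using this
  refine ⟨w ≫ fst G X, ?_⟩
  have : lift (w ≫ fst G X) x₂ = w := by
    apply CartesianMonoidalCategory.hom_ext <;> simp [h2]
  rw [this, h1]

theorem act_eq_self_iff (a : AlgGrp.Action G X) (hX : IsIso (lift a.act (snd G X)))
    {T : Over S} (g : T ⟶ G) (y : T ⟶ X) (h : lift g y ≫ a.act = y) : g = 1 := by
  have e1 : lift g y ≫ lift a.act (snd G X) = lift (1 : T ⟶ G) y ≫ lift a.act (snd G X) := by
    apply CartesianMonoidalCategory.hom_ext
    · simp only [Category.assoc, lift_fst]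
      rw [h, act_one]
    · simp
  have e2 := (cancel_mono _).mp e1
  have := congrArg (fun z => z ≫ fst G X) e2
  simpa using this

/-- an equivariant map between torsors is an isomorphism -/
theorem isIso_of_equivariant (a : AlgGrp.Action G X) (a' : AlgGrp.Action G X')
    [Flat X.hom] [Surjective X.hom] [QuasiCompact X.hom]
    (hX : IsIso (lift a.act (snd G X))) (hX' : IsIso (lift a'.act (snd G X')))
    (f : X ⟶ X') (hf : (G ◁ f) ≫ a'.act = a.act ≫ f) : IsIso f := by
  have hequiv : ∀ {T : Over S} (g : T ⟶ G) (x : T ⟶ X),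
      lift g (x ≫ f) ≫ a'.act = (lift g x ≫ a.act) ≫ f := by
    intro T g x
    have : lift g (x ≫ f) = lift g x ≫ (G ◁ f) := by
      apply CartesianMonoidalCategory.hom_ext <;> simp
    rw [this, Category.assoc, hf, Category.assoc]
  -- f is a monomorphism
  haveI hmono : Mono f := by
    refine ⟨fun {T} x₁ x₂ h12 => ?_⟩
    obtain ⟨g, hg⟩ := exists_act_eq a hX x₁ x₂
    have h1 : lift g (x₂ ≫ f) ≫ a'.act = x₂ ≫ f := by
      rw [hequiv, hg, h12]
    have hg1 := act_eq_self_iff a' hX' g (x₂ ≫ f) h1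
    rw [hg1, act_one] at hg
    exact hg.symm
  haveI : Mono f.left := inferInstance
  -- f has a section
  let c : X' ⊗ X ⟶ X' := fst X' X
  haveI : EffectiveEpi c.left := by
    show EffectiveEpi (pullback.fst X'.hom X.hom)
    infer_instance
  obtain ⟨g, hg⟩ := exists_act_eq a' hX' (fst X' X) (snd X' X ≫ f)
  have hh : (lift g (snd X' X) ≫ a.act) ≫ f = c ≫ 𝟙 X' := by
    rw [← hequiv, hg, Category.comp_id]
  obtain ⟨s, hs⟩ := exists_factor_of_cover f c (𝟙 X') _ hh
  haveI : IsSplitEpi f := ⟨⟨s, hs⟩⟩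
  exact isIso_of_mono_of_isSplitEpi f

end Groth.Agent.Helper18.GrpFppf
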