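import Mathlib

set_option autoImplicit false
set_option linter.style.haveILetI false
set_option linter.unusedSectionVars false
universe u
open Cardinal

/-!
# Two algebraically closed extensions of `k` of the same big cardinality are `k`-isomorphic
-/

namespace Groth.Agent.Helper18.Steinitz

theorem card_transcendenceBasis (k K : Type u) [Field k] [Field K] [Algebra k K] [IsAlgClosed K]
    (hK : max #k ℵ₀ < #K) (s : Set K) (hs : IsTranscendenceBasis k ((↑) : s → K)) : #s = #K := by
  apply le_antisymm (mk_set_le s)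
  by_contra hlt
  rw [not_le] at hlt
  have h1 := IsAlgClosed.cardinal_le_max_transcendence_basis' (R := k) (K' := K)
    ((↑) : s → K) hs
  have h2 : max (max #k #s) ℵ₀ < #K := by
    apply max_lt (max_lt ((le_max_left _ _).trans_lt hK) hlt) ((le_max_right _ _).trans_lt hK)
  exact absurd h1 (not_le.mpr h2)

theorem steinitz (k K L : Type u) [Field k] [Field K] [Field L] [Algebra k K] [Algebra k L]
    [IsAlgClosed K] [IsAlgClosed L] (hK : max #k ℵ₀ < #K) (hKL : #K = #L) :
    ∃ τ : K ≃+* L, ∀ c : k, τ (algebraMap k K c) = algebraMap k L c := by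
  obtain ⟨s, hs⟩ := exists_isTranscendenceBasis k K
  obtain ⟨t, ht⟩ := exists_isTranscendenceBasis k L
  have hcs : #s = #K := card_transcendenceBasis k K hK s hs
  have hct : #t = #L := card_transcendenceBasis k L (hKL ▸ hK) t ht
  obtain ⟨e⟩ := Cardinal.eq.mp (hcs.trans (hKL.trans hct.symm))
  let e' : Algebra.adjoin k (Set.range ((↑) : s → K)) ≃ₐ[k]
      Algebra.adjoin k (Set.range ((↑) : t → L)) :=
    hs.1.aevalEquiv.symm.trans ((MvPolynomial.renameEquiv k e).trans ht.1.aevalEquiv)
  letI := IsAlgClosed.isAlgClosure_of_transcendence_basis ((↑) : s → K) hs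
  letI := IsAlgClosed.isAlgClosure_of_transcendence_basis ((↑) : t → L) ht
  refine ⟨IsAlgClosure.equivOfEquiv K L e'.toRingEquiv, fun c => ?_⟩
  have h1 : algebraMap k K c = algebraMap (Algebra.adjoin k (Set.range ((↑) : s → K))) K
      (algebraMap k _ c) := rfl
  rw [h1, IsAlgClosure.equivOfEquiv_algebraMap]
  have h2 : e'.toRingEquiv (algebraMap k _ c) = algebraMap k _ c := e'.commutes c
  rw [h2]
  rfl

theorem exists_ringEquiv_of_card (k L : Type u) [Field k] [Field L] [IsAlgClosed L]
    (ψ₁ ψ₂ : k →+* L) (hcard : max #k ℵ₀ < #L) :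
    ∃ τ : L ≃+* L, ∀ c : k, τ (ψ₁ c) = ψ₂ c :=
  @steinitz k L L _ _ _ ψ₁.toAlgebra ψ₂.toAlgebra _ _ hcard rfl

/-- a big algebraically closed extension -/
theorem exists_big_algClosed (F : Type u) [Field F] :
    ∃ (L : Type u) (_ : Field L) (_ : IsAlgClosed L) (_ : Algebra F L), max #F ℵ₀ < #L := by
  let I : Type u := Set (F × ULift.{u} ℕ)
  let P := FractionRing (MvPolynomial I F)
  refine ⟨AlgebraicClosure P, inferInstance, inferInstance, inferInstance, ?_⟩
  have h1 : max #F ℵ₀ ≤ #(F × ULift.{u} ℕ) := by
    rw [mk_prod, lift_id, lift_id, mk_uLift, mk_nat, lift_aleph0]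
    apply max_le
    · exact Cardinal.le_mul_right aleph0_ne_zero
    · exact Cardinal.le_mul_left (mk_ne_zero F)
  have h2 : #(F × ULift.{u} ℕ) < #I := by
    rw [mk_set]; exact cantor _
  have h3 : #I ≤ #(AlgebraicClosure P) := by
    let f : I → AlgebraicClosure P := fun i =>
      algebraMap P (AlgebraicClosure P) (algebraMap (MvPolynomial I F) P (MvPolynomial.X i))
    have hf : Function.Injective f := by
      intro i j hij
      have h4 := (algebraMap P (AlgebraicClosure P)).injective hij
      have h5 := IsFractionRing.injective (MvPolynomial I F) P h4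
      exact MvPolynomial.X_injective h5
    exact mk_le_of_injective hf
  exact (h1.trans_lt h2).trans_le h3

end Groth.Agent.Helper18.Steinitz
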