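import Mathlib
import Groth.Prelude.Def_Grpd
import Groth.Agent.Lib.Helper18.Steinitz

set_option autoImplicit false
set_option linter.style.haveILetI false
set_option linter.unusedSectionVars false
set_option maxRecDepth 8000
universe u
open CategoryTheory CategoryTheory.Limits AlgebraicGeometry TopologicalSpace Opposite

/-!
# Points of the restriction of a groupoid on a field to an algebraically closed extension
-/

namespace Groth.Agent.Helper18.GrpdAlgCl

open Grpd Groth.Agent.Helper18.Steinitz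

theorem isIso_residueFieldMap_of_comp_iso {X Y T : Scheme.{u}} (x : T ⟶ X) (f : X ⟶ Y)
    [IsIso (x ≫ f)] (pt : T) : IsIso (f.residueFieldMap (x pt)) := by
  have h := Scheme.residueFieldMap_comp x f pt
  haveI : IsIso ((x ≫ f).residueFieldMap pt) := inferInstance
  have hbij : Function.Bijective ((x ≫ f).residueFieldMap pt) :=
    ConcreteCategory.bijective_of_isIso _
  have hinj2 : Function.Injective (x.residueFieldMap pt) :=
    (x.residueFieldMap pt).hom.injective
  have hb : Function.Bijective (f.residueFieldMap (x pt)) := by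
    refine ⟨(f.residueFieldMap (x pt)).hom.injective, fun y => ?_⟩
    obtain ⟨z, hz⟩ := hbij.2 (x.residueFieldMap pt y)
    refine ⟨z, hinj2 ?_⟩
    rw [← hz, h]
    rfl
  exact (ConcreteCategory.isIso_iff_bijective _).mpr hb

variable {S : Scheme.{u}} (G : GroupoidScheme S)

theorem aux {T : Scheme.{u}} (g : T ⟶ G.U) (ρ : T ⟶ G.R) (b : T ⟶ T) [IsIso b]
    (h1 : g = ρ ≫ G.t) (h2 : b ≫ g = ρ ≫ G.s) (r : G.R) (pt : T) (hρ : ρ pt = r) :
    ∃ r' : ↑(pullback (pullback.snd g G.t ≫ G.s) g),
      (pullback.fst (pullback.snd g G.t ≫ G.s) g ≫ pullback.snd g G.t) r' = r ∧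
      IsIso ((pullback.snd (pullback.snd g G.t ≫ G.s) g).residueFieldMap r') ∧
      IsIso ((pullback.fst (pullback.snd g G.t ≫ G.s) g ≫ pullback.fst g G.t).residueFieldMap r') := by
  let x₀ : T ⟶ pullback g G.t := pullback.lift (𝟙 _) ρ (by rw [Category.id_comp]; exact h1)
  let x : T ⟶ pullback (pullback.snd g G.t ≫ G.s) g :=
    pullback.lift x₀ b (by rw [← Category.assoc, pullback.lift_snd, h2])
  have e1 : x ≫ pullback.snd (pullback.snd g G.t ≫ G.s) g = b := pullback.lift_snd _ _ _
  have e2 : x ≫ pullback.fst (pullback.snd g G.t ≫ G.s) g ≫ pullback.fst g G.t = 𝟙 _ := by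
    rw [← Category.assoc, pullback.lift_fst, pullback.lift_fst]
  have e3 : x ≫ pullback.fst (pullback.snd g G.t ≫ G.s) g ≫ pullback.snd g G.t = ρ := by
    rw [← Category.assoc, pullback.lift_fst, pullback.lift_snd]
  refine ⟨x pt, ?_, ?_, ?_⟩
  · have := congrArg (fun (φ : T ⟶ G.R) => φ pt) e3
    simp only [Scheme.Hom.comp_apply] at this
    rw [Scheme.Hom.comp_apply, this, hρ]
  · haveI : IsIso (x ≫ pullback.snd (pullback.snd g G.t ≫ G.s) g) := by rw [e1]; infer_instance
    exact isIso_residueFieldMap_of_comp_iso x _ pt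
  · haveI : IsIso (x ≫ pullback.fst (pullback.snd g G.t ≫ G.s) g ≫ pullback.fst g G.t) := by
      rw [e2]; infer_instance
    exact isIso_residueFieldMap_of_comp_iso x _ pt

theorem main (k : Type u) [Field k] (eU : G.U ≅ Spec (CommRingCat.of k)) (r : G.R) :
    ∃ (k' : Type u) (_ : Field k') (_ : IsAlgClosed k') (_ : Algebra k k'),
      ∃ r' : ↑(pullback (pullback.snd (Spec.map (CommRingCat.ofHom (algebraMap k k')) ≫ eU.inv) G.t ≫ G.s)
          (Spec.map (CommRingCat.ofHom (algebraMap k k')) ≫ eU.inv)),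
        (pullback.fst (pullback.snd (Spec.map (CommRingCat.ofHom (algebraMap k k')) ≫ eU.inv) G.t ≫ G.s)
          (Spec.map (CommRingCat.ofHom (algebraMap k k')) ≫ eU.inv) ≫
          pullback.snd (Spec.map (CommRingCat.ofHom (algebraMap k k')) ≫ eU.inv) G.t) r' = r ∧
        IsIso ((pullback.snd
          (pullback.snd (Spec.map (CommRingCat.ofHom (algebraMap k k')) ≫ eU.inv) G.t ≫ G.s)
          (Spec.map (CommRingCat.ofHom (algebraMap k k')) ≫ eU.inv)).residueFieldMap r') ∧
        IsIso ((pullback.fst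
          (pullback.snd (Spec.map (CommRingCat.ofHom (algebraMap k k')) ≫ eU.inv) G.t ≫ G.s)
          (Spec.map (CommRingCat.ofHom (algebraMap k k')) ≫ eU.inv) ≫
          pullback.fst (Spec.map (CommRingCat.ofHom (algebraMap k k')) ≫ eU.inv) G.t).residueFieldMap r') := by
  obtain ⟨L, hLf, hLc, hLa, hcard⟩ := exists_big_algClosed (G.R.residueField r)
  let φs : CommRingCat.of k ⟶ G.R.residueField r :=
    Spec.preimage (G.R.fromSpecResidueField r ≫ G.s ≫ eU.hom)
  let φt : CommRingCat.of k ⟶ G.R.residueField r :=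
    Spec.preimage (G.R.fromSpecResidueField r ≫ G.t ≫ eU.hom)
  have hφs : Spec.map φs = G.R.fromSpecResidueField r ≫ G.s ≫ eU.hom := Spec.map_preimage _
  have hφt : Spec.map φt = G.R.fromSpecResidueField r ≫ G.t ≫ eU.hom := Spec.map_preimage _
  let ψs : k →+* L := (algebraMap (G.R.residueField r) L).comp φs.hom
  let ψt : k →+* L := (algebraMap (G.R.residueField r) L).comp φt.hom
  have hk : max (Cardinal.mk k) Cardinal.aleph0 < Cardinal.mk L := by
    refine lt_of_le_of_lt (max_le_max ?_ le_rfl) hcard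
    exact Cardinal.mk_le_of_injective φs.hom.injective
  obtain ⟨τ, hτ⟩ := exists_ringEquiv_of_card k L ψt ψs hk
  letI : Algebra k L := ψt.toAlgebra
  refine ⟨L, hLf, hLc, ψt.toAlgebra, ?_⟩
  let ι : G.R.residueField r ⟶ CommRingCat.of L :=
    CommRingCat.ofHom (algebraMap (G.R.residueField r) L)
  let ρ : Spec (CommRingCat.of L) ⟶ G.R := Spec.map ι ≫ G.R.fromSpecResidueField r
  let b : Spec (CommRingCat.of L) ⟶ Spec (CommRingCat.of L) :=
    Spec.map (CommRingCat.ofHom τ.toRingHom)
  haveI : IsIso (CommRingCat.ofHom τ.toRingHom) :=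
    (ConcreteCategory.isIso_iff_bijective _).mpr τ.bijective
  haveI : IsIso b := inferInstanceAs (IsIso (Spec.map (CommRingCat.ofHom τ.toRingHom)))
  have hψt : Spec.map (CommRingCat.ofHom ψt) = Spec.map ι ≫ Spec.map φt := by
    rw [← Spec.map_comp]; rfl
  have hψs : Spec.map (CommRingCat.ofHom ψs) = Spec.map ι ≫ Spec.map φs := by
    rw [← Spec.map_comp]; rfl
  have h1 : Spec.map (CommRingCat.ofHom ψt) ≫ eU.inv = ρ ≫ G.t := by
    rw [hψt, hφt]
    simp only [ρ, Category.assoc, Iso.hom_inv_id, Category.comp_id]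
  have h2 : b ≫ Spec.map (CommRingCat.ofHom ψt) ≫ eU.inv = ρ ≫ G.s := by
    have h3 : b ≫ Spec.map (CommRingCat.ofHom ψt) = Spec.map (CommRingCat.ofHom ψs) := by
      rw [← Spec.map_comp]
      congr 1
      ext c
      exact hτ c
    rw [← Category.assoc, h3, hψs, hφs]
    simp only [ρ, Category.assoc, Iso.hom_inv_id, Category.comp_id]
  exact aux G (Spec.map (CommRingCat.ofHom ψt) ≫ eU.inv) ρ b h1 h2 r
    (IsLocalRing.closedPoint L) (by
      show G.R.fromSpecResidueField r _ = r
      exact Scheme.fromSpecResidueField_apply _ _)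

end Groth.Agent.Helper18.GrpdAlgCl
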