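import Mathlib
import Groth.Prelude.Def_Grpd
import Groth.Agent.Lib.Helper18.GrpdOm

set_option autoImplicit false
set_option linter.style.haveILetI false
set_option linter.unusedSectionVars false
set_option maxRecDepth 8000
universe u
open CategoryTheory CategoryTheory.Limits AlgebraicGeometry TopologicalSpace Opposite

namespace Groth.Agent.Helper18.GrpdOm

open Grpd

variable {S : Scheme.{u}} (G : GroupoidScheme S)

theorem j_fst : G.j ≫ pullback.fst G.pU G.pU = G.t := pullback.lift_fst _ _ _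
theorem j_snd : G.j ≫ pullback.snd G.pU G.pU = G.s := pullback.lift_snd _ _ _
theorem diag_fst : G.diag ≫ pullback.fst G.pU G.pU = 𝟙 _ := pullback.lift_fst _ _ _
theorem diag_snd : G.diag ≫ pullback.snd G.pU G.pU = 𝟙 _ := pullback.lift_snd _ _ _

theorem j_ext {T : Scheme.{u}} (a b : T ⟶ G.R) (ht : a ≫ G.t = b ≫ G.t) (hs : a ≫ G.s = b ≫ G.s) :
    a ≫ G.j = b ≫ G.j := by
  apply pullback.hom_ext
  · rw [Category.assoc, Category.assoc, j_fst, ht]
  · rw [Category.assoc, Category.assoc, j_snd, hs]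

theorem j_t {T : Scheme.{u}} {a b : T ⟶ G.R} (h : a ≫ G.j = b ≫ G.j) : a ≫ G.t = b ≫ G.t := by
  have := congrArg (fun k => k ≫ pullback.fst G.pU G.pU) h
  simpa only [Category.assoc, j_fst] using this

theorem j_s {T : Scheme.{u}} {a b : T ⟶ G.R} (h : a ≫ G.j = b ≫ G.j) : a ≫ G.s = b ≫ G.s := by
  have := congrArg (fun k => k ≫ pullback.snd G.pU G.pU) h
  simpa only [Category.assoc, j_snd] using this

/-- the arrow underlying a point of the stabilizer -/
noncomputable def stabR : G.stabilizer ⟶ G.R := pullback.fst G.j G.diag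

theorem stab_t : stabR G ≫ G.t = G.stabilizerToU := by
  have := congrArg (fun k => k ≫ pullback.fst G.pU G.pU) (pullback.condition (f := G.j) (g := G.diag))
  simp only [Category.assoc, j_fst, diag_fst, Category.comp_id] at this
  exact this

theorem stab_s : stabR G ≫ G.s = G.stabilizerToU := by
  have := congrArg (fun k => k ≫ pullback.snd G.pU G.pU) (pullback.condition (f := G.j) (g := G.diag))
  simp only [Category.assoc, j_snd, diag_snd, Category.comp_id] at this
  exact this

/-- lift to the stabilizer -/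
noncomputable def stabLift {T : Scheme.{u}} (γ : T ⟶ G.R) (h : γ ≫ G.t = γ ≫ G.s) :
    T ⟶ G.stabilizer :=
  pullback.lift γ (γ ≫ G.t) (by
    apply pullback.hom_ext
    · rw [Category.assoc, Category.assoc, j_fst, diag_fst, Category.comp_id]
    · rw [Category.assoc, Category.assoc, j_snd, diag_snd, Category.comp_id, h])

theorem stabLift_fst {T : Scheme.{u}} (γ : T ⟶ G.R) (h : γ ≫ G.t = γ ≫ G.s) :
    stabLift G γ h ≫ stabR G = γ := pullback.lift_fst _ _ _

theorem stabLift_toU {T : Scheme.{u}} (γ : T ⟶ G.R) (h : γ ≫ G.t = γ ≫ G.s) :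
    stabLift G γ h ≫ G.stabilizerToU = γ ≫ G.t := pullback.lift_snd _ _ _

theorem stab_ext {T : Scheme.{u}} (a b : T ⟶ G.stabilizer)
    (h : a ≫ stabR G = b ≫ stabR G) : a = b := by
  apply pullback.hom_ext h
  have h1 : a ≫ G.stabilizerToU = b ≫ G.stabilizerToU := by
    rw [← stab_t, ← Category.assoc, h, Category.assoc]
  exact h1

section Torsor

/-- the `R`-component of the generic point of `Stab ×_{U,t} R` -/
noncomputable def γP : pullback G.stabilizerToU G.t ⟶ G.R :=
  pullback.fst G.stabilizerToU G.t ≫ stabR G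

theorem γP_def : γP G = pullback.fst G.stabilizerToU G.t ≫ stabR G := rfl

theorem hγP : γP G ≫ G.s = pullback.snd G.stabilizerToU G.t ≫ G.t := by
  rw [γP_def, Category.assoc, stab_s, pullback.condition]

theorem γP_t : γP G ≫ G.t = pullback.snd G.stabilizerToU G.t ≫ G.t := by
  rw [γP_def, Category.assoc, stab_t, pullback.condition]

theorem hq_s : pullback.fst G.j G.j ≫ G.s = (pullback.snd G.j G.j ≫ G.i) ≫ G.t := by
  rw [Category.assoc, G.i_t]
  exact j_s G pullback.condition

/-- `r₁ ∘ r₂⁻¹` on `R ×_{j,j} R` -/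
noncomputable def δQ : pullback G.j G.j ⟶ G.R :=
  cmp G (pullback.fst G.j G.j) (pullback.snd G.j G.j ≫ G.i) (hq_s G)

theorem δQ_def : δQ G =
    cmp G (pullback.fst G.j G.j) (pullback.snd G.j G.j ≫ G.i) (hq_s G) := rfl

theorem δQ_t : δQ G ≫ G.t = pullback.snd G.j G.j ≫ G.t := by
  rw [δQ, cmp_t]
  exact j_t G pullback.condition

theorem δQ_s : δQ G ≫ G.s = pullback.snd G.j G.j ≫ G.t := by
  rw [δQ, cmp_s, Category.assoc, G.i_s]

/-- the inverse of `β` -/
noncomputable def βinv : pullback G.j G.j ⟶ pullback G.stabilizerToU G.t :=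
  pullback.lift (stabLift G (δQ G) ((δQ_t G).trans (δQ_s G).symm)) (pullback.snd G.j G.j)
    (by rw [stabLift_toU, δQ_t])

theorem βinv_γP : βinv G ≫ γP G = δQ G := by
  rw [γP_def, ← Category.assoc, βinv, pullback.lift_fst, stabLift_fst]

theorem βinv_snd : βinv G ≫ pullback.snd G.stabilizerToU G.t = pullback.snd G.j G.j :=
  pullback.lift_snd _ _ _

variable (α : pullback G.stabilizerToU G.t ⟶ pullback G.s G.t)
  (hα₁ : α ≫ pullback.fst G.s G.t =
    pullback.fst G.stabilizerToU G.t ≫ pullback.fst G.j G.diag)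
  (hα₂ : α ≫ pullback.snd G.s G.t = pullback.snd G.stabilizerToU G.t)
  (β : pullback G.stabilizerToU G.t ⟶ pullback G.j G.j)
  (hβ₁ : β ≫ pullback.fst G.j G.j = α ≫ G.c)
  (hβ₂ : β ≫ pullback.snd G.j G.j = pullback.snd G.stabilizerToU G.t)

include hα₁ hα₂ in
theorem α_c : α ≫ G.c = cmp G (γP G) (pullback.snd G.stabilizerToU G.t) (hγP G) := by
  have : α = pullback.lift (γP G) (pullback.snd G.stabilizerToU G.t) (hγP G) := by
    apply pullback.hom_ext
    · rw [pullback.lift_fst]; exact hα₁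
    · rw [pullback.lift_snd]; exact hα₂
  rw [this]
  rfl

include hα₁ hα₂ hβ₁ hβ₂ in
theorem β_βinv : β ≫ βinv G = 𝟙 _ := by
  apply pullback.hom_ext
  · apply stab_ext
    rw [Category.id_comp]
    change (β ≫ βinv G) ≫ γP G = γP G
    rw [Category.assoc, βinv_γP, δQ_def, precomp_cmp]
    have e1 : β ≫ pullback.fst G.j G.j =
        cmp G (γP G) (pullback.snd G.stabilizerToU G.t) (hγP G) := by
      rw [hβ₁, α_c G α hα₁ hα₂]
    have e2 : β ≫ pullback.snd G.j G.j ≫ G.i = pullback.snd G.stabilizerToU G.t ≫ G.i := by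
      rw [← Category.assoc, hβ₂]
    refine (cmp_congr G _ e1 e2).trans ?_
    have h2 : pullback.snd G.stabilizerToU G.t ≫ G.s =
        (pullback.snd G.stabilizerToU G.t ≫ G.i) ≫ G.t := by rw [Category.assoc, G.i_t]
    refine (cmp_assoc G (γP G) (pullback.snd G.stabilizerToU G.t)
      (pullback.snd G.stabilizerToU G.t ≫ G.i) (hγP G) h2).trans ?_
    have e3 : cmp G (pullback.snd G.stabilizerToU G.t)
        (pullback.snd G.stabilizerToU G.t ≫ G.i) h2 = γP G ≫ G.s ≫ G.e := by
      rw [cmp_i, ← Category.assoc, ← hγP, Category.assoc]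
    refine (cmp_congr G _ rfl e3).trans ?_
    exact cmp_e G _
  · rw [Category.assoc, βinv_snd, hβ₂, Category.id_comp]

include hα₁ hα₂ hβ₁ hβ₂ in
theorem βinv_β : βinv G ≫ β = 𝟙 _ := by
  apply pullback.hom_ext
  · rw [Category.assoc, hβ₁, α_c G α hα₁ hα₂, precomp_cmp, Category.id_comp]
    refine (cmp_congr G _ ((βinv_γP G).trans (δQ_def G)) (βinv_snd G)).trans ?_
    have h2 : (pullback.snd G.j G.j ≫ G.i) ≫ G.s = pullback.snd G.j G.j ≫ G.t := by
      rw [Category.assoc, G.i_s]
    refine (cmp_assoc G (pullback.fst G.j G.j) (pullback.snd G.j G.j ≫ G.i)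
      (pullback.snd G.j G.j) (hq_s G) h2).trans ?_
    have e3 : cmp G (pullback.snd G.j G.j ≫ G.i) (pullback.snd G.j G.j) h2 =
        pullback.fst G.j G.j ≫ G.s ≫ G.e := by
      rw [i_cmp, ← Category.assoc, ← j_s G pullback.condition, Category.assoc]
    refine (cmp_congr G _ rfl e3).trans ?_
    exact cmp_e G _
  · rw [Category.assoc, hβ₂, βinv_snd, Category.id_comp]

include hα₁ hα₂ hβ₁ hβ₂ in
theorem isIso_β : IsIso β :=
  ⟨βinv G, β_βinv G α hα₁ hα₂ β hβ₁ hβ₂, βinv_β G α hα₁ hα₂ β hβ₁ hβ₂⟩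

end Torsor

end Groth.Agent.Helper18.GrpdOm
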