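import Mathlib
import Groth.Prelude.Def_Grpd
import Groth.Agent.Lib.Helper18.GrpdTorsor
import Groth.Agent.Lib.Helper18.GrpSchT

set_option autoImplicit false
set_option linter.style.haveILetI false
set_option linter.unusedSectionVars false
set_option maxRecDepth 8000
universe u
open CategoryTheory CategoryTheory.Limits AlgebraicGeometry TopologicalSpace Opposite

namespace Groth.Agent.Helper18.GrpdOm

open Grpd

variable {S : Scheme.{u}} (G : GroupoidScheme S)

theorem eStab_stabR : G.eStab ≫ stabR G = G.e := pullback.lift_fst _ _ _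
theorem eStab_toU : G.eStab ≫ G.stabilizerToU = 𝟙 _ := pullback.lift_snd _ _ _

/-- canonical `α` -/
noncomputable def αc : pullback G.stabilizerToU G.t ⟶ pullback G.s G.t :=
  pullback.lift (γP G) (pullback.snd G.stabilizerToU G.t) (hγP G)

theorem αc_fst : αc G ≫ pullback.fst G.s G.t = pullback.fst G.stabilizerToU G.t ≫ stabR G :=
  pullback.lift_fst _ _ _

theorem αc_snd : αc G ≫ pullback.snd G.s G.t = pullback.snd G.stabilizerToU G.t :=
  pullback.lift_snd _ _ _

theorem αc_c : αc G ≫ G.c = cmp G (γP G) (pullback.snd G.stabilizerToU G.t) (hγP G) :=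
  α_c G (αc G) (αc_fst G) (αc_snd G)

/-- canonical `β` -/
noncomputable def βc : pullback G.stabilizerToU G.t ⟶ pullback G.j G.j :=
  pullback.lift (αc G ≫ G.c) (pullback.snd G.stabilizerToU G.t) (by
    apply j_ext
    · rw [αc_c, cmp_t, γP_t]
    · rw [αc_c, cmp_s])

theorem βc_fst : βc G ≫ pullback.fst G.j G.j = αc G ≫ G.c := pullback.lift_fst _ _ _
theorem βc_snd : βc G ≫ pullback.snd G.j G.j = pullback.snd G.stabilizerToU G.t :=
  pullback.lift_snd _ _ _

instance : IsIso (βc G) := isIso_β G (αc G) (αc_fst G) (αc_snd G) (βc G) (βc_fst G) (βc_snd G)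

/-- the section `r ↦ (e(t r), r)` -/
noncomputable def σc : G.R ⟶ pullback G.stabilizerToU G.t :=
  pullback.lift (G.t ≫ G.eStab) (𝟙 G.R) (by rw [Category.assoc, eStab_toU, Category.comp_id,
    Category.id_comp])

theorem σc_fst : σc G ≫ pullback.fst G.stabilizerToU G.t = G.t ≫ G.eStab := pullback.lift_fst _ _ _
theorem σc_snd : σc G ≫ pullback.snd G.stabilizerToU G.t = 𝟙 _ := pullback.lift_snd _ _ _

theorem isPullback_σc :
    IsPullback (σc G) G.t (pullback.fst G.stabilizerToU G.t) G.eStab := by
  refine IsPullback.of_right ?_ (σc_fst G) (IsPullback.of_hasPullback G.stabilizerToU G.t).flip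
  rw [σc_snd, eStab_toU]
  exact IsPullback.of_horiz_isIso ⟨by simp⟩

theorem σc_βc : σc G ≫ βc G = pullback.diagonal G.j := by
  apply pullback.hom_ext
  · rw [Category.assoc, βc_fst, αc_c, precomp_cmp, pullback.diagonal_fst]
    have e1 : σc G ≫ γP G = 𝟙 G.R ≫ G.t ≫ G.e := by
      rw [γP_def, ← Category.assoc, σc_fst, Category.assoc, eStab_stabR, Category.id_comp]
    refine (cmp_congr G _ e1 (σc_snd G)).trans ?_
    exact e_cmp G (𝟙 G.R)
  · rw [Category.assoc, βc_snd, σc_snd, pullback.diagonal_snd]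

theorem diagonal_of_eStab (P : MorphismProperty Scheme.{u}) [P.IsStableUnderBaseChange]
    [P.IsMultiplicative] (hiso : ∀ {X Y : Scheme.{u}} (f : X ⟶ Y) [IsIso f], P f)
    (h : P G.eStab) :
    P (pullback.diagonal G.j) := by
  rw [← σc_βc]
  have h1 : P (σc G) := MorphismProperty.of_isPullback (isPullback_σc G).flip h
  exact P.comp_mem _ _ h1 (hiso (βc G))

theorem sep_tfae :
    ((IsSeparated G.j ↔ IsSeparated G.stabilizerToU) ∧
      (IsSeparated G.stabilizerToU ↔ IsClosedImmersion G.eStab)) := by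
  have h12 : IsSeparated G.j → IsSeparated G.stabilizerToU := fun h => by
    change IsSeparated (pullback.snd G.j G.diag)
    infer_instance
  have h23 : IsSeparated G.stabilizerToU → IsClosedImmersion G.eStab := fun h =>
    Groth.Agent.Helper18.GrpSchOm.isClosedImmersion_section G.stabilizerToU G.eStab (eStab_toU G)
  have h31 : IsClosedImmersion G.eStab → IsSeparated G.j := fun h =>
    ⟨diagonal_of_eStab G @IsClosedImmersion (fun f _ => inferInstance) h⟩
  exact ⟨⟨h12, fun h => h31 (h23 h)⟩, ⟨h23, fun h => h12 (h31 h)⟩⟩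

theorem qsep_tfae :
    ((QuasiSeparated G.j ↔ QuasiSeparated G.stabilizerToU) ∧
      (QuasiSeparated G.stabilizerToU ↔ QuasiCompact G.eStab)) := by
  have h12 : QuasiSeparated G.j → QuasiSeparated G.stabilizerToU := fun h => by
    change QuasiSeparated (pullback.snd G.j G.diag)
    infer_instance
  have h23 : QuasiSeparated G.stabilizerToU → QuasiCompact G.eStab := fun h =>
    quasiCompact_section G.stabilizerToU G.eStab (eStab_toU G)
  have h31 : QuasiCompact G.eStab → QuasiSeparated G.j := fun h =>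
    ⟨diagonal_of_eStab G @QuasiCompact (fun f _ => inferInstance) h⟩
  exact ⟨⟨h12, fun h => h31 (h23 h)⟩, ⟨h23, fun h => h12 (h31 h)⟩⟩

end Groth.Agent.Helper18.GrpdOm
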