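import Mathlib
import Groth.Prelude.Def_Grpd
import Groth.Agent.Lib.Helper18.GrpdSep

set_option autoImplicit false
set_option linter.style.haveILetI false
set_option linter.unusedSectionVars false
set_option maxRecDepth 8000
universe u
open CategoryTheory CategoryTheory.Limits AlgebraicGeometry TopologicalSpace Opposite

namespace Groth.Agent.Helper18.GrpdOm

open Grpd

variable {S : Scheme.{u}} (G : GroupoidScheme S)

theorem isSeparated_R_of_field (k : Type u) [Field k] (eU : G.U ≅ Spec (CommRingCat.of k)) :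
    G.R.IsSeparated := by
  haveI : Subsingleton G.U := eU.hom.homeomorph.subsingleton
  haveI : IsAffine G.U := .of_isIso eU.hom
  haveI : IsClosedImmersion G.eStab :=
    isClosedImmersion_of_comp_eq_id G.stabilizerToU G.eStab (eStab_toU G)
  haveI : IsSeparated G.j := ((sep_tfae G).1.trans (sep_tfae G).2).2 inferInstance
  haveI : IsSeparated (G.pU ≫ terminal.from S) := by
    rw [terminal.comp_from]
    infer_instance
  haveI : IsSeparated G.pU := IsSeparated.of_comp G.pU (terminal.from S)
  have h : terminal.from G.R = G.j ≫ pullback.fst G.pU G.pU ≫ terminal.from G.U :=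
    Subsingleton.elim _ _
  constructor
  rw [h]
  infer_instance

section Translate

variable {Z : Scheme.{u}} (a : Z ⟶ G.R)

/-- `(z, r) ↦ (a z, r)` -/
noncomputable def bZ : pullback (a ≫ G.s) G.t ⟶ pullback G.s G.t :=
  pullback.lift (pullback.fst (a ≫ G.s) G.t ≫ a) (pullback.snd (a ≫ G.s) G.t)
    (by rw [Category.assoc]; exact pullback.condition)

theorem bZ_fst : bZ G a ≫ pullback.fst G.s G.t = pullback.fst (a ≫ G.s) G.t ≫ a :=
  pullback.lift_fst _ _ _

theorem bZ_snd : bZ G a ≫ pullback.snd G.s G.t = pullback.snd (a ≫ G.s) G.t :=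
  pullback.lift_snd _ _ _

theorem isPullback_bZ :
    IsPullback (bZ G a) (pullback.fst (a ≫ G.s) G.t) (pullback.fst G.s G.t) a := by
  refine IsPullback.of_right ?_ (bZ_fst G a) (IsPullback.of_hasPullback G.s G.t).flip
  rw [bZ_snd]
  exact (IsPullback.of_hasPullback (a ≫ G.s) G.t).flip

/-- `(z, r) ↦ a z ∘ r` is a base change of `Z → U`. -/
theorem isPullback_translate :
    IsPullback (bZ G a ≫ G.c) (pullback.fst (a ≫ G.s) G.t) G.t (a ≫ G.t) :=
  (isPullback_bZ G a).paste_horiz (isPullback_c G)

theorem universallyOpen_translate (k : Type u) [Field k] (eU : G.U ≅ Spec (CommRingCat.of k)) :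
    UniversallyOpen (bZ G a ≫ G.c) := by
  haveI : UniversallyOpen ((a ≫ G.t) ≫ eU.hom) := inferInstance
  haveI : UniversallyOpen (a ≫ G.t) :=
    (MorphismProperty.cancel_right_of_respectsIso @UniversallyOpen (a ≫ G.t) eU.hom).1 inferInstance
  exact MorphismProperty.of_isPullback (P := @UniversallyOpen) (isPullback_translate G a).flip
    inferInstance

theorem isOpen_range_translate (k : Type u) [Field k] (eU : G.U ≅ Spec (CommRingCat.of k))
    (W : G.R.Opens) :
    IsOpen (Set.range ⇑(pullback.lift (pullback.fst (a ≫ G.s) (W.ι ≫ G.t) ≫ a)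
      (pullback.snd (a ≫ G.s) (W.ι ≫ G.t) ≫ W.ι)
      ((Category.assoc _ _ _).trans (pullback.condition.trans (Category.assoc _ _ _).symm)) ≫
        G.c)) := by
  have h : pullback.lift (pullback.fst (a ≫ G.s) (W.ι ≫ G.t) ≫ a)
      (pullback.snd (a ≫ G.s) (W.ι ≫ G.t) ≫ W.ι)
      ((Category.assoc _ _ _).trans (pullback.condition.trans (Category.assoc _ _ _).symm)) =
      pullback.map (a ≫ G.s) (W.ι ≫ G.t) (a ≫ G.s) G.t (𝟙 Z) W.ι (𝟙 G.U)
        (by rw [Category.comp_id, Category.id_comp]) (by rw [Category.comp_id]) ≫ bZ G a := by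
    apply pullback.hom_ext
    · rw [pullback.lift_fst, Category.assoc, bZ_fst, ← Category.assoc, pullback.lift_fst,
        Category.comp_id]
    · rw [pullback.lift_snd, Category.assoc, bZ_snd, pullback.lift_snd]
  rw [h, Category.assoc]
  haveI := universallyOpen_translate G a k eU
  exact (Scheme.Hom.isOpenMap _).isOpen_range

end Translate

end Groth.Agent.Helper18.GrpdOm
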