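import Mathlib
import Groth.Prelude.Def_Grpd
import Groth.Agent.Lib.Helper18.GrpdOm

set_option autoImplicit false
set_option linter.style.haveILetI false
set_option linter.unusedSectionVars false
universe u
open CategoryTheory CategoryTheory.Limits AlgebraicGeometry TopologicalSpace Opposite

namespace Groth.Agent.Helper18.GrpdFin

open Grpd Groth.Agent.Helper18.GrpdOm

variable {S : Scheme.{u}} (G : GroupoidScheme S)

/-- composition on points -/
theorem exists_comp (r r' : G.R) (h : G.s r' = G.t r) :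
    ∃ r'' : G.R, G.s r'' = G.s r ∧ G.t r'' = G.t r' := by
  obtain ⟨q, hq1, hq2⟩ := Scheme.Pullback.exists_preimage_pullback (f := G.s) (g := G.t) r' r h
  refine ⟨G.c q, ?_, ?_⟩
  · have h1 : G.c ≫ G.s = pullback.snd G.s G.t ≫ G.s := by
      rw [c_eq]; exact cmp_s G _ _ _
    have h2 := congr($(h1) q)
    rw [Scheme.Hom.comp_apply, Scheme.Hom.comp_apply, hq2] at h2
    exact h2
  · have h1 : G.c ≫ G.t = pullback.fst G.s G.t ≫ G.t := by
      rw [c_eq]; exact cmp_t G _ _ _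
    have h2 := congr($(h1) q)
    rw [Scheme.Hom.comp_apply, Scheme.Hom.comp_apply, hq1] at h2
    exact h2

variable [IsFinite G.s] [IsFinite G.t]

theorem eq_of_specializes_of_fibre {X Y : Scheme.{u}} (f : X ⟶ Y) [IsFinite f] {a b : X}
    (hab : a ⤳ b) (hf : f a = f b) : a = b := by
  have hd := f.isDiscrete_preimage_singleton (f b)
  have ha : a ∈ f ⁻¹' {f b} := hf
  have hb : b ∈ f ⁻¹' {f b} := rfl
  haveI : DiscreteTopology (f ⁻¹' {f b}) := isDiscrete_iff_discreteTopology.1 hd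
  have h1 : (⟨a, ha⟩ : f ⁻¹' {f b}) ⤳ ⟨b, hb⟩ := by
    exact (Topology.IsInducing.subtypeVal.specializes_iff).1 hab
  have h2 := specializes_iff_eq.1 h1
  exact congrArg Subtype.val h2

theorem step (r : G.R) (hne : G.s r ≠ G.t r) (hsp : G.s r ⤳ G.t r) :
    ∃ r' : G.R, G.s r' = G.t r ∧ G.t r' ≠ G.t r ∧ G.t r ⤳ G.t r' := by
  have hcl : IsClosedMap G.s := G.s.isClosedMap
  obtain ⟨r', hr', hsr'⟩ := hcl.specializingMap hsp
  have hr'' : r ⤳ r' := hr'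
  refine ⟨r', hsr', ?_, hr''.map G.t.continuous⟩
  intro h
  have := eq_of_specializes_of_fibre G.t hr'' h.symm
  apply hne
  rw [← hsr', this]

theorem main (r : G.R) (hne : G.s r ≠ G.t r) : ¬ (G.s r ⤳ G.t r) := by
  intro hsp
  set u := G.s r with hu
  let O : Set G.U := G.t '' (G.s ⁻¹' {u})
  have hO : O.Finite := (G.s.finite_preimage_singleton u).image _
  haveI : Finite O := hO.to_subtype
  let rel : O → O → Prop := fun a b => (b : G.U) ⤳ (a : G.U) ∧ (a : G.U) ≠ b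
  haveI : IsTrans O rel := ⟨fun a b c hab hbc => ⟨hbc.1.trans hab.1, fun h => by
    have h1 : (b : G.U) ⤳ (c : G.U) := h ▸ hab.1
    exact hbc.2 (h1.antisymm hbc.1).eq⟩⟩
  haveI : Std.Irrefl rel := ⟨fun a h => h.2 rfl⟩
  have wf : WellFounded rel := Finite.wellFounded_of_trans_of_irrefl rel
  let Bad : Set O := {v | ∃ ρ : G.R, G.s ρ = u ∧ G.t ρ = v ∧
    ∃ ρ' : G.R, G.s ρ' = G.t ρ ∧ G.t ρ' ≠ G.t ρ ∧ G.t ρ ⤳ G.t ρ'}
  have hBad : Bad.Nonempty := by
    obtain ⟨r', h1, h2, h3⟩ := step G r hne hsp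
    exact ⟨⟨G.t r, r, rfl, rfl⟩, r, rfl, rfl, r', h1, h2, h3⟩
  obtain ⟨m, hm, hmin⟩ := wf.has_min Bad hBad
  obtain ⟨ρ, hρs, hρt, ρ', h1, h2, h3⟩ := hm
  -- apply `step` to `ρ'`
  obtain ⟨ρ'', k1, k2, k3⟩ := step G ρ' (by rw [h1]; exact h2.symm) (by rw [h1]; exact h3)
  obtain ⟨ρ₂, l1, l2⟩ := exists_comp G ρ ρ' h1
  have hmem : G.t ρ₂ ∈ O := ⟨ρ₂, by rw [Set.mem_preimage, l1, hρs]; rfl, rfl⟩
  have hbad : (⟨G.t ρ₂, hmem⟩ : O) ∈ Bad :=
    ⟨ρ₂, l1.trans hρs, rfl, ρ'', by rw [l2]; exact k1, by rw [l2]; exact k2, by rw [l2]; exact k3⟩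
  apply hmin _ hbad
  refine ⟨?_, ?_⟩
  · change (m : G.U) ⤳ G.t ρ₂
    rw [← hρt, l2]
    exact h3
  · change G.t ρ₂ ≠ (m : G.U)
    rw [← hρt, l2]
    exact h2

end Groth.Agent.Helper18.GrpdFin
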