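import Mathlib
import Groth.Prelude.Def_Grpd
import Groth.Agent.Lib.Helper18.GrpdOm
import Groth.Agent.Lib.Helper18.GrpdStab
import Groth.Agent.Lib.Helper18.NormBC

set_option autoImplicit false
set_option linter.style.haveILetI false
set_option linter.unusedSectionVars false
set_option maxRecDepth 8000
universe u
open CategoryTheory CategoryTheory.Limits AlgebraicGeometry TopologicalSpace Opposite

/-!
# The norm along `s♯` of `t♯ f` is an invariant function
-/

namespace Groth.Agent.Helper18.GrpdNorm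

open Grpd Groth.Agent.Helper18.GrpdOm Groth.Agent.Helper18.GrpdStab

variable {S : Scheme.{u}} (G : GroupoidScheme S)

/-- `(a, b) ↦ (a ∘ b, b)` -/
noncomputable def Ψhom : pullback G.s G.t ⟶ pullback G.s G.s :=
  pullback.lift G.c (pullback.snd G.s G.t) (by rw [c_eq, cmp_s])

/-- `(x, b) ↦ (x ∘ b⁻¹, b)` -/
noncomputable def Ψarr : pullback G.s G.s ⟶ G.R :=
  cmp G (pullback.fst G.s G.s) (pullback.snd G.s G.s ≫ G.i)
    (by rw [Category.assoc, G.i_t]; exact pullback.condition)

noncomputable def Ψinv : pullback G.s G.s ⟶ pullback G.s G.t :=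
  pullback.lift (Ψarr G) (pullback.snd G.s G.s)
    (by unfold Ψarr; rw [cmp_s, Category.assoc, G.i_s])

theorem Ψhom_fst : Ψhom G ≫ pullback.fst G.s G.s = G.c := pullback.lift_fst _ _ _
theorem Ψhom_snd : Ψhom G ≫ pullback.snd G.s G.s = pullback.snd G.s G.t := pullback.lift_snd _ _ _
theorem Ψinv_fst : Ψinv G ≫ pullback.fst G.s G.t = Ψarr G := pullback.lift_fst _ _ _
theorem Ψinv_snd : Ψinv G ≫ pullback.snd G.s G.t = pullback.snd G.s G.s := pullback.lift_snd _ _ _

theorem Ψ_hom_inv : Ψhom G ≫ Ψinv G = 𝟙 _ := by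
  apply pullback.hom_ext
  · rw [Category.assoc, Ψinv_fst, Category.id_comp]
    unfold Ψarr
    refine (precomp_cmp G _ _ _ _).trans ?_
    have e1 : Ψhom G ≫ pullback.fst G.s G.s =
        cmp G (pullback.fst G.s G.t) (pullback.snd G.s G.t) pullback.condition := by
      rw [Ψhom_fst]; exact c_eq G
    have e2 : Ψhom G ≫ pullback.snd G.s G.s ≫ G.i = pullback.snd G.s G.t ≫ G.i := by
      rw [← Category.assoc, Ψhom_snd]
    refine (cmp_congr G _ e1 e2).trans ?_
    exact cancel_R1 G _ _ _ _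
  · rw [Category.assoc, Ψinv_snd, Ψhom_snd, Category.id_comp]

theorem Ψ_inv_hom : Ψinv G ≫ Ψhom G = 𝟙 _ := by
  apply pullback.hom_ext
  · rw [Category.assoc, Ψhom_fst, Category.id_comp, c_eq]
    refine (precomp_cmp G _ _ _ _).trans ?_
    refine (cmp_congr G _ (Ψinv_fst G) (Ψinv_snd G)).trans ?_
    unfold Ψarr
    exact cancel_R2 G _ _ _ _
  · rw [Category.assoc, Ψhom_snd, Ψinv_snd, Category.id_comp]

/-- the second composition square is cartesian -/
theorem isPullback_c' : IsPullback G.c (pullback.snd G.s G.t) G.s G.s := by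
  refine IsPullback.of_iso_pullback ⟨by rw [c_eq, cmp_s]⟩
    ⟨Ψhom G, Ψinv G, Ψ_hom_inv G, Ψ_inv_hom G⟩ (Ψhom_fst G) (Ψhom_snd G)

/-- norm and pushouts in `CommRingCat` -/
theorem norm_of_isPushout_cat {A A' B B' : CommRingCat.{u}} {φ : A ⟶ B} {ψ : A ⟶ A'}
    {φ' : A' ⟶ B'} {ψ' : B ⟶ B'} (h : IsPushout ψ φ φ' ψ')
    (hfree : letI := φ.hom.toAlgebra; ∃ s : Finset B, Nonempty (Module.Basis s A B)) (x : B) :
    (letI := φ'.hom.toAlgebra; Algebra.norm A' (ψ'.hom x)) =
      ψ.hom (letI := φ.hom.toAlgebra; Algebra.norm A x) := by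
  letI := φ.hom.toAlgebra
  letI := ψ.hom.toAlgebra
  letI := φ'.hom.toAlgebra
  letI := ψ'.hom.toAlgebra
  letI := (ψ ≫ φ').hom.toAlgebra
  haveI : IsScalarTower A A' B' := .of_algebraMap_eq' rfl
  haveI : IsScalarTower A B B' := .of_algebraMap_eq' (by
    show (ψ ≫ φ').hom = ψ'.hom.comp φ.hom
    rw [h.w]; rfl)
  haveI : Algebra.IsPushout A A' B B' := CommRingCat.isPushout_iff_isPushout.mp h
  exact Groth.Agent.Lib.Helper18.NormBC.norm_of_isPushout (A := A) (A' := A') (B := B) (B' := B')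
    hfree x

section Affine

variable [IsAffine G.U] [IsAffine G.R]

theorem normST_mem (f : Γ(G.U, ⊤)) : G.normST f ∈ G.invariants := by
  letI := G.s.appTop.hom.toAlgebra
  by_cases hfree : ∃ s : Finset Γ(G.R, ⊤), Nonempty (Module.Basis s Γ(G.U, ⊤) Γ(G.R, ⊤))
  · have sq1 : IsPushout G.t.appTop G.s.appTop (pullback.snd G.s G.t).appTop
        (pullback.fst G.s G.t).appTop :=
      (isPushout_appTop_of_isPullback (IsPullback.of_hasPullback G.s G.t)).flip
    have sq2 : IsPushout G.s.appTop G.s.appTop (pullback.snd G.s G.t).appTop G.c.appTop :=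
      (isPushout_appTop_of_isPullback (isPullback_c' G)).flip
    have n1 := norm_of_isPushout_cat sq1 hfree (G.t.appTop.hom f)
    have n2 := norm_of_isPushout_cat sq2 hfree (G.t.appTop.hom f)
    have hc : G.c.appTop.hom (G.t.appTop.hom f) =
        (pullback.fst G.s G.t).appTop.hom (G.t.appTop.hom f) := by
      have h1 : G.c ≫ G.t = pullback.fst G.s G.t ≫ G.t := by rw [c_eq, cmp_t]
      have h2 := congrArg (fun φ => φ.appTop.hom f) h1
      simp only [Scheme.Hom.comp_appTop] at h2
      exact h2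
    rw [hc] at n2
    show G.s.appTop.hom (G.normST f) = G.t.appTop.hom (G.normST f)
    exact n2.symm.trans n1
  · have : G.normST f = 1 := Algebra.norm_eq_one_of_not_exists_basis _ hfree _
    rw [this]
    exact Subring.one_mem _

end Affine

end Groth.Agent.Helper18.GrpdNorm
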