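import Mathlib
import Groth.Prelude.Def_Grpd
import Groth.Agent.Lib.Helper18.GrpdOm
import Groth.Agent.Lib.Helper18.GrpdStab

set_option autoImplicit false
set_option linter.style.haveILetI false
set_option linter.unusedSectionVars false
set_option maxRecDepth 8000
universe u
open CategoryTheory CategoryTheory.Limits AlgebraicGeometry TopologicalSpace Opposite

/-!
# `W(P, h)` for `h = s ∘ pr₁ : U' ×_{g,U,t} R → U` is pulled back from `U'`
-/

namespace Groth.Agent.Helper18.GrpdW

open Grpd Groth.Agent.Helper18.GrpdOm Groth.Agent.Helper18.GrpdStab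

variable {S : Scheme.{u}} (G : GroupoidScheme S) {U' : Scheme.{u}} (g : U' ⟶ G.U)

/-- `h = s ∘ pr₁` -/
noncomputable abbrev hh : pullback g G.t ⟶ G.U := pullback.snd g G.t ≫ G.s

/-- the arrow component of `θ`: `((u', r₀), ρ) ↦ r₀ ∘ ρ` -/
noncomputable def θarr : pullback (hh G g) G.t ⟶ G.R :=
  cmp G (pullback.fst (hh G g) G.t ≫ pullback.snd g G.t) (pullback.snd (hh G g) G.t)
    (by rw [Category.assoc]; exact pullback.condition)

theorem θarr_t : θarr G g ≫ G.t = pullback.fst (hh G g) G.t ≫ pullback.fst g G.t ≫ g := by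
  unfold θarr
  rw [cmp_t, Category.assoc, ← pullback.condition]

theorem θarr_s : θarr G g ≫ G.s = pullback.snd (hh G g) G.t ≫ G.s := by
  unfold θarr
  rw [cmp_s]

/-- `θ : ((u', r₀), ρ) ↦ ((u', r₀ ∘ ρ), ρ)` -/
noncomputable def θhom : pullback (hh G g) G.t ⟶ pullback (hh G g) G.s :=
  pullback.lift
    (pullback.lift (pullback.fst (hh G g) G.t ≫ pullback.fst g G.t) (θarr G g)
      (by rw [θarr_t, Category.assoc]))
    (pullback.snd (hh G g) G.t)
    (by rw [← Category.assoc, pullback.lift_snd, θarr_s])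

theorem θhom_snd : θhom G g ≫ pullback.snd (hh G g) G.s = pullback.snd (hh G g) G.t :=
  pullback.lift_snd _ _ _

theorem θhom_fst_fst : θhom G g ≫ pullback.fst (hh G g) G.s ≫ pullback.fst g G.t =
    pullback.fst (hh G g) G.t ≫ pullback.fst g G.t := by
  rw [← Category.assoc, θhom, pullback.lift_fst, pullback.lift_fst]

theorem θhom_fst_snd : θhom G g ≫ pullback.fst (hh G g) G.s ≫ pullback.snd g G.t = θarr G g := by
  rw [← Category.assoc, θhom, pullback.lift_fst, pullback.lift_snd]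

/-- the arrow component of `θ⁻¹`: `((u', r₁), ρ) ↦ r₁ ∘ ρ⁻¹` -/
noncomputable def θarr' : pullback (hh G g) G.s ⟶ G.R :=
  cmp G (pullback.fst (hh G g) G.s ≫ pullback.snd g G.t) (pullback.snd (hh G g) G.s ≫ G.i)
    (by rw [Category.assoc, Category.assoc, G.i_t]; exact pullback.condition)

theorem θarr'_t : θarr' G g ≫ G.t = pullback.fst (hh G g) G.s ≫ pullback.fst g G.t ≫ g := by
  unfold θarr'
  rw [cmp_t, Category.assoc, ← pullback.condition]

theorem θarr'_s : θarr' G g ≫ G.s = pullback.snd (hh G g) G.s ≫ G.t := by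
  unfold θarr'
  rw [cmp_s, Category.assoc, G.i_s]

noncomputable def θinv : pullback (hh G g) G.s ⟶ pullback (hh G g) G.t :=
  pullback.lift
    (pullback.lift (pullback.fst (hh G g) G.s ≫ pullback.fst g G.t) (θarr' G g)
      (by rw [θarr'_t, Category.assoc]))
    (pullback.snd (hh G g) G.s)
    (by rw [← Category.assoc, pullback.lift_snd, θarr'_s])

theorem θinv_snd : θinv G g ≫ pullback.snd (hh G g) G.t = pullback.snd (hh G g) G.s :=
  pullback.lift_snd _ _ _

theorem θinv_fst_fst : θinv G g ≫ pullback.fst (hh G g) G.t ≫ pullback.fst g G.t =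
    pullback.fst (hh G g) G.s ≫ pullback.fst g G.t := by
  rw [← Category.assoc, θinv, pullback.lift_fst, pullback.lift_fst]

theorem θinv_fst_snd : θinv G g ≫ pullback.fst (hh G g) G.t ≫ pullback.snd g G.t = θarr' G g := by
  rw [← Category.assoc, θinv, pullback.lift_fst, pullback.lift_snd]

theorem θhom_θarr' : θhom G g ≫ θarr' G g =
    pullback.fst (hh G g) G.t ≫ pullback.snd g G.t := by
  unfold θarr'
  refine (precomp_cmp G _ _ _ _).trans ?_
  have e1 : θhom G g ≫ pullback.fst (hh G g) G.s ≫ pullback.snd g G.t = θarr G g :=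
    θhom_fst_snd G g
  have e2 : θhom G g ≫ pullback.snd (hh G g) G.s ≫ G.i = pullback.snd (hh G g) G.t ≫ G.i := by
    rw [← Category.assoc, θhom_snd]
  refine (cmp_congr G _ e1 e2).trans ?_
  unfold θarr
  exact cancel_R1 G _ _ _ _

theorem θinv_θarr : θinv G g ≫ θarr G g =
    pullback.fst (hh G g) G.s ≫ pullback.snd g G.t := by
  unfold θarr
  refine (precomp_cmp G _ _ _ _).trans ?_
  have e1 : θinv G g ≫ pullback.fst (hh G g) G.t ≫ pullback.snd g G.t = θarr' G g :=
    θinv_fst_snd G g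
  have e2 : θinv G g ≫ pullback.snd (hh G g) G.t = pullback.snd (hh G g) G.s := θinv_snd G g
  refine (cmp_congr G _ e1 e2).trans ?_
  unfold θarr'
  exact cancel_R2 G _ _ _ _

theorem θhom_inv : θhom G g ≫ θinv G g = 𝟙 _ := by
  apply pullback.hom_ext
  · apply pullback.hom_ext
    · rw [Category.assoc, Category.assoc, θinv_fst_fst, θhom_fst_fst, Category.id_comp]
    · rw [Category.assoc, Category.assoc, θinv_fst_snd, θhom_θarr', Category.id_comp]
  · rw [Category.assoc, θinv_snd, θhom_snd, Category.id_comp]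

theorem θinv_hom : θinv G g ≫ θhom G g = 𝟙 _ := by
  apply pullback.hom_ext
  · apply pullback.hom_ext
    · rw [Category.assoc, Category.assoc, θhom_fst_fst, θinv_fst_fst, Category.id_comp]
    · rw [Category.assoc, Category.assoc, θhom_fst_snd, θinv_θarr, Category.id_comp]
  · rw [Category.assoc, θhom_snd, θinv_snd, Category.id_comp]

noncomputable def θ : pullback (hh G g) G.t ≅ pullback (hh G g) G.s where
  hom := θhom G g
  inv := θinv G g
  hom_inv_id := θhom_inv G g
  inv_hom_id := θinv_hom G g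

/-- the section `u' ↦ (u', e(g u'))` -/
noncomputable def σ : U' ⟶ pullback g G.t :=
  pullback.lift (𝟙 U') (g ≫ G.e) (by rw [Category.id_comp, Category.assoc, G.e_t, Category.comp_id])

/-- `a = (u', r₀) ↦ (a, r₀⁻¹)` -/
noncomputable def β : pullback g G.t ⟶ pullback (hh G g) G.t :=
  pullback.lift (𝟙 _) (pullback.snd g G.t ≫ G.i)
    (by rw [Category.id_comp, Category.assoc, G.i_t])

theorem β_fst : β G g ≫ pullback.fst (hh G g) G.t = 𝟙 _ := pullback.lift_fst _ _ _

theorem β_snd : β G g ≫ pullback.snd (hh G g) G.t = pullback.snd g G.t ≫ G.i :=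
  pullback.lift_snd _ _ _

theorem β_θ_fst : β G g ≫ θhom G g ≫ pullback.fst (hh G g) G.s = pullback.fst g G.t ≫ σ G g := by
  apply pullback.hom_ext
  · rw [Category.assoc, Category.assoc, θhom_fst_fst, ← Category.assoc, β_fst, Category.id_comp,
      Category.assoc, σ, pullback.lift_fst, Category.comp_id]
  · rw [Category.assoc, Category.assoc, θhom_fst_snd, Category.assoc, σ, pullback.lift_snd]
    unfold θarr
    refine (precomp_cmp G _ _ _ _).trans ?_
    have e1 : β G g ≫ pullback.fst (hh G g) G.t ≫ pullback.snd g G.t = pullback.snd g G.t := by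
      rw [← Category.assoc, β_fst, Category.id_comp]
    refine (cmp_congr G _ e1 (β_snd G g)).trans ?_
    refine (cmp_i G _).trans ?_
    rw [← Category.assoc, ← pullback.condition, Category.assoc]

section Main

variable (P Q : MorphismProperty Scheme.{u}) [P.RespectsIso]
  (W : ∀ {X Y : Scheme.{u}} (f : X ⟶ Y), Q f → X.Opens)
  (hWP : ∀ {X Y : Scheme.{u}} (f : X ⟶ Y) (hf : Q f), P ((W f hf).ι ≫ f))
  (hWmax : ∀ {X Y : Scheme.{u}} (f : X ⟶ Y) (hf : Q f) (V : X.Opens), P (V.ι ≫ f) → V ≤ W f hf)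

include hWP hWmax in
theorem W_iso_le {X X' Y : Scheme.{u}} (e : X' ≅ X) (f : X ⟶ Y) (f' : X' ⟶ Y) (hf : Q f)
    (hf' : Q f') (h : e.hom ≫ f = f') : e.hom ⁻¹ᵁ W f hf ≤ W f' hf' := by
  subst h
  apply hWmax
  have h1 : (e.hom ⁻¹ᵁ W f hf).ι ≫ e.hom ≫ f = (e.hom ∣_ W f hf) ≫ (W f hf).ι ≫ f := by
    rw [← Category.assoc, ← morphismRestrict_ι, Category.assoc]
  rw [h1]
  exact (P.cancel_left_of_respectsIso (e.hom ∣_ W f hf) ((W f hf).ι ≫ f)).mpr (hWP f hf)

include hWP hWmax in
theorem W_iso {X X' Y : Scheme.{u}} (e : X' ≅ X) (f : X ⟶ Y) (f' : X' ⟶ Y) (hf : Q f)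
    (hf' : Q f') (h : e.hom ≫ f = f') : e.hom ⁻¹ᵁ W f hf = W f' hf' := by
  apply le_antisymm (W_iso_le P Q W hWP hWmax e f f' hf hf' h)
  have h' : e.symm.hom ≫ f' = f := by rw [← h, Iso.symm_hom, Iso.inv_hom_id_assoc]
  have := W_iso_le P Q W hWP hWmax e.symm f' f hf' hf h'
  intro x hx
  show e.hom x ∈ W f hf
  apply this
  show e.inv (e.hom x) ∈ W f' hf'
  have hx' : e.inv (e.hom x) = x := by
    rw [← Scheme.Hom.comp_apply, e.hom_inv_id]; rfl
  rw [hx']; exact hx

end Main

end Groth.Agent.Helper18.GrpdW
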