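import Mathlib

/-!
# A local ring whose finite-type algebras split off their quasi-finite part is henselian
-/

set_option autoImplicit false

open Polynomial IsLocalRing

namespace Groth.Agent.Helper18.HenselSplit

universe u

variable {R : Type u} [CommRing R]

section Poly

variable (f : R[X]) (a₀ : R)

/-- `h = f /ₘ (X - a₀)` -/
noncomputable def hq : R[X] := f /ₘ (X - C a₀)

lemma f_eq : f = (X - C a₀) * hq f a₀ + C (f.eval a₀) := by
  have := (modByMonic_add_div f (X - C a₀)).symm
  rw [modByMonic_X_sub_C_eq_C_eval] at this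
  rw [hq, add_comm]
  exact this

lemma eval_hq : (hq f a₀).eval a₀ = f.derivative.eval a₀ := by
  have h := congrArg (fun p => (derivative p).eval a₀) (f_eq f a₀)
  simp only [derivative_add, derivative_mul, derivative_sub, derivative_X, derivative_C, sub_zero,
    one_mul, eval_add, eval_mul, eval_sub, eval_X, eval_C, sub_self, zero_mul, add_zero] at h
  exact h.symm

end Poly

variable [IsLocalRing R]

section Main

variable (f : R[X]) (hf : f.Monic) (a₀ : R) (h₁ : f.eval a₀ ∈ maximalIdeal R)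
  (h₂ : IsUnit (f.derivative.eval a₀))

/-- the element `h(x)` of `R[X]/(f)` -/
noncomputable abbrev hx : AdjoinRoot f := AdjoinRoot.mk f (hq f a₀)

/-- The localization `(R[X]/(f))[1/h]`. -/
abbrev S' : Type u := Localization.Away (hx f a₀)

/-- the image of `X` in `S'` -/
noncomputable abbrev x' : S' f a₀ := algebraMap (AdjoinRoot f) (S' f a₀) (AdjoinRoot.root f)

lemma algebraMap_mk (p : R[X]) :
    algebraMap (AdjoinRoot f) (S' f a₀) (AdjoinRoot.mk f p) = aeval (x' f a₀) p := by
  rw [← AdjoinRoot.aeval_eq, ← Polynomial.aeval_algebraMap_apply]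

lemma aeval_x'_f : aeval (x' f a₀) f = 0 := by
  rw [← algebraMap_mk, AdjoinRoot.mk_self, map_zero]

lemma isUnit_aeval_hq : IsUnit (aeval (x' f a₀) (hq f a₀)) := by
  rw [← algebraMap_mk]
  exact IsLocalization.Away.algebraMap_isUnit (hx f a₀)

/-- the ideal `m S'` -/
noncomputable abbrev mS' : Ideal (S' f a₀) := (maximalIdeal R).map (algebraMap R (S' f a₀))

include h₁ in
lemma x'_sub_mem : x' f a₀ - algebraMap R (S' f a₀) a₀ ∈ mS' f a₀ := by
  have h := congrArg (aeval (x' f a₀)) (f_eq f a₀)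
  rw [aeval_x'_f, map_add, map_mul, map_sub, aeval_X, aeval_C, aeval_C] at h
  replace h := h.symm
  obtain ⟨u, hu⟩ := isUnit_aeval_hq f a₀
  have h3 : x' f a₀ - algebraMap R (S' f a₀) a₀ =
      - (algebraMap R (S' f a₀) (f.eval a₀)) * (↑u⁻¹ : S' f a₀) := by
    have h4 : (x' f a₀ - algebraMap R (S' f a₀) a₀) * (u : S' f a₀) =
        - algebraMap R (S' f a₀) (f.eval a₀) := by
      rw [hu]
      exact eq_neg_of_add_eq_zero_left h
    rw [← h4, mul_assoc, Units.mul_inv, mul_one]
  rw [h3]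
  exact Ideal.mul_mem_right _ _ (neg_mem (Ideal.mem_map_of_mem _ h₁))

include h₁ in
lemma aeval_x'_sub_mem (p : R[X]) :
    aeval (x' f a₀) p - algebraMap R (S' f a₀) (p.eval a₀) ∈ mS' f a₀ := by
  rw [← Ideal.Quotient.eq]
  have hx : Ideal.Quotient.mk (mS' f a₀) (x' f a₀) =
      Ideal.Quotient.mk (mS' f a₀) (algebraMap R (S' f a₀) a₀) :=
    Ideal.Quotient.eq.mpr (x'_sub_mem f a₀ h₁)
  have h1 := Polynomial.aeval_algHom_apply (Ideal.Quotient.mkₐ R (mS' f a₀)) (x' f a₀) p
  have h2 := Polynomial.aeval_algHom_apply (Ideal.Quotient.mkₐ R (mS' f a₀))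
    (algebraMap R (S' f a₀) a₀) p
  simp only [Ideal.Quotient.mkₐ_eq_mk] at h1 h2
  rw [← h1, hx, h2, Polynomial.aeval_algebraMap_apply_eq_algebraMap_eval]

include h₁ h₂ in
lemma exists_sub_mem (s : S' f a₀) : ∃ r : R, s - algebraMap R (S' f a₀) r ∈ mS' f a₀ := by
  obtain ⟨⟨y, ⟨_, n, rfl⟩⟩, hy⟩ := IsLocalization.surj (Submonoid.powers (hx f a₀)) s
  obtain ⟨p, rfl⟩ := AdjoinRoot.mk_surjective y
  simp only at hy
  rw [map_pow, algebraMap_mk, algebraMap_mk] at hy
  rw [← eval_hq] at h₂
  obtain ⟨u, hu⟩ := h₂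
  refine ⟨p.eval a₀ * (↑u⁻¹ : R) ^ n, ?_⟩
  have e1 := aeval_x'_sub_mem f a₀ h₁ p
  have e2 := aeval_x'_sub_mem f a₀ h₁ (hq f a₀)
  rw [← Ideal.Quotient.eq] at e1 e2 ⊢
  have hy' := congrArg (Ideal.Quotient.mk (mS' f a₀)) hy
  rw [map_mul, map_pow, e1, e2, ← hu] at hy'
  rw [map_mul (algebraMap R (S' f a₀)), map_pow (algebraMap R (S' f a₀)),
    map_mul (Ideal.Quotient.mk (mS' f a₀)), map_pow (Ideal.Quotient.mk (mS' f a₀)), ← hy',
    mul_assoc, ← mul_pow, ← map_mul (Ideal.Quotient.mk (mS' f a₀)),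
    ← map_mul (algebraMap R (S' f a₀)), Units.mul_inv, map_one, map_one, one_pow, mul_one]

include h₁ h₂ in
lemma mS'_ne_top : mS' f a₀ ≠ ⊤ := by
  -- the ring map `S' → k`
  have hroot : eval₂ (residue R) (residue R a₀) f = 0 := by
    rw [Polynomial.eval₂_at_apply]
    exact (residue_eq_zero_iff _).mpr h₁
  let χ₀ : AdjoinRoot f →+* ResidueField R := AdjoinRoot.lift (residue R) (residue R a₀) hroot
  have hunit : IsUnit (χ₀ (hx f a₀)) := by
    show IsUnit (AdjoinRoot.lift (residue R) (residue R a₀) hroot (AdjoinRoot.mk f (hq f a₀)))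
    rw [AdjoinRoot.lift_mk, Polynomial.eval₂_at_apply]
    rw [← eval_hq] at h₂
    exact h₂.map (residue R)
  let χ : S' f a₀ →+* ResidueField R := IsLocalization.Away.lift (hx f a₀) hunit
  have hχ : ∀ r : R, χ (algebraMap R (S' f a₀) r) = residue R r := by
    intro r
    rw [IsScalarTower.algebraMap_apply R (AdjoinRoot f) (S' f a₀), IsLocalization.Away.lift_eq]
    show AdjoinRoot.lift (residue R) (residue R a₀) hroot (AdjoinRoot.of f r) = _
    rw [AdjoinRoot.lift_of]
  intro htop
  have h1 : (1 : S' f a₀) ∈ mS' f a₀ := htop ▸ Submodule.mem_top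
  have hle : mS' f a₀ ≤ RingHom.ker χ := by
    rw [Ideal.map_le_iff_le_comap]
    intro r hr
    rw [Ideal.mem_comap, RingHom.mem_ker, hχ]
    exact (residue_eq_zero_iff _).mpr hr
  have := hle h1
  rw [RingHom.mem_ker, map_one] at this
  exact one_ne_zero this

include hf h₁ h₂ in
theorem exists_root
    (hsplit : ∃ e : S' f a₀, IsIdempotentElem e ∧
      Module.Finite R (S' f a₀ ⧸ Ideal.span ({1 - e} : Set (S' f a₀))) ∧
      ∀ (q : Ideal (S' f a₀ ⧸ Ideal.span ({e} : Set (S' f a₀)))) [q.IsPrime],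
        q.LiesOver (maximalIdeal R) → ¬ Algebra.QuasiFiniteAt R q) :
    ∃ a : R, f.IsRoot a ∧ a - a₀ ∈ maximalIdeal R := by
  obtain ⟨e, he, hfin, hB⟩ := hsplit
  have : Module.Finite R (AdjoinRoot f) := hf.finite_adjoinRoot
  have : Module.Free R (AdjoinRoot f) := hf.free_adjoinRoot
  -- Step 1: `m B = B`
  have hmB : (maximalIdeal R).map (algebraMap R (S' f a₀ ⧸ Ideal.span ({e} : Set (S' f a₀)))) = ⊤ := by
    by_contra hne
    obtain ⟨M, hM, hle⟩ := Ideal.exists_le_maximal _ hne
    have hMp : M.IsPrime := hM.isPrime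
    have hover : M.LiesOver (maximalIdeal R) := by
      constructor
      refine Ideal.IsMaximal.eq_of_le (maximalIdeal.isMaximal R) ?_ ?_
      · exact (Ideal.IsPrime.under R M).ne_top
      · rw [Ideal.under_def, ← Ideal.map_le_iff_le_comap]
        exact hle
    exact hB M hover inferInstance
  -- `m S' ⊔ (e) = ⊤`
  have hsup : mS' f a₀ ⊔ Ideal.span ({e} : Set (S' f a₀)) = ⊤ := by
    have h1 : (mS' f a₀).map (Ideal.Quotient.mk (Ideal.span ({e} : Set (S' f a₀)))) = ⊤ := by
      rw [← hmB, Ideal.map_map]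
      rfl
    have h2 := congrArg (Ideal.comap (Ideal.Quotient.mk (Ideal.span ({e} : Set (S' f a₀))))) h1
    rw [Ideal.comap_map_of_surjective _ Ideal.Quotient.mk_surjective, Ideal.comap_top,
      ← RingHom.ker_eq_comap_bot, Ideal.mk_ker] at h2
    exact h2
  -- `A` is nontrivial
  have hnontriv : Nontrivial (S' f a₀ ⧸ Ideal.span ({1 - e} : Set (S' f a₀))) := by
    rw [Ideal.Quotient.nontrivial_iff]
    intro htop
    have h1 : (1 : S' f a₀) ∈ Ideal.span ({1 - e} : Set (S' f a₀)) := htop ▸ Submodule.mem_top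
    obtain ⟨c, hc⟩ := Ideal.mem_span_singleton'.mp h1
    have he0 : e = 0 := by
      have : e = c * ((1 - e) * e) := by rw [← mul_assoc, hc, one_mul]
      rw [this, sub_mul, one_mul, he.eq, sub_self, mul_zero]
    rw [he0, Ideal.span_singleton_eq_bot.mpr rfl, sup_bot_eq] at hsup
    exact mS'_ne_top f a₀ h₁ h₂ hsup
  -- Step 2: `R → A` is surjective
  have hsurj : Function.Surjective
      (algebraMap R (S' f a₀ ⧸ Ideal.span ({1 - e} : Set (S' f a₀)))) := by
    have hle : (⊤ : Submodule R (S' f a₀ ⧸ Ideal.span ({1 - e} : Set (S' f a₀)))) ≤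
        LinearMap.range (Algebra.linearMap R (S' f a₀ ⧸ Ideal.span ({1 - e} : Set (S' f a₀)))) := by
      refine Submodule.le_of_le_smul_of_le_jacobson_bot Module.Finite.fg_top
        (maximalIdeal_le_jacobson _) ?_
      rintro t -
      obtain ⟨s, rfl⟩ := Ideal.Quotient.mk_surjective t
      obtain ⟨r, hr⟩ := exists_sub_mem f a₀ h₁ h₂ s
      have hs : Ideal.Quotient.mk (Ideal.span ({1 - e} : Set (S' f a₀))) s =
          algebraMap R _ r + Ideal.Quotient.mk _ (s - algebraMap R (S' f a₀) r) := by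
        rw [map_sub]
        show _ = Ideal.Quotient.mk _ (algebraMap R (S' f a₀) r) + _
        ring
      rw [hs]
      refine Submodule.add_mem_sup ⟨r, rfl⟩ ?_
      rw [Ideal.smul_top_eq_map]
      show _ ∈ (maximalIdeal R).map (algebraMap R _)
      have : (maximalIdeal R).map (algebraMap R
          (S' f a₀ ⧸ Ideal.span ({1 - e} : Set (S' f a₀)))) =
          (mS' f a₀).map (Ideal.Quotient.mk _) := by
        rw [Ideal.map_map]; rfl
      rw [this]
      exact Ideal.mem_map_of_mem _ hr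
    intro t
    obtain ⟨r, hr⟩ := hle (Submodule.mem_top (x := t))
    exact ⟨r, hr⟩
  -- Step 3: `A` is flat, hence free, hence `R → A` is injective
  have hflatS : Module.Flat R (S' f a₀) := by
    have : Module.Flat (AdjoinRoot f) (S' f a₀) :=
      IsLocalization.flat (S' f a₀) (Submonoid.powers (hx f a₀))
    exact Module.Flat.trans R (AdjoinRoot f) (S' f a₀)
  have hflatA : Module.Flat R (S' f a₀ ⧸ Ideal.span ({1 - e} : Set (S' f a₀))) := by
    let i' : (S' f a₀ ⧸ Ideal.span ({1 - e} : Set (S' f a₀))) →ₗ[S' f a₀] S' f a₀ :=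
      Submodule.liftQ (Ideal.span ({1 - e} : Set (S' f a₀))) (LinearMap.mulLeft (S' f a₀) e) (by
        rw [Ideal.span, Submodule.span_le]
        rintro _ rfl
        show e * (1 - e) = 0
        rw [mul_sub, mul_one, he.eq, sub_self])
    let r' : S' f a₀ →ₗ[S' f a₀] (S' f a₀ ⧸ Ideal.span ({1 - e} : Set (S' f a₀))) :=
      Submodule.mkQ _
    refine Module.Flat.of_retract (i'.restrictScalars R) (r'.restrictScalars R) ?_
    refine LinearMap.ext fun t => ?_
    obtain ⟨s, rfl⟩ := Ideal.Quotient.mk_surjective t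
    show Submodule.Quotient.mk (e * s) = Submodule.Quotient.mk s
    rw [Submodule.Quotient.eq]
    have : e * s - s = -s * (1 - e) := by ring
    rw [this]
    exact Ideal.mul_mem_left _ _ (Ideal.mem_span_singleton_self _)
  have hfree : Module.Free R (S' f a₀ ⧸ Ideal.span ({1 - e} : Set (S' f a₀))) :=
    Module.free_of_flat_of_isLocalRing
  have hinj : Function.Injective
      (algebraMap R (S' f a₀ ⧸ Ideal.span ({1 - e} : Set (S' f a₀)))) :=
    FaithfulSMul.algebraMap_injective R _
  -- Step 4: the root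
  obtain ⟨a, ha⟩ := hsurj (Ideal.Quotient.mk _ (x' f a₀))
  refine ⟨a, ?_, ?_⟩
  · apply hinj
    rw [← Polynomial.aeval_algebraMap_apply_eq_algebraMap_eval, ha, map_zero]
    have := Polynomial.aeval_algHom_apply
      (Ideal.Quotient.mkₐ R (Ideal.span ({1 - e} : Set (S' f a₀)))) (x' f a₀) f
    simp only [Ideal.Quotient.mkₐ_eq_mk] at this
    rw [this, aeval_x'_f, map_zero]
  · have hmem : algebraMap R (S' f a₀ ⧸ Ideal.span ({1 - e} : Set (S' f a₀))) (a - a₀) ∈
        (maximalIdeal R).map (algebraMap R _) := by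
      have : (maximalIdeal R).map (algebraMap R
          (S' f a₀ ⧸ Ideal.span ({1 - e} : Set (S' f a₀)))) =
          (mS' f a₀).map (Ideal.Quotient.mk _) := by
        rw [Ideal.map_map]; rfl
      rw [this, map_sub, ha]
      have h3 : Ideal.Quotient.mk (Ideal.span ({1 - e} : Set (S' f a₀))) (x' f a₀) -
          algebraMap R _ a₀ = Ideal.Quotient.mk _ (x' f a₀ - algebraMap R (S' f a₀) a₀) := by
        rw [map_sub]; rfl
      rw [h3]
      exact Ideal.mem_map_of_mem _ (x'_sub_mem f a₀ h₁)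
    obtain ⟨b, hb, hba⟩ := (Ideal.mem_map_iff_of_surjective _ hsurj).mp hmem
    rw [← hinj hba]
    exact hb

end Main

/-- A local ring all of whose finite-type algebras split as (finite) × (nowhere quasi-finite over
the closed point) is henselian. -/
theorem henselian_of_split
    (h : ∀ (S : Type u) [CommRing S] [Algebra R S] [Algebra.FiniteType R S],
      ∃ e : S, IsIdempotentElem e ∧ Module.Finite R (S ⧸ Ideal.span ({1 - e} : Set S)) ∧
        ∀ (q : Ideal (S ⧸ Ideal.span ({e} : Set S))) [q.IsPrime],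
          q.LiesOver (IsLocalRing.maximalIdeal R) → ¬ Algebra.QuasiFiniteAt R q) :
    HenselianLocalRing R where
  is_henselian f hf a₀ h₁ h₂ := by
    have : Module.Finite R (AdjoinRoot f) := hf.finite_adjoinRoot
    exact exists_root f hf a₀ h₁ h₂ (h (S' f a₀))

end Groth.Agent.Helper18.HenselSplit
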