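import Mathlib
import Groth.Prelude
import Groth.Agent.Lib.Helper18.HomogSmooth
import Groth.Agent.Lib.Helper18.RedLift
import Groth.Agent.Lib.Helper18.FlatEpi
import Groth.Agent.Lib.Helper18.GrpFppf

set_option autoImplicit false
universe u
open CategoryTheory MonoidalCategory CartesianMonoidalCategory MonObj GrpObj AlgebraicGeometry Limits

namespace Groth.Agent.Helper18.ImgSmooth

theorem main (k : Type u) [Field k]
    (G G' : Over (Spec (CommRingCat.of k))) [GrpObj G] [GrpObj G'] [Smooth G.hom] [QuasiCompact G.hom]
    [LocallyOfFiniteType G'.hom] [QuasiCompact G'.hom] (f : G ⟶ G') [IsMonHom f]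
    (H : Scheme.{u}) (i : H ⟶ G'.left) [IsClosedImmersion i] [IsReduced H]
    (hH : Set.range i.base = Set.range f.left.base) : Smooth (i ≫ G'.hom) := by
  let X : Over (Spec (CommRingCat.of k)) := Over.mk (i ≫ G'.hom)
  let i' : X ⟶ G' := Over.homMk i rfl
  haveI : IsClosedImmersion i'.left := ‹IsClosedImmersion i›
  haveI : Mono i'.left := inferInstance
  haveI : Mono i' := Over.mono_of_mono_left _
  haveI : IsReduced X.left := ‹IsReduced H›
  haveI : LocallyOfFiniteType G.hom := inferInstance
  haveI : LocallyOfFiniteType X.hom := by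
    show LocallyOfFiniteType (i ≫ G'.hom)
    infer_instance
  haveI : IsReduced (Spec (CommRingCat.of k)) := inferInstance
  haveI : IsReduced G.left := Groth.Agent.Helper16.AS.isReduced_of_smooth G.hom
  -- factor f through X
  obtain ⟨g₀, hg₀⟩ := Groth.Agent.Helper18.RedLift.exists_lift_of_isReduced i f.left (by
    rw [show Set.range i = Set.range i.base from rfl, hH])
  let g : G ⟶ X := Over.homMk g₀ (by
    show g₀ ≫ i ≫ G'.hom = G.hom
    rw [← Category.assoc, hg₀, Over.w f])
  have hg : g ≫ i' = f := by
    ext
    exact hg₀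
  haveI hgs : Surjective g.left := by
    constructor
    intro x
    have hx : i.base x ∈ Set.range f.left.base := hH ▸ ⟨x, rfl⟩
    obtain ⟨y, hy⟩ := hx
    refine ⟨y, ?_⟩
    apply i.isEmbedding.injective
    show (g₀ ≫ i) y = i x
    rw [hg₀]
    exact hy
  haveI : QuasiCompact g.left := Groth.Agent.Helper18.GrpFppf.quasiCompact_left g
  -- reducedness of G ⊗ X
  haveI : IsReduced (G ⊗ X).left := by
    haveI : Smooth (snd G X).left := by
      show Smooth (pullback.snd G.hom X.hom)
      infer_instance
    exact Groth.Agent.Helper16.AS.isReduced_of_smooth (snd G X).left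
  -- the action
  obtain ⟨act₀, hact₀⟩ := Groth.Agent.Helper18.RedLift.exists_lift_of_isReduced i
    ((fst G X ≫ f) * (snd G X ≫ i')).left (by
    rintro _ ⟨z, rfl⟩
    obtain ⟨w, rfl⟩ := (G ◁ g).left.surjective z
    have e : (G ◁ g) ≫ ((fst G X ≫ f) * (snd G X ≫ i')) = μ[G] ≫ f := by
      rw [MonObj.comp_mul, ← Category.assoc, whiskerLeft_fst, ← Category.assoc (G ◁ g),
        whiskerLeft_snd, Category.assoc, hg, ← MonObj.mul_comp]
      congr 1
      show lift (fst G G) (snd G G) ≫ μ[G] = μ[G]
      rw [lift_fst_snd, Category.id_comp]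
    have e' : ((fst G X ≫ f) * (snd G X ≫ i')).left ((G ◁ g).left w) = f.left (μ[G].left w) := by
      rw [← Scheme.Hom.comp_apply, ← Scheme.Hom.comp_apply, ← Over.comp_left, ← Over.comp_left, e]
    rw [e']
    have : f.left (μ[G].left w) ∈ Set.range f.left.base := ⟨_, rfl⟩
    rw [← hH] at this
    exact this)
  let act : G ⊗ X ⟶ X := Over.homMk act₀ (by
    show act₀ ≫ i ≫ G'.hom = (G ⊗ X).hom
    rw [← Category.assoc, hact₀, Over.w])
  have hact : act ≫ i' = (fst G X ≫ f) * (snd G X ≫ i') := by
    ext
    exact hact₀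
  have key : ∀ {W : Over (Spec (CommRingCat.of k))} (φ : W ⟶ G ⊗ X),
      φ ≫ act ≫ i' = (φ ≫ fst G X ≫ f) * (φ ≫ snd G X ≫ i') := by
    intro W φ
    rw [hact, MonObj.comp_mul]
  have hμ : μ[G] ≫ f = (fst G G ≫ f) * (snd G G ≫ f) := by
    rw [← MonObj.mul_comp]
    congr 1
    show μ[G] = lift (fst G G) (snd G G) ≫ μ[G]
    rw [lift_fst_snd, Category.id_comp]
  let a : AlgGrp.Action G X :=
    { act := act
      one_act := by
        rw [← cancel_mono i', Category.assoc, key, ← Category.assoc, whiskerRight_fst,
          ← Category.assoc (η[G] ▷ X), whiskerRight_snd, Category.assoc, IsMonHom.one_hom,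
          leftUnitor_hom]
        show (fst _ X ≫ η[G']) * _ = _
        rw [← toUnit_unique (toUnit _) (fst (𝟙_ _) X)]
        show (1 : _ ⟶ G') * _ = _
        rw [_root_.one_mul]
      mul_act := by
        rw [← cancel_mono i', Category.assoc, key, Category.assoc, Category.assoc,
          ← Category.assoc (α_ G G X).hom, key]
        simp only [Category.assoc, whiskerRight_fst_assoc, whiskerRight_snd_assoc,
          whiskerLeft_fst_assoc, whiskerLeft_snd_assoc]
        rw [key, hμ]
        simp only [MonObj.comp_mul, Category.assoc, associator_hom_fst_assoc,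
          associator_hom_snd_fst_assoc, associator_hom_snd_snd_assoc, associator_hom_fst,
          associator_hom_snd_fst, associator_hom_snd_snd]
        rw [_root_.mul_assoc] }
  let o : 𝟙_ (Over (Spec (CommRingCat.of k))) ⟶ X := η[G] ≫ g
  have horb : a.orbitMap o = g := by
    rw [← cancel_mono i']
    show (lift (𝟙 G) (toUnit G ≫ o) ≫ act) ≫ i' = g ≫ i'
    rw [Category.assoc, key, lift_fst_assoc, lift_snd_assoc, Category.id_comp, hg]
    show f * (toUnit G ≫ (η[G] ≫ g) ≫ i') = f
    rw [Category.assoc, hg, IsMonHom.one_hom]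
    show f * (1 : G ⟶ G') = f
    rw [_root_.mul_one]
  haveI : Surjective (a.orbitMap o).left := by rw [horb]; exact hgs
  -- geometric reducedness
  haveI : GeometricallyReduced X.hom := by
    rw [geometricallyReduced_iff]
    intro L _ c Z p₁ p₂ Hpb
    have htop : IsPullback (pullback.fst g.left p₁) (pullback.snd g.left p₁) g.left p₁ :=
      .of_hasPullback _ _
    have hpaste := htop.paste_vert Hpb
    rw [Over.w] at hpaste
    haveI : Smooth (pullback.snd g.left p₁ ≫ p₂) :=
      MorphismProperty.of_isPullback (P := @Smooth) hpaste inferInstance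
    haveI : IsReduced (pullback g.left p₁) :=
      Groth.Agent.Helper16.AS.isReduced_of_smooth (pullback.snd g.left p₁ ≫ p₂)
    haveI : Flat c := inferInstance
    haveI : Flat p₁ := MorphismProperty.of_isPullback (P := @Flat) Hpb.flip inferInstance
    haveI : IsDominant g.left := inferInstance
    haveI : IsSchemeTheoreticallyDominant g.left := .of_isDominant g.left
    haveI : IsSchemeTheoreticallyDominant (pullback.snd g.left p₁) := inferInstance
    exact IsSchemeTheoreticallyDominant.isReduced (pullback.snd g.left p₁)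
  exact Groth.Agent.Helper18.HomogSmooth.smooth_of_homogeneous k G X a o

end Groth.Agent.Helper18.ImgSmooth
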