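import Mathlib
import Groth.Prelude
import Groth.Agent.Lib.Helper18.TorsorMap0

set_option autoImplicit false
set_option linter.style.haveILetI false
universe u
open CategoryTheory MonoidalCategory CartesianMonoidalCategory MonObj GrpObj AlgebraicGeometry Limits

namespace Groth.Agent.Helper18.InfTorsor

/-- ring-level: `B` with a single prime, a retraction `ε : B → K` of `j : K → B`, `R` reduced,
`φ : B → R`; then `φ b = φ (j (ε b))`. -/
theorem ring_key {K B R : Type u} [CommRing K] [Nontrivial K] [CommRing B] [CommRing R] [IsReduced R]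
    (hB : Subsingleton (PrimeSpectrum B)) (j : K →+* B) (ε : B →+* K)
    (hε : ∀ x, ε (j x) = x)
    (φ : B →+* R) (b : B) : φ b = φ (j (ε b)) := by
  have hne : RingHom.ker ε ≠ ⊤ := RingHom.ker_ne_top ε
  obtain ⟨M, hM, hle⟩ := Ideal.exists_le_maximal _ hne
  have hker : RingHom.ker ε ≤ nilradical B := by
    rw [nilradical_eq_sInf]
    intro x hx
    rw [Submodule.mem_sInf]
    intro J hJ
    have e : (⟨J, hJ⟩ : PrimeSpectrum B) = ⟨M, hM.isPrime⟩ := Subsingleton.elim _ _
    have e' : J = M := congrArg PrimeSpectrum.asIdeal e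
    rw [e']; exact hle hx
  have hmem : b - j (ε b) ∈ RingHom.ker ε := by
    rw [RingHom.mem_ker, map_sub, hε, sub_self]
  have hnil : IsNilpotent (b - j (ε b)) := hker hmem
  have h2 : IsNilpotent (φ (b - j (ε b))) := hnil.map φ
  have h3 := h2.eq_zero
  rw [map_sub, sub_eq_zero] at h3
  exact h3

variable {k : Type u} [Field k]

/-- Any two morphisms over `k` from a reduced scheme to an infinitesimal group scheme agree. -/
theorem hom_subsingleton (I : Over (Spec (CommRingCat.of k))) [GrpObj I] [IsFinite I.hom]
    [Subsingleton ↥(I.left)] (T : Over (Spec (CommRingCat.of k))) [IsReduced T.left]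
    (g g' : T ⟶ I) : g = g' := by
  haveI : IsAffine I.left := isAffine_of_isAffineHom I.hom
  have hB : Subsingleton (PrimeSpectrum Γ(I.left, ⊤)) := by
    have hinj : Function.Injective (I.left.isoSpec.inv.base) :=
      (ConcreteCategory.bijective_of_isIso (I.left.isoSpec.inv.base)).1
    exact hinj.subsingleton
  have hε : ∀ x, η[I].left.appTop.hom (I.hom.appTop.hom x) = x := by
    intro x
    have h1 : η[I].left ≫ I.hom = 𝟙 _ := by
      have := Over.w η[I]
      simpa using this
    have h2 : I.hom.appTop ≫ η[I].left.appTop = 𝟙 _ := by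
      rw [← Scheme.Hom.comp_appTop, h1]; rfl
    have := congrArg (fun f => f.hom x) h2
    simpa using this
  have key : ∀ (h : T ⟶ I) (b : Γ(I.left, ⊤)),
      h.left.appTop.hom b = T.hom.appTop.hom (η[I].left.appTop.hom b) := by
    intro h b
    have h0 := ring_key hB I.hom.appTop.hom η[I].left.appTop.hom hε h.left.appTop.hom b
    rw [h0]
    have h1 : h.left ≫ I.hom = T.hom := Over.w h
    have h2 : I.hom.appTop ≫ h.left.appTop = T.hom.appTop := by
      rw [← Scheme.Hom.comp_appTop, h1]
    have := congrArg (fun f => f.hom (η[I].left.appTop.hom b)) h2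
    simpa using this
  apply Over.OverMorphism.ext
  apply ext_of_isAffine
  ext b
  rw [key g b, key g' b]

end Groth.Agent.Helper18.InfTorsor

namespace Groth.Agent.Helper18.InfTorsor

theorem main (k : Type u) [Field k] (L : Type u) [Field L] [Algebra k L]
    [IsReduced (TensorProduct k L L)]
    (I E : Over (Spec (CommRingCat.of k))) [GrpObj I] [IsFinite I.hom] [Subsingleton ↥(I.left)]
    (a : AlgGrp.Action I E) (hE : IsIso (lift a.act (snd I E)))
    (hL : NonAbH1.HasSectionOver E (Spec.map (CommRingCat.ofHom (algebraMap k L)))) :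
    NonAbH1.HasSectionOver E (𝟙 (Spec (CommRingCat.of k))) := by
  obtain ⟨s, hs⟩ := hL
  set f := Spec.map (CommRingCat.ofHom (algebraMap k L)) with hf
  haveI hP : IsReduced (pullback f f) := by
    have e := pullbackSpecIso k L L
    exact isReduced_of_isOpenImmersion e.hom
  let TL : Over (Spec (CommRingCat.of k)) := Over.mk f
  let TP : Over (Spec (CommRingCat.of k)) := Over.mk (pullback.fst f f ≫ f)
  let u₁ : TP ⟶ TL := Over.homMk (pullback.fst f f) rfl
  let u₂ : TP ⟶ TL := Over.homMk (pullback.snd f f) (pullback.condition).symm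
  let sL : TL ⟶ E := Over.homMk s hs
  obtain ⟨g, hg⟩ := TorsorMap.exists_act_eq a hE (u₁ ≫ sL) (u₂ ≫ sL)
  haveI : IsReduced TP.left := hP
  have hg1 : g = 1 := hom_subsingleton I TP g 1
  rw [hg1, AlgGrp.Action.lift_one_act] at hg
  have hcond : pullback.fst f f ≫ s = pullback.snd f f ≫ s := by
    have := congrArg (fun m => m.left) hg
    simpa [u₁, u₂, sL] using this
  have hff : (CommRingCat.ofHom (algebraMap k L)).hom.FaithfullyFlat := by
    show (algebraMap k L).FaithfullyFlat
    rw [RingHom.faithfullyFlat_algebraMap_iff]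
    infer_instance
  obtain ⟨hfl, hsu⟩ := (flat_and_surjective_SpecMap_iff _).2 hff
  haveI : Flat f := hfl
  haveI : Surjective f := hsu
  haveI : EffectiveEpi f := inferInstance
  let s₀ := EffectiveEpi.desc f s (fun g₁ g₂ h => by
    have e1 : g₁ = pullback.lift g₁ g₂ h ≫ pullback.fst f f := (pullback.lift_fst _ _ _).symm
    have e2 : g₂ = pullback.lift g₁ g₂ h ≫ pullback.snd f f := (pullback.lift_snd _ _ _).symm
    rw [e1, Category.assoc, hcond, ← Category.assoc, ← e2])
  refine ⟨s₀, ?_⟩
  rw [← cancel_epi f, ← Category.assoc, EffectiveEpi.fac, hs, Category.comp_id]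

end Groth.Agent.Helper18.InfTorsor
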