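import Mathlib

/-!
# Integrality over the ring of invariants (pure algebra)

Characteristic polynomial of an endomorphism of a finite projective module through a retraction
of a free module, its independence of the retraction (for fixed size), base change, and
Cayley–Hamilton.
-/

namespace Groth.Agent.Lib.Helper18.IntInv

open Polynomial Matrix CategoryTheory Limits

universe u

section Retract

variable {A : Type*} [CommRing A] {P : Type*} [AddCommGroup P] [Module A P] {n : ℕ}

/-- charpoly of `u` through a retraction -/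
noncomputable def mchar (i : P →ₗ[A] (Fin n → A)) (r : (Fin n → A) →ₗ[A] P) (u : P →ₗ[A] P) :
    A[X] :=
  (LinearMap.toMatrix' (i ∘ₗ u ∘ₗ r)).charpoly

theorem mchar_indep (i : P →ₗ[A] (Fin n → A)) (r : (Fin n → A) →ₗ[A] P)
    (i' : P →ₗ[A] (Fin n → A)) (r' : (Fin n → A) →ₗ[A] P)
    (hri : r ∘ₗ i = LinearMap.id) (hri' : r' ∘ₗ i' = LinearMap.id) (u : P →ₗ[A] P) :
    mchar i r u = mchar i' r' u := by
  unfold mchar
  have h1 : i ∘ₗ u ∘ₗ r = (i ∘ₗ r') ∘ₗ (i' ∘ₗ u ∘ₗ r) := by
    have : (i ∘ₗ r') ∘ₗ (i' ∘ₗ u ∘ₗ r) = i ∘ₗ (r' ∘ₗ i') ∘ₗ u ∘ₗ r := by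
      simp only [LinearMap.comp_assoc]
    rw [this, hri', LinearMap.id_comp]
  have h2 : i' ∘ₗ u ∘ₗ r' = (i' ∘ₗ u ∘ₗ r) ∘ₗ (i ∘ₗ r') := by
    have : (i' ∘ₗ u ∘ₗ r) ∘ₗ (i ∘ₗ r') = i' ∘ₗ u ∘ₗ (r ∘ₗ i) ∘ₗ r' := by
      simp only [LinearMap.comp_assoc]
    rw [this, hri, LinearMap.id_comp]
  rw [h1, h2, LinearMap.toMatrix'_comp, LinearMap.toMatrix'_comp, Matrix.charpoly_mul_comm]

theorem mchar_monic (i : P →ₗ[A] (Fin n → A)) (r : (Fin n → A) →ₗ[A] P) (u : P →ₗ[A] P) :
    (mchar i r u).Monic := Matrix.charpoly_monic _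

theorem aeval_comp_of_intertwine {Q : Type*} [AddCommGroup Q] [Module A Q]
    (g : Q →ₗ[A] Q) (u : P →ₗ[A] P) (i : P →ₗ[A] Q) (h : g ∘ₗ i = i ∘ₗ u) (p : A[X]) :
    (aeval g p) ∘ₗ i = i ∘ₗ (aeval u p) := by
  induction p using Polynomial.induction_on' with
  | add p q hp hq => rw [map_add, map_add, LinearMap.add_comp, LinearMap.comp_add, hp, hq]
  | monomial k a =>
    rw [aeval_monomial, aeval_monomial]
    have hk : ∀ k : ℕ, (g ^ k) ∘ₗ i = i ∘ₗ (u ^ k) := by
      intro k
      induction k with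
      | zero =>
        rw [pow_zero, pow_zero]
        ext x
        simp [Module.End.one_apply]
      | succ k ih =>
        rw [pow_succ, pow_succ, Module.End.mul_eq_comp, Module.End.mul_eq_comp,
          LinearMap.comp_assoc, h, ← LinearMap.comp_assoc, ih, LinearMap.comp_assoc]
    ext x
    simp only [LinearMap.comp_apply, Module.End.mul_apply, Module.algebraMap_end_apply]
    have := congrArg (fun φ => φ x) (hk k)
    simp only [LinearMap.comp_apply] at this
    rw [this, map_smul]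

theorem aeval_mchar (i : P →ₗ[A] (Fin n → A)) (r : (Fin n → A) →ₗ[A] P)
    (hri : r ∘ₗ i = LinearMap.id) (u : P →ₗ[A] P) : aeval u (mchar i r u) = 0 := by
  have hinj : Function.Injective i := LinearMap.injective_of_comp_eq_id _ _ hri
  have hg : (i ∘ₗ u ∘ₗ r) ∘ₗ i = i ∘ₗ u := by
    rw [LinearMap.comp_assoc, LinearMap.comp_assoc, hri, LinearMap.comp_id]
  have h1 := aeval_comp_of_intertwine (i ∘ₗ u ∘ₗ r) u i hg (mchar i r u)
  have h2 : aeval (i ∘ₗ u ∘ₗ r) (mchar i r u) = 0 := by
    have := LinearMap.aeval_self_charpoly (i ∘ₗ u ∘ₗ r)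
    rw [← LinearMap.charpoly_toMatrix (i ∘ₗ u ∘ₗ r) (Pi.basisFun A (Fin n)),
      LinearMap.toMatrix_eq_toMatrix'] at this
    exact this
  rw [h2, LinearMap.zero_comp] at h1
  ext x
  apply hinj
  have := congrArg (fun φ => φ x) h1
  simp only [LinearMap.zero_apply, LinearMap.comp_apply] at this
  rw [← this, LinearMap.zero_apply, map_zero]

end Retract

section BaseChange

variable {A A' : Type*} [CommRing A] [CommRing A'] [Algebra A A']
  {P P' : Type*} [AddCommGroup P] [Module A P] [AddCommGroup P'] [Module A P'] [Module A' P']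
  [IsScalarTower A A' P'] {n : ℕ}

theorem exists_baseChange_retract (j : P →ₗ[A] P') (hbc : IsBaseChange A' j)
    (i : P →ₗ[A] (Fin n → A)) (r : (Fin n → A) →ₗ[A] P) (hri : r ∘ₗ i = LinearMap.id)
    (u : P →ₗ[A] P) (u' : P' →ₗ[A'] P') (huj : ∀ p, u' (j p) = j (u p)) :
    ∃ (i' : P' →ₗ[A'] (Fin n → A')) (r' : (Fin n → A') →ₗ[A'] P'),
      r' ∘ₗ i' = LinearMap.id ∧ mchar i' r' u' = (mchar i r u).map (algebraMap A A') := by
  classical
  let ψn : (Fin n → A) →ₗ[A] (Fin n → A') := (Algebra.linearMap A A').compLeft (Fin n)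
  let i' : P' →ₗ[A'] (Fin n → A') := hbc.lift (ψn ∘ₗ i)
  let r' : (Fin n → A') →ₗ[A'] P' :=
    (Pi.basisFun A' (Fin n)).constr A' (fun k => j (r (Pi.single k 1)))
  have hi' : ∀ p, i' (j p) = ψn (i p) := fun p => hbc.lift_eq _ p
  have hr' : ∀ v : Fin n → A, r' (ψn v) = j (r v) := by
    intro v
    rw [Module.Basis.constr_apply_fintype]
    have hv : v = ∑ k, v k • (Pi.single k (1 : A) : Fin n → A) := by
      ext l
      simp [Finset.sum_apply, Pi.single_apply]
    conv_rhs => rw [hv, map_sum, map_sum]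
    refine Finset.sum_congr rfl (fun k _ => ?_)
    rw [map_smul, map_smul, Pi.basisFun_equivFun, LinearEquiv.refl_apply]
    show (algebraMap A A' (v k)) • _ = _
    rw [algebraMap_smul]
  have hri' : r' ∘ₗ i' = LinearMap.id := by
    apply hbc.algHom_ext
    intro p
    rw [LinearMap.comp_apply, hi', hr', LinearMap.id_apply]
    have := congrArg (fun φ => φ p) hri
    simp only [LinearMap.comp_apply, LinearMap.id_apply] at this
    rw [this]
  refine ⟨i', r', hri', ?_⟩
  unfold mchar
  rw [← Matrix.charpoly_map]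
  congr 1
  ext k l
  rw [LinearMap.toMatrix'_apply, Matrix.map_apply, LinearMap.toMatrix'_apply]
  simp only [LinearMap.comp_apply]
  have h1 : (Pi.single l (1 : A') : Fin n → A') = ψn (Pi.single l (1 : A)) := by
    ext m
    simp [ψn, Pi.single_apply]
  rw [h1, hr', huj, hi']
  rfl

end BaseChange

section Cat

theorem exists_retract_of_isPushout_cat {A A' B B' : Type u} [CommRing A] [CommRing A']
    [CommRing B] [CommRing B'] [Algebra A B] [Algebra A' B'] (ψ : A →+* A') (ψ' : B →+* B')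
    (h : IsPushout (CommRingCat.ofHom ψ) (CommRingCat.ofHom (algebraMap A B))
      (CommRingCat.ofHom (algebraMap A' B')) (CommRingCat.ofHom ψ'))
    {n : ℕ} (i : B →ₗ[A] (Fin n → A)) (r : (Fin n → A) →ₗ[A] B) (hri : r ∘ₗ i = LinearMap.id)
    (y : B) :
    ∃ (i' : B' →ₗ[A'] (Fin n → A')) (r' : (Fin n → A') →ₗ[A'] B'), r' ∘ₗ i' = LinearMap.id ∧
      mchar i' r' (LinearMap.mulLeft A' (ψ' y)) = (mchar i r (LinearMap.mulLeft A y)).map ψ := by
  letI := ψ.toAlgebra
  letI := ψ'.toAlgebra
  letI : Algebra A B' := (ψ'.comp (algebraMap A B)).toAlgebra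
  haveI : IsScalarTower A B B' := .of_algebraMap_eq' rfl
  haveI : IsScalarTower A A' B' := .of_algebraMap_eq' (by
    have := congrArg CommRingCat.Hom.hom h.w
    exact this.symm)
  haveI : Algebra.IsPushout A A' B B' := CommRingCat.isPushout_iff_isPushout.mp h
  have hbc : IsBaseChange A' (IsScalarTower.toAlgHom A B B').toLinearMap := Algebra.IsPushout.out
  exact exists_baseChange_retract (IsScalarTower.toAlgHom A B B').toLinearMap hbc i r hri
    (LinearMap.mulLeft A y) (LinearMap.mulLeft A' (ψ' y)) (fun p => by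
      simp only [LinearMap.mulLeft_apply, AlgHom.toLinearMap_apply, map_mul]
      rfl)

variable {A B D : Type u} [CommRing A] [CommRing B] [CommRing D] [Algebra A B]
  [Module.Finite A B] [Module.Projective A B]
  (t : A →+* B) (e : B →+* A) (p0 p1 c : B →+* D)
  (hes : ∀ a, e (algebraMap A B a) = a) (het : ∀ a, e (t a) = a)
  (hct : ∀ a, c (t a) = p0 (t a))
  (hsq_t : IsPushout (CommRingCat.ofHom t) (CommRingCat.ofHom (algebraMap A B))
    (CommRingCat.ofHom p1) (CommRingCat.ofHom p0))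
  (hsq_s : IsPushout (CommRingCat.ofHom (algebraMap A B)) (CommRingCat.ofHom (algebraMap A B))
    (CommRingCat.ofHom p1) (CommRingCat.ofHom c))

include hes het hct hsq_t hsq_s in
theorem isIntegral_of_groupoid (f : A) : IsIntegral (RingHom.eqLocus (algebraMap A B) t) f := by
  letI : Algebra B D := p1.toAlgebra
  obtain ⟨n, r, i, -, -, hri⟩ := Module.Finite.exists_comp_eq_id_of_projective A B
  set χ := mchar i r (LinearMap.mulLeft A (t f)) with hχ
  obtain ⟨i1, r1, h1, e1⟩ := exists_retract_of_isPushout_cat t p0 hsq_t i r hri (t f)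
  obtain ⟨i2, r2, h2, e2⟩ := exists_retract_of_isPushout_cat (algebraMap A B) c hsq_s i r hri (t f)
  have hmap : χ.map t = χ.map (algebraMap A B) := by
    rw [hχ, ← e1, ← e2, hct]
    exact mchar_indep i1 r1 i2 r2 h1 h2 _
  have hcoeff : ∀ k, χ.coeff k ∈ RingHom.eqLocus (algebraMap A B) t := by
    intro k
    have := congrArg (fun q => q.coeff k) hmap
    simp only [Polynomial.coeff_map] at this
    exact this.symm
  have hmonic : χ.Monic := mchar_monic _ _ _
  -- Cayley–Hamilton
  have hCH : aeval (LinearMap.mulLeft A (t f)) χ = 0 := aeval_mchar i r hri _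
  have hB : Polynomial.eval₂ (algebraMap A B) (t f) χ = 0 := by
    have h3 : aeval (t f) χ = 0 := by
      have h4 : LinearMap.mulLeft A (t f) = Algebra.lmul A B (t f) := rfl
      rw [h4, Polynomial.aeval_algHom_apply] at hCH
      have := congrArg (fun φ => φ 1) hCH
      simpa using this
    exact h3
  have hA : Polynomial.eval f χ = 0 := by
    have := congrArg e hB
    rw [Polynomial.hom_eval₂, map_zero, het] at this
    have hid : e.comp (algebraMap A B) = RingHom.id A := RingHom.ext hes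
    rw [hid, Polynomial.eval₂_id] at this
    exact this
  have hsub : (↑χ.coeffs : Set A) ⊆ (RingHom.eqLocus (algebraMap A B) t : Set A) := by
    intro a ha
    obtain ⟨k, -, rfl⟩ := Polynomial.mem_coeffs_iff.mp ha
    exact hcoeff k
  refine ⟨χ.toSubring _ hsub, (Polynomial.monic_toSubring _ _ _).mpr hmonic, ?_⟩
  rw [Polynomial.eval₂_eq_eval_map]
  have : (χ.toSubring _ hsub).map (algebraMap (RingHom.eqLocus (algebraMap A B) t) A) = χ :=
    Polynomial.map_toSubring _ _ _
  rw [this, hA]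

end Cat

end Groth.Agent.Lib.Helper18.IntInv
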