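import Mathlib

/-!
# Integer-valued polynomials and denominators of coefficients (helper18)
-/

set_option autoImplicit false

open Polynomial Finset
open scoped fwdDiff

namespace Groth.Agent.Helper18.IntValuedPoly

/-- A rational polynomial of degree `≤ g` taking integer values at `g + 1` consecutive integers has
coefficients in `(1/g!) ℤ`. -/
theorem factorial_mul_coeff_int (P : ℚ[X]) (g : ℕ) (hdeg : P.natDegree ≤ g) (t₀ : ℤ)
    (hint : ∀ i : ℕ, i ≤ g → ∃ z : ℤ, P.eval ((t₀ : ℚ) + i) = z) (j : ℕ) :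
    ∃ z : ℤ, (g.factorial : ℚ) * P.coeff j = z := by
  classical
  -- integer witnesses
  have hint' : ∀ i : ℕ, ∃ z : ℤ, i ≤ g → P.eval ((t₀ : ℚ) + i) = z := by
    intro i
    by_cases hi : i ≤ g
    · obtain ⟨z, hz⟩ := hint i hi
      exact ⟨z, fun _ => hz⟩
    · exact ⟨0, fun h => absurd h hi⟩
  choose zf hzf using hint'
  let d : ℕ → ℚ := fun k => (fwdDiff (1 : ℚ))^[k] P.eval (t₀ : ℚ)
  have hd_int : ∀ k, k ≤ g → ∃ z : ℤ, d k = z := by
    intro k hk
    refine ⟨∑ i ∈ range (k + 1), ((-1 : ℤ) ^ (k - i) * k.choose i) * zf i, ?_⟩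
    change (fwdDiff (1 : ℚ))^[k] P.eval (t₀ : ℚ) = _
    rw [fwdDiff_iter_eq_sum_shift]
    push_cast
    apply Finset.sum_congr rfl
    intro i hi
    have hik : i ≤ g := (Nat.lt_succ_iff.mp (mem_range.mp hi)).trans hk
    rw [zsmul_eq_mul, nsmul_eq_mul, mul_one, hzf i hik]
    push_cast
    ring
  have hd_zero : ∀ k, g < k → d k = 0 := by
    intro k hk
    have := Polynomial.fwdDiff_iter_eq_zero_of_degree_lt (P := P) (n := k) (lt_of_le_of_lt hdeg hk)
    exact congrFun this _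
  have hnewton : ∀ n : ℕ, P.eval ((t₀ : ℚ) + n) = ∑ k ∈ range (g + 1), (n.choose k : ℚ) * d k := by
    intro n
    have h1 := shift_eq_sum_fwdDiff_iter (1 : ℚ) P.eval n (t₀ : ℚ)
    rw [nsmul_eq_mul, mul_one] at h1
    rw [h1]
    have e1 : ∑ k ∈ range (n + 1), n.choose k • (fwdDiff (1 : ℚ))^[k] P.eval (t₀ : ℚ) =
        ∑ k ∈ range (n + g + 1), (n.choose k : ℚ) * d k := by
      rw [← Finset.sum_subset (s₁ := range (n + 1)) (s₂ := range (n + g + 1))]
      · apply Finset.sum_congr rfl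
        intro k _
        rw [nsmul_eq_mul]
      · intro k hk
        rw [mem_range] at hk ⊢
        omega
      · intro k _ hk
        rw [mem_range, not_lt] at hk
        rw [Nat.choose_eq_zero_of_lt (by omega)]
        simp
    have e2 : ∑ k ∈ range (g + 1), (n.choose k : ℚ) * d k =
        ∑ k ∈ range (n + g + 1), (n.choose k : ℚ) * d k := by
      apply Finset.sum_subset
      · intro k hk
        rw [mem_range] at hk ⊢
        omega
      · intro k _ hk
        rw [mem_range, not_lt] at hk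
        rw [hd_zero k (by omega), mul_zero]
    rw [e1, e2]
  -- the Newton polynomial
  let I : ℕ → ℤ[X] := fun k => (descPochhammer ℤ k).comp (X - C t₀)
  have hImap : ∀ k, (I k).map (Int.castRingHom ℚ) = (descPochhammer ℚ k).comp (X - C (t₀ : ℚ)) := by
    intro k
    change ((descPochhammer ℤ k).comp (X - C t₀)).map (Int.castRingHom ℚ) = _
    rw [Polynomial.map_comp, descPochhammer_map]
    congr 1
    simp
  have hP : P = ∑ k ∈ range (g + 1), C (d k / (k.factorial : ℚ)) * (I k).map (Int.castRingHom ℚ) := by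
    apply Polynomial.eq_of_infinite_eval_eq
    apply Set.infinite_of_injective_forall_mem (f := fun n : ℕ => (t₀ : ℚ) + n)
    · intro a b hab
      simpa using hab
    · intro n
      change eval ((t₀ : ℚ) + n) P = eval ((t₀ : ℚ) + n) _
      rw [hnewton n, Polynomial.eval_finset_sum]
      apply Finset.sum_congr rfl
      intro k _
      rw [eval_mul, eval_C, hImap, eval_comp, eval_sub, eval_X, eval_C, add_sub_cancel_left,
        descPochhammer_eval_eq_descFactorial, Nat.descFactorial_eq_factorial_mul_choose]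
      have hk : (k.factorial : ℚ) ≠ 0 := by exact_mod_cast Nat.factorial_ne_zero k
      push_cast
      field_simp
  choose! dz hdz using hd_int
  refine ⟨∑ k ∈ range (g + 1), ((g.factorial / k.factorial : ℕ) : ℤ) * dz k * (I k).coeff j, ?_⟩
  conv_lhs => rw [hP]
  rw [Polynomial.finset_sum_coeff, Finset.mul_sum, Int.cast_sum]
  apply Finset.sum_congr rfl
  intro k hk
  have hkg : k ≤ g := Nat.lt_succ_iff.mp (mem_range.mp hk)
  have hk0 : (k.factorial : ℚ) ≠ 0 := by exact_mod_cast Nat.factorial_ne_zero k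
  have hdiv : (((g.factorial / k.factorial : ℕ) : ℤ) : ℚ) = (g.factorial : ℚ) / (k.factorial : ℚ) := by
    rw [Int.cast_natCast, Nat.cast_div (Nat.factorial_dvd_factorial hkg) hk0]
  rw [coeff_C_mul, coeff_map, hdz k hkg, Int.cast_mul, Int.cast_mul, hdiv]
  simp only [eq_intCast]
  field_simp

/-- The arithmetic core of the integrality of the coefficients of a cohomological rank function. -/
theorem factorial_mul_coeff_int_of_rank (g : ℕ) (u v : ℚ) (huv : u < v) (Q : ℚ[X])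
    (hQ : Q.natDegree ≤ g) (h : ℤ → ℕ → ℕ)
    (hpoly : ∀ (a : ℤ) (b : ℕ), 0 < b → u < (a : ℚ) / (b : ℚ) → (a : ℚ) / (b : ℚ) < v →
      ((h a b : ℕ) : ℚ) / (b : ℚ) ^ (2 * g) = Q.eval ((a : ℚ) / (b : ℚ)))
    (j : ℕ) : ∃ z : ℤ, (g.factorial : ℚ) * Q.coeff j = z := by
  by_cases hj : g < j
  · refine ⟨0, ?_⟩
    rw [Polynomial.coeff_eq_zero_of_natDegree_lt (lt_of_le_of_lt hQ hj)]
    simp
  rw [not_lt] at hj
  have hstep : ∀ b : ℕ, ((g : ℚ) + 2) < (v - u) * b →
      ∃ z : ℤ, (g.factorial : ℚ) * Q.coeff j * (b : ℚ) ^ (2 * g - j) = z := by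
    intro b hb
    have hvu : 0 < v - u := sub_pos.mpr huv
    have hb0 : (0 : ℚ) < b := by
      by_contra hcon
      rw [not_lt] at hcon
      have : (v - u) * b ≤ 0 := mul_nonpos_of_nonneg_of_nonpos hvu.le hcon
      linarith [show (0 : ℚ) ≤ g from Nat.cast_nonneg g]
    have hbpos : 0 < b := by exact_mod_cast hb0
    have hbne : (b : ℚ) ≠ 0 := hb0.ne'
    let t₀ : ℤ := ⌊u * b⌋ + 1
    let R : ℚ[X] := C ((b : ℚ) ^ (2 * g)) * Q.comp (C ((b : ℚ)⁻¹) * X)
    have hRdeg : R.natDegree ≤ g := by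
      refine (Polynomial.natDegree_C_mul_le _ _).trans ?_
      refine (Polynomial.natDegree_comp_le).trans ?_
      have : (C ((b : ℚ)⁻¹) * X).natDegree ≤ 1 := by
        refine (Polynomial.natDegree_C_mul_le _ _).trans ?_
        simp
      calc Q.natDegree * (C ((b : ℚ)⁻¹) * X).natDegree ≤ Q.natDegree * 1 :=
            Nat.mul_le_mul_left _ this
        _ ≤ g := by rw [mul_one]; exact hQ
    have hRint : ∀ i : ℕ, i ≤ g → ∃ z : ℤ, R.eval ((t₀ : ℚ) + i) = z := by
      intro i hi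
      refine ⟨(h (t₀ + i) b : ℕ), ?_⟩
      have hfl1 : u * b < (t₀ : ℚ) := by
        have := Int.lt_floor_add_one (u * b)
        push_cast [t₀]
        exact this
      have hfl2 : (t₀ : ℚ) ≤ u * b + 1 := by
        have := Int.floor_le (u * b)
        push_cast [t₀]
        linarith
      have hi' : (i : ℚ) ≤ g := by exact_mod_cast hi
      have hi0 : (0 : ℚ) ≤ i := Nat.cast_nonneg i
      have h1 : u < ((t₀ + i : ℤ) : ℚ) / (b : ℚ) := by
        rw [lt_div_iff₀ hb0]
        push_cast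
        linarith
      have h2 : ((t₀ + i : ℤ) : ℚ) / (b : ℚ) < v := by
        rw [div_lt_iff₀ hb0]
        push_cast
        nlinarith
      have h3 := hpoly (t₀ + i) b hbpos h1 h2
      change eval ((t₀ : ℚ) + i) (C ((b : ℚ) ^ (2 * g)) * Q.comp (C ((b : ℚ)⁻¹) * X)) = _
      rw [eval_mul, eval_C, eval_comp, eval_mul, eval_C, eval_X]
      have h4 : (b : ℚ)⁻¹ * ((t₀ : ℚ) + i) = ((t₀ + i : ℤ) : ℚ) / (b : ℚ) := by
        push_cast
        field_simp
      rw [h4, ← h3]
      have hbp : (b : ℚ) ^ (2 * g) ≠ 0 := pow_ne_zero _ hbne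
      push_cast
      field_simp
    obtain ⟨z, hz⟩ := factorial_mul_coeff_int R g hRdeg t₀ hRint j
    refine ⟨z, ?_⟩
    rw [← hz]
    change _ = (g.factorial : ℚ) * (C ((b : ℚ) ^ (2 * g)) * Q.comp (C ((b : ℚ)⁻¹) * X)).coeff j
    rw [coeff_C_mul, Polynomial.comp_C_mul_X_coeff]
    have hj2 : j ≤ 2 * g := by omega
    have hpow : (b : ℚ) ^ (2 * g) = (b : ℚ) ^ (2 * g - j) * (b : ℚ) ^ j := by
      rw [← pow_add]
      congr 1
      omega
    rw [hpow, inv_pow]
    have hbj : (b : ℚ) ^ j ≠ 0 := pow_ne_zero _ hbne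
    field_simp
  have hvu : 0 < v - u := sub_pos.mpr huv
  obtain ⟨B, hB⟩ := exists_nat_gt (((g : ℚ) + 2) / (v - u))
  rw [div_lt_iff₀ hvu] at hB
  have hB1 : ((g : ℚ) + 2) < (v - u) * (B : ℚ) := by linarith
  have hB2 : ((g : ℚ) + 2) < (v - u) * ((B + 1 : ℕ) : ℚ) := by
    push_cast
    nlinarith
  obtain ⟨z₁, hz₁⟩ := hstep B hB1
  obtain ⟨z₂, hz₂⟩ := hstep (B + 1) hB2
  have hcop : Nat.Coprime (B ^ (2 * g - j)) ((B + 1) ^ (2 * g - j)) :=
    Nat.Coprime.pow _ _ (by simp)
  obtain ⟨x, y, hxy⟩ := Nat.Coprime.isCoprime hcop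
  refine ⟨x * z₁ + y * z₂, ?_⟩
  have hxy' : (x : ℚ) * (B : ℚ) ^ (2 * g - j) + (y : ℚ) * ((B + 1 : ℕ) : ℚ) ^ (2 * g - j) = 1 := by
    have := congrArg (fun t : ℤ => (t : ℚ)) hxy
    push_cast at this
    push_cast
    exact this
  push_cast
  rw [← hz₁, ← hz₂]
  calc (g.factorial : ℚ) * Q.coeff j = (g.factorial : ℚ) * Q.coeff j * 1 := by ring
    _ = (g.factorial : ℚ) * Q.coeff j *
        ((x : ℚ) * (B : ℚ) ^ (2 * g - j) + (y : ℚ) * ((B + 1 : ℕ) : ℚ) ^ (2 * g - j)) := by rw [hxy']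
    _ = _ := by push_cast; ring

end Groth.Agent.Helper18.IntValuedPoly
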