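import Mathlib

/-!
# Free affine groupoids: basis of `A` over the invariants (pure algebra)
-/

namespace Groth.Agent.Lib.Helper18.InvBasis

open TensorProduct CategoryTheory Limits

universe u

theorem exists_basis_of_isPushout {A A' B B' : Type*} [CommRing A] [CommRing A'] [CommRing B]
    [CommRing B'] [Algebra A B] [Algebra A A'] [Algebra A' B'] [Algebra B B'] [Algebra A B']
    [IsScalarTower A A' B'] [IsScalarTower A B B'] [hp : Algebra.IsPushout A A' B B']
    {ι : Type*} (b : Module.Basis ι A B) :
    ∃ b' : Module.Basis ι A' B', (∀ i, b' i = algebraMap B B' (b i)) ∧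
      ∀ y i, b'.repr (algebraMap B B' y) i = algebraMap A A' (b.repr y i) := by
  classical
  have hbc : IsBaseChange A' (IsScalarTower.toAlgHom A B B').toLinearMap := hp.out
  refine ⟨(b.baseChange A').map hbc.equiv, ?_, ?_⟩
  · intro j
    simp only [Module.Basis.map_apply, Module.Basis.baseChange_apply]
    rw [IsBaseChange.equiv_tmul, one_smul]; rfl
  · intro y i
    have h1 : algebraMap B B' y = hbc.equiv ((1 : A') ⊗ₜ[A] y) := by
      rw [IsBaseChange.equiv_tmul, one_smul]; rfl
    rw [h1]
    simp only [Module.Basis.map_repr, LinearEquiv.trans_apply, LinearEquiv.symm_apply_apply,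
      Module.Basis.baseChange_repr_tmul]
    rw [Algebra.smul_def, mul_one]

theorem exists_basis_of_isPushout_cat {A A' B B' : Type u} [CommRing A] [CommRing A'] [CommRing B]
    [CommRing B'] [Algebra A B] [Algebra A' B'] (ψ : A →+* A') (ψ' : B →+* B')
    (h : IsPushout (CommRingCat.ofHom ψ) (CommRingCat.ofHom (algebraMap A B))
      (CommRingCat.ofHom (algebraMap A' B')) (CommRingCat.ofHom ψ'))
    {ι : Type*} (b : Module.Basis ι A B) :
    ∃ b' : Module.Basis ι A' B', (∀ i, b' i = ψ' (b i)) ∧
      ∀ y i, b'.repr (ψ' y) i = ψ (b.repr y i) := by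
  letI := ψ.toAlgebra
  letI := ψ'.toAlgebra
  letI : Algebra A B' := (ψ'.comp (algebraMap A B)).toAlgebra
  haveI : IsScalarTower A B B' := .of_algebraMap_eq' rfl
  haveI : IsScalarTower A A' B' := .of_algebraMap_eq' (by
    have := congrArg CommRingCat.Hom.hom h.w
    exact this.symm)
  haveI : Algebra.IsPushout A A' B B' := CommRingCat.isPushout_iff_isPushout.mp h
  exact exists_basis_of_isPushout (A := A) (A' := A') (B := B) (B' := B') b

section Main

variable {A B D : Type u} [CommRing A] [CommRing B] [CommRing D] [Algebra A B]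
  (t : A →+* B) (e : B →+* A) (p0 p1 c : B →+* D)
  (hes : ∀ a, e (algebraMap A B a) = a) (het : ∀ a, e (t a) = a)
  (hct : ∀ a, c (t a) = p0 (t a)) (hcs : ∀ a, c (algebraMap A B a) = p1 (algebraMap A B a))
  (hpush : IsPushout (CommRingCat.ofHom t) (CommRingCat.ofHom (algebraMap A B))
    (CommRingCat.ofHom p1) (CommRingCat.ofHom p0))
  {I : Type u} (x : I → A) (bB : Module.Basis I A B) (hbB : ∀ i, bB i = t (x i))

include hct hcs hpush hbB in
theorem coeff_mem (a : A) (i : I) :
    algebraMap A B (bB.repr (t a) i) = t (bB.repr (t a) i) := by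
  letI : Algebra B D := p1.toAlgebra
  obtain ⟨b', hb', hrepr⟩ := exists_basis_of_isPushout_cat t p0 hpush bB
  have h1 : t a = Finsupp.linearCombination A bB (bB.repr (t a)) :=
    (bB.linearCombination_repr (t a)).symm
  have h2 : c (t a) = Finsupp.linearCombination B b'
      ((bB.repr (t a)).mapRange (algebraMap A B) (map_zero _)) := by
    conv_lhs => rw [h1]
    rw [Finsupp.linearCombination_apply, Finsupp.linearCombination_apply,
      Finsupp.sum_mapRange_index (by simp), map_finsuppSum]
    refine Finsupp.sum_congr (fun j _ => ?_)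
    rw [Algebra.smul_def, map_mul, hcs, hbB, hct, Algebra.smul_def, hb', hbB]
    rfl
  have h3 : b'.repr (c (t a)) i = algebraMap A B (bB.repr (t a) i) := by
    rw [h2, b'.repr_linearCombination, Finsupp.mapRange_apply]
  rw [hct, hrepr] at h3
  exact h3.symm

include hes het hbB in
theorem eq_sum (a : A) : a = (bB.repr (t a)).sum (fun i r => r * x i) := by
  have h1 : t a = Finsupp.linearCombination A bB (bB.repr (t a)) :=
    (bB.linearCombination_repr (t a)).symm
  have h2 : e (Finsupp.linearCombination A bB (bB.repr (t a))) =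
      (bB.repr (t a)).sum (fun i r => r * x i) := by
    rw [Finsupp.linearCombination_apply, map_finsuppSum]
    refine Finsupp.sum_congr (fun j _ => ?_)
    rw [Algebra.smul_def, map_mul, hes, hbB, het]
  rw [← h2, ← h1, het]

include hes het hct hcs hpush hbB in
theorem part1 : ∃ b : Module.Basis I (RingHom.eqLocus (algebraMap A B) t) A, ∀ i, b i = x i := by
  have hli : LinearIndependent (RingHom.eqLocus (algebraMap A B) t) x := by
    rw [linearIndependent_iff]
    intro l hl
    have h1 : Finsupp.linearCombination A bB (l.mapRange Subtype.val rfl) = 0 := by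
      rw [Finsupp.linearCombination_apply, Finsupp.sum_mapRange_index (by simp)]
      have := congrArg t hl
      rw [Finsupp.linearCombination_apply, map_finsuppSum, map_zero] at this
      rw [← this]
      refine Finsupp.sum_congr (fun j _ => ?_)
      rw [Algebra.smul_def, hbB, Subring.smul_def, smul_eq_mul, map_mul]
      congr 1
      exact (l j).2
    have h2 := (linearIndependent_iff.mp bB.linearIndependent) _ h1
    ext j
    have := DFunLike.congr_fun h2 j
    simpa using this
  have hsp : ⊤ ≤ Submodule.span (RingHom.eqLocus (algebraMap A B) t) (Set.range x) := by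
    intro a _
    rw [eq_sum t e hes het x bB hbB a]
    refine Submodule.sum_mem _ (fun i _ => ?_)
    have hmem : bB.repr (t a) i ∈ RingHom.eqLocus (algebraMap A B) t :=
      coeff_mem t p0 p1 c hct hcs hpush x bB hbB a i
    have : bB.repr (t a) i * x i =
        (⟨bB.repr (t a) i, hmem⟩ : RingHom.eqLocus (algebraMap A B) t) • x i := rfl
    show bB.repr (t a) i * x i ∈ _
    rw [this]
    exact Submodule.smul_mem _ _ (Submodule.subset_span ⟨i, rfl⟩)
  exact ⟨Module.Basis.mk hli hsp, fun i => Module.Basis.mk_apply hli hsp i⟩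

include hbB in
theorem part2 (bA : Module.Basis I (RingHom.eqLocus (algebraMap A B) t) A)
    (hbA : ∀ i, bA i = x i) :
    letI := ((algebraMap A B).comp (RingHom.eqLocus (algebraMap A B) t).subtype).toAlgebra
    ∀ φ : A ⊗[RingHom.eqLocus (algebraMap A B) t] A →ₗ[RingHom.eqLocus (algebraMap A B) t] B,
      (∀ a a' : A, φ (a ⊗ₜ a') = t a * algebraMap A B a') → Function.Bijective φ := by
  intro φ hφ
  let ψ := (bA.baseChange A).equiv bB (Equiv.refl I)
  have hψ1 : ∀ i, ψ ((1 : A) ⊗ₜ[RingHom.eqLocus (algebraMap A B) t] x i) = t (x i) := by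
    intro i
    have := (bA.baseChange A).equiv_apply (b' := bB) i (Equiv.refl I)
    rw [Module.Basis.baseChange_apply, hbA, Equiv.refl_apply, hbB] at this
    exact this
  have hψ3 : ∀ a' a : A, ψ (a' ⊗ₜ[RingHom.eqLocus (algebraMap A B) t] a) =
      algebraMap A B a' * ψ ((1 : A) ⊗ₜ[RingHom.eqLocus (algebraMap A B) t] a) := by
    intro a' a
    have : a' ⊗ₜ[RingHom.eqLocus (algebraMap A B) t] a =
        a' • ((1 : A) ⊗ₜ[RingHom.eqLocus (algebraMap A B) t] a) := by
      rw [TensorProduct.smul_tmul', smul_eq_mul, mul_one]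
    rw [this, map_smul, Algebra.smul_def]
  have hψ2 : ∀ a : A, ψ ((1 : A) ⊗ₜ[RingHom.eqLocus (algebraMap A B) t] a) = t a := by
    intro a
    have ha := bA.linearCombination_repr a
    rw [Finsupp.linearCombination_apply] at ha
    conv_lhs => rw [← ha]
    conv_rhs => rw [← ha]
    unfold Finsupp.sum
    rw [TensorProduct.tmul_sum, map_sum, map_sum]
    refine Finset.sum_congr rfl (fun i _ => ?_)
    show ψ ((1 : A) ⊗ₜ[RingHom.eqLocus (algebraMap A B) t] (bA.repr a i • bA i)) =
      t (bA.repr a i • bA i)
    rw [hbA, TensorProduct.tmul_smul, TensorProduct.smul_tmul', hψ3, hψ1, Subring.smul_def,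
      smul_eq_mul, mul_one, Subring.smul_def, smul_eq_mul, map_mul]
    congr 1
    exact (bA.repr a i).2
  have key : ∀ z, φ z = ψ (TensorProduct.comm (RingHom.eqLocus (algebraMap A B) t) A A z) := by
    intro z
    induction z using TensorProduct.induction_on with
    | zero => rw [map_zero, map_zero, map_zero]
    | tmul a a' =>
      rw [hφ, TensorProduct.comm_tmul, hψ3, hψ2, mul_comm]
    | add z₁ z₂ h₁ h₂ => rw [map_add, map_add, map_add, h₁, h₂]
  have : (φ : _ → B) = ψ ∘ (TensorProduct.comm (RingHom.eqLocus (algebraMap A B) t) A A) :=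
    funext key
  rw [this]
  exact ψ.bijective.comp (TensorProduct.comm (RingHom.eqLocus (algebraMap A B) t) A A).bijective

end Main

end Groth.Agent.Lib.Helper18.InvBasis
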