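import Mathlib
import Groth.Agent.Lib.Helper18.InvEnd3
import Groth.Prelude.Def_CohPull

/-!
# Finite-dimensionality of endomorphism algebras; indecomposable implies local
-/

set_option autoImplicit false
set_option linter.style.haveILetI false
set_option maxHeartbeats 400000
universe u
open CategoryTheory CategoryTheory.Limits AlgebraicGeometry Opposite TopologicalSpace
open RefHull
open Groth.Agent.Helper13.Inv Groth.Agent.Helper13.GenLoc Groth.Agent.Lead.HomSh
open Groth.Agent.Helper13.QCoh

namespace Groth.Agent.Helper18.InvEnd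

/-- idempotents of an indecomposable object of an abelian category are trivial. -/
theorem idem_trivial_of_indec {C : Type*} [Category C] [Abelian C] (E : C)
    (hind : ∀ E₁ E₂ : C, Nonempty (E ≅ E₁ ⊞ E₂) → IsZero E₁ ∨ IsZero E₂)
    (p : E ⟶ E) (hp : p ≫ p = p) : p = 0 ∨ p = 𝟙 E := by
  have hq : (𝟙 E - p) ≫ (𝟙 E - p) = 𝟙 E - p := by
    rw [Preadditive.sub_comp, Preadditive.comp_sub, Preadditive.comp_sub, Category.id_comp,
      Category.comp_id, Category.id_comp, hp, sub_self, sub_zero]
  obtain ⟨Y, i, e, hie, hei⟩ := IsIdempotentComplete.idempotents_split E p hp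
  obtain ⟨Y', i', e', hie', hei'⟩ :=
    IsIdempotentComplete.idempotents_split E (𝟙 E - p) hq
  have hip : i ≫ p = i := by rw [← hei, ← Category.assoc, hie, Category.id_comp]
  have hi'q : i' ≫ (𝟙 E - p) = i' := by rw [← hei', ← Category.assoc, hie', Category.id_comp]
  have h1 : i ≫ e' = 0 := by
    have : i ≫ e' = i ≫ (𝟙 E - p) ≫ e' := by
      rw [← hei', Category.assoc, hie', Category.comp_id]
    rw [this, ← Category.assoc, Preadditive.comp_sub, Category.comp_id, hip, sub_self, zero_comp]
  have h2 : i' ≫ e = 0 := by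
    have hi'p : i' ≫ p = 0 := by
      have := hi'q
      rw [Preadditive.comp_sub, Category.comp_id] at this
      exact sub_eq_self.1 this
    have : i' ≫ e = i' ≫ p ≫ e := by rw [← hei, Category.assoc, hie, Category.comp_id]
    rw [this, ← Category.assoc, hi'p, zero_comp]
  let ε : E ≅ Y ⊞ Y' :=
    { hom := biprod.lift e e'
      inv := biprod.desc i i'
      hom_inv_id := by
        rw [biprod.lift_desc, hei, hei']; abel
      inv_hom_id := by
        apply biprod.hom_ext' <;> apply biprod.hom_ext <;> simp [hie, hie', h1, h2] }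
  rcases hind Y Y' ⟨ε⟩ with hz | hz
  · left
    rw [← hei, hz.eq_of_tgt e 0, zero_comp]
  · right
    have : 𝟙 E - p = 0 := by rw [← hei', hz.eq_of_tgt e' 0, zero_comp]
    exact (sub_eq_zero.1 this).symm

variable (k : Type u) [Field k] {X : Scheme.{u}} [X.Over (Spec (CommRingCat.of k))]

/-- `k → Γ(X, O_X)`. -/
noncomputable def toGlobal' : k →+* Γ(X, ⊤) := Coh.toGlobal (X ↘ Spec (CommRingCat.of k))

/-- the `k`-module structure on global sections of a module. -/
noncomputable abbrev modΓ (M : X.Modules) : Module k Γ(M, ⊤) :=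
  Module.compHom _ (toGlobal' k (X := X))

/-- `H⁰(X, M) → Γ(M, ⊤)` as a `k`-linear map -/
noncomputable def h0LinM (M : X.Modules) :
    letI := modΓ k M
    Coh.HH X M 0 →ₗ[k] Γ(M, ⊤) :=
  letI := modΓ k M
  { toFun := fun x => Sheaf.H.equiv₀ (Coh.toAb M) (T := (⊤ : Opens X)) isTerminalTop x
    map_add' := fun x y => map_add _ x y
    map_smul' := fun a x => by
      have h1 := Sheaf.H.equiv₀_naturality (T := (⊤ : Opens X)) isTerminalTop
        (Coh.smulAb M (Coh.toGlobal (X ↘ Spec (CommRingCat.of k)) a)) x
      refine (Eq.trans ?_ h1.symm).trans ?_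
      · rfl
      rw [Coh.smulAb_app]
      have hres : Coh.resTop X (op ⊤) (Coh.toGlobal (X ↘ Spec (CommRingCat.of k)) a) =
          Coh.toGlobal (X ↘ Spec (CommRingCat.of k)) a := by
        unfold Coh.resTop
        have : (homOfLE (le_top (a := (unop (op (⊤ : X.Opens)))))).op = 𝟙 _ := rfl
        rw [this, CategoryTheory.Functor.map_id]
        rfl
      rw [hres]
      rfl }

/-- scalars as endomorphisms. -/
noncomputable def scalarRingHom (E : X.Modules) : k →+* End E where
  toFun c := smulEnd E (Coh.toGlobal (X ↘ Spec (CommRingCat.of k)) c)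
  map_one' := by rw [map_one]; exact smulEnd_one E
  map_mul' a b := by rw [map_mul, smulEnd_mul, End.mul_def]
  map_zero' := by rw [map_zero]; exact smulEnd_zero E
  map_add' a b := by rw [map_add]; exact smulEnd_add E _ _

/-- the `k`-algebra structure on `End(E)`. -/
noncomputable abbrev endAlgebra (E : X.Modules) : Algebra k (End E) :=
  (scalarRingHom k E).toAlgebra' (fun c f => by
    rw [End.mul_def, End.mul_def]; exact smulEnd_comm f _)

/-- the family of stalk maps of an endomorphism, as a `k`-linear map. -/
noncomputable def ofHomLin (E : X.Modules) :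
    letI := endAlgebra k E
    letI := modΓ k (homSh E E)
    End E →ₗ[k] Γ(homSh E E, ⊤) :=
  letI := endAlgebra k E
  letI := modΓ k (homSh E E)
  { toFun := fun f => ofHom f ⊤
    map_add' := fun f g => by
      apply sec_ext
      intro y
      rw [add_apply]
      exact LinearMap.ext fun m => stalkMapₗ_add f g y.1 m
    map_smul' := fun c f => by
      apply sec_ext
      intro y
      have h1 : (c • f : End E) = f ≫ smulEnd E (Coh.toGlobal (X ↘ Spec (CommRingCat.of k)) c) := by
        rw [Algebra.smul_def, End.mul_def]; rfl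
      have h2 : ((RingHom.id k) c • ofHom f ⊤ : Γ(homSh E E, ⊤)) =
          (toGlobal' k (X := X) c : Γ(X, ⊤)) • ofHom f ⊤ := rfl
      rw [h2, smul_apply]
      refine LinearMap.ext fun m => ?_
      change stalkMapₗ (c • f : End E) y.1 m = _
      rw [h1, stalkMapₗ_comp, stalkMapₗ_smulEnd]
      rfl }


end Groth.Agent.Helper18.InvEnd
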