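import Mathlib
import Groth.Agent.Lib.Helper18.InvEnd4
import Groth.Agent.Lib.Helper13.TensorFinLocFree

/-!
# Endomorphisms of finite locally free modules of constant rank are integral over global functions

The characteristic polynomials of the stalk maps of an endomorphism `f` of a finite locally free
module of constant rank glue to a monic polynomial with coefficients in `Γ(X, O_X)` which kills
`f` (Cayley–Hamilton).  When `Γ(X, O_X)` is a field this gives Fitting's dichotomy, hence
"indecomposable implies local endomorphism ring".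
-/

set_option autoImplicit false
set_option linter.style.haveILetI false
set_option maxHeartbeats 400000
universe u
open CategoryTheory CategoryTheory.Limits AlgebraicGeometry Opposite TopologicalSpace
open RefHull Polynomial
open Groth.Agent.Helper13.Inv Groth.Agent.Helper13.GenLoc Groth.Agent.Lead.HomSh
open Groth.Agent.Helper13.QCoh Groth.Agent.Helper13.StalkBasis
open Groth.Agent.Helper13.FinType Groth.Agent.Helper13.LocFree
open Groth.Agent.Helper13.LocalLift Groth.Agent.Helper13.TensorFinLocFree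

namespace Groth.Agent.Helper18.InvEnd

/-! ### pure algebra -/

theorem isUnit_or_isNilpotent_of_idem' {k A : Type*} [Field k] [Ring A] [Algebra k A]
    (hidem : ∀ e : A, e * e = e → e = 0 ∨ e = 1) (a : A) (P₀ : k[X]) (hP₀ne : P₀ ≠ 0)
    (hP₀' : aeval a P₀ = 0) : IsUnit a ∨ IsNilpotent a := by
  have hP0 : (X * P₀ : k[X]) ≠ 0 := mul_ne_zero X_ne_zero hP₀ne
  have hPa : aeval a (X * P₀ : k[X]) = 0 := by rw [aeval_mul, hP₀', mul_zero]
  obtain ⟨q, hq, hnd⟩ := exists_eq_pow_rootMultiplicity_mul_and_not_dvd (X * P₀ : k[X]) hP0 0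
  set m := rootMultiplicity 0 (X * P₀ : k[X]) with hm
  have hm1 : 1 ≤ m := by
    rw [hm, Nat.succ_le_iff, rootMultiplicity_pos hP0]
    simp
  rw [C_0, sub_zero] at hq hnd
  have hcop : IsCoprime (X ^ m : k[X]) q :=
    IsCoprime.pow_left ((irreducible_X.coprime_iff_not_dvd).2 hnd)
  obtain ⟨u, v, huv⟩ := hcop
  have h1 : aeval a u * a ^ m + aeval a v * aeval a q = 1 := by
    have := congrArg (aeval a) huv
    rw [map_add, aeval_mul, aeval_mul, aeval_X_pow, map_one] at this
    exact this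
  set e := aeval a v * aeval a q with he
  have e_eq : e = aeval a (v * q) := by rw [he, aeval_mul]
  have t_eq : aeval a u * a ^ m = aeval a (u * X ^ m) := by rw [aeval_mul, aeval_X_pow]
  have hee : e * e = e := by
    have h3 : e * (aeval a u * a ^ m) = 0 := by
      have h4 : (v * q) * (u * X ^ m) = (v * u) * (X * P₀) := by rw [hq]; ring
      calc e * (aeval a u * a ^ m) = aeval a (v * q) * aeval a (u * X ^ m) := by rw [e_eq, t_eq]
        _ = aeval a ((v * q) * (u * X ^ m)) := (aeval_mul a).symm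
        _ = aeval a ((v * u) * (X * P₀)) := by rw [h4]
        _ = aeval a (v * u) * aeval a (X * P₀) := aeval_mul a
        _ = 0 := by rw [hPa, mul_zero]
    calc e * e = e * (1 - aeval a u * a ^ m) := by rw [← eq_sub_of_add_eq' h1]
      _ = e := by rw [mul_sub, mul_one, h3, sub_zero]
  rcases hidem e hee with h0 | h1'
  · left
    rw [h0, add_zero] at h1
    obtain ⟨m', hm'⟩ : ∃ m', m = m' + 1 := ⟨m - 1, by omega⟩
    rw [hm'] at h1
    have hab : a * aeval a (u * X ^ m') = 1 :=
      calc a * aeval a (u * X ^ m') = aeval a X * aeval a (u * X ^ m') := by rw [aeval_X]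
        _ = aeval a (X * (u * X ^ m')) := (aeval_mul a).symm
        _ = aeval a (u * X ^ (m' + 1)) := by rw [show X * (u * X ^ m') = u * X ^ (m' + 1) by ring]
        _ = aeval a u * a ^ (m' + 1) := by rw [aeval_mul, aeval_X_pow]
        _ = 1 := h1
    have hba : aeval a (u * X ^ m') * a = 1 :=
      calc aeval a (u * X ^ m') * a = aeval a (u * X ^ m') * aeval a X := by rw [aeval_X]
        _ = aeval a ((u * X ^ m') * X) := (aeval_mul a).symm
        _ = aeval a (u * X ^ (m' + 1)) := by rw [show (u * X ^ m') * X = u * X ^ (m' + 1) by ring]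
        _ = aeval a u * a ^ (m' + 1) := by rw [aeval_mul, aeval_X_pow]
        _ = 1 := h1
    exact ⟨⟨a, aeval a (u * X ^ m'), hab, hba⟩, rfl⟩
  · right
    refine ⟨m, ?_⟩
    have h4 : X ^ m * (v * q) = (X * P₀) * v := by rw [hq]; ring
    calc a ^ m = a ^ m * e := by rw [h1', mul_one]
      _ = aeval a (X ^ m) * aeval a (v * q) := by rw [e_eq, aeval_X_pow]
      _ = aeval a (X ^ m * (v * q)) := (aeval_mul a).symm
      _ = aeval a ((X * P₀) * v) := by rw [h4]
      _ = aeval a (X * P₀) * aeval a v := aeval_mul a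
      _ = 0 := by rw [hPa, zero_mul]

variable {X : Scheme.{u}}

/-! ### local bases -/

/-- `E` has local bases of `r` sections. -/
def HasLocalBases (E : X.Modules) (r : ℕ) : Prop :=
  ∀ x : X, ∃ (V : X.Opens) (s : Fin r → Γ(E, V)), x ∈ V ∧
    ∀ (y : X) (hy : y ∈ V), IsBasisAt E s y hy

theorem hasLocalBases_of_rank (E : X.Modules) (e : ℕ) (hE : FlatMod.IsFinLocFreeOfRank e E) :
    HasLocalBases E e := by
  intro x
  obtain ⟨U, hxU, ⟨ε⟩⟩ := hE x
  let s' : Fin e → Γ(E.restrict U.ι, ⊤) := fun i =>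
    Groth.Agent.Helper13.GenLoc.sec (E.restrict U.ι) (ι e i ≫ ε.inv)
  have he : ε.inv = descSec (E.restrict U.ι) s' := eq_descSec _ ε.inv
  haveI : IsIso (descSec (E.restrict U.ι) s') := by rw [← he]; infer_instance
  let s₀ : Fin e → Γ(E, U.ι ''ᵁ ⊤) := fun i => s' i
  have hbas : ∀ y : (U : Scheme.{u}), IsBasisAt E s₀ (U.ι y) ⟨y, trivial, rfl⟩ := by
    intro y
    rw [← isBasisAt_restrict_iff U.ι E (U := ⊤) s₀ y trivial]
    exact isBasisAt_of_isIso_descSec (E.restrict U.ι) s' y
  have hxU' : x ∈ U.ι ''ᵁ (⊤ : (U : Scheme.{u}).Opens) := by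
    rw [ι_image_top]; exact hxU
  refine ⟨U.ι ''ᵁ ⊤, s₀, hxU', ?_⟩
  intro y hy
  have hyU : y ∈ U := by rw [ι_image_top] at hy; exact hy
  exact hbas ⟨y, hyU⟩

theorem free_stalk {E : X.Modules} {r : ℕ} (hE : HasLocalBases E r) (y : X) :
    Module.Free (X.presheaf.stalk y) (E.presheaf.stalk y) := by
  obtain ⟨V, s, hyV, hb⟩ := hE y
  exact Module.Free.of_basis (basisOf E s y hyV (hb y hyV))

theorem finite_stalk {E : X.Modules} {r : ℕ} (hE : HasLocalBases E r) (y : X) :
    Module.Finite (X.presheaf.stalk y) (E.presheaf.stalk y) := by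
  obtain ⟨V, s, hyV, hb⟩ := hE y
  exact Module.Finite.of_basis (basisOf E s y hyV (hb y hyV))

theorem not_isZero_of_hasLocalBases [Nonempty X] (E : X.Modules) (r : ℕ) (hr : 0 < r)
    (hE : HasLocalBases E r) : ¬ IsZero E := by
  intro hz
  obtain ⟨x⟩ := ‹Nonempty X›
  obtain ⟨V, s, hxV, hb⟩ := hE x
  have h1 : (𝟙 E : E ⟶ E) = 0 := hz.eq_of_src _ _
  have h2 : ∀ m : E.presheaf.stalk x, m = 0 := by
    intro m
    rw [← stalkMapₗ_id x m, h1, stalkMapₗ_zero]
  have h3 := (hb x hxV).1 ((h2 (comb E s x hxV 0)).trans (h2 (comb E s x hxV (fun _ => 1))).symm)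
  have h4 := congrFun h3 ⟨0, hr⟩
  exact zero_ne_one h4

/-! ### `End E` as an algebra over global functions -/

/-- global functions as endomorphisms. -/
noncomputable def scalarRingHomΓ (E : X.Modules) : Γ(X, ⊤) →+* End E where
  toFun c := smulEnd E c
  map_one' := smulEnd_one E
  map_mul' a b := by rw [End.mul_def]; exact smulEnd_mul E a b
  map_zero' := smulEnd_zero E
  map_add' a b := smulEnd_add E _ _

/-- the `Γ(X, O_X)`-algebra structure on `End(E)`. -/
noncomputable abbrev endAlgebraΓ (E : X.Modules) : Algebra Γ(X, ⊤) (End E) :=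
  (scalarRingHomΓ E).toAlgebra' (fun c f => by
    rw [End.mul_def, End.mul_def]; exact smulEnd_comm f _)

/-- taking the stalk map at `y`, as a ring homomorphism. -/
noncomputable def stalkEndHom (E : X.Modules) (y : X) :
    End E →+* Module.End (X.presheaf.stalk y) (E.presheaf.stalk y) where
  toFun f := stalkMapₗ f y
  map_one' := LinearMap.ext fun m => stalkMapₗ_id y m
  map_mul' f g := LinearMap.ext fun m => by
    rw [End.mul_def]
    exact stalkMapₗ_comp g f y m
  map_zero' := LinearMap.ext fun m => stalkMapₗ_zero y m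
  map_add' f g := LinearMap.ext fun m => stalkMapₗ_add f g y m

theorem stalkEndHom_algebraMap (E : X.Modules) (y : X) :
    letI := endAlgebraΓ E
    (algebraMap (X.presheaf.stalk y) (Module.End (X.presheaf.stalk y) (E.presheaf.stalk y))).comp
      (X.presheaf.germ ⊤ y trivial).hom = (stalkEndHom E y).comp (algebraMap Γ(X, ⊤) (End E)) := by
  letI := endAlgebraΓ E
  refine RingHom.ext fun c => LinearMap.ext fun m => ?_
  change X.presheaf.germ ⊤ y trivial c • m = stalkMapₗ (smulEnd E c) y m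
  rw [stalkMapₗ_smulEnd]

/-! ### local matrices -/

theorem mem_iInf_opens'' {ι : Type*} [Finite ι] (U : ι → X.Opens) (x : X) :
    x ∈ (⨅ i, U i) ↔ ∀ i, x ∈ U i := by
  rw [← SetLike.mem_coe, Opens.coe_iInf]
  simp

theorem exists_local_matrix {E : X.Modules} {r : ℕ} (hE : HasLocalBases E r) (f : E ⟶ E) (x : X) :
    ∃ (W : X.Opens) (_ : x ∈ W) (s : Fin r → Γ(E, W)) (A : Matrix (Fin r) (Fin r) Γ(X, W)),
      (∀ (y : X) (hy : y ∈ W), IsBasisAt E s y hy) ∧
      ∀ (y : X) (hy : y ∈ W) (j : Fin r),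
        stalkMapₗ f y (E.presheaf.germ W y hy (s j)) =
          ∑ i, X.presheaf.germ W y hy (A i j) • E.presheaf.germ W y hy (s i) := by
  obtain ⟨V, s, hxV, hb⟩ := hE x
  set b := basisOf E s x hxV (hb x hxV) with hbdef
  have hbs : ∀ i, b i = E.presheaf.germ V x hxV (s i) := fun i => basisOf_apply E s x hxV _ i
  set c : Fin r → Fin r → X.presheaf.stalk x := fun i j => b.repr (stalkMapₗ f x (b j)) i with hcdef
  have hc : ∀ j, stalkMapₗ f x (E.presheaf.germ V x hxV (s j)) =
      ∑ i, c i j • E.presheaf.germ V x hxV (s i) := by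
    intro j
    rw [← hbs j]
    refine (b.sum_repr (stalkMapₗ f x (b j))).symm.trans ?_
    exact Finset.sum_congr rfl (fun i _ => congrArg (fun z => c i j • z) (hbs i))
  obtain ⟨W₀, hxW₀, t, ht⟩ := exists_common_germ_ring x
    (fun idx : Fin (r * r) => c (finProdFinEquiv.symm idx).1 (finProdFinEquiv.symm idx).2)
  set W₁ : X.Opens := W₀ ⊓ V with hW₁
  have hxW₁ : x ∈ W₁ := ⟨hxW₀, hxV⟩
  set a : Fin r → Fin r → Γ(X, W₁) := fun i j =>
    X.presheaf.map (homOfLE (inf_le_left : W₁ ≤ W₀)).op (t (finProdFinEquiv (i, j))) with hadef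
  have ha : ∀ i j, X.presheaf.germ W₁ x hxW₁ (a i j) = c i j := by
    intro i j
    rw [hadef]
    dsimp only
    rw [TopCat.Presheaf.germ_res_apply, ht]
    simp
  set s₁ : Fin r → Γ(E, W₁) := fun i =>
    E.presheaf.map (homOfLE (inf_le_right : W₁ ≤ V)).op (s i) with hs₁def
  have hs₁ : ∀ (y : X) (hy : y ∈ W₁) (i : Fin r),
      E.presheaf.germ W₁ y hy (s₁ i) = E.presheaf.germ V y hy.2 (s i) := by
    intro y hy i
    rw [hs₁def]
    dsimp only
    rw [TopCat.Presheaf.germ_res_apply]
  have hgerm : ∀ j, E.presheaf.germ W₁ x hxW₁ (f.app W₁ (s₁ j)) =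
      E.presheaf.germ W₁ x hxW₁ (∑ i, a i j • s₁ i) := by
    intro j
    rw [← stalkMapₗ_germ, hs₁, hc j, map_sum]
    refine Finset.sum_congr rfl (fun i _ => ?_)
    rw [Mero.germ_smul, ha, hs₁]
  have hR : ∀ j : Fin r, ∃ (Wj : X.Opens) (_ : x ∈ Wj) (hj : Wj ≤ W₁),
      E.presheaf.map (homOfLE hj).op (f.app W₁ (s₁ j)) =
        E.presheaf.map (homOfLE hj).op (∑ i, a i j • s₁ i) := by
    intro j
    obtain ⟨W', hxW', iU, iV, hW'⟩ := TopCat.Presheaf.germ_eq E.presheaf x hxW₁ hxW₁ _ _ (hgerm j)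
    exact ⟨W', hxW', iU.le, hW'⟩
  choose Wj hxj hj hWj using hR
  set W : X.Opens := (⨅ j, Wj j) ⊓ W₁ with hWdef
  have hxW : x ∈ W := ⟨(mem_iInf_opens'' Wj x).2 hxj, hxW₁⟩
  have hWW₁ : W ≤ W₁ := inf_le_right
  have hWj' : ∀ j, W ≤ Wj j := fun j => inf_le_left.trans (iInf_le _ j)
  refine ⟨W, hxW, fun i => E.presheaf.map (homOfLE hWW₁).op (s₁ i),
    Matrix.of (fun i j => X.presheaf.map (homOfLE hWW₁).op (a i j)), ?_, ?_⟩
  · intro y hy
    rw [isBasisAt_res E (homOfLE hWW₁) s₁ y hy]
    rw [hs₁def, isBasisAt_res E (homOfLE (inf_le_right : W₁ ≤ V)) s y (hWW₁ hy)]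
    exact hb y _
  · intro y hy j
    have h1 : E.presheaf.germ W₁ y (hWW₁ hy) (f.app W₁ (s₁ j)) =
        E.presheaf.germ W₁ y (hWW₁ hy) (∑ i, a i j • s₁ i) := by
      have h2 := congrArg (E.presheaf.germ (Wj j) y (hWj' j hy)) (hWj j)
      rw [TopCat.Presheaf.germ_res_apply, TopCat.Presheaf.germ_res_apply] at h2
      exact h2
    rw [TopCat.Presheaf.germ_res_apply, stalkMapₗ_germ, h1, map_sum]
    refine Finset.sum_congr rfl (fun i _ => ?_)
    rw [Mero.germ_smul, Matrix.of_apply]
    have e1 : X.presheaf.germ W y hy (X.presheaf.map (homOfLE hWW₁).op (a i j)) =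
        X.presheaf.germ W₁ y (hWW₁ hy) (a i j) :=
      TopCat.Presheaf.germ_res_apply X.presheaf (homOfLE hWW₁) y hy (a i j)
    have e2 : E.presheaf.germ W y hy (E.presheaf.map (homOfLE hWW₁).op (s₁ i)) =
        E.presheaf.germ W₁ y (hWW₁ hy) (s₁ i) :=
      TopCat.Presheaf.germ_res_apply E.presheaf (homOfLE hWW₁) y hy (s₁ i)
    exact (congrArg₂ (· • ·) e1 e2).symm

/-! ### characteristic polynomials -/

/-- the characteristic polynomial of the stalk map at `y`. -/
noncomputable def stalkCharpoly {E : X.Modules} {r : ℕ} (hE : HasLocalBases E r) (f : E ⟶ E)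
    (y : X) : Polynomial (X.presheaf.stalk y) :=
  haveI := free_stalk hE y
  haveI := finite_stalk hE y
  (stalkMapₗ f y).charpoly

theorem stalkCharpoly_eq_map {E : X.Modules} {r : ℕ} (hE : HasLocalBases E r) (f : E ⟶ E)
    {W : X.Opens} (s : Fin r → Γ(E, W)) (A : Matrix (Fin r) (Fin r) Γ(X, W))
    (y : X) (hy : y ∈ W) (hbas : IsBasisAt E s y hy)
    (hA : ∀ j, stalkMapₗ f y (E.presheaf.germ W y hy (s j)) =
      ∑ i, X.presheaf.germ W y hy (A i j) • E.presheaf.germ W y hy (s i)) :
    stalkCharpoly hE f y = A.charpoly.map (X.presheaf.germ W y hy).hom := by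
  haveI := free_stalk hE y
  haveI := finite_stalk hE y
  set b := basisOf E s y hy hbas with hbdef
  have hbs : ∀ i, b i = E.presheaf.germ W y hy (s i) := fun i => basisOf_apply E s y hy _ i
  have hM : LinearMap.toMatrix b b (stalkMapₗ f y) = A.map (X.presheaf.germ W y hy).hom := by
    ext i j
    rw [LinearMap.toMatrix_apply, hbs j, hA j, Matrix.map_apply]
    have h1 : (∑ i, X.presheaf.germ W y hy (A i j) • E.presheaf.germ W y hy (s i)) =
        ∑ i, (fun i => X.presheaf.germ W y hy (A i j)) i • b i :=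
      Finset.sum_congr rfl (fun i _ => by rw [hbs i])
    rw [h1, b.repr_sum_self]
  unfold stalkCharpoly
  rw [← LinearMap.charpoly_toMatrix (stalkMapₗ f y) b, hM, Matrix.charpoly_map]

theorem stalkCharpoly_natDegree {E : X.Modules} {r : ℕ} (hE : HasLocalBases E r) (f : E ⟶ E)
    (y : X) : (stalkCharpoly hE f y).natDegree = r := by
  haveI := free_stalk hE y
  haveI := finite_stalk hE y
  obtain ⟨V, s, hyV, hb⟩ := hE y
  unfold stalkCharpoly
  rw [LinearMap.charpoly_natDegree, Module.finrank_eq_card_basis (basisOf E s y hyV (hb y hyV)),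
    Fintype.card_fin]

theorem stalkCharpoly_monic {E : X.Modules} {r : ℕ} (hE : HasLocalBases E r) (f : E ⟶ E)
    (y : X) : (stalkCharpoly hE f y).Monic := by
  haveI := free_stalk hE y
  haveI := finite_stalk hE y
  exact LinearMap.charpoly_monic _

theorem aeval_stalkCharpoly {E : X.Modules} {r : ℕ} (hE : HasLocalBases E r) (f : E ⟶ E)
    (y : X) : Polynomial.aeval (stalkMapₗ f y) (stalkCharpoly hE f y) = 0 := by
  haveI := free_stalk hE y
  haveI := finite_stalk hE y
  exact LinearMap.aeval_self_charpoly _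

theorem exists_global_charpoly {E : X.Modules} {r : ℕ} (hE : HasLocalBases E r) (f : E ⟶ E) :
    ∃ P : Polynomial Γ(X, ⊤), ∀ y : X,
      P.map (X.presheaf.germ ⊤ y trivial).hom = stalkCharpoly hE f y := by
  have hloc : ∀ x : X, ∃ (W : X.Opens) (_ : x ∈ W) (Q : Polynomial Γ(X, W)), ∀ z : W,
      Q.map (X.presheaf.germ W z.1 z.2).hom = stalkCharpoly hE f z.1 := by
    intro x
    obtain ⟨W, hxW, s, A, hbas, hA⟩ := exists_local_matrix hE f x
    exact ⟨W, hxW, A.charpoly, fun z =>
      (stalkCharpoly_eq_map hE f s A z.1 z.2 (hbas _ _) (hA _ _)).symm⟩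
  have hcoef : ∀ j : ℕ, ∃ n : Γ(X, ⊤), ∀ y : X,
      X.presheaf.germ ⊤ y trivial n = (stalkCharpoly hE f y).coeff j := by
    intro j
    apply exists_glue_O
    intro y
    obtain ⟨W, hyW, Q, hQ⟩ := hloc y
    refine ⟨W, hyW, Q.coeff j, fun z => ?_⟩
    rw [← hQ z, Polynomial.coeff_map]
  choose g hg using hcoef
  refine ⟨∑ j ∈ Finset.range (r + 1), Polynomial.monomial j (g j), fun y => ?_⟩
  ext j
  rw [Polynomial.coeff_map, Polynomial.finsetSum_coeff]
  simp only [Polynomial.coeff_monomial]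
  by_cases hj : j < r + 1
  · rw [Finset.sum_ite_eq' (Finset.range (r + 1)) j, if_pos (Finset.mem_range.2 hj)]
    exact hg j y
  · rw [Finset.sum_ite_eq' (Finset.range (r + 1)) j, if_neg (fun h => hj (Finset.mem_range.1 h)),
      map_zero]
    symm
    apply Polynomial.coeff_eq_zero_of_natDegree_lt
    rw [stalkCharpoly_natDegree]
    omega

/-- **Cayley–Hamilton, globally**: an endomorphism of a module with local bases of constant rank
is killed by a nonzero polynomial with coefficients in the ring of global functions. -/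
theorem exists_annihilating_poly [Nonempty X] {E : X.Modules} {r : ℕ} (hE : HasLocalBases E r)
    (f : End E) :
    letI := endAlgebraΓ E
    ∃ P : Polynomial Γ(X, ⊤), P ≠ 0 ∧ Polynomial.aeval f P = 0 := by
  letI := endAlgebraΓ E
  obtain ⟨P, hP⟩ := exists_global_charpoly hE f
  refine ⟨P, ?_, ?_⟩
  · intro h0
    obtain ⟨y⟩ := ‹Nonempty X›
    have h1 := hP y
    rw [h0, Polynomial.map_zero] at h1
    exact (stalkCharpoly_monic hE f y).ne_zero h1.symm
  · apply eq_zero_of_stalkMapₗ
    intro y m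
    have h1 := Polynomial.map_aeval_eq_aeval_map (stalkEndHom_algebraMap E y) P f
    rw [hP y] at h1
    have h2 : stalkEndHom E y (Polynomial.aeval f P) = 0 := h1.trans (aeval_stalkCharpoly hE f y)
    exact congrArg (fun φ : Module.End (X.presheaf.stalk y) (E.presheaf.stalk y) => φ m) h2

/-- **indecomposable implies local endomorphism ring**, for a module with local bases of constant
rank on a scheme whose ring of global functions is a field. -/
theorem local_of_indec' [Nonempty X] (hF : IsField Γ(X, ⊤)) {E : X.Modules} {r : ℕ}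
    (hE : HasLocalBases E r)
    (hind : ∀ E₁ E₂ : X.Modules, Nonempty (E ≅ E₁ ⊞ E₂) → IsZero E₁ ∨ IsZero E₂)
    (f₁ f₂ : E ⟶ E) (h : IsIso (f₁ + f₂)) : IsIso f₁ ∨ IsIso f₂ := by
  letI := hF.toField
  letI := endAlgebraΓ E
  have hid : ∀ e : End E, e * e = e → e = 0 ∨ e = 1 := fun e he =>
    idem_trivial_of_indec E hind e (by rwa [End.mul_def] at he)
  have hfit : ∀ a : End E, IsUnit a ∨ IsNilpotent a := by
    intro a
    obtain ⟨P, hP0, hPa⟩ := exists_annihilating_poly hE a
    exact isUnit_or_isNilpotent_of_idem' (k := Γ(X, ⊤)) (A := End E) hid a P hP0 hPa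
  have h3 : @IsUnit (End E) _ (f₁ + f₂) := (isUnit_iff_isIso (X := E) (f₁ + f₂)).2 h
  rcases isUnit_or_isUnit_of_fitting (R := End E) hfit f₁ f₂ h3 with h1 | h2
  · left; exact (isUnit_iff_isIso (X := E) f₁).1 h1
  · right; exact (isUnit_iff_isIso (X := E) f₂).1 h2

end Groth.Agent.Helper18.InvEnd
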