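import Mathlib
import Groth.Prelude

set_option autoImplicit false
set_option linter.style.haveILetI false
universe u

namespace Groth.Agent.Helper18.InvNormal

/-- ring-level: a subring of "invariants" of an integrally closed domain is integrally closed. -/
theorem isIntegrallyClosed_of_invariants {A B C : Type u} [CommRing A] [IsDomain A]
    [CommRing B] [IsDomain B] [IsIntegrallyClosed B] [CommRing C]
    (i : A →+* B) (hi : Function.Injective i) (σ p : B →+* C)
    (hinv : ∀ a, σ (i a) = p (i a))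
    (hrange : ∀ b, σ b = p b → ∃ a, i a = b)
    (hnzd : ∀ t : B, t ≠ 0 → ∀ c : C, p t * c = 0 → c = 0) :
    IsIntegrallyClosed A := by
  rw [isIntegrallyClosed_iff (FractionRing A)]
  intro x hx
  have hle : nonZeroDivisors A ≤ (nonZeroDivisors B).comap i := by
    intro s hs
    rw [Submonoid.mem_comap, mem_nonZeroDivisors_iff_ne_zero]
    intro h0
    have : s = 0 := hi (by rw [h0, map_zero])
    exact (mem_nonZeroDivisors_iff_ne_zero.1 hs) this
  let j : FractionRing A →+* FractionRing B := IsLocalization.map (FractionRing B) i hle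
  have hj : ∀ a : A, j (algebraMap A (FractionRing A) a) = algebraMap B (FractionRing B) (i a) :=
    fun a => IsLocalization.map_eq hle a
  -- `j x` is integral over `B`
  have hjx : IsIntegral B (j x) := by
    obtain ⟨q, hq, hqx⟩ := hx
    refine ⟨q.map i, hq.map i, ?_⟩
    have h1 : Polynomial.eval₂ (algebraMap B (FractionRing B)) (j x) (q.map i) =
        j (Polynomial.eval₂ (algebraMap A (FractionRing A)) x q) := by
      rw [Polynomial.eval₂_map, Polynomial.hom_eval₂]
      congr 1
      ext a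
      simp [hj]
    rw [h1, hqx, map_zero]
  obtain ⟨b, hb⟩ := (isIntegrallyClosed_iff (FractionRing B)).1 inferInstance hjx
  obtain ⟨⟨a, s⟩, hxas⟩ := IsLocalization.surj (nonZeroDivisors A) x
  have hxas' : x * algebraMap A (FractionRing A) s = algebraMap A (FractionRing A) a := hxas
  have hs0 : (s : A) ≠ 0 := mem_nonZeroDivisors_iff_ne_zero.1 s.2
  have h2 : b * i s = i a := by
    apply IsFractionRing.injective B (FractionRing B)
    rw [map_mul, hb, ← hj, ← hj, ← map_mul, hxas']
  have his0 : i s ≠ 0 := fun h => hs0 (hi (by rw [h, map_zero]))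
  have h3 : σ b = p b := by
    have e1 : σ b * p (i s) = p b * p (i s) := by
      calc σ b * p (i s) = σ b * σ (i s) := by rw [hinv]
        _ = σ (b * i s) := (map_mul σ _ _).symm
        _ = σ (i a) := by rw [h2]
        _ = p (i a) := hinv a
        _ = p (b * i s) := by rw [h2]
        _ = p b * p (i s) := map_mul p _ _
    have e2 : p (i s) * (σ b - p b) = 0 := by
      rw [mul_sub, mul_comm, e1, mul_comm, sub_self]
    have := hnzd (i s) his0 _ e2
    exact sub_eq_zero.1 this
  obtain ⟨a', ha'⟩ := hrange b h3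
  refine ⟨a', ?_⟩
  have h4 : a' * s = a := by
    apply hi
    rw [map_mul, ha', h2]
  have hs1 : algebraMap A (FractionRing A) s ≠ 0 := by
    intro h
    exact hs0 (IsFractionRing.injective A (FractionRing A) (by rw [h, map_zero]))
  apply mul_right_cancel₀ hs1
  rw [hxas', ← map_mul, h4]

end Groth.Agent.Helper18.InvNormal

namespace Groth.Agent.Helper18.InvNormal

open CategoryTheory AlgebraicGeometry

/-- pulling back a nonzero function along a flat morphism to an integral scheme gives a
non-zero-divisor on sections over any open. -/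
theorem nzd_pullback {X Z : Scheme.{u}} [IsIntegral X] (q : Z ⟶ X) [Flat q] (O : X.Opens)
    (W : Z.Opens) (hW : W ≤ q ⁻¹ᵁ O) (t : Γ(X, O)) (ht : t ≠ 0) (c : Γ(Z, W))
    (hc : (q.appLE O W hW).hom t * c = 0) : c = 0 := by
  apply TopCat.Presheaf.section_ext Z.sheaf W
  intro z hz
  -- affine neighbourhoods
  have hqz : q.base z ∈ O := hW hz
  obtain ⟨X₁, hX₁, hzX₁, hX₁O⟩ := exists_isAffineOpen_mem_and_subset (x := q.base z) (U := O) hqz
  have hz' : z ∈ W ⊓ q ⁻¹ᵁ X₁ := ⟨hz, hzX₁⟩
  obtain ⟨D, hD, hzD, hDW⟩ := exists_isAffineOpen_mem_and_subset (x := z) (U := W ⊓ q ⁻¹ᵁ X₁) hz'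
  have hDW1 : D ≤ W := fun y hy => (hDW hy).1
  have hDX1 : D ≤ q ⁻¹ᵁ X₁ := fun y hy => (hDW hy).2
  -- restrictions
  set t₁ : Γ(X, X₁) := (X.presheaf.map (homOfLE hX₁O).op).hom t with ht₁
  set c₁ : Γ(Z, D) := (Z.presheaf.map (homOfLE hDW1).op).hom c with hc₁
  haveI : Nonempty X₁ := ⟨⟨q.base z, hzX₁⟩⟩
  have ht₁0 : t₁ ≠ 0 := by
    intro h
    apply ht
    apply map_injective_of_isIntegral X (homOfLE hX₁O)
    rw [map_zero]
    exact h
  have hflat : (q.appLE X₁ D hDX1).hom.Flat :=
    HasRingHomProperty.appLE (P := @Flat) q inferInstance ⟨X₁, hX₁⟩ ⟨D, hD⟩ hDX1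
  -- the product vanishes on `D`
  have hprod : (q.appLE X₁ D hDX1).hom t₁ * c₁ = 0 := by
    have h1 := congrArg (Z.presheaf.map (homOfLE hDW1).op).hom hc
    rw [map_mul, map_zero] at h1
    have h2 : (Z.presheaf.map (homOfLE hDW1).op).hom ((q.appLE O W hW).hom t) =
        (q.appLE X₁ D hDX1).hom t₁ := by
      rw [ht₁, ← RingHom.comp_apply, ← RingHom.comp_apply, ← CommRingCat.hom_comp,
        ← CommRingCat.hom_comp, Scheme.Hom.appLE_map, Scheme.Hom.map_appLE]
    rw [h2] at h1
    exact h1
  have hc₁0 : c₁ = 0 := by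
    algebraize [(q.appLE X₁ D hDX1).hom]
    haveI : Module.Flat Γ(X, X₁) Γ(Z, D) := hflat
    have hreg : IsSMulRegular Γ(Z, D) t₁ :=
      Module.Flat.isSMulRegular_of_nonZeroDivisors (mem_nonZeroDivisors_iff_ne_zero.2 ht₁0)
    apply hreg
    show t₁ • c₁ = t₁ • (0 : Γ(Z, D))
    rw [smul_zero, Algebra.smul_def]
    exact hprod
  -- germs
  have hg : (Z.presheaf.germ W z hz).hom c = (Z.presheaf.germ D z hzD).hom c₁ := by
    rw [hc₁, TopCat.Presheaf.germ_res_apply]
  show (Z.presheaf.germ W z hz).hom c = (Z.presheaf.germ W z hz).hom 0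
  rw [hg, hc₁0, map_zero, map_zero]

end Groth.Agent.Helper18.InvNormal
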