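import Mathlib
import Groth.Prelude
import Groth.Agent.Lib.Helper18.InvNormal
import Groth.Agent.Lib.Helper12.NormNormal

set_option autoImplicit false
set_option linter.style.haveILetI false
universe u
open CategoryTheory MonoidalCategory CartesianMonoidalCategory MonObj GrpObj AlgebraicGeometry Limits

namespace Groth.Agent.Helper18.InvNormal

theorem main (k : Type u) [Field k]
    (G X Y : Over (Spec (CommRingCat.of k))) [GrpObj G]
    [LocallyOfFiniteType X.hom] [QuasiCompact X.hom] [IsIntegral X.left]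
    (hX : Pi1.IsNormalScheme X.left)
    (a : AlgGrp.Action G X) (φ : X ⟶ Y) (h : GIT.IsGeomQuot a φ) :
    Pi1.IsNormalScheme Y.left := by
  haveI : IsNoetherian X.left :=
    Groth.Agent.Helper7.NormalSections.noetherianSpace_of_finiteType k X.left X.hom
  haveI : Flat (snd G X).left := by
    show Flat (pullback.snd G.hom X.hom)
    infer_instance
  intro y
  obtain ⟨V, hV, hyV, -⟩ := exists_isAffineOpen_mem_and_subset (x := y) (U := ⊤) trivial
  obtain ⟨x, hx⟩ := h.surj y
  haveI : Nonempty (φ.left ⁻¹ᵁ V : X.left.Opens) :=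
    ⟨⟨x, by show φ.left.base x ∈ V; rw [hx]; exact hyV⟩⟩
  haveI : IsIntegrallyClosed Γ(X.left, φ.left ⁻¹ᵁ V) :=
    Groth.Agent.Helper12.NormNormal.isIntegrallyClosed_sections hX _
  obtain ⟨hinj, hrange⟩ := h.sections V
  have hinj' : Function.Injective (φ.left.app V).hom := hinj
  haveI : IsDomain Γ(Y.left, V) := hinj'.isDomain _
  have hA : IsIntegrallyClosed Γ(Y.left, V) := by
    refine isIntegrallyClosed_of_invariants (φ.left.app V).hom hinj'
      (a.act.left.appLE (φ.left ⁻¹ᵁ V)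
        (a.act.left ⁻¹ᵁ (φ.left ⁻¹ᵁ V) ⊓ (snd G X).left ⁻¹ᵁ (φ.left ⁻¹ᵁ V)) inf_le_left).hom
      ((snd G X).left.appLE (φ.left ⁻¹ᵁ V)
        (a.act.left ⁻¹ᵁ (φ.left ⁻¹ᵁ V) ⊓ (snd G X).left ⁻¹ᵁ (φ.left ⁻¹ᵁ V)) inf_le_right).hom
      ?_ ?_ ?_
    · intro s
      have : (φ.left.app V).hom s ∈ Set.range (φ.left.app V) := ⟨s, rfl⟩
      rw [hrange] at this
      exact this
    · intro b hb
      have : b ∈ Set.range (φ.left.app V) := by
        rw [hrange]
        exact hb
      exact this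
    · intro t ht c hc
      exact nzd_pullback (snd G X).left (φ.left ⁻¹ᵁ V) _ inf_le_right t ht c hc
  letI := Y.left.presheaf.algebra_section_stalk ⟨y, hyV⟩
  haveI := hV.isLocalization_stalk ⟨y, hyV⟩
  have hle : (hV.primeIdealOf ⟨y, hyV⟩).asIdeal.primeCompl ≤ nonZeroDivisors Γ(Y.left, V) := by
    intro s hs
    rw [mem_nonZeroDivisors_iff_ne_zero]
    rintro rfl
    exact hs (Ideal.zero_mem _)
  exact ⟨IsLocalization.isDomain_of_le_nonZeroDivisors _ hle,
    isIntegrallyClosed_of_isLocalization _ _ hle⟩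

end Groth.Agent.Helper18.InvNormal
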