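import Groth.Agent.Lib.Helper29.GLinOrbit
import Groth.Agent.Lib.Helper29.GITQuot
import Groth.Prelude.Def_W4bk6mukai47Inv

/-!
# Translation between the `InvQ` formulation (points, `Comod.act`) and `GLin` (helper18)
-/

open TensorProduct

set_option linter.unusedSectionVars false
set_option autoImplicit false

namespace Groth.Agent.Helper18.InvQ

open Groth.Agent.Helper29.H12Copy Groth.Agent.Helper29.Reynolds Groth.Agent.Helper29.GLinOrbit

universe u

section Basic

variable {k : Type u} [Field k] {A : Type u} [CommRing A] [Bialgebra k A]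
variable {R : Type u} [CommRing R] [Algebra k R] [HopfRep.Comod k A R] [GLin.IsCoactAlg k A R]

/-- `x (g · f) = g (orbit map of x at f)`. -/
theorem apply_act (x : R →ₐ[k] k) (g : A →ₐ[k] k) (f : R) :
    x (HopfRep.Comod.act k A R g f) = g (GLin.orbitHom k A x f) := by
  rw [orbitHom_apply]
  unfold HopfRep.Comod.act
  simp only [LinearMap.comp_apply, LinearEquiv.coe_coe]
  generalize HopfRep.Comod.coact (k := k) (A := A) f = t
  induction t using TensorProduct.induction_on with
  | zero => simp
  | tmul r a => simp [mul_comm]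
  | add t s ht hs => simp only [map_add, ht, hs]

/-- An element of a finite type algebra over an algebraically closed field killed by all points
is nilpotent. -/
theorem isNilpotent_of_forall_point [IsAlgClosed k] [Algebra.FiniteType k A] (a : A)
    (h : ∀ g : A →ₐ[k] k, g a = 0) : IsNilpotent a := by
  by_contra hn
  -- localize away from a
  -- a ∉ nilradical = ⋂ primes; Jacobson: = ⋂ maximal
  have hjac : IsJacobsonRing A := by
    haveI : IsJacobsonRing k := inferInstance
    exact isJacobsonRing_of_finiteType (A := k) (B := A)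
  have hrad : (⊥ : Ideal A).jacobson = (⊥ : Ideal A).radical :=
    (Ideal.radical_eq_jacobson (⊥ : Ideal A)).symm
  have hmem : a ∈ (⊥ : Ideal A).jacobson := by
    rw [Ideal.jacobson, Ideal.mem_sInf]
    rintro m ⟨-, hm⟩
    by_contra ham
    -- point with kernel m
    obtain ⟨z, hz⟩ := exists_point_of_ne_top (k := k) (R := A) m hm.ne_top
    have hz' : RingHom.ker z = m := (hm.eq_of_le (RingHom.ker_ne_top _) hz).symm
    apply ham
    rw [← hz', RingHom.mem_ker]
    exact h z
  rw [hrad] at hmem
  obtain ⟨n, hn'⟩ := hmem
  exact hn ⟨n, by simpa using hn'⟩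

/-- The `InvQ`-style description of the orbit closure agrees with `GLin.InOrbitClosure`. -/
theorem inOrbitClosure_iff [IsAlgClosed k] [Algebra.FiniteType k A] (x z : R →ₐ[k] k) :
    (∀ f : R, (∀ g : A →ₐ[k] k, x (HopfRep.Comod.act k A R g f) = 0) → z f = 0) ↔
      GLin.InOrbitClosure k A x z := by
  constructor
  · intro h f hf
    rw [RingHom.mem_ker] at hf ⊢
    apply h
    intro g
    rw [apply_act, hf, map_zero]
  · intro h f hf
    have hnil : IsNilpotent (GLin.orbitHom k A x f) := by
      apply isNilpotent_of_forall_point (k := k)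
      intro g
      rw [← apply_act]
      exact hf g
    obtain ⟨n, hn⟩ := hnil
    have h1 : f ^ n ∈ RingHom.ker (GLin.orbitHom k A x) := by
      rw [RingHom.mem_ker, map_pow, hn]
    have h2 := h h1
    rw [RingHom.mem_ker, map_pow] at h2
    exact pow_eq_zero_iff (M₀ := k) (fun h0 => by
      subst h0
      rw [pow_zero] at h2
      exact one_ne_zero h2) |>.1 h2

/-- the `InvQ`-style description of a translate -/
theorem forall_eq_act_iff (y z : R →ₐ[k] k) (g : A →ₐ[k] k) :
    (∀ f : R, z f = y (HopfRep.Comod.act k A R g f)) ↔ z = GLin.actPt k g y := by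
  constructor
  · intro h
    apply AlgHom.ext
    intro f
    rw [h f, apply_act]
    rfl
  · intro h f
    rw [h, apply_act]
    rfl

/-- the `InvQ`-style stabilizer -/
theorem stab_set_eq (x : R →ₐ[k] k) :
    {g : A →ₐ[k] k | ∀ f : R, x (HopfRep.Comod.act k A R g f) = x f} =
      {g : A →ₐ[k] k | GLin.actPt k g x = x} := by
  ext g
  simp only [Set.mem_setOf_eq]
  rw [eq_comm, ← forall_eq_act_iff]
  exact forall_congr' (fun f => eq_comm)

/-- A point of the quotient killing the invariants of a stable ideal `I` lifts to a point of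
`V(I)`. -/
theorem exists_point_over_of_isSubcomod [IsAlgClosed k] [Algebra.FiniteType k R]
    (hG : HopfRep.IsLinearlyReductive k A) (I : Ideal R)
    (hI : HopfRep.IsSubcomod (k := k) (A := A) (I.restrictScalars k))
    (y : GLin.invariants k A R →ₐ[k] k)
    (hy : ∀ f : GLin.invariants k A R, (f : R) ∈ I → y f = 0) :
    ∃ x : R →ₐ[k] k, (∀ f ∈ I, x f = 0) ∧ x.comp (GLin.invariants k A R).val = y := by
  obtain ⟨E, hE⟩ := exists_reynolds R hG
  let E' : R →ₗ[k] ↥(GLin.invariants k A R) :=
    LinearMap.codRestrict (Subalgebra.toSubmodule (GLin.invariants k A R)) E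
      (fun r => hE.apply_mem r)
  have hE'mul : ∀ (s : R) (a : ↥(GLin.invariants k A R)), E' (s * (a : R)) = E' s * a := by
    intro s a
    apply Subtype.ext
    exact reynolds_mul hG hE s a.1 a.2
  have hE'one : E' 1 = 1 := Subtype.ext (reynolds_one hE)
  -- the ideal of elements all of whose multiples are killed by `y ∘ E'`
  let N : Ideal R :=
    { carrier := {r | ∀ s : R, y (E' (s * r)) = 0}
      add_mem' := by
        intro a b ha hb s
        rw [mul_add, map_add, map_add, ha s, hb s, add_zero]
      zero_mem' := by
        intro s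
        rw [mul_zero, map_zero, map_zero]
      smul_mem' := by
        intro c r hr s
        rw [smul_eq_mul, ← mul_assoc]
        exact hr (s * c) }
  have hIN : I ≤ N := by
    intro r hr s
    apply hy
    have h1 : s * r ∈ I.restrictScalars k := I.mul_mem_left s hr
    exact reynolds_mem hG hE _ hI _ h1
  have hmapN : Ideal.map (GLin.invariants k A R).val (RingHom.ker y) ≤ N := by
    rw [Ideal.map_le_iff_le_comap]
    intro a ha s
    have ha' : y a = 0 := ha
    rw [show (GLin.invariants k A R).val a = (a : R) from rfl, hE'mul, map_mul, ha', mul_zero]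
  have hN : N ≠ ⊤ := by
    intro htop
    have h1 : (1 : R) ∈ N := by rw [htop]; trivial
    have := h1 1
    rw [mul_one, hE'one, map_one] at this
    exact one_ne_zero this
  obtain ⟨x, hx⟩ := exists_point_of_ne_top (k := k) N hN
  refine ⟨x, fun f hf => hx (hIN hf),
    (eq_of_ker_le y (x.comp (GLin.invariants k A R).val) ?_).symm⟩
  intro a ha
  rw [RingHom.mem_ker, AlgHom.comp_apply]
  exact hx (hmapN (Ideal.mem_map_of_mem _ ha))

end Basic

end Groth.Agent.Helper18.InvQ
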