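import Mathlib
import Groth.Prelude
import Groth.Agent.Lib.Helper18.FlatEpi
import Groth.Agent.Lib.Helper18.GrpFppf

set_option autoImplicit false
universe u
open CategoryTheory MonoidalCategory CartesianMonoidalCategory MonObj GrpObj AlgebraicGeometry Limits
open Groth.Agent.Helper28.AlgGrpShear

namespace Groth.Agent.Helper18.KerAct2

variable {S : Scheme.{u}}

instance quasiCompact_whiskerRight {A B : Over S} (i : A ⟶ B) [QuasiCompact i.left] (Z : Over S) :
    QuasiCompact (i ▷ Z).left :=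
  MorphismProperty.of_isPullback (P := @QuasiCompact)
    (Groth.Agent.Helper18.GrpFppf.isPullback_left (isPullback_fst i Z)) inferInstance

theorem action_ext {G X : Over S} [GrpObj G] (b b' : AlgGrp.Action G X) (h : b.act = b'.act) :
    b = b' := by
  cases b; cases b'
  simp only at h
  subst h
  rfl

theorem main {G N Q X : Over S} [GrpObj G] (a : AlgGrp.Action G X)
    [GrpObj N] (n : N ⟶ G) [IsMonHom n]
    (hN : ∀ (T : Over S) (g : T ⟶ G),
      (∃ m : T ⟶ N, m ≫ n = g) ↔
        ∀ (T' : Over S) (s : T' ⟶ T) (x : T' ⟶ X), lift (s ≫ g) x ≫ a.act = x)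
    [GrpObj Q] (π : G ⟶ Q) [IsMonHom π] [Flat π.left] [Surjective π.left] [QuasiCompact π.left]
    (hker : AlgGrp.IsKernel n π) :
    (∃! b : AlgGrp.Action Q X, (π ▷ X) ≫ b.act = a.act) ∧
    ∀ b : AlgGrp.Action Q X, (π ▷ X) ≫ b.act = a.act →
      (∀ (T : Over S) (q : T ⟶ Q),
        (∀ (T' : Over S) (s : T' ⟶ T) (x : T' ⟶ X), lift (s ≫ q) x ≫ b.act = x) → q = 1) ∧
      (Surjective (lift (snd G X) a.act).left ↔ Surjective (lift (snd Q X) b.act).left) ∧
      (IsDominant (lift (snd G X) a.act).left ↔ IsDominant (lift (snd Q X) b.act).left) := by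
  haveI : Epi (π ▷ X) := FlatEpi.epi_of_flat_surj _
  haveI : EffectiveEpi (π ▷ X).left := inferInstance
  refine ⟨?_, ?_⟩
  · obtain ⟨bact, hb⟩ := FlatEpi.exists_desc (π ▷ X) a.act (by
      intro T g₁ g₂ h12
      have h1 := congrArg (fun φ => φ ≫ fst Q X) h12
      have h2 := congrArg (fun φ => φ ≫ snd Q X) h12
      simp only [Category.assoc, whiskerRight_fst, whiskerRight_snd] at h1 h2
      have e1 : g₁ = lift (g₁ ≫ fst G X) (g₁ ≫ snd G X) := by
        apply CartesianMonoidalCategory.hom_ext <;> simp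
      have e2 : g₂ = lift (g₂ ≫ fst G X) (g₁ ≫ snd G X) := by
        apply CartesianMonoidalCategory.hom_ext
        · simp
        · simp [h2]
      have h3 : ((g₁ ≫ fst G X)⁻¹ * (g₂ ≫ fst G X)) ≫ π = 1 := by
        rw [MonObj.mul_comp, GrpObj.inv_comp, Category.assoc, Category.assoc, h1, inv_mul_cancel]
      obtain ⟨m, hm⟩ := Groth.Agent.Helper18.GrpFppf.IsKernel.exists_lift hker _ h3
      have h4 := (hN T _).1 ⟨m, hm⟩ T (𝟙 T) (g₁ ≫ snd G X)
      rw [Category.id_comp] at h4
      rw [e2, e1]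
      simp only [lift_fst, lift_snd]
      have h5 : g₂ ≫ fst G X = (g₁ ≫ fst G X) * ((g₁ ≫ fst G X)⁻¹ * (g₂ ≫ fst G X)) := by
        rw [mul_inv_cancel_left]
      rw [h5, act_mul, h4])
    have hone : (η[Q] ▷ X) ≫ bact = (λ_ X).hom := by
      rw [← IsMonHom.one_hom π, comp_whiskerRight, Category.assoc, hb, a.one_act]
    have hmul : (μ[Q] ▷ X) ≫ bact = (α_ Q Q X).hom ≫ (Q ◁ bact) ≫ bact := by
      haveI : Epi ((π ⊗ₘ π) ▷ X) := FlatEpi.epi_of_flat_surj _
      rw [← cancel_epi ((π ⊗ₘ π) ▷ X)]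
      have e1 : ((π ⊗ₘ π) ▷ X) ≫ (α_ Q Q X).hom = (α_ G G X).hom ≫ (π ⊗ₘ (π ▷ X)) := by
        rw [← tensorHom_id, associator_naturality, tensorHom_id]
      have e2 : (π ⊗ₘ (π ▷ X)) ≫ (Q ◁ bact) = (G ◁ a.act) ≫ (π ▷ X) := by
        rw [← id_tensorHom, tensorHom_comp_tensorHom, Category.comp_id, hb, ← id_tensorHom,
          ← tensorHom_id, tensorHom_comp_tensorHom, Category.id_comp, Category.comp_id]
      rw [← Category.assoc, ← comp_whiskerRight, ← IsMonHom.mul_hom π, comp_whiskerRight,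
        Category.assoc, hb, a.mul_act, ← Category.assoc ((π ⊗ₘ π) ▷ X), e1, Category.assoc,
        ← Category.assoc (π ⊗ₘ (π ▷ X)), e2, Category.assoc, hb]
    refine ⟨⟨bact, hone, hmul⟩, hb, ?_⟩
    intro b' hb'
    apply action_ext
    show b'.act = bact
    rw [← cancel_epi (π ▷ X), hb, hb']
  · intro b hb
    have hgraph : lift (snd G X) a.act = (π ▷ X) ≫ lift (snd Q X) b.act := by
      rw [comp_lift, whiskerRight_snd, hb]
    refine ⟨?_, ?_, ?_⟩
    · intro T q hq
      obtain ⟨T', c, h, _, hcf, hcs, _, hh⟩ := Groth.Agent.Helper18.GrpFppf.exists_cover_lift π q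
      haveI := hcf
      haveI := hcs
      haveI : Epi c := FlatEpi.epi_of_flat_surj c
      obtain ⟨m, hm⟩ := (hN T' h).2 (by
        intro T'' s x
        rw [← hb, ← Category.assoc, lift_whiskerRight, Category.assoc, hh, ← Category.assoc]
        exact hq T'' (s ≫ c) x)
      have h1 : h ≫ π = 1 := by
        rw [← hm, Category.assoc, hker.w, ← Category.assoc, toUnit_unique (m ≫ toUnit N) (toUnit _)]
        rfl
      rw [← cancel_epi c, ← hh, h1, MonObj.comp_one]
    · rw [hgraph, Over.comp_left]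
      exact Surjective.comp_iff _ _
    · rw [hgraph, Over.comp_left]
      exact IsDominant.comp_iff _ _

end Groth.Agent.Helper18.KerAct2
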