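import Groth.Agent.Lib.Helper18.QuotGen

set_option autoImplicit false
set_option linter.unusedSimpArgs false
set_option linter.style.haveILetI false
set_option linter.unusedSectionVars false
set_option backward.isDefEq.respectTransparency false
set_option backward.isDefEq.respectTransparency.types false
universe u
open CategoryTheory CategoryTheory.Limits MonoidalCategory CartesianMonoidalCategory MonObj GrpObj AlgebraicGeometry
open AlgSt FibCat Opposite

/-! The groupoid of `T`-points of `[X/G]` when every torsor over `T` is trivial. -/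

namespace Groth.Agent.Helper18.LangStack

open Groth.Agent.Helper18.QuotObjLoc Groth.Agent.Helper18.QuotGen

variable {S : Scheme.{u}} {G : Over S} [GrpObj G] {X : Over S}
variable (K : Precoverage Scheme.{u}) [K.HasIsos] (aX : AlgGrp.Action G X) (T : Over S)

/-- the trivial object attached to a `T`-point of `X`, in the fibre over `T` -/
noncomputable def triv (x : T ⟶ X) : (QuotSt K G aX).p.Fiber T :=
  ⟨(QK K aX).obj (⟨T, ⟨x⟩⟩ : (ofSch X).obj), rfl⟩

/-- the canonical section of the trivial object -/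
noncomputable def trivSec (x : T ⟶ X) : T ⟶ (triv K aX T x).1.P := lift (1 : T ⟶ G) (𝟙 T)

theorem trivSec_π (x : T ⟶ X) : trivSec K aX T x ≫ (triv K aX T x).1.π = eqToHom (triv K aX T x).2.symm := by
  change lift (1 : T ⟶ G) (𝟙 _) ≫ snd G T = 𝟙 _
  exact lift_snd _ _

theorem trivSec_φ (x : T ⟶ X) : trivSec K aX T x ≫ (triv K aX T x).1.φ = x := by
  change lift (1 : T ⟶ G) (𝟙 _) ≫ (G ◁ x) ≫ aX.act = x
  rw [lift_whiskerLeft_assoc, Category.id_comp, AlgGrp.Action.lift_one_act]

theorem iso_triv (A : (QuotSt K G aX).p.Fiber T) (s : T ⟶ A.1.P) (hs : s ≫ A.1.π = eqToHom A.2.symm) :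
    Nonempty (A ≅ triv K aX T (s ≫ A.1.φ)) := by
  have hg : lift (1 : T ⟶ G) (trivSec K aX T (s ≫ A.1.φ) ≫ (triv K aX T (s ≫ A.1.φ)).1.φ) ≫ aX.act =
      s ≫ A.1.φ := by
    rw [trivSec_φ, AlgGrp.Action.lift_one_act]
  exact fiber_iso K aX T A.1 (triv K aX T (s ≫ A.1.φ)).1 A.2 (triv K aX T (s ≫ A.1.φ)).2 s hs
    (trivSec K aX T _) (trivSec_π K aX T _) 1 hg

theorem triv_iso_iff (x x' : T ⟶ X) :
    Nonempty (triv K aX T x ≅ triv K aX T x') ↔ ∃ g : T ⟶ G, lift g x ≫ aX.act = x' := by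
  constructor
  · rintro ⟨e⟩
    have hb : e.hom.1.base = eqToHom (triv K aX T x).2 ≫ eqToHom (triv K aX T x').2.symm := by
      haveI hl : (QuotSt K G aX).p.IsHomLift (𝟙 T) e.hom.1 := e.hom.2
      have := IsHomLift.fac' (QuotSt K G aX).p (𝟙 T) e.hom.1
      rw [Category.id_comp] at this
      exact this
    obtain ⟨g, hg⟩ := exists_translate_of_iso K aX T (triv K aX T x).1 (triv K aX T x').1
      (triv K aX T x).2 (triv K aX T x').2 (trivSec K aX T x) (trivSec_π K aX T x)
      (trivSec K aX T x') (trivSec_π K aX T x') e.hom.1 hb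
    rw [trivSec_φ, trivSec_φ] at hg
    exact ⟨g, hg⟩
  · rintro ⟨g, hg⟩
    have hg' : lift g (trivSec K aX T x ≫ (triv K aX T x).1.φ) ≫ aX.act =
        trivSec K aX T x' ≫ (triv K aX T x').1.φ := by
      rw [trivSec_φ, trivSec_φ]; exact hg
    obtain ⟨e⟩ := fiber_iso K aX T (triv K aX T x').1 (triv K aX T x).1
      (triv K aX T x').2 (triv K aX T x).2 (trivSec K aX T x') (trivSec_π K aX T x')
      (trivSec K aX T x) (trivSec_π K aX T x) g hg'
    exact ⟨e.symm⟩

/-- the automorphism of the trivial object attached to a stabilizing point of `G` -/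
noncomputable def autOfStab (x : T ⟶ X) (g : {g : T ⟶ G // lift g x ≫ aX.act = x}) :
    Aut (triv K aX T x) :=
  have hg' : lift g.1 (eqToHom (rfl : T = T) ≫ x) ≫ aX.act = x := by
    rw [eqToHom_refl, Category.id_comp]; exact g.2
  let e := trivIso K aX (⟨T, ⟨x⟩⟩ : (ofSch X).obj) (⟨T, ⟨x⟩⟩ : (ofSch X).obj) rfl g.1 hg'
  have l1 : (QuotSt K G aX).p.IsHomLift (𝟙 T) e.hom :=
    isHomLift_of_base K aX T (triv K aX T x).2 (triv K aX T x).2 e.hom (by
      rw [trivIso_hom_base]; simp; rfl)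
  have l2 : (QuotSt K G aX).p.IsHomLift (𝟙 T) e.inv :=
    isHomLift_of_base K aX T (triv K aX T x).2 (triv K aX T x).2 e.inv (by
      rw [trivIso_inv_base]; simp; rfl)
  ⟨⟨e.hom, l1⟩, ⟨e.inv, l2⟩, Subtype.ext e.hom_inv_id, Subtype.ext e.inv_hom_id⟩

theorem autOfStab_top (x : T ⟶ X) (g : {g : T ⟶ G // lift g x ≫ aX.act = x}) :
    (autOfStab K aX T x g).hom.1.top = lift (fst G T * (snd G T ≫ g.1)) (snd G T ≫ 𝟙 T) := rfl

theorem autOfStab_base (x : T ⟶ X) (g : {g : T ⟶ G // lift g x ≫ aX.act = x}) :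
    (autOfStab K aX T x g).hom.1.base = 𝟙 T := rfl

theorem autOfStab_bijective (x : T ⟶ X) : Function.Bijective (autOfStab K aX T x) := by
  constructor
  · intro g g' h
    have h1 := congrArg (fun α : Aut (triv K aX T x) => α.hom.1.top) h
    simp only [autOfStab_top] at h1
    have h2 := congrArg (fun k => lift (1 : T ⟶ G) (𝟙 T) ≫ k ≫ fst G T) h1
    simp only [lift_fst, comp_mul, lift_snd_assoc, Category.id_comp, _root_.one_mul] at h2
    exact Subtype.ext h2
  · intro α
    haveI hl : (QuotSt K G aX).p.IsHomLift (𝟙 T) α.hom.1 := α.hom.2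
    have hb : α.hom.1.base = 𝟙 T := by
      have := IsHomLift.fac' (QuotSt K G aX).p (𝟙 T) α.hom.1
      rw [Category.id_comp] at this
      simp only [eqToHom_refl, Category.comp_id] at this
      exact this
    obtain ⟨g, hg, htop⟩ := part1_12838 aX (𝟙 T) x x α.hom.1.top
      (by have := α.hom.1.cart.w; rw [hb] at this; exact this) α.hom.1.eqv α.hom.1.wφ
    rw [Category.id_comp] at hg
    refine ⟨⟨g, hg⟩, ?_⟩
    apply Iso.ext
    apply Subtype.ext
    apply QuotObj.hom_ext
    · rw [hb]; rfl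
    · rw [htop]; rfl

theorem card_aut_triv (x : T ⟶ X) :
    Nat.card (Aut (triv K aX T x)) = Nat.card {g : T ⟶ G // lift g x ≫ aX.act = x} :=
  (Nat.card_congr (Equiv.ofBijective _ (autOfStab_bijective K aX T x))).symm

end Groth.Agent.Helper18.LangStack
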