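import Mathlib

set_option autoImplicit false
set_option linter.style.haveILetI false
set_option linter.unusedSectionVars false
universe u v w

/-! Abstract mass formula for an action groupoid. -/

namespace Groth.Agent.Helper18.LangStack

open MulAction

theorem mass_formula (Γ : Type u) [Group Γ] [Finite Γ] (Ω : Type v) [MulAction Γ Ω] [Finite Ω]
    (Q : Type w) (x : Q → Ω) (a : Q → ℕ)
    (h1 : ∀ c c' : Q, (∃ g : Γ, g • x c = x c') → c = c')
    (h2 : ∀ y : Ω, ∃ (c : Q) (g : Γ), g • x c = y)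
    (h3 : ∀ c, a c = Nat.card (stabilizer Γ (x c))) :
    Finite Q ∧ ∑ᶠ c : Q, ((a c : ℚ))⁻¹ = (Nat.card Ω : ℚ) / (Nat.card Γ : ℚ) := by
  classical
  have hinj : Function.Injective x := fun c c' h => h1 c c' ⟨1, by rw [one_smul, h]⟩
  haveI hQ : Finite Q := Finite.of_injective x hinj
  refine ⟨hQ, ?_⟩
  haveI := Fintype.ofFinite Q
  haveI := Fintype.ofFinite Γ
  have hΓ : (Nat.card Γ : ℚ) ≠ 0 := by
    have : 0 < Nat.card Γ := Nat.card_pos
    exact_mod_cast this.ne'
  -- orbit-stabilizer
  have hos : ∀ c, Nat.card (orbit Γ (x c)) * a c = Nat.card Γ := by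
    intro c
    haveI := Fintype.ofFinite (orbit Γ (x c))
    haveI := Fintype.ofFinite (stabilizer Γ (x c))
    rw [h3, Nat.card_eq_fintype_card, Nat.card_eq_fintype_card, Nat.card_eq_fintype_card]
    exact card_orbit_mul_card_stabilizer_eq_card_group Γ (x c)
  have hterm : ∀ c, ((a c : ℚ))⁻¹ = (Nat.card (orbit Γ (x c)) : ℚ) / (Nat.card Γ : ℚ) := by
    intro c
    have h := hos c
    have ha : (a c : ℚ) ≠ 0 := by
      intro h0
      have : a c = 0 := by exact_mod_cast h0
      rw [this, mul_zero] at h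
      exact (Nat.card_pos (α := Γ)).ne' h.symm
    rw [eq_div_iff hΓ, ← h]
    push_cast
    field_simp
  -- decomposition of Ω
  let e : (Σ c : Q, orbit Γ (x c)) → Ω := fun p => p.2.1
  have he : Function.Bijective e := by
    constructor
    · rintro ⟨c, y, hy⟩ ⟨c', y', hy'⟩ h
      change y = y' at h
      subst h
      obtain ⟨g, hg⟩ := hy
      obtain ⟨g', hg'⟩ := hy'
      have : c = c' := h1 c c' ⟨g'⁻¹ * g, by
        rw [mul_smul]
        have e1 : g • x c = y := hg
        have e2 : g' • x c' = y := hg'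
        rw [e1, ← e2, inv_smul_smul]⟩
      subst this
      rfl
    · intro y
      obtain ⟨c, g, hg⟩ := h2 y
      exact ⟨⟨c, y, ⟨g, hg⟩⟩, rfl⟩
  have hcard : Nat.card Ω = ∑ c : Q, Nat.card (orbit Γ (x c)) := by
    rw [← Nat.card_congr (Equiv.ofBijective e he), Nat.card_sigma]
  rw [finsum_eq_sum_of_fintype]
  simp only [hterm]
  rw [← Finset.sum_div, hcard]
  push_cast
  rfl

end Groth.Agent.Helper18.LangStack
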