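import Mathlib
import Groth.Prelude
import Groth.Agent.Lib.Helper18.Lang8
import Groth.Agent.Lib.Helper18.LangStack1
import Groth.Agent.Lib.Helper18.LangStack2

set_option autoImplicit false
set_option linter.style.haveILetI false
universe u
open CategoryTheory AlgebraicGeometry Limits

namespace Groth.Agent.Helper18.LangStack

/-- sections of a finitely generated algebra over a finite field are finite in number -/
theorem finite_retractions {k A : Type u} [Field k] [Finite k] [CommRing A] (ρ : k →+* A)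
    (hρ : ρ.FiniteType) : Finite {ψ : A →+* k // ψ.comp ρ = RingHom.id k} := by
  classical
  algebraize [ρ]
  obtain ⟨s, hs⟩ := (Algebra.FiniteType.out : (⊤ : Subalgebra k A).FG)
  have hcomm : ∀ (ψ : {ψ : A →+* k // ψ.comp ρ = RingHom.id k}) (r : k),
      ψ.1 (algebraMap k A r) = algebraMap k k r := fun ψ r =>
    congrArg (fun f : k →+* k => f r) ψ.2
  let toAlg : {ψ : A →+* k // ψ.comp ρ = RingHom.id k} → (A →ₐ[k] k) := fun ψ =>
    { toRingHom := ψ.1, commutes' := hcomm ψ }
  have hinj : Function.Injective (fun ψ : {ψ : A →+* k // ψ.comp ρ = RingHom.id k} =>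
      fun a : s => ψ.1 a.1) := by
    intro ψ ψ' h
    have h1 : toAlg ψ = toAlg ψ' := by
      apply AlgHom.ext_of_adjoin_eq_top hs
      intro a ha
      exact congrFun h ⟨a, ha⟩
    apply Subtype.ext
    ext a
    exact congrArg (fun f : A →ₐ[k] k => f a) h1
  exact Finite.of_injective _ hinj

end Groth.Agent.Helper18.LangStack

namespace Groth.Agent.Helper18.LangStack

theorem specField_eq (F : Type u) [Field F] (x y : Spec (CommRingCat.of F)) : x = y :=
  Subsingleton.elim (α := PrimeSpectrum F) x y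

/-- a quasi-compact scheme locally of finite type over a finite field has finitely many rational
points -/
theorem finite_sections (k : Type u) [Field k] [Finite k] (X : Over (Spec (CommRingCat.of k)))
    [LocallyOfFiniteType X.hom] [QuasiCompact X.hom] :
    Finite (Over.mk (𝟙 (Spec (CommRingCat.of k))) ⟶ X) := by
  haveI : CompactSpace X.left := (quasiCompact_iff_compactSpace X.hom).mp inferInstance
  obtain ⟨s, hsfin, hs⟩ :=
    (isCompact_iff_finite_and_eq_biUnion_affineOpens (X := X.left) (U := ⊤)).mp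
      (by simpa using isCompact_univ)
  haveI : Finite s := hsfin.to_subtype
  have hft : ∀ U : s, (Spec.preimage (U.1.2.fromSpec ≫ X.hom)).hom.FiniteType := by
    intro U
    have h1 : LocallyOfFiniteType (U.1.2.fromSpec ≫ X.hom) := inferInstance
    rw [← Spec.map_preimage (U.1.2.fromSpec ≫ X.hom)] at h1
    exact (HasRingHomProperty.Spec_iff (P := @LocallyOfFiniteType)).mp h1
  haveI : ∀ U : s, Finite {ψ : Γ(X.left, U.1.1) →+* k //
      ψ.comp (Spec.preimage (U.1.2.fromSpec ≫ X.hom)).hom = RingHom.id k} := fun U =>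
    finite_retractions _ (hft U)
  let Φ : (Σ U : s, {ψ : Γ(X.left, U.1.1) →+* k //
      ψ.comp (Spec.preimage (U.1.2.fromSpec ≫ X.hom)).hom = RingHom.id k}) →
      (Over.mk (𝟙 (Spec (CommRingCat.of k))) ⟶ X) := fun p =>
    Over.homMk (Spec.map (CommRingCat.ofHom p.2.1) ≫ p.1.1.2.fromSpec) (by
      change (Spec.map (CommRingCat.ofHom p.2.1) ≫ p.1.1.2.fromSpec) ≫ X.hom = 𝟙 _
      have e1 : p.1.1.2.fromSpec ≫ X.hom =
          Spec.map (Spec.preimage (p.1.1.2.fromSpec ≫ X.hom)) := (Spec.map_preimage _).symm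
      have e2 : Spec.preimage (p.1.1.2.fromSpec ≫ X.hom) ≫ CommRingCat.ofHom p.2.1 = 𝟙 _ := by
        ext r
        exact congrArg (fun f : k →+* k => f r) p.2.2
      rw [Category.assoc]
      calc Spec.map (CommRingCat.ofHom p.2.1) ≫ p.1.1.2.fromSpec ≫ X.hom
          = Spec.map (CommRingCat.ofHom p.2.1) ≫
              Spec.map (Spec.preimage (p.1.1.2.fromSpec ≫ X.hom)) := congrArg _ e1
        _ = Spec.map (Spec.preimage (p.1.1.2.fromSpec ≫ X.hom) ≫ CommRingCat.ofHom p.2.1) :=
            (Spec.map_comp _ _).symm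
        _ = 𝟙 _ := by rw [e2, Spec.map_id])
  refine Finite.of_surjective Φ ?_
  intro σ
  let pt : Spec (CommRingCat.of k) := (⊥ : PrimeSpectrum k)
  have hmem : σ.left pt ∈ (⊤ : X.left.Opens) := trivial
  rw [hs] at hmem
  simp only [TopologicalSpace.Opens.mem_iSup] at hmem
  obtain ⟨U, hUs, hU⟩ := hmem
  have hrange : Set.range σ.left ⊆ Set.range U.2.fromSpec := by
    rintro _ ⟨y, rfl⟩
    rw [U.2.range_fromSpec, specField_eq k y pt]
    exact hU
  have hfac : Spec.map (Spec.preimage (IsOpenImmersion.lift U.2.fromSpec σ.left hrange)) ≫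
      U.2.fromSpec = σ.left := by
    rw [Spec.map_preimage, IsOpenImmersion.lift_fac]
  have hσ : σ.left ≫ X.hom = 𝟙 _ := Over.w σ
  have hret : (Spec.preimage (IsOpenImmersion.lift U.2.fromSpec σ.left hrange)).hom.comp
      (Spec.preimage (U.2.fromSpec ≫ X.hom)).hom = RingHom.id k := by
    have h1 : Spec.map (Spec.preimage (U.2.fromSpec ≫ X.hom) ≫
        Spec.preimage (IsOpenImmersion.lift U.2.fromSpec σ.left hrange)) = Spec.map (𝟙 _) := by
      rw [Spec.map_comp, Spec.map_preimage, Spec.map_preimage, ← Category.assoc,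
        IsOpenImmersion.lift_fac, hσ, Spec.map_id]
      rfl
    have h2 := Spec.map_injective h1
    exact congrArg CommRingCat.Hom.hom h2
  refine ⟨⟨⟨U, hUs⟩, ⟨(Spec.preimage (IsOpenImmersion.lift U.2.fromSpec σ.left hrange)).hom, hret⟩⟩,
    ?_⟩
  apply Over.OverMorphism.ext
  exact hfac

end Groth.Agent.Helper18.LangStack

namespace Groth.Agent.Helper18.LangStack

open MonoidalCategory CartesianMonoidalCategory MonObj GrpObj AlgSt

variable (F : Type u) [Field F] [Finite F]
  (G X : Over (Spec (CommRingCat.of F))) [GrpObj G] (aX : AlgGrp.Action G X)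
  [Smooth G.hom] [IsAffineHom G.hom] [ConnectedSpace ↥G.left]

/-- Lang: every fppf torsor under a smooth connected affine group over a finite field is trivial -/
theorem exists_section_fiber (A : QuotObj Scheme.fppfPrecoverage G aX)
    (hA : A.base = Over.mk (𝟙 (Spec (CommRingCat.of F)))) :
    ∃ s : Over.mk (𝟙 (Spec (CommRingCat.of F))) ⟶ A.P, s ≫ A.π = eqToHom hA.symm := by
  obtain ⟨bA, PA, actA, πA, cartA, locA, φA, eqvA⟩ := A
  change bA = Over.mk (𝟙 _) at hA
  subst hA
  haveI : IsAffine G.left := isAffine_of_isAffineHom G.hom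
  -- nonempty
  obtain ⟨R, hR, hsec⟩ := locA
  obtain ⟨Y, b, hb, y, -⟩ := ((Presieve.mem_comap_jointlySurjectivePrecoverage_iff _).1 hR.1)
    ((⊥ : PrimeSpectrum F) : ↥(Spec (CommRingCat.of F)))
  obtain ⟨s, -⟩ := hsec b hb
  haveI : Nonempty ↥PA.left := ⟨s y⟩
  -- pseudo-torsor
  have hprod : IsPullback (fst PA PA) (snd PA PA) πA πA :=
    IsPullback.mk' (Over.mkIdTerminal.hom_ext _ _)
      (fun T φ φ' h1 h2 => CartesianMonoidalCategory.hom_ext _ _ h1 h2)
      (fun T a b _ => ⟨lift a b, lift_fst _ _, lift_snd _ _⟩)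
  have hiso : IsIso (lift actA.act (snd G PA)) := by
    have : lift actA.act (snd G PA) = (cartA.isoIsPullback _ _ hprod).hom := by
      apply CartesianMonoidalCategory.hom_ext
      · rw [lift_fst]; exact (IsPullback.isoIsPullback_hom_fst _ _ cartA hprod).symm
      · rw [lift_snd]; exact (IsPullback.isoIsPullback_hom_snd _ _ cartA hprod).symm
    rw [this]
    infer_instance
  obtain ⟨σ⟩ := Groth.Agent.Helper18.Lang.exists_section_of_torsor F G PA actA hiso
  exact ⟨σ, Over.mkIdTerminal.hom_ext _ _⟩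

end Groth.Agent.Helper18.LangStack
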