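import Mathlib
import Groth.Prelude
import Groth.Agent.Lib.Helper18.LangStack3

set_option autoImplicit false
set_option linter.style.haveILetI false
set_option linter.unusedSectionVars false
set_option backward.isDefEq.respectTransparency false
set_option backward.isDefEq.respectTransparency.types false
universe u
open CategoryTheory AlgebraicGeometry Limits MonoidalCategory CartesianMonoidalCategory MonObj GrpObj AlgSt

namespace Groth.Agent.Helper18.LangStack

variable {F : Type u} [Field F] [Finite F]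
  (X G : Over (Spec (CommRingCat.of F))) [GrpObj G] (aX : AlgGrp.Action G X)
  [Smooth X.hom] [QuasiCompact X.hom] [Smooth G.hom] [IsAffineHom G.hom] [ConnectedSpace ↥G.left]

theorem main19566 :
    Finite (Quotient (isIsomorphicSetoid ((AlgSt.QuotSt Scheme.fppfPrecoverage G aX).p.Fiber (Over.mk (𝟙 (Spec (CommRingCat.of F))))))) ∧
      (∀ ξ : ((AlgSt.QuotSt Scheme.fppfPrecoverage G aX).p.Fiber (Over.mk (𝟙 (Spec (CommRingCat.of F))))), Finite (Aut ξ)) ∧
      ∑ᶠ c : Quotient (isIsomorphicSetoid ((AlgSt.QuotSt Scheme.fppfPrecoverage G aX).p.Fiber (Over.mk (𝟙 (Spec (CommRingCat.of F)))))), ((Nat.card (Aut c.out) : ℚ))⁻¹ =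
        (Nat.card (Over.mk (𝟙 (Spec (CommRingCat.of F))) ⟶ X) : ℚ) /
          (Nat.card (Over.mk (𝟙 (Spec (CommRingCat.of F))) ⟶ G) : ℚ) := by
  obtain ⟨T, hT⟩ : ∃ T : Over (Spec (CommRingCat.of F)), T = Over.mk (𝟙 (Spec (CommRingCat.of F))) :=
    ⟨_, rfl⟩
  rw [← hT]
  haveI : Finite (T ⟶ X) := by rw [hT]; exact finite_sections F X
  haveI : Finite (T ⟶ G) := by rw [hT]; exact finite_sections F G
  letI : MulAction (T ⟶ G) (T ⟶ X) :=
    { smul := fun g x => lift g x ≫ aX.act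
      one_smul := fun x => AlgGrp.Action.lift_one_act aX x
      mul_smul := fun g g' x => AlgGrp.Action.lift_mul_act aX g g' x }
  have hsmul : ∀ (g : T ⟶ G) (x : T ⟶ X), g • x = lift g x ≫ aX.act := fun _ _ => rfl
  -- sections
  have hsec : ∀ ξ : (AlgSt.QuotSt Scheme.fppfPrecoverage G aX).p.Fiber T,
      ∃ s : T ⟶ ξ.1.P, s ≫ ξ.1.π = eqToHom ξ.2.symm := by
    intro ξ
    subst hT
    exact exists_section_fiber F G X aX ξ.1 ξ.2
  choose sec hsecπ using hsec
  have hiso : ∀ ξ : (AlgSt.QuotSt Scheme.fppfPrecoverage G aX).p.Fiber T,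
      Nonempty (ξ ≅ triv Scheme.fppfPrecoverage aX T (sec ξ ≫ ξ.1.φ)) := fun ξ =>
    iso_triv Scheme.fppfPrecoverage aX T ξ (sec ξ) (hsecπ ξ)
  have hstabfin : ∀ x : T ⟶ X, Finite {g : T ⟶ G // lift g x ≫ aX.act = x} := fun x =>
    inferInstance
  have hautfin : ∀ x : T ⟶ X, Finite (Aut (triv Scheme.fppfPrecoverage aX T x)) := fun x =>
    Finite.of_equiv _ (Equiv.ofBijective _ (autOfStab_bijective Scheme.fppfPrecoverage aX T x))
  have hfinAut : ∀ ξ : (AlgSt.QuotSt Scheme.fppfPrecoverage G aX).p.Fiber T, Finite (Aut ξ) := by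
    intro ξ
    obtain ⟨e⟩ := hiso ξ
    haveI := hautfin (sec ξ ≫ ξ.1.φ)
    exact Finite.of_equiv _ (Iso.conjAut e).symm.toEquiv
  have hmass := mass_formula (T ⟶ G) (T ⟶ X)
    (Quotient (isIsomorphicSetoid ((AlgSt.QuotSt Scheme.fppfPrecoverage G aX).p.Fiber T)))
    (fun c => sec c.out ≫ c.out.1.φ) (fun c => Nat.card (Aut c.out)) ?_ ?_ ?_
  · exact ⟨hmass.1, hfinAut, hmass.2⟩
  · -- h1
    rintro c c' ⟨g, hg⟩
    rw [hsmul] at hg
    obtain ⟨e⟩ := hiso c.out
    obtain ⟨e'⟩ := hiso c'.out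
    obtain ⟨t⟩ := (triv_iso_iff Scheme.fppfPrecoverage aX T _ _).2 ⟨g, hg⟩
    have h : (isIsomorphicSetoid ((AlgSt.QuotSt Scheme.fppfPrecoverage G aX).p.Fiber T)).r
        c.out c'.out := ⟨e ≪≫ t ≪≫ e'.symm⟩
    have := Quotient.sound (s := isIsomorphicSetoid _) h
    rwa [Quotient.out_eq, Quotient.out_eq] at this
  · -- h2
    intro y
    refine ⟨⟦triv Scheme.fppfPrecoverage aX T y⟧, ?_⟩
    obtain ⟨e0⟩ : Nonempty ((⟦triv Scheme.fppfPrecoverage aX T y⟧ :
        Quotient (isIsomorphicSetoid ((AlgSt.QuotSt Scheme.fppfPrecoverage G aX).p.Fiber T))).out ≅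
        triv Scheme.fppfPrecoverage aX T y) :=
      Quotient.exact (s := isIsomorphicSetoid _) (Quotient.out_eq _)
    obtain ⟨e⟩ := hiso (⟦triv Scheme.fppfPrecoverage aX T y⟧ :
        Quotient (isIsomorphicSetoid ((AlgSt.QuotSt Scheme.fppfPrecoverage G aX).p.Fiber T))).out
    obtain ⟨g, hg⟩ := (triv_iso_iff Scheme.fppfPrecoverage aX T _ _).1 ⟨e.symm ≪≫ e0⟩
    exact ⟨g, hg⟩
  · -- h3
    intro c
    obtain ⟨e⟩ := hiso c.out
    change Nat.card (Aut c.out) = _
    rw [Nat.card_congr (Iso.conjAut e).toEquiv, card_aut_triv]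
    exact Nat.card_congr (Equiv.subtypeEquivRight fun g => by
      rw [MulAction.mem_stabilizer_iff, hsmul])

end Groth.Agent.Helper18.LangStack
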