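import Groth.Prelude.Def_LiftSq

/-!
# Unique lifting against a fixed functor is stable under composition (helper18)
-/

set_option autoImplicit false

universe v₆ u₆ v₅ u₅ v₄ u₄ v₃ u₃ v₂ u₂ v u

open CategoryTheory

namespace Groth.Agent.Helper18.LiftSqLib

open LiftSq

variable {C : Type u} [Category.{v} C]
  {𝒜 : BasedCategory.{v₂, u₂} C} {ℬ : BasedCategory.{v₃, u₃} C}
  {𝒳 : BasedCategory.{v₄, u₄} C} {𝒴 : BasedCategory.{v₅, u₅} C} {𝒵 : BasedCategory.{v₆, u₆} C}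

section Whisker

theorem wl_wr (j : 𝒜 ⥤ᵇ ℬ) {F G : ℬ ⥤ᵇ 𝒳} (α : F ⟶ G) (f : 𝒳 ⥤ᵇ 𝒴) :
    BasedCategory.whiskerLeft j (BasedCategory.whiskerRight α f) =
      BasedCategory.whiskerRight (BasedCategory.whiskerLeft j α) f := by
  apply BasedNatTrans.homCategory.ext; ext; rfl

theorem wr_wr {F G : ℬ ⥤ᵇ 𝒳} (α : F ⟶ G) (f : 𝒳 ⥤ᵇ 𝒴) (g : 𝒴 ⥤ᵇ 𝒵) :
    BasedCategory.whiskerRight (BasedCategory.whiskerRight α f) g =
      BasedCategory.whiskerRight α (BasedFunctor.comp f g) := by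
  apply BasedNatTrans.homCategory.ext; ext; rfl

/-- right whiskering of an isomorphism -/
def wrIso {F G : ℬ ⥤ᵇ 𝒳} (α : F ≅ G) (f : 𝒳 ⥤ᵇ 𝒴) : BasedFunctor.comp F f ≅ BasedFunctor.comp G f where
  hom := BasedCategory.whiskerRight α.hom f
  inv := BasedCategory.whiskerRight α.inv f
  hom_inv_id := by rw [← whiskerRight_comp', α.hom_inv_id, whiskerRight_id']
  inv_hom_id := by rw [← whiskerRight_comp', α.inv_hom_id, whiskerRight_id']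

end Whisker


section Raw

variable {j : 𝒜 ⥤ᵇ ℬ} {f : 𝒳 ⥤ᵇ 𝒴} {g : 𝒴 ⥤ᵇ 𝒵}

theorem eq_of_inv {D : Type*} [Category D] {A B : D} {θ : A ⟶ B} {θ' : B ⟶ A} (h : θ ≫ θ' = 𝟙 A)
    {k : A ⟶ B} (hk : θ' ≫ k = 𝟙 B) : k = θ := by
  rw [← Category.id_comp k, ← h, Category.assoc, hk, Category.comp_id]

theorem raw_combine {top : 𝒜 ⥤ᵇ 𝒳} {bot : ℬ ⥤ᵇ 𝒵} {efn : ℬ ⥤ᵇ 𝒴} {cfn : ℬ ⥤ᵇ 𝒳}
    {iso : BasedFunctor.comp j bot ⟶ BasedFunctor.comp top (BasedFunctor.comp f g)}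
    {eTop : BasedFunctor.comp j efn ⟶ BasedFunctor.comp top f}
    {eBot : bot ⟶ BasedFunctor.comp efn g}
    {cTop : BasedFunctor.comp j cfn ⟶ top} {cBot : efn ⟶ BasedFunctor.comp cfn f}
    (hc : BasedCategory.whiskerLeft j cBot ≫ BasedCategory.whiskerRight cTop f = eTop)
    (he : BasedCategory.whiskerLeft j eBot ≫ BasedCategory.whiskerRight eTop g = iso) :
    BasedCategory.whiskerLeft j (eBot ≫ BasedCategory.whiskerRight cBot g) ≫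
      BasedCategory.whiskerRight cTop (BasedFunctor.comp f g) = iso := by
  rw [whiskerLeft_comp', wl_wr, ← wr_wr]
  erw [Category.assoc, ← whiskerRight_comp', hc, he]

theorem raw_top {F₁ F₂ : ℬ ⥤ᵇ 𝒳} {T : 𝒜 ⥤ᵇ 𝒳} {ρ : F₁ ⟶ F₂} {t₁ : BasedFunctor.comp j F₁ ⟶ T}
    {t₂ : BasedFunctor.comp j F₂ ⟶ T} (h : BasedCategory.whiskerLeft j ρ ≫ t₂ = t₁) (f : 𝒳 ⥤ᵇ 𝒴) :
    BasedCategory.whiskerLeft j (BasedCategory.whiskerRight ρ f) ≫ BasedCategory.whiskerRight t₂ f =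
      BasedCategory.whiskerRight t₁ f := by
  rw [wl_wr]
  erw [← whiskerRight_comp', h]

theorem raw_bot {F₁ F₂ : ℬ ⥤ᵇ 𝒳} {B : ℬ ⥤ᵇ 𝒵} {ρ : F₁ ⟶ F₂}
    {b₁ : B ⟶ BasedFunctor.comp (BasedFunctor.comp F₁ f) g}
    {b₂ : B ⟶ BasedFunctor.comp (BasedFunctor.comp F₂ f) g}
    (h : b₁ ≫ BasedCategory.whiskerRight ρ (BasedFunctor.comp f g) = b₂) :
    b₁ ≫ BasedCategory.whiskerRight (BasedCategory.whiskerRight ρ f) g = b₂ := by
  rw [wr_wr]; exact h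

theorem raw_bot' {F₁ F₂ : ℬ ⥤ᵇ 𝒳} {B : ℬ ⥤ᵇ 𝒵} {ρ : F₁ ⟶ F₂}
    {b₁ : B ⟶ BasedFunctor.comp (BasedFunctor.comp F₁ f) g}
    {b₂ : B ⟶ BasedFunctor.comp (BasedFunctor.comp F₂ f) g}
    {θ : BasedFunctor.comp F₁ f ⟶ BasedFunctor.comp F₂ f}
    (hρ : BasedCategory.whiskerRight ρ f = θ)
    (h : b₁ ≫ BasedCategory.whiskerRight θ g = b₂) :
    b₁ ≫ BasedCategory.whiskerRight ρ (BasedFunctor.comp f g) = b₂ := by
  rw [← wr_wr, hρ]; exact h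

theorem raw_idw {F : ℬ ⥤ᵇ 𝒳} {T : 𝒜 ⥤ᵇ 𝒳} (t : BasedFunctor.comp j F ⟶ T) (f : 𝒳 ⥤ᵇ 𝒴) :
    BasedCategory.whiskerLeft j (𝟙 (BasedFunctor.comp F f)) ≫ BasedCategory.whiskerRight t f =
      BasedCategory.whiskerRight t f := by
  rw [whiskerLeft_id']
  exact Category.id_comp _

end Raw

section Comp

variable {j : 𝒜 ⥤ᵇ ℬ} {f : 𝒳 ⥤ᵇ 𝒴} {g : 𝒴 ⥤ᵇ 𝒵}

/-- the outer square for `g` -/
def sqG (sq : Sq j (BasedFunctor.comp f g)) : Sq j g where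
  top := BasedFunctor.comp sq.top f
  bot := sq.bot
  iso := sq.iso

/-- a lift of `sq` induces a lift of `sqG sq` -/
def liftG {sq : Sq j (BasedFunctor.comp f g)} (d : sq.Lift) : (sqG sq).Lift where
  fn := BasedFunctor.comp d.fn f
  isoTop := wrIso d.isoTop f
  isoBot := d.isoBot
  w := by
    have := d.w
    rw [← wr_wr] at this
    exact this

/-- the inner square for `f` from a lift of the outer square -/
def sqF (sq : Sq j (BasedFunctor.comp f g)) (e : (sqG sq).Lift) : Sq j f where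
  top := sq.top
  bot := e.fn
  iso := e.isoTop

/-- combine lifts of the outer and inner squares -/
def combine (sq : Sq j (BasedFunctor.comp f g)) (e : (sqG sq).Lift) (c : (sqF sq e).Lift) : sq.Lift where
  fn := c.fn
  isoTop := c.isoTop
  isoBot := e.isoBot ≪≫ wrIso c.isoBot g
  w := raw_combine c.w e.w

theorem hasLift_comp (hf : LiftsUniquely j f) (hg : LiftsUniquely j g) (sq : Sq j (BasedFunctor.comp f g)) :
    sq.HasLift := by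
  obtain ⟨e⟩ := (hg (sqG sq)).1
  obtain ⟨c⟩ := (hf (sqF sq e)).1
  exact ⟨combine sq e c⟩

theorem uniqLift_comp (hf : LiftsUniquely j f) (hg : LiftsUniquely j g) (sq : Sq j (BasedFunctor.comp f g)) :
    sq.UniqLift := by
  intro d₁ d₂
  obtain ⟨u12⟩ := (hg (sqG sq)).2 (liftG d₁) (liftG d₂)
  obtain ⟨u21⟩ := (hg (sqG sq)).2 (liftG d₂) (liftG d₁)
  obtain ⟨u11⟩ := (hg (sqG sq)).2 (liftG d₁) (liftG d₁)
  obtain ⟨u22⟩ := (hg (sqG sq)).2 (liftG d₂) (liftG d₂)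
  let θ : liftG d₁ ⟶ liftG d₂ := u12.default
  let θ' : liftG d₂ ⟶ liftG d₁ := u21.default
  have h12 : θ ≫ θ' = 𝟙 _ := (u11.uniq _).trans (u11.uniq _).symm
  have h21 : θ' ≫ θ = 𝟙 _ := (u22.uniq _).trans (u22.uniq _).symm
  have h12' : θ.hom ≫ θ'.hom = 𝟙 _ := congrArg Sq.Lift.Hom.hom h12
  have h21' : θ'.hom ≫ θ.hom = 𝟙 _ := congrArg Sq.Lift.Hom.hom h21
  -- two lifts of the inner square
  let c₂ : (sqF sq (liftG d₂)).Lift :=
    { fn := d₂.fn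
      isoTop := d₂.isoTop
      isoBot := Iso.refl _
      w := raw_idw d₂.isoTop.hom f }
  let c₁ : (sqF sq (liftG d₂)).Lift :=
    { fn := d₁.fn
      isoTop := d₁.isoTop
      isoBot := ⟨θ'.hom, θ.hom, h21', h12'⟩
      w := θ'.w_top }
  obtain ⟨uc⟩ := (hf (sqF sq (liftG d₂))).2 c₁ c₂
  let ρ : c₁ ⟶ c₂ := uc.default
  have hρtop : BasedCategory.whiskerLeft j ρ.hom ≫ d₂.isoTop.hom = d₁.isoTop.hom := ρ.w_top
  have hρbot : θ'.hom ≫ BasedCategory.whiskerRight ρ.hom f = 𝟙 _ := ρ.w_bot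
  have hρf : BasedCategory.whiskerRight ρ.hom f = θ.hom := eq_of_inv h12' hρbot
  have hθbot : d₁.isoBot.hom ≫ BasedCategory.whiskerRight θ.hom g = d₂.isoBot.hom := θ.w_bot
  refine ⟨{ default := ⟨ρ.hom, hρtop, raw_bot' hρf hθbot⟩, uniq := ?_ }⟩
  intro ρ'
  have h1 : BasedCategory.whiskerRight ρ'.hom f = θ.hom := by
    let θ₂ : liftG d₁ ⟶ liftG d₂ :=
      ⟨BasedCategory.whiskerRight ρ'.hom f, raw_top ρ'.w_top f, raw_bot ρ'.w_bot⟩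
    exact congrArg Sq.Lift.Hom.hom (u12.uniq θ₂)
  let ρ₂ : c₁ ⟶ c₂ := ⟨ρ'.hom, ρ'.w_top, (congrArg (fun k => θ'.hom ≫ k) h1).trans h21'⟩
  apply Sq.Lift.hom_ext
  exact (congrArg Sq.Lift.Hom.hom (uc.uniq ρ₂) : ρ'.hom = ρ.hom)

theorem liftsUniquely_comp (hf : LiftsUniquely j f) (hg : LiftsUniquely j g) :
    LiftsUniquely j (BasedFunctor.comp f g) :=
  fun sq => ⟨hasLift_comp hf hg sq, uniqLift_comp hf hg sq⟩

end Comp

end Groth.Agent.Helper18.LiftSqLib
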