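import Groth.Prelude.Def_LiftSq
import Groth.Prelude.Def_FibCat2
import Groth.Agent.Lib.Helper18.LiftSqLib

/-!
# Unique lifting against a fixed functor is stable under base change (helper18)
-/

set_option autoImplicit false

universe v₆ u₆ v₅ u₅ v₄ u₄ v₃ u₃ v₂ u₂ v u

open CategoryTheory CategoryTheory.Limits

namespace Groth.Agent.Helper18.LiftSqFp

open LiftSq FibCat Groth.Agent.Helper18.LiftSqLib

variable {C : Type u} [Category.{v} C]
  {𝒜 : BasedCategory.{v₂, u₂} C} {ℬ : BasedCategory.{v₃, u₃} C}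
  {𝒳 : BasedCategory.{v₄, u₄} C} {𝒴 : BasedCategory.{v₅, u₅} C} {𝒴' : BasedCategory.{v₆, u₆} C}

section Basic

theorem app_eq {F G : 𝒜 ⥤ᵇ ℬ} {α β : F ⟶ G} (h : α = β) (x : 𝒜.obj) :
    α.toNatTrans.app x = β.toNatTrans.app x := by rw [h]

theorem hom_inv_app {F G : 𝒜 ⥤ᵇ ℬ} (α : F ≅ G) (x : 𝒜.obj) :
    α.hom.toNatTrans.app x ≫ α.inv.toNatTrans.app x = 𝟙 _ := app_eq α.hom_inv_id x

theorem inv_hom_app {F G : 𝒜 ⥤ᵇ ℬ} (α : F ≅ G) (x : 𝒜.obj) :
    α.inv.toNatTrans.app x ≫ α.hom.toNatTrans.app x = 𝟙 _ := app_eq α.inv_hom_id x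

/-- left whiskering of an isomorphism -/
def wlIso (j : 𝒜 ⥤ᵇ ℬ) {F G : ℬ ⥤ᵇ 𝒳} (α : F ≅ G) : BasedFunctor.comp j F ≅ BasedFunctor.comp j G where
  hom := BasedCategory.whiskerLeft j α.hom
  inv := BasedCategory.whiskerLeft j α.inv
  hom_inv_id := by rw [← whiskerLeft_comp', α.hom_inv_id, whiskerLeft_id']
  inv_hom_id := by rw [← whiskerLeft_comp', α.inv_hom_id, whiskerLeft_id']

end Basic


section Abstract

variable {D : Type*} [Category D] {D' : Type*} [Category D'] {D'' : Type*} [Category D'']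

theorem inv_sq {A A' B B' : D} {p : A ⟶ A'} {p' : A' ⟶ A} {q : B ⟶ B'} {q' : B' ⟶ B} {ia : A ⟶ B}
    {ib : A' ⟶ B'} (hp : p' ≫ p = 𝟙 _) (hq : q ≫ q' = 𝟙 _) (h : p ≫ ib = ia ≫ q) :
    p' ≫ ia = ib ≫ q' := by
  have : p' ≫ ia = p' ≫ (ia ≫ q) ≫ q' := by rw [Category.assoc, hq, Category.comp_id]
  rw [this, ← h, Category.assoc, ← Category.assoc, hp, Category.id_comp]

theorem sq_comp (Y : D' ⥤ D) (F : D'' ⥤ D) {P Q R : D'} {U V : D''} {b1 : P ⟶ Q} {r1 : Q ⟶ R} {b2 : P ⟶ R}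
    {r2 : U ⟶ V} {i1 : Y.obj Q ⟶ F.obj U} {i2 : Y.obj R ⟶ F.obj V}
    (hw : Y.map r1 ≫ i2 = i1 ≫ F.map r2) (hb : b1 ≫ r1 = b2) :
    (Y.map b1 ≫ i1) ≫ F.map r2 = Y.map b2 ≫ i2 := by
  rw [Category.assoc, ← hw, ← Category.assoc, ← Y.map_comp, hb]

theorem sq_div (Y : D' ⥤ D) {P Q Q' : D'} {X X' : D} {b1inv : Q ⟶ P} {b1 : P ⟶ Q} {b2 : P ⟶ Q'}
    {i1 : Y.obj Q ⟶ X} {i2 : Y.obj Q' ⟶ X'} {fr : X ⟶ X'}
    (e : b1inv ≫ b1 = 𝟙 Q) (hb : (Y.map b1 ≫ i1) ≫ fr = Y.map b2 ≫ i2) :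
    Y.map (b1inv ≫ b2) ≫ i2 = i1 ≫ fr := by
  rw [Y.map_comp, Category.assoc, ← hb, ← Category.assoc, ← Category.assoc, ← Y.map_comp, e, Y.map_id,
    Category.id_comp]

theorem tri_div {P Q Q' T : D} {binv : Q ⟶ P} {b1 : P ⟶ Q} {b2 : P ⟶ Q'} {t1 : Q ⟶ T} {t2 : Q' ⟶ T}
    {s : P ⟶ T} (e : binv ≫ b1 = 𝟙 Q) (h1 : b1 ≫ t1 = s) (h2 : b2 ≫ t2 = s) :
    (binv ≫ b2) ≫ t2 = t1 := by
  rw [Category.assoc, h2, ← h1, ← Category.assoc, e, Category.id_comp]

theorem comp_div {P Q Q' : D} {binv : Q ⟶ P} {b1 : P ⟶ Q} {b2 : P ⟶ Q'} (e : b1 ≫ binv = 𝟙 P) :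
    b1 ≫ (binv ≫ b2) = b2 := by
  rw [← Category.assoc, e, Category.id_comp]

theorem eq_div {P Q Q' : D} {binv : Q ⟶ P} {b1 : P ⟶ Q} {b2 : P ⟶ Q'} {r : Q ⟶ Q'}
    (e : binv ≫ b1 = 𝟙 Q) (h : b1 ≫ r = b2) : r = binv ≫ b2 := by
  rw [← h, ← Category.assoc, e, Category.id_comp]

end Abstract

section Fp

variable (y : 𝒴' ⥤ᵇ 𝒴) (f : 𝒳 ⥤ᵇ 𝒴)

theorem fpIso_hom_app (x : (fp y f).obj) : (fpIso y f).hom.toNatTrans.app x = x.obj.iso.hom := rfl

variable {y f}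

theorem fpLift_fst (a : ℬ ⥤ᵇ 𝒴') (b : ℬ ⥤ᵇ 𝒳) (e : BasedFunctor.comp a y ≅ BasedFunctor.comp b f) :
    BasedFunctor.comp (fpLift a b e) (fpFst y f) = a := rfl

theorem fpLift_snd (a : ℬ ⥤ᵇ 𝒴') (b : ℬ ⥤ᵇ 𝒳) (e : BasedFunctor.comp a y ≅ BasedFunctor.comp b f) :
    BasedFunctor.comp (fpLift a b e) (fpSnd y f) = b := rfl

theorem fpLift_iso_hom (a : ℬ ⥤ᵇ 𝒴') (b : ℬ ⥤ᵇ 𝒳) (e : BasedFunctor.comp a y ≅ BasedFunctor.comp b f)
    (w : ℬ.obj) : ((fpLift a b e).obj w).obj.iso.hom = e.hom.toNatTrans.app w := rfl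

/-- build a 2-morphism between functors into the fibre product from its two components -/
def fpHomMk {a b : ℬ ⥤ᵇ fp y f}
    (α : BasedFunctor.comp a (fpFst y f) ⟶ BasedFunctor.comp b (fpFst y f))
    (β : BasedFunctor.comp a (fpSnd y f) ⟶ BasedFunctor.comp b (fpSnd y f))
    (h : ∀ w : ℬ.obj, y.map (α.toNatTrans.app w) ≫ (b.obj w).obj.iso.hom =
      (a.obj w).obj.iso.hom ≫ f.map (β.toNatTrans.app w)) : a ⟶ b where
  toNatTrans :=
    { app := fun w => ObjectProperty.homMk ⟨α.toNatTrans.app w, β.toNatTrans.app w, h w⟩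
      naturality := fun w w' g => by
        apply ObjectProperty.hom_ext; apply CategoricalPullback.hom_ext
        · exact α.toNatTrans.naturality g
        · exact β.toNatTrans.naturality g }
  isHomLift' := fun w => by
    have h1 := α.isHomLift' w
    exact IsHomLift.of_fac' (fp y f).p _ _
      (@IsHomLift.domain_eq _ _ _ _ 𝒴'.p _ _ _ _ _ _ h1)
      (@IsHomLift.codomain_eq _ _ _ _ 𝒴'.p _ _ _ _ _ _ h1)
      (@IsHomLift.fac' _ _ _ _ 𝒴'.p _ _ _ _ _ _ h1)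

theorem fpHomMk_fst {a b : ℬ ⥤ᵇ fp y f}
    (α : BasedFunctor.comp a (fpFst y f) ⟶ BasedFunctor.comp b (fpFst y f))
    (β : BasedFunctor.comp a (fpSnd y f) ⟶ BasedFunctor.comp b (fpSnd y f))
    (h : ∀ w : ℬ.obj, y.map (α.toNatTrans.app w) ≫ (b.obj w).obj.iso.hom =
      (a.obj w).obj.iso.hom ≫ f.map (β.toNatTrans.app w)) :
    BasedCategory.whiskerRight (fpHomMk α β h) (fpFst y f) = α := by
  apply BasedNatTrans.homCategory.ext; ext w; rfl

theorem fpHomMk_snd {a b : ℬ ⥤ᵇ fp y f}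
    (α : BasedFunctor.comp a (fpFst y f) ⟶ BasedFunctor.comp b (fpFst y f))
    (β : BasedFunctor.comp a (fpSnd y f) ⟶ BasedFunctor.comp b (fpSnd y f))
    (h : ∀ w : ℬ.obj, y.map (α.toNatTrans.app w) ≫ (b.obj w).obj.iso.hom =
      (a.obj w).obj.iso.hom ≫ f.map (β.toNatTrans.app w)) :
    BasedCategory.whiskerRight (fpHomMk α β h) (fpSnd y f) = β := by
  apply BasedNatTrans.homCategory.ext; ext w; rfl

theorem fpHom_ext {a b : ℬ ⥤ᵇ fp y f} {ρ ρ' : a ⟶ b}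
    (h1 : BasedCategory.whiskerRight ρ (fpFst y f) = BasedCategory.whiskerRight ρ' (fpFst y f))
    (h2 : BasedCategory.whiskerRight ρ (fpSnd y f) = BasedCategory.whiskerRight ρ' (fpSnd y f)) : ρ = ρ' := by
  apply BasedNatTrans.homCategory.ext
  apply NatTrans.ext; funext w
  apply ObjectProperty.hom_ext; apply CategoricalPullback.hom_ext
  · exact app_eq h1 w
  · exact app_eq h2 w

/-- build a 2-isomorphism between functors into the fibre product from its two components -/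
def fpIsoMk {a b : ℬ ⥤ᵇ fp y f}
    (α : BasedFunctor.comp a (fpFst y f) ≅ BasedFunctor.comp b (fpFst y f))
    (β : BasedFunctor.comp a (fpSnd y f) ≅ BasedFunctor.comp b (fpSnd y f))
    (h : ∀ w : ℬ.obj, y.map (α.hom.toNatTrans.app w) ≫ (b.obj w).obj.iso.hom =
      (a.obj w).obj.iso.hom ≫ f.map (β.hom.toNatTrans.app w)) : a ≅ b where
  hom := fpHomMk α.hom β.hom h
  inv := fpHomMk α.inv β.inv (fun w => by
    have e1 : y.map (α.inv.toNatTrans.app w) ≫ y.map (α.hom.toNatTrans.app w) = 𝟙 _ :=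
      (y.map_comp _ _).symm.trans ((congrArg (fun t => y.map t) (inv_hom_app α w)).trans (y.map_id _))
    have e2 : f.map (β.hom.toNatTrans.app w) ≫ f.map (β.inv.toNatTrans.app w) = 𝟙 _ :=
      (f.map_comp _ _).symm.trans ((congrArg (fun t => f.map t) (hom_inv_app β w)).trans (f.map_id _))
    exact inv_sq e1 e2 (h w))
  hom_inv_id := by
    apply BasedNatTrans.homCategory.ext; apply NatTrans.ext; funext w
    apply ObjectProperty.hom_ext; apply CategoricalPullback.hom_ext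
    · exact hom_inv_app α w
    · exact hom_inv_app β w
  inv_hom_id := by
    apply BasedNatTrans.homCategory.ext; apply NatTrans.ext; funext w
    apply ObjectProperty.hom_ext; apply CategoricalPullback.hom_ext
    · exact inv_hom_app α w
    · exact inv_hom_app β w

end Fp

section Main

variable {j : 𝒜 ⥤ᵇ ℬ} {y : 𝒴' ⥤ᵇ 𝒴} {f : 𝒳 ⥤ᵇ 𝒴}

/-- the induced square against `f` -/
def sqX (sq : Sq j (fpFst y f)) : Sq j f where
  top := BasedFunctor.comp sq.top (fpSnd y f)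
  bot := BasedFunctor.comp sq.bot y
  iso := wrIso sq.iso y ≪≫ wlIso sq.top (fpIso y f)

theorem sqX_iso_app (sq : Sq j (fpFst y f)) (a : 𝒜.obj) :
    (sqX sq).iso.hom.toNatTrans.app a =
      y.map (sq.iso.hom.toNatTrans.app a) ≫ (sq.top.obj a).obj.iso.hom := rfl

/-- a lift of the induced square gives a lift of the original square -/
def liftOfX (sq : Sq j (fpFst y f)) (d' : (sqX sq).Lift) : sq.Lift where
  fn := fpLift sq.bot d'.fn d'.isoBot
  isoTop := fpIsoMk (a := BasedFunctor.comp j (fpLift sq.bot d'.fn d'.isoBot)) (b := sq.top)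
    sq.iso d'.isoTop (fun a => ((app_eq d'.w a).trans (sqX_iso_app sq a)).symm)
  isoBot := Iso.refl _
  w := by
    apply BasedNatTrans.homCategory.ext; apply NatTrans.ext; funext a
    exact Category.id_comp _

/-- a lift of the original square gives a lift of the induced square -/
def liftX {sq : Sq j (fpFst y f)} (d : sq.Lift) : (sqX sq).Lift where
  fn := BasedFunctor.comp d.fn (fpSnd y f)
  isoTop := wrIso d.isoTop (fpSnd y f)
  isoBot := wrIso d.isoBot y ≪≫ wlIso d.fn (fpIso y f)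
  w := by
    apply BasedNatTrans.homCategory.ext; apply NatTrans.ext; funext a
    have h1 : d.isoBot.hom.toNatTrans.app (j.obj a) ≫ (d.isoTop.hom.toNatTrans.app a).hom.fst =
        sq.iso.hom.toNatTrans.app a := app_eq d.w a
    have h2 := (d.isoTop.hom.toNatTrans.app a).hom.w
    exact sq_comp y.toFunctor f.toFunctor h2 h1

theorem hasLift_fp (hf : LiftsUniquely j f) (sq : Sq j (fpFst y f)) : sq.HasLift := by
  obtain ⟨d'⟩ := (hf (sqX sq)).1
  exact ⟨liftOfX sq d'⟩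

theorem uniqLift_fp (hf : LiftsUniquely j f) (sq : Sq j (fpFst y f)) : sq.UniqLift := by
  intro d₁ d₂
  obtain ⟨u⟩ := (hf (sqX sq)).2 (liftX d₁) (liftX d₂)
  let ρ' : liftX d₁ ⟶ liftX d₂ := u.default
  have hbot : ∀ b : ℬ.obj, (y.map (d₁.isoBot.hom.toNatTrans.app b) ≫ (d₁.fn.obj b).obj.iso.hom) ≫
      f.map (ρ'.hom.toNatTrans.app b) =
        y.map (d₂.isoBot.hom.toNatTrans.app b) ≫ (d₂.fn.obj b).obj.iso.hom :=
    fun b => app_eq ρ'.w_bot b
  have htop : ∀ a : 𝒜.obj, ρ'.hom.toNatTrans.app (j.obj a) ≫ (d₂.isoTop.hom.toNatTrans.app a).hom.snd =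
      (d₁.isoTop.hom.toNatTrans.app a).hom.snd := fun a => app_eq ρ'.w_top a
  let ρh : d₁.fn ⟶ d₂.fn := fpHomMk (d₁.isoBot.inv ≫ d₂.isoBot.hom) ρ'.hom
    (fun b => sq_div y.toFunctor (inv_hom_app d₁.isoBot b) (hbot b))
  have ρ_top : BasedCategory.whiskerLeft j ρh ≫ d₂.isoTop.hom = d₁.isoTop.hom := by
    apply BasedNatTrans.homCategory.ext; apply NatTrans.ext; funext a
    apply ObjectProperty.hom_ext; apply CategoricalPullback.hom_ext
    · exact tri_div (inv_hom_app d₁.isoBot (j.obj a)) (app_eq d₁.w a) (app_eq d₂.w a)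
    · exact htop a
  have ρ_bot : d₁.isoBot.hom ≫ BasedCategory.whiskerRight ρh (fpFst y f) = d₂.isoBot.hom := by
    apply BasedNatTrans.homCategory.ext; apply NatTrans.ext; funext b
    exact comp_div (hom_inv_app d₁.isoBot b)
  refine ⟨{ default := ⟨ρh, ρ_top, ρ_bot⟩, uniq := ?_ }⟩
  intro ρ₁
  apply Sq.Lift.hom_ext
  apply fpHom_ext
  · change BasedCategory.whiskerRight ρ₁.hom (fpFst y f) = BasedCategory.whiskerRight ρh (fpFst y f)
    apply BasedNatTrans.homCategory.ext; apply NatTrans.ext; funext b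
    exact eq_div (inv_hom_app d₁.isoBot b) (app_eq ρ₁.w_bot b)
  · let θ : liftX d₁ ⟶ liftX d₂ :=
      ⟨BasedCategory.whiskerRight ρ₁.hom (fpSnd y f), raw_top ρ₁.w_top (fpSnd y f), by
        apply BasedNatTrans.homCategory.ext; apply NatTrans.ext; funext b
        exact sq_comp y.toFunctor f.toFunctor (ρ₁.hom.toNatTrans.app b).hom.w (app_eq ρ₁.w_bot b)⟩
    exact congrArg Sq.Lift.Hom.hom (u.uniq θ)

theorem liftsUniquely_fpFst (hf : LiftsUniquely j f) (y : 𝒴' ⥤ᵇ 𝒴) : LiftsUniquely j (fpFst y f) :=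
  fun sq => ⟨hasLift_fp hf sq, uniqLift_fp hf sq⟩

end Main

end Groth.Agent.Helper18.LiftSqFp
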