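import Mathlib

/-!
A linear functor on finite-dimensional vector spaces is tensoring with its value on the line.
-/

set_option autoImplicit false
universe u
open CategoryTheory MonoidalCategory

namespace Groth.Agent.Helper18.LinFunctor

variable (K : Type u) [Field K]

/-- the linear identification of morphisms with linear maps -/
noncomputable def homEquiv (V W : FGModuleCat.{u} K) : (V ⟶ W) ≃ₗ[K] (V →ₗ[K] W) :=
  (InducedCategory.homLinearEquiv (R := K)).trans ModuleCat.homLinearEquiv

theorem homEquiv_apply (V W : FGModuleCat.{u} K) (f : V ⟶ W) : homEquiv K V W f = f.hom.hom := rfl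

theorem homEquiv_symm_hom (V W : FGModuleCat.{u} K) (g : V →ₗ[K] W) :
    ((homEquiv K V W).symm g).hom.hom = g := rfl

/-- the morphism `K → V`, `1 ↦ v` -/
noncomputable def fv (V : FGModuleCat.{u} K) : V →ₗ[K] (FGModuleCat.of K K ⟶ V) :=
  (homEquiv K (FGModuleCat.of K K) V).symm.toLinearMap ∘ₗ
    (LinearMap.ringLmapEquivSelf K K V).symm.toLinearMap

theorem fv_apply (V : FGModuleCat.{u} K) (v : V) (c : K) : ((fv K V v).hom.hom) c = c • v := by
  change (LinearMap.ringLmapEquivSelf K K V).symm v c = c • v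
  simp [LinearMap.ringLmapEquivSelf]

variable {K}
variable (L : FGModuleCat.{u} K ⥤ ModuleCat.{u} K) [L.Additive] [Functor.Linear K L]

/-- the comparison map `L(K) ⊗ V → L(V)` -/
noncomputable def theta (V : FGModuleCat.{u} K) :
    L.obj (FGModuleCat.of K K) ⊗ V.obj ⟶ L.obj V :=
  ModuleCat.ofHom (TensorProduct.lift
    ((ModuleCat.homLinearEquiv (S := K)).toLinearMap ∘ₗ (L.mapLinearMap K) ∘ₗ fv K V).flip)

theorem theta_tmul (V : FGModuleCat.{u} K) (x : L.obj (FGModuleCat.of K K)) (v : V) :
    (theta L V).hom (x ⊗ₜ v) = (L.map (fv K V v)).hom x := rfl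

end Groth.Agent.Helper18.LinFunctor

namespace Groth.Agent.Helper18.LinFunctor

variable {K : Type u} [Field K]
variable (L : FGModuleCat.{u} K ⥤ ModuleCat.{u} K) [L.Additive] [Functor.Linear K L]

/-- the coordinate morphisms -/
noncomputable def cv (V : FGModuleCat.{u} K) (i : Fin (Module.finrank K V)) :
    V ⟶ FGModuleCat.of K K :=
  (homEquiv K V (FGModuleCat.of K K)).symm ((Module.finBasis K V).coord i)

theorem cv_apply (V : FGModuleCat.{u} K) (i : Fin (Module.finrank K V)) (v : V) :
    (cv V i).hom.hom v = (Module.finBasis K V).repr v i := rfl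

theorem sum_cv_fv (V : FGModuleCat.{u} K) :
    ∑ i, cv V i ≫ fv K V (Module.finBasis K V i) = 𝟙 V := by
  apply (homEquiv K V V).injective
  rw [map_sum]
  apply LinearMap.ext
  intro v
  rw [LinearMap.sum_apply]
  change ∑ i, (fv K V (Module.finBasis K V i)).hom.hom ((cv V i).hom.hom v) = v
  simp only [fv_apply, cv_apply]
  exact (Module.finBasis K V).sum_repr v

theorem fv_cv (V : FGModuleCat.{u} K) (v : V) (i : Fin (Module.finrank K V)) :
    fv K V v ≫ cv V i = ((Module.finBasis K V).repr v i) • 𝟙 (FGModuleCat.of K K) := by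
  apply (homEquiv K _ _).injective
  rw [map_smul]
  apply LinearMap.ext
  intro c
  change (cv V i).hom.hom ((fv K V v).hom.hom c) = ((Module.finBasis K V).repr v i) • (c : K)
  rw [fv_apply, cv_apply, map_smul, Finsupp.smul_apply, smul_eq_mul, smul_eq_mul, mul_comm]

/-- the inverse of the comparison map -/
noncomputable def psi (V : FGModuleCat.{u} K) :
    L.obj V ⟶ L.obj (FGModuleCat.of K K) ⊗ V.obj :=
  ModuleCat.ofHom (∑ i, ((TensorProduct.mk K (L.obj (FGModuleCat.of K K)) V).flip
    (Module.finBasis K V i)) ∘ₗ (L.map (cv V i)).hom)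

theorem psi_apply (V : FGModuleCat.{u} K) (y : L.obj V) :
    (psi L V).hom y = ∑ i, (L.map (cv V i)).hom y ⊗ₜ[K] (Module.finBasis K V i) := by
  change (∑ i, ((TensorProduct.mk K (L.obj (FGModuleCat.of K K)) V).flip
    (Module.finBasis K V i)) ∘ₗ (L.map (cv V i)).hom) y = _
  rw [LinearMap.sum_apply]
  rfl

theorem psi_theta (V : FGModuleCat.{u} K) : psi L V ≫ theta L V = 𝟙 _ := by
  apply ModuleCat.hom_ext
  apply LinearMap.ext
  intro y
  change (theta L V).hom ((psi L V).hom y) = y
  rw [psi_apply, map_sum]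
  simp only [theta_tmul]
  have h1 : ∀ i, (L.map (fv K V (Module.finBasis K V i))).hom ((L.map (cv V i)).hom y) =
      (L.map (cv V i ≫ fv K V (Module.finBasis K V i))).hom y := by
    intro i
    rw [L.map_comp]
    rfl
  simp only [h1]
  have h2 : ∑ i, (L.map (cv V i ≫ fv K V (Module.finBasis K V i))).hom y =
      (L.map (∑ i, cv V i ≫ fv K V (Module.finBasis K V i))).hom y := by
    rw [L.map_sum, ModuleCat.hom_sum, LinearMap.sum_apply]
  rw [h2, sum_cv_fv, L.map_id]
  rfl

theorem theta_psi (V : FGModuleCat.{u} K) : theta L V ≫ psi L V = 𝟙 _ := by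
  apply ModuleCat.MonoidalCategory.tensor_ext
  intro x v
  change (psi L V).hom ((theta L V).hom (x ⊗ₜ v)) = x ⊗ₜ v
  rw [theta_tmul, psi_apply]
  have h1 : ∀ i, (L.map (cv V i)).hom ((L.map (fv K V v)).hom x) =
      ((Module.finBasis K V).repr v i) • x := by
    intro i
    have : (L.map (cv V i)).hom ((L.map (fv K V v)).hom x) =
        (L.map (fv K V v ≫ cv V i)).hom x := by
      rw [L.map_comp]
      rfl
    rw [this, fv_cv, L.map_smul, L.map_id]
    rfl
  simp only [h1]
  simp only [TensorProduct.smul_tmul]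
  rw [← TensorProduct.tmul_sum, (Module.finBasis K V).sum_repr v]

end Groth.Agent.Helper18.LinFunctor

namespace Groth.Agent.Helper18.LinFunctor

variable {K : Type u} [Field K]
variable (L : FGModuleCat.{u} K ⥤ ModuleCat.{u} K) [L.Additive] [Functor.Linear K L]

theorem fv_comp {V W : FGModuleCat.{u} K} (g : V ⟶ W) (v : V) :
    fv K V v ≫ g = fv K W (g.hom.hom v) := by
  apply (homEquiv K _ _).injective
  apply LinearMap.ext
  intro c
  change g.hom.hom ((fv K V v).hom.hom c) = (fv K W (g.hom.hom v)).hom.hom c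
  rw [fv_apply, fv_apply, map_smul]

theorem theta_naturality {V W : FGModuleCat.{u} K} (g : V ⟶ W) :
    (L.obj (FGModuleCat.of K K) ◁ g.hom) ≫ theta L W = theta L V ≫ L.map g := by
  apply ModuleCat.MonoidalCategory.tensor_ext
  intro x v
  change (theta L W).hom (x ⊗ₜ g.hom.hom v) = (L.map g).hom ((theta L V).hom (x ⊗ₜ v))
  rw [theta_tmul, theta_tmul, ← fv_comp, L.map_comp]
  rfl

theorem main : Nonempty (L ≅ (ModuleCat.isFG.{u} K).ι ⋙
    MonoidalCategory.tensorLeft (L.obj (FGModuleCat.of K K))) := by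
  refine ⟨(NatIso.ofComponents (fun V => ⟨theta L V, psi L V, theta_psi L V, psi_theta L V⟩)
    ?_).symm⟩
  intro V W g
  exact theta_naturality L g

end Groth.Agent.Helper18.LinFunctor
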