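import Mathlib
import Groth.Prelude.Def_Desc
import Groth.Agent.Lib.Helper18.QSh2

/-!
# A sheaf locally representable by affine schemes: the descent datum (helper18)
-/

set_option autoImplicit false
set_option linter.style.haveILetI false
set_option linter.unusedSectionVars false
set_option backward.isDefEq.respectTransparency false

universe u

open CategoryTheory CategoryTheory.Limits AlgebraicGeometry Opposite Groth.Agent.Helper18.QSh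

noncomputable section

namespace Groth.Agent.Helper18.LocRepAff

local notation "𝒦" => Scheme.fppfPrecoverage

variable {S S' : Scheme.{u}} {f : S' ⟶ S} {Z : QuotSh.Sh 𝒦 S} {T' : Over S} {a : T' ⟶ Over.mk f}
  (φ : QuotSh.rep 𝒦 T' ≅ Z ⨯ QuotSh.rep 𝒦 (Over.mk f))

/-- the `Z`-component of a `T`-point of `T'` -/
def zOf {T : Over S} (v : T ⟶ T') : Z.obj.obj (op T) :=
  sec 𝒦 (QuotSh.repMap 𝒦 v ≫ φ.hom ≫ prod.fst)

theorem zOf_comp {T T₂ : Over S} (g : T₂ ⟶ T) (v : T ⟶ T') :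
    zOf φ (g ≫ v) = Z.obj.map g.op (zOf φ v) := by
  unfold zOf
  rw [repMap_comp, Category.assoc, sec_repMap]

variable (hφ : φ.hom ≫ prod.snd = QuotSh.repMap 𝒦 a)

include hφ in
theorem zOf_injective {T : Over S} (v w : T ⟶ T') (ha : v ≫ a = w ≫ a)
    (hz : zOf φ v = zOf φ w) : v = w := by
  apply repMap_injective 𝒦
  rw [← cancel_mono φ.hom]
  apply Limits.prod.hom_ext
  · simp only [Category.assoc]
    exact sec_injective 𝒦 _ _ hz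
  · simp only [Category.assoc, hφ]
    rw [← repMap_comp, ← repMap_comp, ha]

include hφ in
theorem exists_zOf {T : Over S} (x : T ⟶ Over.mk f) (z : Z.obj.obj (op T)) :
    ∃ v : T ⟶ T', v ≫ a = x ∧ zOf φ v = z := by
  obtain ⟨v, hv⟩ := exists_repMap 𝒦 (prod.lift (ofSec 𝒦 z) (QuotSh.repMap 𝒦 x) ≫ φ.inv)
  refine ⟨v, ?_, ?_⟩
  · apply repMap_injective 𝒦
    rw [repMap_comp, hv, ← hφ]
    simp
  · unfold zOf
    rw [hv]
    simp [sec_ofSec]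

/-- the `Z`-component of a lift with chosen structure map -/
def zL {T : Scheme.{u}} (t : T ⟶ S) (v : T ⟶ T'.left) (hv : v ≫ T'.hom = t) :
    Z.obj.obj (op (Over.mk t)) :=
  zOf φ (Over.homMk v hv : Over.mk t ⟶ T')

theorem zL_congr {T : Scheme.{u}} (t : T ⟶ S) {v w : T ⟶ T'.left} (h : v = w) (hv : v ≫ T'.hom = t)
    (hw : w ≫ T'.hom = t) : zL φ t v hv = zL φ t w hw := by
  subst h; rfl

theorem zL_natural {T T₂ : Scheme.{u}} (t : T ⟶ S) (t₂ : T₂ ⟶ S) (g : T₂ ⟶ T) (hg : g ≫ t = t₂)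
    (v : T ⟶ T'.left) (hv : v ≫ T'.hom = t) :
    zL φ t₂ (g ≫ v) (by rw [Category.assoc, hv, hg]) =
      Z.obj.map (Over.homMk g hg : Over.mk t₂ ⟶ Over.mk t).op (zL φ t v hv) := by
  unfold zL
  rw [← zOf_comp]
  congr 1

include hφ in
theorem zL_injective {T : Scheme.{u}} (t : T ⟶ S) (v w : T ⟶ T'.left) (hv : v ≫ T'.hom = t)
    (hw : w ≫ T'.hom = t) (ha : v ≫ a.left = w ≫ a.left) (hz : zL φ t v hv = zL φ t w hw) : v = w := by
  have := zOf_injective φ hφ (Over.homMk v hv : Over.mk t ⟶ T') (Over.homMk w hw) (by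
    ext; simpa using ha) hz
  exact congrArg (fun k => k.left) this

theorem hom_eq (a : T' ⟶ Over.mk f) : a.left ≫ f = T'.hom := Over.w a

include hφ in
theorem exists_zL {T : Scheme.{u}} (t : T ⟶ S) (x : T ⟶ S') (hx : x ≫ f = t)
    (z : Z.obj.obj (op (Over.mk t))) :
    ∃ (v : T ⟶ T'.left) (hv : v ≫ T'.hom = t), v ≫ a.left = x ∧ zL φ t v hv = z := by
  obtain ⟨v, hv1, hv2⟩ := exists_zOf φ hφ (Over.homMk x hx : Over.mk t ⟶ Over.mk f) z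
  refine ⟨v.left, Over.w v, ?_, ?_⟩
  · have := congrArg (fun k => k.left) hv1
    simpa using this
  · exact hv2

section DD

open Desc

theorem lift_hom {T : Scheme.{u}} {x : T ⟶ S'} (t : T ⟶ S) (hx : x ≫ f = t)
    (v : Lifts (Over.mk a.left : Over S') x) : v.1 ≫ T'.hom = t := by
  rw [← hom_eq a, ← Category.assoc]
  have : v.1 ≫ a.left = x := v.2
  rw [this, hx]

include hφ in
theorem exists_tr {T : Scheme.{u}} (x₀ x₁ : T ⟶ S') (h : x₀ ≫ f = x₁ ≫ f)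
    (v : Lifts (Over.mk a.left : Over S') x₀) :
    ∃ w : Lifts (Over.mk a.left : Over S') x₁,
      zL φ (x₀ ≫ f) w.1 (lift_hom _ h.symm w) = zL φ (x₀ ≫ f) v.1 (lift_hom _ rfl v) := by
  obtain ⟨w, hw, hw1, hw2⟩ := exists_zL φ hφ (x₀ ≫ f) x₁ h.symm (zL φ (x₀ ≫ f) v.1 (lift_hom _ rfl v))
  exact ⟨⟨w, hw1⟩, hw2⟩

/-- transport of lifts -/
def tr {T : Scheme.{u}} (x₀ x₁ : T ⟶ S') (h : x₀ ≫ f = x₁ ≫ f)
    (v : Lifts (Over.mk a.left : Over S') x₀) : Lifts (Over.mk a.left : Over S') x₁ :=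
  (exists_tr φ hφ x₀ x₁ h v).choose

include hφ in
theorem tr_spec {T : Scheme.{u}} (x₀ x₁ : T ⟶ S') (h : x₀ ≫ f = x₁ ≫ f) (t : T ⟶ S)
    (h₀ : x₀ ≫ f = t) (h₁ : x₁ ≫ f = t)
    (v : Lifts (Over.mk a.left : Over S') x₀) :
    zL φ t (tr φ hφ x₀ x₁ h v).1 (lift_hom _ h₁ _) = zL φ t v.1 (lift_hom _ h₀ v) := by
  subst h₀
  exact (exists_tr φ hφ x₀ x₁ h v).choose_spec

include hφ in
theorem tr_eq_of {T : Scheme.{u}} (x₀ x₁ : T ⟶ S') (h : x₀ ≫ f = x₁ ≫ f) (t : T ⟶ S)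
    (h₀ : x₀ ≫ f = t) (h₁ : x₁ ≫ f = t)
    (v : Lifts (Over.mk a.left : Over S') x₀) (w : Lifts (Over.mk a.left : Over S') x₁)
    (hw : zL φ t w.1 (lift_hom _ h₁ w) = zL φ t v.1 (lift_hom _ h₀ v)) :
    tr φ hφ x₀ x₁ h v = w := by
  apply Subtype.ext
  apply zL_injective φ hφ t _ _ (lift_hom _ h₁ _) (lift_hom _ h₁ w)
  · exact ((tr φ hφ x₀ x₁ h v).2).trans w.2.symm
  · rw [hw]
    exact tr_spec φ hφ x₀ x₁ h t h₀ h₁ v

include hφ in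
theorem tr_self {T : Scheme.{u}} (x : T ⟶ S') (v : Lifts (Over.mk a.left : Over S') x) :
    tr φ hφ x x rfl v = v :=
  tr_eq_of φ hφ x x rfl (x ≫ f) rfl rfl v v rfl

include hφ in
theorem tr_tr {T : Scheme.{u}} (x₀ x₁ x₂ : T ⟶ S') (h₀₁ : x₀ ≫ f = x₁ ≫ f) (h₁₂ : x₁ ≫ f = x₂ ≫ f)
    (v : Lifts (Over.mk a.left : Over S') x₀) :
    tr φ hφ x₁ x₂ h₁₂ (tr φ hφ x₀ x₁ h₀₁ v) = tr φ hφ x₀ x₂ (h₀₁.trans h₁₂) v := by
  apply tr_eq_of φ hφ x₁ x₂ h₁₂ (x₀ ≫ f) h₀₁.symm (h₀₁.trans h₁₂).symm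
  rw [tr_spec φ hφ x₀ x₂ (h₀₁.trans h₁₂) (x₀ ≫ f) rfl (h₀₁.trans h₁₂).symm v,
    tr_spec φ hφ x₀ x₁ h₀₁ (x₀ ≫ f) rfl h₀₁.symm v]

/-- the descent datum on `T'` relative to `f` -/
def dd : SchDD f where
  obj := Over.mk a.left
  φ T x₀ x₁ h :=
    { toFun := tr φ hφ x₀ x₁ h
      invFun := tr φ hφ x₁ x₀ h.symm
      left_inv := fun v => by rw [tr_tr, tr_self]
      right_inv := fun v => by rw [tr_tr, tr_self] }
  φ_natural T T₂ g x₀ x₁ h h' v v' hv' := by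
    have hg : g ≫ (x₀ ≫ f) = (g ≫ x₀) ≫ f := (Category.assoc _ _ _).symm
    have key := tr_eq_of φ hφ (g ≫ x₀) (g ≫ x₁) h' ((g ≫ x₀) ≫ f) rfl h'.symm v'
      ⟨g ≫ (tr φ hφ x₀ x₁ h v).1, by
        rw [Category.assoc]
        congr 1
        exact (tr φ hφ x₀ x₁ h v).2⟩ (by
        change zL φ _ (g ≫ (tr φ hφ x₀ x₁ h v).1) _ = _
        rw [zL_natural φ (x₀ ≫ f) ((g ≫ x₀) ≫ f) g hg _ (lift_hom _ h.symm _),
          tr_spec φ hφ x₀ x₁ h (x₀ ≫ f) rfl h.symm v,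
          ← zL_natural φ (x₀ ≫ f) ((g ≫ x₀) ≫ f) g hg _ (lift_hom _ rfl v)]
        exact zL_congr φ _ hv'.symm _ _)
    exact congrArg Subtype.val key
  φ_self T x v := tr_self φ hφ x v
  φ_comp T x₀ x₁ x₂ h₀₁ h₁₂ v := tr_tr φ hφ x₀ x₁ x₂ h₀₁ h₁₂ v

end DD

end Groth.Agent.Helper18.LocRepAff
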