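import Mathlib
import Groth.Agent.Lib.Helper18.LocRepAff1
import Groth.Agent.Lib.Helper21.DescProp
import Groth.Agent.Lib.Helper21.AffDesc

/-!
# A sheaf locally representable by affine schemes is representable (helper18)
-/

set_option autoImplicit false
set_option linter.style.haveILetI false
set_option linter.unusedSectionVars false
set_option backward.isDefEq.respectTransparency false

universe u

open CategoryTheory CategoryTheory.Limits AlgebraicGeometry Opposite Groth.Agent.Helper18.QSh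

noncomputable section

namespace Groth.Agent.Helper18.LocRepAff

local notation "𝒦" => Scheme.fppfPrecoverage

open Desc

theorem exists_eff {S S' : Scheme.{u}} (f : S' ⟶ S) [Flat f] [Surjective f]
    [LocallyOfFinitePresentation f] (D : Desc.SchDD f) [IsAffineHom D.obj.hom] :
    ∃ U : Over S, Nonempty ((Desc.toDD f).obj U ≅ D) := by
  have hf : Presieve.ofArrows (fun _ : PUnit.{u + 1} => S') (fun _ => f) ∈
      Scheme.fpqcPrecoverage S := by
    rw [Presieve.ofArrows_pUnit]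
    exact Scheme.fppfPrecoverage_le_fpqcPrecoverage _ (Scheme.Hom.singleton_mem_fppfPrecoverage f)
  have heff := Groth.Agent.Helper21.DescProp.affine_isEffective (fun _ : PUnit.{u + 1} => f) hf
    ((SchDDFam.ofSchDD f).obj D) (fun _ => inferInstanceAs (IsAffineHom D.obj.hom))
  obtain ⟨U, ⟨e⟩⟩ := heff
  exact ⟨U, ⟨(SchDDFam.toSchDD f).mapIso e⟩⟩

variable {S S' : Scheme.{u}} {f : S' ⟶ S} {Z : QuotSh.Sh 𝒦 S} {T' : Over S} {a : T' ⟶ Over.mk f}
  (φ : QuotSh.rep 𝒦 T' ≅ Z ⨯ QuotSh.rep 𝒦 (Over.mk f))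
  (hφ : φ.hom ≫ prod.snd = QuotSh.repMap 𝒦 a)
  {U : Over S} (e : (Desc.toDD f).obj U ≅ dd φ hφ)

/-- the comparison isomorphism `S' ×_S U ⟶ T'` -/
def eps : pullback f U.hom ⟶ T'.left := e.hom.hom.left

/-- its inverse -/
def eps' : T'.left ⟶ pullback f U.hom := e.inv.hom.left

theorem eps_eps' : eps φ hφ e ≫ eps' φ hφ e = 𝟙 _ := by
  have h : e.hom.hom ≫ e.inv.hom = 𝟙 _ := by
    rw [← SchDD.comp_hom, e.hom_inv_id]; rfl
  exact congrArg (fun k => k.left) h

theorem eps'_eps : eps' φ hφ e ≫ eps φ hφ e = 𝟙 _ := by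
  have h : e.inv.hom ≫ e.hom.hom = 𝟙 _ := by
    rw [← SchDD.comp_hom, e.inv_hom_id]; rfl
  exact congrArg (fun k => k.left) h

theorem eps_a : eps φ hφ e ≫ a.left = pullback.fst f U.hom := Over.w e.hom.hom

theorem eps'_fst : eps' φ hφ e ≫ pullback.fst f U.hom = a.left := Over.w e.inv.hom

/-- the `T`-point of `T'` with components `x` and `u` -/
def lft {T : Over S} (x : T ⟶ Over.mk f) (u : T ⟶ U) : T ⟶ T' :=
  Over.homMk (pullback.lift x.left u.left ((Over.w x).trans (Over.w u).symm) ≫ eps φ hφ e) (by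
    rw [Category.assoc, ← hom_eq a, ← Category.assoc (eps φ hφ e), eps_a, ← Category.assoc]
    erw [pullback.lift_fst]
    exact Over.w x)

theorem lft_a {T : Over S} (x : T ⟶ Over.mk f) (u : T ⟶ U) : lft φ hφ e x u ≫ a = x := by
  ext
  simp only [lft, Over.comp_left, Over.homMk_left, Category.assoc, eps_a]
  erw [pullback.lift_fst]

theorem lft_comp {T V : Over S} (k : V ⟶ T) (x : T ⟶ Over.mk f) (u : T ⟶ U) :
    k ≫ lft φ hφ e x u = lft φ hφ e (k ≫ x) (k ≫ u) := by
  ext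
  simp only [lft, Over.comp_left, Over.homMk_left, ← Category.assoc]
  congr 1
  apply pullback.hom_ext <;> simp

/-- the section of `Z` attached to `(x, u)` -/
def psi {T : Over S} (x : T ⟶ Over.mk f) (u : T ⟶ U) : Z.obj.obj (op T) :=
  zOf φ (lft φ hφ e x u)

theorem psi_map {T V : Over S} (k : V ⟶ T) (x : T ⟶ Over.mk f) (u : T ⟶ U) :
    Z.obj.map k.op (psi φ hφ e x u) = psi φ hφ e (k ≫ x) (k ≫ u) := by
  unfold psi
  rw [← zOf_comp, lft_comp]

theorem psi_indep {T : Over S} (x₀ x₁ : T ⟶ Over.mk f) (u : T ⟶ U) :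
    psi φ hφ e x₀ u = psi φ hφ e x₁ u := by
  have h : x₀.left ≫ f = x₁.left ≫ f := (Over.w x₀).trans (Over.w x₁).symm
  have hc0 : x₀.left ≫ f = u.left ≫ U.hom := (Over.w x₀).trans (Over.w u).symm
  have hc1 : x₁.left ≫ f = u.left ≫ U.hom := (Over.w x₁).trans (Over.w u).symm
  let v : Lifts ((Desc.toDD f).obj U).obj x₀.left :=
    ⟨pullback.lift x₀.left u.left hc0, pullback.lift_fst _ _ _⟩
  let w : Lifts (dd φ hφ).obj x₀.left := ⟨v.1 ≫ eps φ hφ e, by
    rw [Category.assoc]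
    change _ ≫ eps φ hφ e ≫ a.left = _
    rw [eps_a]
    exact v.2⟩
  have hcomm := e.hom.comm x₀.left x₁.left h v w rfl
  have h2 : (((Desc.toDD f).obj U).φ x₀.left x₁.left h v).1 = pullback.lift x₁.left u.left hc1 := by
    apply pullback.hom_ext
    · simp [Desc.toDD, Desc.canonicalDD]
    · simp [Desc.toDD, Desc.canonicalDD, v]
  have h3 := tr_spec φ hφ x₀.left x₁.left h T.hom (Over.w x₀) (Over.w x₁) w
  have h4 : (tr φ hφ x₀.left x₁.left h w).1 = pullback.lift x₁.left u.left hc1 ≫ eps φ hφ e := by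
    rw [← h2]
    exact hcomm
  rw [zL_congr φ T.hom h4 _ (by
    rw [Category.assoc, ← hom_eq a, ← Category.assoc (eps φ hφ e), eps_a, ← Category.assoc]
    erw [pullback.lift_fst]
    exact Over.w x₁)] at h3
  exact h3.symm

theorem lft_snd {T : Over S} (x : T ⟶ Over.mk f) (u : T ⟶ U) :
    (lft φ hφ e x u).left ≫ eps' φ hφ e ≫ pullback.snd f U.hom = u.left := by
  simp only [lft, Over.homMk_left, Category.assoc]
  rw [← Category.assoc (eps φ hφ e), eps_eps', Category.id_comp]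
  erw [pullback.lift_snd]

theorem psi_injective {T : Over S} (x : T ⟶ Over.mk f) (u₁ u₂ : T ⟶ U)
    (h : psi φ hφ e x u₁ = psi φ hφ e x u₂) : u₁ = u₂ := by
  have h1 := zOf_injective φ hφ _ _ ((lft_a φ hφ e x u₁).trans (lft_a φ hφ e x u₂).symm) h
  ext
  rw [← lft_snd φ hφ e x u₁, ← lft_snd φ hφ e x u₂, h1]

theorem exists_psi {T : Over S} (x : T ⟶ Over.mk f) (z : Z.obj.obj (op T)) :
    ∃ u : T ⟶ U, psi φ hφ e x u = z := by
  obtain ⟨v, hv1, hv2⟩ := exists_zOf φ hφ x z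
  have hvx : v.left ≫ a.left = x.left := by
    simpa using congrArg (fun k => k.left) hv1
  refine ⟨Over.homMk (v.left ≫ eps' φ hφ e ≫ pullback.snd f U.hom) ?_, ?_⟩
  · rw [Category.assoc, Category.assoc, ← pullback.condition, ← Category.assoc (eps' φ hφ e),
      eps'_fst, hom_eq a]
    exact Over.w v
  · unfold psi
    rw [← hv2]
    congr 1
    ext
    simp only [lft, Over.homMk_left]
    have : pullback.lift x.left (v.left ≫ eps' φ hφ e ≫ pullback.snd f U.hom)
        ((Over.w x).trans (Over.w (Over.homMk (v.left ≫ eps' φ hφ e ≫ pullback.snd f U.hom)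
          (by
            rw [Category.assoc, Category.assoc, ← pullback.condition,
              ← Category.assoc (eps' φ hφ e), eps'_fst, hom_eq a]
            exact Over.w v) : T ⟶ U)).symm) = v.left ≫ eps' φ hφ e := by
      apply pullback.hom_ext
      · erw [pullback.lift_fst]
        rw [Category.assoc]
        erw [eps'_fst]
        exact hvx.symm
      · erw [pullback.lift_snd]
        rw [Category.assoc]
        rfl
    erw [this]
    rw [Category.assoc, eps'_eps, Category.comp_id]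

variable (f) in
/-- the sieve of schemes over `T` admitting a morphism to `S'` -/
def dom (T : Over S) : Sieve T where
  arrows V _ := Nonempty (V ⟶ Over.mk f)
  downward_closed := by
    rintro V W g ⟨x⟩ k
    exact ⟨k ≫ x⟩

theorem dom_mem [Flat f] [Surjective f] [LocallyOfFinitePresentation f] (T : Over S) :
    dom f T ∈ QuotSh.J 𝒦 S T := by
  let q : Over.mk (pullback.snd f T.hom ≫ T.hom) ⟶ T := Over.homMk (pullback.snd f T.hom) rfl
  have hq : Presieve.singleton q.left ∈ Scheme.fppfPrecoverage T.left :=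
    Scheme.Hom.singleton_mem_fppfPrecoverage (pullback.snd f T.hom)
  refine (QuotSh.J 𝒦 S).superset_covering ?_ (secSieve_mem_of_singleton 𝒦 q hq)
  rintro V g ⟨s, hs⟩
  exact ⟨s ≫ Over.homMk (pullback.fst f T.hom) (by simp [pullback.condition])⟩

theorem hom_ext_of_cover {T U : Over S} (R : Sieve T) (hR : R ∈ QuotSh.J 𝒦 S T) (u₁ u₂ : T ⟶ U)
    (h : ∀ ⦃V : Over S⦄ (k : V ⟶ T), R k → k ≫ u₁ = k ≫ u₂) : u₁ = u₂ := by
  apply secOf_injective 𝒦
  have hs := ((isSheaf_iff_isSheaf_of_type _ _).1 (QuotSh.rep 𝒦 U).property _ hR).isSeparatedFor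
  apply hs.ext
  intro V k hk
  rw [map_secOf, map_secOf, h k hk]

theorem glueHom {T U : Over S} (R : Sieve T) (hR : R ∈ QuotSh.J 𝒦 S T)
    (fam : ∀ ⦃V : Over S⦄ (k : V ⟶ T), R k → (V ⟶ U))
    (compat : ∀ ⦃V₁ V₂ W : Over S⦄ (m₁ : W ⟶ V₁) (m₂ : W ⟶ V₂) ⦃k₁ : V₁ ⟶ T⦄ ⦃k₂ : V₂ ⟶ T⦄
      (h₁ : R k₁) (h₂ : R k₂), m₁ ≫ k₁ = m₂ ≫ k₂ → m₁ ≫ fam k₁ h₁ = m₂ ≫ fam k₂ h₂) :
    ∃ u : T ⟶ U, ∀ ⦃V : Over S⦄ (k : V ⟶ T) (hk : R k), k ≫ u = fam k hk := by
  have hsh := (isSheaf_iff_isSheaf_of_type _ _).1 (QuotSh.rep 𝒦 U).property _ hR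
  let F : Presieve.FamilyOfElements (QuotSh.rep 𝒦 U).obj R.arrows :=
    fun V k hk => secOf 𝒦 (fam k hk)
  have hF : F.Compatible := by
    intro V₁ V₂ W m₁ m₂ k₁ k₂ h₁ h₂ hc
    simp only [F]
    rw [map_secOf, map_secOf, compat m₁ m₂ h₁ h₂ hc]
  obtain ⟨u, hu⟩ := exists_secOf 𝒦 (hsh.amalgamate F hF)
  refine ⟨u, fun V k hk => ?_⟩
  apply secOf_injective 𝒦
  rw [← map_secOf, hu]
  exact hsh.valid_glue hF k hk

end Groth.Agent.Helper18.LocRepAff
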