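import Mathlib
import Groth.Agent.Lib.Helper18.LocRepAff2

/-!
# A sheaf locally representable by affine schemes is representable: the isomorphism (helper18)
-/

set_option autoImplicit false
set_option linter.style.haveILetI false
set_option linter.unusedSectionVars false
set_option backward.isDefEq.respectTransparency false

universe u

open CategoryTheory CategoryTheory.Limits AlgebraicGeometry Opposite Groth.Agent.Helper18.QSh

noncomputable section

namespace Groth.Agent.Helper18.LocRepAff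

local notation "𝒦" => Scheme.fppfPrecoverage

open Desc

variable {S S' : Scheme.{u}} {f : S' ⟶ S} [Flat f] [Surjective f] [LocallyOfFinitePresentation f]
  {Z : QuotSh.Sh 𝒦 S} {T' : Over S} {a : T' ⟶ Over.mk f}
  (φ : QuotSh.rep 𝒦 T' ≅ Z ⨯ QuotSh.rep 𝒦 (Over.mk f))
  (hφ : φ.hom ≫ prod.snd = QuotSh.repMap 𝒦 a)
  {U : Over S} (e : (Desc.toDD f).obj U ≅ dd φ hφ)

theorem sheafFor (T : Over S) : Presieve.IsSheafFor Z.obj (dom f T).arrows :=
  (isSheaf_iff_isSheaf_of_type _ _).1 Z.property _ (dom_mem (f := f) T)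

/-- the local sections defining the universal section -/
def famU : Presieve.FamilyOfElements Z.obj (dom f U).arrows :=
  fun _ g hg => psi φ hφ e hg.some g

theorem famU_compat : (famU φ hφ e).Compatible := by
  intro Y₁ Y₂ W g₁ g₂ f₁ f₂ h₁ h₂ hc
  unfold famU
  rw [psi_map, psi_map, hc]
  exact psi_indep φ hφ e _ _ _

/-- the universal section of `Z` over `U` -/
def zU : Z.obj.obj (op U) := (sheafFor U).amalgamate _ (famU_compat φ hφ e)

theorem zU_map {V : Over S} (g : V ⟶ U) (x : V ⟶ Over.mk f) :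
    Z.obj.map g.op (zU φ hφ e) = psi φ hφ e x g := by
  have h := (sheafFor U).valid_glue (famU_compat φ hφ e) g ⟨x⟩
  rw [zU, h]
  exact psi_indep φ hφ e _ _ _

theorem Phi_injective {T : Over S} (u₁ u₂ : T ⟶ U)
    (h : Z.obj.map u₁.op (zU φ hφ e) = Z.obj.map u₂.op (zU φ hφ e)) : u₁ = u₂ := by
  apply hom_ext_of_cover (dom f T) (dom_mem (f := f) T)
  rintro V k ⟨x⟩
  apply psi_injective φ hφ e x
  rw [← zU_map φ hφ e (k ≫ u₁) x, ← zU_map φ hφ e (k ≫ u₂) x, op_comp, op_comp,
    FunctorToTypes.map_comp_apply, FunctorToTypes.map_comp_apply, h]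

theorem Phi_surjective {T : Over S} (z : Z.obj.obj (op T)) :
    ∃ u : T ⟶ U, Z.obj.map u.op (zU φ hφ e) = z := by
  have hex : ∀ ⦃V : Over S⦄ (k : V ⟶ T) (hk : (dom f T) k),
      ∃ u : V ⟶ U, psi φ hφ e hk.some u = Z.obj.map k.op z :=
    fun V k hk => exists_psi φ hφ e _ _
  choose fam hfam using hex
  obtain ⟨u, hu⟩ := glueHom (dom f T) (dom_mem (f := f) T) fam (by
    intro V₁ V₂ W m₁ m₂ k₁ k₂ h₁ h₂ hc
    apply psi_injective φ hφ e (m₁ ≫ h₁.some)
    rw [← psi_map, hfam, psi_indep φ hφ e (m₁ ≫ h₁.some) (m₂ ≫ h₂.some), ← psi_map, hfam,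
      ← FunctorToTypes.map_comp_apply, ← FunctorToTypes.map_comp_apply, ← op_comp, ← op_comp, hc])
  refine ⟨u, ?_⟩
  apply (sheafFor (f := f) (Z := Z) T).isSeparatedFor.ext
  intro V k hk
  rw [← FunctorToTypes.map_comp_apply, ← op_comp, hu k hk, zU_map φ hφ e _ hk.some, hfam]

/-- the comparison morphism -/
def psiHom : QuotSh.rep 𝒦 U ⟶ Z := ofSec 𝒦 (zU φ hφ e)

theorem psiHom_app {T : Over S} (u : T ⟶ U) :
    (psiHom φ hφ e).hom.app (op T) (secOf 𝒦 u) = Z.obj.map u.op (zU φ hφ e) := by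
  rw [secOf, ← sec_comp, psiHom, sec_repMap, sec_ofSec]

theorem isIso_psiHom : IsIso (psiHom φ hφ e) := by
  have hb : ∀ T : Over S, Function.Bijective ((psiHom φ hφ e).hom.app (op T)) := by
    intro T
    have h1 : Function.Bijective ((psiHom φ hφ e).hom.app (op T) ∘ (secOf 𝒦 : (T ⟶ U) → _)) := by
      refine ⟨fun u₁ u₂ h => ?_, fun z => ?_⟩
      · simp only [Function.comp_apply, psiHom_app] at h
        exact Phi_injective φ hφ e u₁ u₂ h
      · obtain ⟨u, hu⟩ := Phi_surjective φ hφ e z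
        exact ⟨u, by simp only [Function.comp_apply, psiHom_app, hu]⟩
    exact (Function.Bijective.of_comp_iff _ (secOf_bijective 𝒦 T U)).1 h1
  haveI : IsIso (psiHom φ hφ e).hom := by
    haveI : ∀ X, IsIso ((psiHom φ hφ e).hom.app X) := fun X => (isIso_iff_bijective _).2 (hb X.unop)
    exact NatIso.isIso_of_isIso_app _
  haveI : IsIso ((sheafToPresheaf (QuotSh.J 𝒦 S) (Type (u + 1))).map (psiHom φ hφ e)) := by
    change IsIso (psiHom φ hφ e).hom
    infer_instance
  exact isIso_of_reflects_iso _ (sheafToPresheaf (QuotSh.J 𝒦 S) (Type (u + 1)))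

include e in
theorem isAffineHom_U [IsAffineHom a.left] : IsAffineHom U.hom := by
  haveI := Groth.Agent.Helper21.AffDesc.affine.{u}
  have hfst : IsAffineHom (pullback.fst f U.hom) := by
    rw [← eps_a φ hφ e]
    haveI : IsIso (eps φ hφ e) := ⟨eps' φ hφ e, eps_eps' φ hφ e, eps'_eps φ hφ e⟩
    infer_instance
  exact MorphismProperty.of_isPullback_of_descendsAlong (P := @IsAffineHom)
    (Q := (@Surjective ⊓ @Flat ⊓ @LocallyOfFinitePresentation : MorphismProperty Scheme.{u}))
    (IsPullback.of_hasPullback f U.hom) ⟨⟨inferInstance, inferInstance⟩, inferInstance⟩ hfst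

end Groth.Agent.Helper18.LocRepAff
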