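import Mathlib
import Groth.Prelude
import Groth.Agent.Lib.Helper18.LocSub1
import Groth.Agent.Lib.Helper18.QSh2
import Groth.Agent.Lib.Helper18.DescHomK
import Groth.Agent.Lib.Helper18.TorsComp

/-!
# Sections of the fpqc quotient sheaf `U/R` and subobjects of `U ×_S T` (helper18)
-/

set_option autoImplicit false
set_option linter.style.haveILetI false
universe u
open CategoryTheory CategoryTheory.Limits AlgebraicGeometry Opposite MorphismProperty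
open MonoidalCategory CartesianMonoidalCategory

namespace Groth.Agent.Helper18.LocSub

open Groth.Agent.Helper18.QSh Groth.Agent.Helper18.FppfDescHom

local notation "𝒦" => Scheme.fpqcPrecoverage

variable {S : Scheme.{u}} {R U : Over S} (s t : R ⟶ U) {T : Over S}
  (σ : QuotSh.rep 𝒦 T ⟶ QuotSh.quot 𝒦 s t)

/-- the subfunctor of `U ⊗ T` cut out by a section `σ` of the quotient sheaf -/
def PredO {W : Over S} (y : W ⟶ U ⊗ T) : Prop :=
  QuotSh.repMap 𝒦 (y ≫ fst U T) ≫ QuotSh.quotπ 𝒦 s t = QuotSh.repMap 𝒦 (y ≫ snd U T) ≫ σ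

theorem predO_comp_iff {W W' : Over S} (g : W' ⟶ W) (y : W ⟶ U ⊗ T) :
    PredO s t σ (g ≫ y) ↔
      QuotSh.repMap 𝒦 g ≫ QuotSh.repMap 𝒦 (y ≫ fst U T) ≫ QuotSh.quotπ 𝒦 s t =
        QuotSh.repMap 𝒦 g ≫ QuotSh.repMap 𝒦 (y ≫ snd U T) ≫ σ := by
  unfold PredO
  rw [Category.assoc g, Category.assoc g, repMap_comp 𝒦 g (y ≫ fst U T),
    repMap_comp 𝒦 g (y ≫ snd U T), Category.assoc, Category.assoc]

theorem predO_comp {W W' : Over S} (g : W' ⟶ W) (y : W ⟶ U ⊗ T) (h : PredO s t σ y) :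
    PredO s t σ (g ≫ y) := by
  rw [predO_comp_iff]
  unfold PredO at h
  rw [h]

theorem predO_of_epi {W W' : Over S} (g : W' ⟶ W) [Epi (QuotSh.repMap 𝒦 g)] (y : W ⟶ U ⊗ T)
    (h : PredO s t σ (g ≫ y)) : PredO s t σ y := by
  rw [predO_comp_iff] at h
  exact (cancel_epi _).1 h

theorem predO_of_cover {W : Over S} (y : W ⟶ U ⊗ T) (Sv : Sieve W) (hSv : Sv ∈ QuotSh.J 𝒦 S W)
    (h : ∀ ⦃W' : Over S⦄ (g : W' ⟶ W), Sv g → PredO s t σ (g ≫ y)) : PredO s t σ y := by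
  unfold PredO
  apply sec_injective
  have hY : Presieve.IsSheaf (QuotSh.J 𝒦 S) (QuotSh.quot 𝒦 s t).obj :=
    (isSheaf_iff_isSheaf_of_type _ _).1 (QuotSh.quot 𝒦 s t).property
  refine (hY _ hSv).isSeparatedFor.ext ?_
  intro W' g hg
  rw [← sec_repMap, ← sec_repMap]
  have := h g hg
  rw [predO_comp_iff] at this
  rw [this]

/-- equality in the quotient sheaf is the relation -/
theorem quot_eq_iff [IsEquivalenceRelation s t] {W : Over S} (a b : W ⟶ U) :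
    QuotSh.repMap 𝒦 a ≫ QuotSh.quotπ 𝒦 s t = QuotSh.repMap 𝒦 b ≫ QuotSh.quotπ 𝒦 s t ↔
      relM s t W a b := by
  constructor
  · intro h
    obtain ⟨Rv, hRv, hl⟩ := exists_local_relM 𝒦 s t a b h
    exact exists_relM_of_local 𝒦 s t a b Rv hRv hl
  · rintro ⟨r, rfl, rfl⟩
    rw [repMap_comp, repMap_comp, Category.assoc, Category.assoc, QuotSh.quot_condition]

/-- local lifts of a section of the quotient sheaf -/
theorem exists_lifts : ∃ Sv ∈ QuotSh.J 𝒦 S T, ∀ ⦃V : Over S⦄ (g : V ⟶ T), Sv g →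
    ∃ a : V ⟶ U, QuotSh.repMap 𝒦 g ≫ σ = QuotSh.repMap 𝒦 a ≫ QuotSh.quotπ 𝒦 s t := by
  haveI : Sheaf.IsLocallySurjective (QuotSh.quotπ 𝒦 s t) :=
    (Sheaf.isLocallySurjective_iff_epi _).2 inferInstance
  have h := Presheaf.imageSieve_mem (QuotSh.J 𝒦 S) (QuotSh.quotπ 𝒦 s t).hom (sec 𝒦 σ)
  refine ⟨_, h, ?_⟩
  rintro V g ⟨x, hx⟩
  obtain ⟨a, rfl⟩ := exists_secOf 𝒦 x
  refine ⟨a, sec_injective 𝒦 _ _ ?_⟩
  rw [sec_repMap, sec_comp]
  exact hx.symm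

/-- a small covering family with lifts -/
theorem exists_family : ∃ (ι : Type u) (V : ι → Over S) (v : ∀ j, V j ⟶ T) (a : ∀ j, V j ⟶ U),
    Presieve.ofArrows (fun j => (V j).left) (fun j => (v j).left) ∈ 𝒦 T.left ∧
    ∀ j, QuotSh.repMap 𝒦 (v j) ≫ σ = QuotSh.repMap 𝒦 (a j) ≫ QuotSh.quotπ 𝒦 s t := by
  obtain ⟨Sv, hSv, hl⟩ := exists_lifts s t σ
  rw [GrothendieckTopology.mem_over_iff,
    Precoverage.mem_toGrothendieck_iff_of_isStableUnderComposition] at hSv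
  obtain ⟨Rp, hRp, hle⟩ := hSv
  obtain ⟨𝒰, rfl⟩ := Precoverage.mem_iff_exists_zeroHypercover.1 hRp
  let 𝒰' := 𝒰.restrictIndexOfSmall.{u}
  have hin : ∀ j : 𝒰'.I₀, Sv (Over.homMk (𝒰'.f j) : Over.mk (𝒰'.f j ≫ T.hom) ⟶ T) := fun j => by
    rw [← Sieve.overEquiv_iff]
    exact hle _ _ (Presieve.ofArrows.mk _)
  choose a ha using fun j => hl _ (hin j)
  exact ⟨𝒰'.I₀, fun j => Over.mk (𝒰'.f j ≫ T.hom), fun j => Over.homMk (𝒰'.f j), a, 𝒰'.mem₀, ha⟩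

end Groth.Agent.Helper18.LocSub
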