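import Mathlib
import Groth.Prelude
import Groth.Agent.Lib.Helper18.LocSub2

/-!
# Sections of the fpqc quotient sheaf `U/R` are represented by subschemes of `U ×_S T` (helper18)
-/

set_option autoImplicit false
set_option linter.style.haveILetI false
universe u
open CategoryTheory CategoryTheory.Limits AlgebraicGeometry Opposite MorphismProperty
open MonoidalCategory CartesianMonoidalCategory

namespace Groth.Agent.Helper18.LocSub

open Groth.Agent.Helper18.QSh Groth.Agent.Helper18.FppfDescHom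

local notation "𝒦" => Scheme.fpqcPrecoverage

variable {S : Scheme.{u}} {R U : Over S} (s t : R ⟶ U) {T : Over S}
  (σ : QuotSh.rep 𝒦 T ⟶ QuotSh.quot 𝒦 s t)

/-- Scheme-level version of `PredO` -/
def Pred ⦃W : Scheme.{u}⦄ (y : W ⟶ (U ⊗ T).left) : Prop :=
  PredO s t σ (Over.homMk y rfl : Over.mk (y ≫ (U ⊗ T).hom) ⟶ U ⊗ T)

theorem pred_iff {W : Over S} (y : W ⟶ U ⊗ T) : Pred s t σ y.left ↔ PredO s t σ y := by
  let e : W ≅ Over.mk (y.left ≫ (U ⊗ T).hom) := Over.isoMk (Iso.refl _) (by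
    show 𝟙 _ ≫ (y.left ≫ (U ⊗ T).hom) = W.hom
    rw [Category.id_comp]; exact Over.w y)
  have he : e.hom ≫ (Over.homMk y.left rfl : Over.mk (y.left ≫ (U ⊗ T).hom) ⟶ U ⊗ T) = y := by
    apply Over.OverMorphism.ext
    show 𝟙 _ ≫ y.left = y.left
    rw [Category.id_comp]
  constructor
  · intro h
    rw [← he]
    exact predO_comp s t σ e.hom _ h
  · intro h
    rw [← he] at h
    exact predO_of_epi s t σ e.hom _ h

theorem pred_comp ⦃W W' : Scheme.{u}⦄ (g : W' ⟶ W) (y : W ⟶ (U ⊗ T).left) (h : Pred s t σ y) :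
    Pred s t σ (g ≫ y) := by
  unfold Pred at h ⊢
  have e : (Over.homMk (g ≫ y) rfl : Over.mk ((g ≫ y) ≫ (U ⊗ T).hom) ⟶ U ⊗ T) =
      (Over.homMk g (by simp) : Over.mk ((g ≫ y) ≫ (U ⊗ T).hom) ⟶ Over.mk (y ≫ (U ⊗ T).hom)) ≫
        Over.homMk y rfl := by
    apply Over.OverMorphism.ext
    rfl
  rw [e]
  exact predO_comp s t σ _ _ h

theorem pred_of_family ⦃W : Scheme.{u}⦄ (y : W ⟶ (U ⊗ T).left) {ι : Type u} {Wi : ι → Scheme.{u}}
    (g : ∀ i, Wi i ⟶ W) (hg : Presieve.ofArrows Wi g ∈ 𝒦 W) (h : ∀ i, Pred s t σ (g i ≫ y)) :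
    Pred s t σ y := by
  unfold Pred
  let W' : Over S := Over.mk (y ≫ (U ⊗ T).hom)
  refine predO_of_cover s t σ _ ((Sieve.overEquiv W').symm (Sieve.generate (Presieve.ofArrows Wi g)))
    (GrothendieckTopology.overEquiv_symm_mem_over _ W' _ (Precoverage.generate_mem_toGrothendieck hg)) ?_
  intro W'' k hk
  rw [Sieve.overEquiv_symm_iff] at hk
  obtain ⟨Y, a, b, ⟨i⟩, hab⟩ := hk
  rw [← pred_iff]
  have e : (k ≫ (Over.homMk y rfl : W' ⟶ U ⊗ T)).left = a ≫ g i ≫ y := by
    show k.left ≫ y = _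
    rw [← hab, Category.assoc]
  rw [e]
  exact pred_comp s t σ a _ (h i)

theorem isPullback_whiskerLeft {V : Over S} (v : V ⟶ T) : IsPullback (U ◁ v) (snd U V) (snd U T) v := by
  refine Groth.Agent.Helper18.TorsComp.isPullback_of_points _ _ _ _ (whiskerLeft_snd _ _) ?_ ?_
  · intro W x y h
    refine ⟨lift (x ≫ fst U T) y, ?_, lift_snd _ _⟩
    rw [lift_whiskerLeft]
    apply CartesianMonoidalCategory.hom_ext
    · rw [lift_fst]
    · rw [lift_snd, h]
  · intro W m m' h1 h2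
    apply CartesianMonoidalCategory.hom_ext
    · have := congrArg (· ≫ fst U T) h1
      simpa [Category.assoc, whiskerLeft_fst] using this
    · exact h2

section Loc

variable [IsEquivalenceRelation s t] {V : Over S} (v : V ⟶ T) (a : V ⟶ U)

/-- local representing object: the pullback of the graph along `U ⊗ V ⟶ U ⊗ U` -/
noncomputable def Zloc : Over (U ⊗ V).left := Over.mk (pullback.snd (lift t s).left (U ◁ a).left)

theorem zloc_iff (hva : QuotSh.repMap 𝒦 v ≫ σ = QuotSh.repMap 𝒦 a ≫ QuotSh.quotπ 𝒦 s t)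
    ⦃W : Scheme.{u}⦄ (x : W ⟶ (U ⊗ V).left) :
    Nonempty (Desc.Lifts (Zloc s t a) x) ↔ Pred s t σ (x ≫ (U ◁ v).left) := by
  let W' : Over S := Over.mk (x ≫ (U ⊗ V).hom)
  let x' : W' ⟶ U ⊗ V := Over.homMk x rfl
  have h1 : Nonempty (Desc.Lifts (Zloc s t a) x) ↔ ∃ r' : W' ⟶ R, r' ≫ lift t s = x' ≫ (U ◁ a) := by
    constructor
    · rintro ⟨⟨(z : W ⟶ pullback (lift t s).left (U ◁ a).left), hz⟩⟩
      have hz' : z ≫ pullback.snd (lift t s).left (U ◁ a).left = x := hz
      have hr : (z ≫ pullback.fst (lift t s).left (U ◁ a).left) ≫ (lift t s).left =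
          x ≫ (U ◁ a).left := by
        rw [Category.assoc, pullback.condition, ← Category.assoc, hz']
      refine ⟨Over.homMk (z ≫ pullback.fst (lift t s).left (U ◁ a).left) ?_, ?_⟩
      · change _ ≫ R.hom = x ≫ (U ⊗ V).hom
        rw [← CategoryTheory.Over.w (lift t s), ← Category.assoc, hr, Category.assoc, CategoryTheory.Over.w]
      · apply Over.OverMorphism.ext
        exact hr
    · rintro ⟨r', hr'⟩
      have := congrArg (fun k => k.left) hr'
      exact ⟨⟨pullback.lift r'.left x (by exact this), pullback.lift_snd _ _ _⟩⟩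
  have h2 : (∃ r' : W' ⟶ R, r' ≫ lift t s = x' ≫ (U ◁ a)) ↔
      relM s t W' (x' ≫ snd U V ≫ a) (x' ≫ fst U V) := by
    constructor
    · rintro ⟨r', hr'⟩
      refine ⟨r', ?_, ?_⟩
      · have := congrArg (· ≫ snd U U) hr'
        simpa [Category.assoc, whiskerLeft_snd] using this
      · have := congrArg (· ≫ fst U U) hr'
        simpa [Category.assoc, whiskerLeft_fst] using this
    · rintro ⟨r', hr1, hr2⟩
      refine ⟨r', ?_⟩
      apply CartesianMonoidalCategory.hom_ext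
      · simp [hr2]
      · simp [hr1]
  rw [h1, h2, ← quot_eq_iff]
  have e : (x' ≫ (U ◁ v)).left = x ≫ (U ◁ v).left := rfl
  rw [← e, pred_iff]
  unfold PredO
  have e1 : (x' ≫ (U ◁ v)) ≫ fst U T = x' ≫ fst U V := by
    rw [Category.assoc, whiskerLeft_fst]
  have key : QuotSh.repMap 𝒦 (x' ≫ snd U V ≫ a) ≫ QuotSh.quotπ 𝒦 s t =
      QuotSh.repMap 𝒦 ((x' ≫ (U ◁ v)) ≫ snd U T) ≫ σ := by
    have e2 : (x' ≫ (U ◁ v)) ≫ snd U T = (x' ≫ snd U V) ≫ v := by
      rw [Category.assoc, whiskerLeft_snd, Category.assoc]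
    rw [e2, repMap_comp 𝒦 (x' ≫ snd U V) v, Category.assoc, hva, ← Category.assoc x',
      repMap_comp 𝒦 (x' ≫ snd U V) a, Category.assoc]
  rw [e1, ← key]
  exact eq_comm

end Loc

/-- **Representability**: a section `σ` of the quotient sheaf over `T` cuts out a subscheme of
`U ×_S T` of the same type as the graph of the relation. -/
theorem exists_rep_quot [IsEquivalenceRelation s t] (P : MorphismProperty Scheme.{u})
    [P.IsLocalAtTarget 𝒦] [P.IsStableUnderBaseChange]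
    (hPmono : ∀ ⦃A B : Scheme.{u}⦄ (g : A ⟶ B), P g → Mono g)
    (heff : ∀ {X : Scheme.{u}} {ι : Type u} {Xi : ι → Scheme.{u}} (f : ∀ i, Xi i ⟶ X),
      Presieve.ofArrows Xi f ∈ 𝒦 X → ∀ D : Desc.SchDDFam f, (∀ i, P (D.obj i).hom) → D.IsEffective)
    (hc : P (lift t s).left) :
    ∃ (Z : Over S) (i : Z ⟶ U ⊗ T), P i.left ∧
      ∀ {W : Over S} (y : W ⟶ U ⊗ T), (∃ z : W ⟶ Z, z ≫ i = y) ↔ PredO s t σ y := by
  obtain ⟨ι, V, v, a, hcov, hva⟩ := exists_family s t σ
  have hf : Presieve.ofArrows (fun j => (U ⊗ V j).left) (fun j => (U ◁ v j).left) ∈ 𝒦 (U ⊗ T).left :=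
    Precoverage.mem_coverings_of_isPullback (fun j => (v j).left) hcov (snd U T).left
      (fun j => (U ◁ v j).left) (fun j => (snd U (V j)).left)
      (fun j => (isPullback_whiskerLeft (v j)).map (Over.forget S))
  have hP : ∀ j, P (Zloc s t (a j)).hom := fun j => P.pullback_snd _ _ hc
  obtain ⟨Z₀, hPZ, hrep⟩ := exists_rep (fun j => (U ◁ v j).left) (Pred s t σ)
    (fun j => Zloc s t (a j)) (fun j => hPmono _ (hP j))
    (fun j W x => zloc_iff s t σ (v j) (a j) (hva j) x) P hPmono hf (heff _ hf) hP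
    (fun W W' g x h => pred_comp s t σ g x h)
    (fun W x h => pred_of_family s t σ x (fun i => pullback.fst x (U ◁ v i).left)
      (Precoverage.mem_coverings_of_isPullback _ hf x _ (fun i => pullback.snd x (U ◁ v i).left)
        (fun i => IsPullback.of_hasPullback x (U ◁ v i).left)) h)
  refine ⟨Over.mk (Z₀.hom ≫ (U ⊗ T).hom), Over.homMk Z₀.hom rfl, hPZ, fun {W} y => ?_⟩
  rw [← pred_iff, ← hrep]
  constructor
  · rintro ⟨z, hz⟩
    exact ⟨⟨z.left, congrArg (fun k => k.left) hz⟩⟩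
  · rintro ⟨⟨zl, hzl⟩⟩
    refine ⟨Over.homMk zl ?_, ?_⟩
    · change zl ≫ Z₀.hom ≫ (U ⊗ T).hom = W.hom
      rw [← Category.assoc, hzl, CategoryTheory.Over.w]
    · apply Over.OverMorphism.ext
      exact hzl

end Groth.Agent.Helper18.LocSub
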