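import Mathlib
import Groth.Prelude
import Groth.Agent.Lib.Helper18.LocSub3

/-!
# Properties of the subscheme of `U ×_S T` attached to a section of `U/R` (helper18)
-/

set_option autoImplicit false
set_option linter.style.haveILetI false
universe u
open CategoryTheory CategoryTheory.Limits AlgebraicGeometry Opposite MorphismProperty
open MonoidalCategory CartesianMonoidalCategory

namespace Groth.Agent.Helper18.LocSub

open Groth.Agent.Helper18.QSh Groth.Agent.Helper18.FppfDescHom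

local notation "𝒦" => Scheme.fpqcPrecoverage

variable {S : Scheme.{u}} {R U : Over S} (s t : R ⟶ U) {T : Over S}
  (σ : QuotSh.rep 𝒦 T ⟶ QuotSh.quot 𝒦 s t)

section Props

variable {Z : Over S} (i : Z ⟶ U ⊗ T)

theorem stable_iff (T' : Over S) (r : T' ⟶ R ⊗ T) :
    PredO s t σ (r ≫ (s ▷ T)) ↔ PredO s t σ (r ≫ (t ▷ T)) := by
  unfold PredO
  have e1 : (r ≫ (s ▷ T)) ≫ fst U T = (r ≫ fst R T) ≫ s := by
    rw [Category.assoc, whiskerRight_fst, Category.assoc]
  have e2 : (r ≫ (s ▷ T)) ≫ snd U T = r ≫ snd R T := by rw [Category.assoc, whiskerRight_snd]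
  have e3 : (r ≫ (t ▷ T)) ≫ fst U T = (r ≫ fst R T) ≫ t := by
    rw [Category.assoc, whiskerRight_fst, Category.assoc]
  have e4 : (r ≫ (t ▷ T)) ≫ snd U T = r ≫ snd R T := by rw [Category.assoc, whiskerRight_snd]
  rw [e1, e2, e3, e4, repMap_comp 𝒦 (r ≫ fst R T) s, repMap_comp 𝒦 (r ≫ fst R T) t, Category.assoc,
    Category.assoc, QuotSh.quot_condition]

theorem rel_of_same [IsEquivalenceRelation s t] (he : PredO s t σ i) (T' : Over S) (z₁ z₂ : T' ⟶ Z)
    (h : z₁ ≫ i ≫ snd U T = z₂ ≫ i ≫ snd U T) :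
    ∃ r : T' ⟶ R, r ≫ s = z₁ ≫ i ≫ fst U T ∧ r ≫ t = z₂ ≫ i ≫ fst U T := by
  have h1 := predO_comp s t σ z₁ i he
  have h2 := predO_comp s t σ z₂ i he
  unfold PredO at h1 h2
  rw [Category.assoc z₁, Category.assoc z₁] at h1
  rw [Category.assoc z₂, Category.assoc z₂] at h2
  have : QuotSh.repMap 𝒦 (z₁ ≫ i ≫ fst U T) ≫ QuotSh.quotπ 𝒦 s t =
      QuotSh.repMap 𝒦 (z₂ ≫ i ≫ fst U T) ≫ QuotSh.quotπ 𝒦 s t := by
    rw [h1, h, ← h2]
  exact (quot_eq_iff s t _ _).1 this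

/-- the cartesian squares relating `Z ⟶ T` to `s` over a local lift -/
theorem exists_sq [IsEquivalenceRelation s t] [Mono i]
    (hrep : ∀ {W : Over S} (y : W ⟶ U ⊗ T), (∃ z : W ⟶ Z, z ≫ i = y) ↔ PredO s t σ y)
    {V : Over S} (v : V ⟶ T) (a : V ⟶ U)
    (hva : QuotSh.repMap 𝒦 v ≫ σ = QuotSh.repMap 𝒦 a ≫ QuotSh.quotπ 𝒦 s t) :
    ∃ z : pullback a s ⟶ Z, IsPullback z (pullback.fst a s) (i ≫ snd U T) v := by
  have he : PredO s t σ i := (hrep i).1 ⟨𝟙 Z, Category.id_comp _⟩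
  have hcond : pullback.fst a s ≫ a = pullback.snd a s ≫ s := pullback.condition
  have hy : PredO s t σ (lift (pullback.snd a s ≫ t) (pullback.fst a s ≫ v)) := by
    unfold PredO
    rw [lift_fst, lift_snd, repMap_comp 𝒦 (pullback.snd a s) t, Category.assoc, ← QuotSh.quot_condition,
      ← Category.assoc (QuotSh.repMap 𝒦 (pullback.snd a s)), ← repMap_comp, ← hcond,
      repMap_comp 𝒦 (pullback.fst a s) a, Category.assoc, ← hva,
      ← Category.assoc (QuotSh.repMap 𝒦 (pullback.fst a s)), ← repMap_comp]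
  obtain ⟨z, hz⟩ := (hrep _).2 hy
  have hz1 : z ≫ i ≫ fst U T = pullback.snd a s ≫ t := by rw [← Category.assoc, hz, lift_fst]
  have hz2 : z ≫ i ≫ snd U T = pullback.fst a s ≫ v := by rw [← Category.assoc, hz, lift_snd]
  refine ⟨z, Groth.Agent.Helper18.TorsComp.isPullback_of_points _ _ _ _ hz2 ?_ ?_⟩
  · intro W x w hxw
    have hx' : QuotSh.repMap 𝒦 (w ≫ a) ≫ QuotSh.quotπ 𝒦 s t =
        QuotSh.repMap 𝒦 (x ≫ i ≫ fst U T) ≫ QuotSh.quotπ 𝒦 s t := by
      rw [repMap_comp 𝒦 w a, Category.assoc, ← hva, ← Category.assoc (QuotSh.repMap 𝒦 w), ← repMap_comp,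
        ← hxw]
      have hx := predO_comp s t σ x i he
      unfold PredO at hx
      rw [Category.assoc x, Category.assoc x] at hx
      exact hx.symm
    obtain ⟨r, hr1, hr2⟩ := (quot_eq_iff s t _ _).1 hx'
    refine ⟨pullback.lift w r hr1.symm, ?_, pullback.lift_fst _ _ _⟩
    rw [← cancel_mono i, Category.assoc, hz]
    apply CartesianMonoidalCategory.hom_ext
    · rw [Category.assoc, lift_fst, ← Category.assoc, pullback.lift_snd, hr2, Category.assoc]
    · rw [Category.assoc, lift_snd, ← Category.assoc, pullback.lift_fst, Category.assoc, hxw]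
  · intro W m m' h1 h2
    apply pullback.hom_ext
    · exact h2
    · apply relM_unique s t
      · have := congrArg (· ≫ a) h2
        simpa only [Category.assoc, hcond] using this
      · have := congrArg (· ≫ i ≫ fst U T) h1
        simpa only [Category.assoc, hz1] using this

/-- properties of `s` that are fpqc-local on the target pass to `Z ⟶ T` -/
theorem prop_of_rep [IsEquivalenceRelation s t] [Mono i]
    (hrep : ∀ {W : Over S} (y : W ⟶ U ⊗ T), (∃ z : W ⟶ Z, z ≫ i = y) ↔ PredO s t σ y)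
    (Q : MorphismProperty Scheme.{u}) [Q.IsLocalAtTarget 𝒦] [Q.IsStableUnderBaseChange]
    (hQ : Q s.left) : Q (i ≫ snd U T).left := by
  obtain ⟨ι, V, v, a, hcov, hva⟩ := exists_family s t σ
  refine prop_of_cover Q _ (fun j => (v j).left) hcov (fun j => ?_)
  obtain ⟨z, sq⟩ := exists_sq s t σ i hrep (v j) (a j) (hva j)
  refine ⟨_, z.left, (pullback.fst (a j) s).left, sq.map (Over.forget S), ?_⟩
  exact Q.of_isPullback ((IsPullback.of_hasPullback (a j) s).map (Over.forget S)).flip hQ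

end Props

section Uniq

variable [IsEquivalenceRelation s t] {Z : Over S} (i : Z ⟶ U ⊗ T) [Mono i]

/-- a stable subobject covering `T` on which `σ` is induced by `U` represents `PredO` -/
theorem exists_factor_of_predO
    (hstab : ∀ (T' : Over S) (r : T' ⟶ R ⊗ T),
      (∃ z : T' ⟶ Z, z ≫ i = r ≫ (s ▷ T)) ↔ (∃ z : T' ⟶ Z, z ≫ i = r ≫ (t ▷ T)))
    (hcov : secSieve (i ≫ snd U T) ∈ QuotSh.J 𝒦 S T)
    (he : PredO s t σ i) {W : Over S} (y : W ⟶ U ⊗ T) (hy : PredO s t σ y) :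
    ∃ z : W ⟶ Z, z ≫ i = y := by
  set p := i ≫ snd U T with hp
  set q₁ := pullback.fst (y ≫ snd U T) p with hq₁
  set q₂ := pullback.snd (y ≫ snd U T) p with hq₂
  have hcond : q₁ ≫ y ≫ snd U T = q₂ ≫ p := pullback.condition
  have hsec : secSieve q₁ ∈ QuotSh.J 𝒦 S W :=
    Groth.Agent.Helper18.DescHomK.secSieve_of_isPullback 𝒦
      (IsPullback.of_hasPullback (y ≫ snd U T) p).flip hcov
  have h1 := predO_comp s t σ q₁ y hy
  have h2 := predO_comp s t σ q₂ i he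
  unfold PredO at h1 h2
  rw [Category.assoc q₁, Category.assoc q₁] at h1
  rw [Category.assoc q₂, Category.assoc q₂] at h2
  have h3 : QuotSh.repMap 𝒦 (q₂ ≫ i ≫ fst U T) ≫ QuotSh.quotπ 𝒦 s t =
      QuotSh.repMap 𝒦 (q₁ ≫ y ≫ fst U T) ≫ QuotSh.quotπ 𝒦 s t := by
    rw [h1, h2, hcond]
  obtain ⟨r, hr1, hr2⟩ := (quot_eq_iff s t _ _).1 h3
  have hs : lift r (q₁ ≫ y ≫ snd U T) ≫ (s ▷ T) = q₂ ≫ i := by
    rw [lift_whiskerRight, hr1]
    apply CartesianMonoidalCategory.hom_ext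
    · rw [lift_fst, Category.assoc]
    · rw [lift_snd, Category.assoc, hcond]
  have ht : lift r (q₁ ≫ y ≫ snd U T) ≫ (t ▷ T) = q₁ ≫ y := by
    rw [lift_whiskerRight, hr2]
    apply CartesianMonoidalCategory.hom_ext
    · rw [lift_fst, Category.assoc]
    · rw [lift_snd, Category.assoc]
  obtain ⟨z', hz'⟩ := (hstab _ (lift r (q₁ ≫ y ≫ snd U T))).1 ⟨q₂, hs.symm⟩
  rw [ht] at hz'
  obtain ⟨z, hz⟩ := Groth.Agent.Helper18.DescHomK.desc_of_secSieve 𝒦 q₁ hsec z' (fun V c c' hc => by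
    rw [← cancel_mono i, Category.assoc, Category.assoc, hz', ← Category.assoc, ← Category.assoc, hc])
  refine ⟨z, Groth.Agent.Helper18.DescHomK.epi_of_secSieve 𝒦 q₁ hsec _ _ ?_⟩
  rw [← Category.assoc, hz, hz']

end Uniq

theorem unique_of_factor {Z Z' : Over S} (i : Z ⟶ U ⊗ T) (i' : Z' ⟶ U ⊗ T) [Mono i] [Mono i']
    (h : ∀ {W : Over S} (y : W ⟶ U ⊗ T), PredO s t σ y → ∃ z : W ⟶ Z, z ≫ i = y)
    (h' : ∀ {W : Over S} (y : W ⟶ U ⊗ T), PredO s t σ y → ∃ z : W ⟶ Z', z ≫ i' = y)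
    (he : PredO s t σ i) (he' : PredO s t σ i') : ∃ e : Z ≅ Z', e.hom ≫ i' = i := by
  obtain ⟨a, ha⟩ := h' i he
  obtain ⟨b, hb⟩ := h i' he'
  refine ⟨⟨a, b, ?_, ?_⟩, ha⟩
  · rw [← cancel_mono i, Category.assoc, hb, ha, Category.id_comp]
  · rw [← cancel_mono i', Category.assoc, ha, hb, Category.id_comp]

end Groth.Agent.Helper18.LocSub
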