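import Mathlib
import Groth.Prelude
import Groth.Agent.Lib.Helper18.LocSub4
import Groth.Agent.Lib.Helper15.AlgSpDescent

/-!
# Sections of the fpqc quotient sheaf `U/R` for a relation with closed or open graph (helper18)
-/

set_option autoImplicit false
set_option linter.style.haveILetI false
universe u
open CategoryTheory CategoryTheory.Limits AlgebraicGeometry Opposite MorphismProperty
open MonoidalCategory CartesianMonoidalCategory

namespace Groth.Agent.Helper18.LocSub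

open Groth.Agent.Helper18.QSh Groth.Agent.Helper18.FppfDescHom Groth.Agent.Helper18.FpqcDesc

local notation "𝒦" => Scheme.fpqcPrecoverage

variable {S : Scheme.{u}} {R U : Over S} (s t : R ⟶ U)

theorem main [IsEquivalenceRelation s t] (P : MorphismProperty Scheme.{u})
    [P.IsLocalAtTarget 𝒦] [P.IsStableUnderBaseChange]
    (hPmono : ∀ ⦃A B : Scheme.{u}⦄ (g : A ⟶ B), P g → Mono g)
    (heff : ∀ {X : Scheme.{u}} {ι : Type u} {Xi : ι → Scheme.{u}} (f : ∀ i, Xi i ⟶ X),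
      Presieve.ofArrows Xi f ∈ 𝒦 X → ∀ D : Desc.SchDDFam f, (∀ i, P (D.obj i).hom) → D.IsEffective)
    [Flat s.left] [Surjective s.left] [QuasiCompact s.left]
    (hc : P (lift t s).left) (T : Over S) (σ : QuotSh.rep 𝒦 T ⟶ QuotSh.quot 𝒦 s t) :
    (∃ (Z : Over S) (i : Z ⟶ U ⊗ T), P i.left ∧
      (∀ (T' : Over S) (r : T' ⟶ R ⊗ T),
        (∃ z : T' ⟶ Z, z ≫ i = r ≫ (s ▷ T)) ↔ (∃ z : T' ⟶ Z, z ≫ i = r ≫ (t ▷ T))) ∧
      Flat (i ≫ snd U T).left ∧ Surjective (i ≫ snd U T).left ∧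
      QuasiCompact (i ≫ snd U T).left ∧
      (∀ (T' : Over S) (z₁ z₂ : T' ⟶ Z), z₁ ≫ i ≫ snd U T = z₂ ≫ i ≫ snd U T →
        ∃ r : T' ⟶ R, r ≫ s = z₁ ≫ i ≫ fst U T ∧ r ≫ t = z₂ ≫ i ≫ fst U T) ∧
      QuotSh.repMap 𝒦 (i ≫ fst U T) ≫ QuotSh.quotπ 𝒦 s t = QuotSh.repMap 𝒦 (i ≫ snd U T) ≫ σ) ∧
    (∀ (Z Z' : Over S) (i : Z ⟶ U ⊗ T) (i' : Z' ⟶ U ⊗ T),
      P i.left → P i'.left →
      (∀ (T' : Over S) (r : T' ⟶ R ⊗ T),
        (∃ z : T' ⟶ Z, z ≫ i = r ≫ (s ▷ T)) ↔ (∃ z : T' ⟶ Z, z ≫ i = r ≫ (t ▷ T))) →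
      (∀ (T' : Over S) (r : T' ⟶ R ⊗ T),
        (∃ z : T' ⟶ Z', z ≫ i' = r ≫ (s ▷ T)) ↔ (∃ z : T' ⟶ Z', z ≫ i' = r ≫ (t ▷ T))) →
      Flat (i ≫ snd U T).left → Surjective (i ≫ snd U T).left →
      QuasiCompact (i ≫ snd U T).left →
      Flat (i' ≫ snd U T).left → Surjective (i' ≫ snd U T).left →
      QuasiCompact (i' ≫ snd U T).left →
      (∀ (T' : Over S) (z₁ z₂ : T' ⟶ Z), z₁ ≫ i ≫ snd U T = z₂ ≫ i ≫ snd U T →
        ∃ r : T' ⟶ R, r ≫ s = z₁ ≫ i ≫ fst U T ∧ r ≫ t = z₂ ≫ i ≫ fst U T) →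
      (∀ (T' : Over S) (z₁ z₂ : T' ⟶ Z'), z₁ ≫ i' ≫ snd U T = z₂ ≫ i' ≫ snd U T →
        ∃ r : T' ⟶ R, r ≫ s = z₁ ≫ i' ≫ fst U T ∧ r ≫ t = z₂ ≫ i' ≫ fst U T) →
      QuotSh.repMap 𝒦 (i ≫ fst U T) ≫ QuotSh.quotπ 𝒦 s t = QuotSh.repMap 𝒦 (i ≫ snd U T) ≫ σ →
      QuotSh.repMap 𝒦 (i' ≫ fst U T) ≫ QuotSh.quotπ 𝒦 s t = QuotSh.repMap 𝒦 (i' ≫ snd U T) ≫ σ →
      ∃ e : Z ≅ Z', e.hom ≫ i' = i) := by
  haveI := isLocalAtTarget_fpqc.{u} @Flat
  haveI := isLocalAtTarget_fpqc.{u} @Surjective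
  haveI := isLocalAtTarget_fpqc.{u} @QuasiCompact
  constructor
  · obtain ⟨Z, i, hPi, hrep⟩ := exists_rep_quot s t σ P hPmono heff hc
    haveI : Mono i.left := hPmono _ hPi
    haveI : Mono i := (Over.forget S).mono_of_mono_map ‹Mono i.left›
    have he : PredO s t σ i := (hrep i).1 ⟨𝟙 Z, Category.id_comp _⟩
    refine ⟨Z, i, hPi, fun T' r => ?_, ?_, ?_, ?_, rel_of_same s t σ i he, he⟩
    · rw [hrep, hrep]
      exact stable_iff s t σ T' r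
    · exact prop_of_rep s t σ i hrep @Flat inferInstance
    · exact prop_of_rep s t σ i hrep @Surjective inferInstance
    · exact prop_of_rep s t σ i hrep @QuasiCompact inferInstance
  · intro Z Z' i i' hPi hPi' hstab hstab' hfl hsu hqc hfl' hsu' hqc' _ _ he he'
    haveI : Mono i.left := hPmono _ hPi
    haveI : Mono i := (Over.forget S).mono_of_mono_map ‹Mono i.left›
    haveI : Mono i'.left := hPmono _ hPi'
    haveI : Mono i' := (Over.forget S).mono_of_mono_map ‹Mono i'.left›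
    have hcov : secSieve (i ≫ snd U T) ∈ QuotSh.J 𝒦 S T :=
      secSieve_mem_of_singleton 𝒦 (i ≫ snd U T) ((i ≫ snd U T).left.singleton_mem_fpqcPrecoverage)
    have hcov' : secSieve (i' ≫ snd U T) ∈ QuotSh.J 𝒦 S T :=
      secSieve_mem_of_singleton 𝒦 (i' ≫ snd U T) ((i' ≫ snd U T).left.singleton_mem_fpqcPrecoverage)
    exact unique_of_factor s t σ i i'
      (fun y hy => exists_factor_of_predO s t σ i hstab hcov he y hy)
      (fun y hy => exists_factor_of_predO s t σ i' hstab' hcov' he' y hy) he he'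

end Groth.Agent.Helper18.LocSub
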