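import Mathlib
import Groth.Prelude
import Groth.Agent.Lib.Helper18.LocSub5
import Groth.Agent.Lib.Helper21.DescProp

/-!
# The fppf quotient sheaf of a relation with closed graph is an fpqc sheaf (helper18)
-/

set_option autoImplicit false
set_option linter.style.haveILetI false
universe u
open CategoryTheory CategoryTheory.Limits AlgebraicGeometry Opposite MorphismProperty
open MonoidalCategory CartesianMonoidalCategory

namespace Groth.Agent.Helper18.LocSub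

open Groth.Agent.Helper18.QSh Groth.Agent.Helper18.FppfDescHom Groth.Agent.Helper18.FpqcDesc

local notation "𝒦" => Scheme.fpqcPrecoverage
local notation "𝒦f" => Scheme.fppfPrecoverage

variable {S : Scheme.{u}} {R U : Over S} (s t : R ⟶ U)

/-- local lifts of a section of the quotient sheaf (any subcanonical topology) -/
theorem exists_lifts_K (K : Precoverage Scheme.{u}) [(QuotSh.J K S).Subcanonical] {T : Over S}
    (σ : QuotSh.rep K T ⟶ QuotSh.quot K s t) :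
    ∃ Sv ∈ QuotSh.J K S T, ∀ ⦃V : Over S⦄ (g : V ⟶ T), Sv g →
      ∃ a : V ⟶ U, QuotSh.repMap K g ≫ σ = QuotSh.repMap K a ≫ QuotSh.quotπ K s t := by
  haveI : Sheaf.IsLocallySurjective (QuotSh.quotπ K s t) :=
    (Sheaf.isLocallySurjective_iff_epi _).2 inferInstance
  have h := Presheaf.imageSieve_mem (QuotSh.J K S) (QuotSh.quotπ K s t).hom (sec K σ)
  refine ⟨_, h, ?_⟩
  rintro V g ⟨x, hx⟩
  obtain ⟨a, rfl⟩ := exists_secOf K x
  refine ⟨a, sec_injective K _ _ ?_⟩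
  rw [sec_repMap, sec_comp]
  exact hx.symm

theorem quot_eq_of_relM (K : Precoverage Scheme.{u}) {W : Over S} {a b : W ⟶ U} (h : relM s t W a b) :
    QuotSh.repMap K a ≫ QuotSh.quotπ K s t = QuotSh.repMap K b ≫ QuotSh.quotπ K s t := by
  obtain ⟨r, rfl, rfl⟩ := h
  rw [repMap_comp, repMap_comp, Category.assoc, Category.assoc, QuotSh.quot_condition]

theorem J_le : QuotSh.J 𝒦f S ≤ QuotSh.J 𝒦 S := by
  intro T Sv h
  rw [GrothendieckTopology.mem_over_iff] at h ⊢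
  exact Precoverage.toGrothendieck_mono Scheme.fppfPrecoverage_le_fpqcPrecoverage _ h

/-- the fpqc quotient sheaf, regarded as an fppf sheaf -/
noncomputable def G' : QuotSh.Sh 𝒦f S :=
  ⟨(QuotSh.quot 𝒦 s t).obj, (isSheaf_iff_isSheaf_of_type _ _).2 (Presieve.isSheaf_of_le _ J_le
    ((isSheaf_iff_isSheaf_of_type _ _).1 (QuotSh.quot 𝒦 s t).property))⟩

/-- the projection `h_U ⟶ U/R` to the fpqc quotient, as a map of fppf sheaves -/
noncomputable def π' : QuotSh.rep 𝒦f U ⟶ G' s t :=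
  ofSec 𝒦f (F := G' s t) (sec 𝒦 (QuotSh.quotπ 𝒦 s t))

theorem sec_π' {W : Over S} (a : W ⟶ U) :
    sec 𝒦f (QuotSh.repMap 𝒦f a ≫ π' s t) = sec 𝒦 (QuotSh.repMap 𝒦 a ≫ QuotSh.quotπ 𝒦 s t) := by
  rw [sec_repMap, sec_repMap]
  unfold π'
  rw [sec_ofSec]
  rfl

theorem π'_cond : QuotSh.repMap 𝒦f s ≫ π' s t = QuotSh.repMap 𝒦f t ≫ π' s t := by
  apply sec_injective
  rw [sec_π', sec_π', QuotSh.quot_condition]

/-- the comparison map from the fppf quotient to the fpqc quotient -/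
noncomputable def Φ : QuotSh.quot 𝒦f s t ⟶ G' s t :=
  coequalizer.desc (π' s t) (π'_cond s t)

theorem quotπ_Φ : QuotSh.quotπ 𝒦f s t ≫ Φ s t = π' s t := coequalizer.π_desc _ _

theorem sec_Φ {W : Over S} (a : W ⟶ U) :
    (Φ s t).hom.app (op W) (sec 𝒦f (QuotSh.repMap 𝒦f a ≫ QuotSh.quotπ 𝒦f s t)) =
      sec 𝒦 (QuotSh.repMap 𝒦 a ≫ QuotSh.quotπ 𝒦 s t) := by
  rw [← sec_comp, Category.assoc, quotπ_Φ, sec_π']

theorem mono_Φ [IsEquivalenceRelation s t] : Mono (Φ s t) := by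
  apply Sheaf.mono_of_injective
  rintro ⟨T⟩ x y hxy
  obtain ⟨Sv₁, hSv₁, hl₁⟩ := exists_lifts_K s t 𝒦f (ofSec 𝒦f x)
  obtain ⟨Sv₂, hSv₂, hl₂⟩ := exists_lifts_K s t 𝒦f (ofSec 𝒦f y)
  have hY : Presieve.IsSheaf (QuotSh.J 𝒦f S) (QuotSh.quot 𝒦f s t).obj :=
    (isSheaf_iff_isSheaf_of_type _ _).1 (QuotSh.quot 𝒦f s t).property
  refine (hY _ ((QuotSh.J 𝒦f S).intersection_covering hSv₁ hSv₂)).isSeparatedFor.ext ?_
  rintro V g ⟨hg₁, hg₂⟩
  obtain ⟨a, ha⟩ := hl₁ g hg₁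
  obtain ⟨b, hb⟩ := hl₂ g hg₂
  have e1 : (QuotSh.quot 𝒦f s t).obj.map g.op x =
      sec 𝒦f (QuotSh.repMap 𝒦f a ≫ QuotSh.quotπ 𝒦f s t) := by
    rw [← ha, sec_repMap, sec_ofSec]
  have e2 : (QuotSh.quot 𝒦f s t).obj.map g.op y =
      sec 𝒦f (QuotSh.repMap 𝒦f b ≫ QuotSh.quotπ 𝒦f s t) := by
    rw [← hb, sec_repMap, sec_ofSec]
  have h1 : (Φ s t).hom.app (op V) ((QuotSh.quot 𝒦f s t).obj.map g.op x) =
      (Φ s t).hom.app (op V) ((QuotSh.quot 𝒦f s t).obj.map g.op y) := by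
    have n1 := NatTrans.naturality_apply (Φ s t).hom g.op x
    have n2 := NatTrans.naturality_apply (Φ s t).hom g.op y
    rw [n1, n2, hxy]
  rw [e1, e2, sec_Φ, sec_Φ] at h1
  have h2 := sec_injective 𝒦 _ _ h1
  rw [e1, e2, quot_eq_of_relM s t 𝒦f ((quot_eq_iff s t a b).1 h2)]

theorem epi_Φ [IsEquivalenceRelation s t] [Flat s.left] [Surjective s.left]
    [LocallyOfFinitePresentation s.left] (hc : IsClosedImmersion (lift t s).left) : Epi (Φ s t) := by
  rw [← Sheaf.isLocallySurjective_iff_epi]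
  refine ⟨fun {T} τ => ?_⟩
  haveI := isLocalAtTarget_fpqc.{u} @IsClosedImmersion
  haveI := isLocalAtTarget_fpqc.{u} @Flat
  haveI := isLocalAtTarget_fpqc.{u} @Surjective
  haveI := isLocalAtTarget_fpqc.{u} @LocallyOfFinitePresentation
  obtain ⟨Z, i, hPi, hrep⟩ := exists_rep_quot s t (ofSec 𝒦 (F := QuotSh.quot 𝒦 s t) τ) @IsClosedImmersion
    (fun A B g hg => by haveI : IsClosedImmersion g := hg; infer_instance)
    (fun f hf D hD => Groth.Agent.Helper21.DescProp.closedImm_isEffective f hf D hD) hc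
  haveI : IsClosedImmersion i.left := hPi
  haveI : Mono i := (Over.forget S).mono_of_mono_map (inferInstance : Mono i.left)
  have he : PredO s t (ofSec 𝒦 (F := QuotSh.quot 𝒦 s t) τ) i := (hrep i).1 ⟨𝟙 Z, Category.id_comp _⟩
  haveI : Flat (i ≫ snd U T).left := prop_of_rep s t _ i hrep @Flat inferInstance
  haveI : Surjective (i ≫ snd U T).left := prop_of_rep s t _ i hrep @Surjective inferInstance
  haveI : LocallyOfFinitePresentation (i ≫ snd U T).left :=
    prop_of_rep s t _ i hrep @LocallyOfFinitePresentation inferInstance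
  have hcov : secSieve (i ≫ snd U T) ∈ QuotSh.J 𝒦f S T :=
    secSieve_mem_of_singleton 𝒦f (i ≫ snd U T) ((i ≫ snd U T).left.singleton_mem_fppfPrecoverage)
  refine (QuotSh.J 𝒦f S).superset_covering ?_ hcov
  rintro V g ⟨c, rfl⟩
  refine ⟨sec 𝒦f (QuotSh.repMap 𝒦f (c ≫ i ≫ fst U T) ≫ QuotSh.quotπ 𝒦f s t), ?_⟩
  rw [sec_Φ]
  have h1 := predO_comp s t _ c i he
  unfold PredO at h1
  rw [Category.assoc c, Category.assoc c] at h1
  rw [h1, sec_repMap, sec_ofSec]
  rfl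

theorem isIso_Φ [IsEquivalenceRelation s t] [Flat s.left] [Surjective s.left]
    [LocallyOfFinitePresentation s.left] (hc : IsClosedImmersion (lift t s).left) : IsIso (Φ s t) := by
  haveI := mono_Φ s t
  haveI := epi_Φ s t hc
  exact isIso_of_mono_of_epi _

theorem isSheaf_fpqc [IsEquivalenceRelation s t] [Flat s.left] [Surjective s.left]
    [LocallyOfFinitePresentation s.left] (hc : IsClosedImmersion (lift t s).left) :
    Presheaf.IsSheaf (QuotSh.J 𝒦 S) (QuotSh.quot 𝒦f s t).obj := by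
  haveI := isIso_Φ s t hc
  have e : (QuotSh.quot 𝒦f s t).obj ≅ (QuotSh.quot 𝒦 s t).obj :=
    (sheafToPresheaf _ _).mapIso (asIso (Φ s t))
  exact (Presheaf.isSheaf_of_iso_iff e).2 (QuotSh.quot 𝒦 s t).property

end Groth.Agent.Helper18.LocSub
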