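import Mathlib
import Groth.Prelude.Def_Magnet3
import Groth.Agent.Lib.Helper18.NilThick

/-!
# Attractors and formally unramified morphisms (helper18)
-/

set_option autoImplicit false
universe u

open CategoryTheory CategoryTheory.Limits MonoidalCategory CartesianMonoidalCategory AlgebraicGeometry Opposite

namespace Groth.Agent.Helper18.MagnetUnram

open Magnet

/-- equivariant maps out of `B ×_S Spec A` into `X` agreeing modulo a nilpotent ideal and after a
formally unramified `f : X ⟶ Y` are equal -/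
theorem eqvHom_ext_of_formallyUnramified {S : Scheme.{u}} {Am B X Y : Over S} [MonObj Am]
    (ρ : MonAct Am B) (aX : MonAct Am X) (aY : MonAct Am Y) (f : X ⟶ Y)
    (hf : MonAct.IsEquivariant aX aY f)
    [FormallyUnramified f.left] (A : Type u) [CommRing A] (I : Ideal A) (n : ℕ) (hI : I ^ n = ⊥)
    (str : Spec (CommRingCat.of A) ⟶ S) (l₁ l₂ : (MonAct.eqvHom ρ aX).obj (op (Over.mk str)))
    (htop : (MonAct.eqvHom ρ aX).map (Over.homMk (Spec.map (CommRingCat.ofHom (Ideal.Quotient.mk I))) rfl :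
        Over.mk (Spec.map (CommRingCat.ofHom (Ideal.Quotient.mk I)) ≫ str) ⟶ Over.mk str).op l₁ =
      (MonAct.eqvHom ρ aX).map (Over.homMk (Spec.map (CommRingCat.ofHom (Ideal.Quotient.mk I))) rfl :
        Over.mk (Spec.map (CommRingCat.ofHom (Ideal.Quotient.mk I)) ≫ str) ⟶ Over.mk str).op l₂)
    (hbot : (MonAct.eqvHom.postcomp ρ f hf).app _ l₁ = (MonAct.eqvHom.postcomp ρ f hf).app _ l₂) :
    l₁ = l₂ := by
  obtain ⟨t, ht⟩ : ∃ t : Over.mk (Spec.map (CommRingCat.ofHom (Ideal.Quotient.mk I)) ≫ str) ⟶ Over.mk str,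
      t = Over.homMk (Spec.map (CommRingCat.ofHom (Ideal.Quotient.mk I))) rfl := ⟨_, rfl⟩
  rw [← ht] at htop
  have htl : t.left = Spec.map (CommRingCat.ofHom (Ideal.Quotient.mk I)) := by rw [ht]; rfl
  have h1 : (B ◁ t) ≫ l₁.1 = (B ◁ t) ≫ l₂.1 := congrArg Subtype.val htop
  have h2 : l₁.1 ≫ f = l₂.1 ≫ f := congrArg Subtype.val hbot
  have hsq := (NilThick.isPullback_whiskerLeft_snd B t).map (Over.forget S)
  have hsq' : IsPullback (B ◁ t).left (snd B _).left (snd B (Over.mk str)).left
      (Spec.map (CommRingCat.ofHom (Ideal.Quotient.mk I))) := by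
    have hsq2 : IsPullback (B ◁ t).left (snd B _).left (snd B (Over.mk str)).left t.left := hsq
    rw [htl] at hsq2
    exact hsq2
  haveI : IsClosedImmersion (B ◁ t).left := NilThick.isClosedImmersion_of_isPullback I _ _ _ hsq'
  have hnil : IsNilpotent (B ◁ t).left.ker := NilThick.isNilpotent_ker I _ _ _ hsq' n hI
  apply Subtype.ext
  apply Over.OverMorphism.ext
  exact FormallyUnramified.hom_ext (B ◁ t).left hnil f.left
    (congrArg (fun z => z.left) h1) (congrArg (fun z => z.left) h2)

end Groth.Agent.Helper18.MagnetUnram
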