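import Groth.Agent.Lib.Helper18.Kummer

/-!
# A diagonalizable group of finite type contains a `μ_r` (helper18)
-/

set_option autoImplicit false

universe u

open CategoryTheory CategoryTheory.Limits MonoidalCategory CartesianMonoidalCategory MonObj GrpObj AlgebraicGeometry Opposite

namespace Groth.Agent.Helper18.MuSub

/-- a nontrivial finitely generated abelian group surjects onto some `ℤ/r` with `r` prime -/
theorem exists_surj_zmod (M : Type) [AddCommGroup M] [AddGroup.FG M] [Nontrivial M] :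
    ∃ (r : ℕ) (_ : r.Prime) (φ : M →+ ZMod r), Function.Surjective φ := by
  haveI : Module.Finite ℤ M := Module.Finite.iff_addGroup_fg.mpr inferInstance
  obtain ⟨N, hN⟩ : ∃ N : Submodule ℤ M, IsCoatom N := by
    obtain h | ⟨N, hN, -⟩ := IsCoatomic.eq_top_or_exists_le_coatom (⊥ : Submodule ℤ M)
    · exact absurd h bot_ne_top
    · exact ⟨N, hN⟩
  have hs : IsSimpleModule ℤ (M ⧸ N) := isSimpleModule_iff_isCoatom.mpr hN
  obtain ⟨I, hI, ⟨e⟩⟩ := isSimpleModule_iff_quot_maximal.mp hs
  obtain ⟨a, rfl⟩ : ∃ a : ℤ, I = Ideal.span {a} :=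
    ⟨_, (Submodule.IsPrincipal.span_singleton_generator I).symm⟩
  have ha0 : a ≠ 0 := by
    rintro rfl
    have h1 : Ideal.span ({0} : Set ℤ) = ⊥ := by simp
    exact Ring.ne_bot_of_isMaximal_of_not_isField hI Int.not_isField h1
  have hap : Prime a := (Ideal.span_singleton_prime ha0).mp hI.isPrime
  refine ⟨a.natAbs, Int.prime_iff_natAbs_prime.mp hap,
    (Int.quotientSpanEquivZMod a).toAddMonoidHom.comp (e.toLinearMap.comp N.mkQ).toAddMonoidHom, ?_⟩
  intro z
  obtain ⟨y, rfl⟩ := (Int.quotientSpanEquivZMod a).surjective z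
  obtain ⟨x, rfl⟩ := e.surjective y
  obtain ⟨m, rfl⟩ := N.mkQ_surjective x
  exact ⟨m, rfl⟩

variable {M N : Type} [AddCommGroup M] [AddCommGroup N]

theorem mapDomain_surjective (R : Type u) [CommRing R] (φ : M →+ N) (hφ : Function.Surjective φ) :
    Function.Surjective (MonoidAlgebra.mapDomainAlgHom R R (AddMonoidHom.toMultiplicative φ)) := by
  intro x
  induction x using MonoidAlgebra.induction_on with
  | of n =>
    obtain ⟨m, hm⟩ := hφ n.toAdd
    refine ⟨MonoidAlgebra.of R _ (Multiplicative.ofAdd m), ?_⟩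
    simp only [MonoidAlgebra.of_apply, MonoidAlgebra.mapDomainAlgHom_apply, MonoidAlgebra.mapDomain_single,
      AddMonoidHom.toMultiplicative_apply_apply, toAdd_ofAdd, hm, ofAdd_toAdd]
  | add x y hx hy =>
    obtain ⟨x', rfl⟩ := hx
    obtain ⟨y', rfl⟩ := hy
    exact ⟨x' + y', map_add _ _ _⟩
  | smul r x hx =>
    obtain ⟨x', rfl⟩ := hx
    exact ⟨r • x', map_smul _ _ _⟩

theorem isClosedImmersion_DSmap (S : Scheme.{u}) (φ : M →+ N) (hφ : Function.Surjective φ) :
    IsClosedImmersion (Red.DSmap S φ).left := by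
  apply Kummer.prop_DSmap_left (S := S) @IsClosedImmersion φ
  exact IsClosedImmersion.spec_of_surjective _ (mapDomain_surjective (ULift.{u} ℤ) φ hφ)

end Groth.Agent.Helper18.MuSub
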