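import Mathlib
import Groth.Prelude.Def_CGrpSh
import Groth.Prelude.Def_W4c1extbt15Mult
import Groth.Agent.Lib.Helper18.CGrpShLib

/-!
# Multilinear morphisms of group schemes and fppf epimorphisms (helper18)
-/

set_option autoImplicit false
universe v' u' u

open CategoryTheory CategoryTheory.Limits MonoidalCategory CartesianMonoidalCategory MonObj AlgebraicGeometry Opposite

namespace Groth.Agent.Helper18.MultSchLib

section General

variable {C : Type u'} [Category.{v'} C] [CartesianMonoidalCategory C] [BraidedCategory C]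

theorem comp_tuple {M T T' : C} (c : T' ⟶ T) : ∀ {n : ℕ} (x : Fin n → (T ⟶ M)),
    c ≫ MultSch.tuple x = MultSch.tuple (fun l => c ≫ x l)
  | 0, _ => toUnit_unique _ _
  | n + 1, x => by
    change c ≫ lift (x 0) (MultSch.tuple fun i => x i.succ) =
      lift (c ≫ x 0) (MultSch.tuple fun i => c ≫ x i.succ)
    rw [comp_lift, comp_tuple c]

/-- a finite family of covering sieves has a common covering refinement -/
theorem exists_common_refinement (J : GrothendieckTopology C) {X : C} :
    ∀ {n : ℕ} (R : Fin n → Sieve X), (∀ l, R l ∈ J X) → ∃ R' : Sieve X, R' ∈ J X ∧ ∀ l, R' ≤ R l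
  | 0, _, _ => ⟨⊤, J.top_mem X, fun l => l.elim0⟩
  | n + 1, R, hR => by
    obtain ⟨R', hR', hle⟩ := exists_common_refinement J (fun l : Fin n => R l.succ) (fun l => hR l.succ)
    refine ⟨R 0 ⊓ R', J.intersection_covering (hR 0) hR', ?_⟩
    intro l
    refine Fin.cases ?_ (fun l' => ?_) l
    · exact inf_le_left
    · exact inf_le_right.trans (hle l')

end General

section Over

variable {S : Scheme.{u}} (K : Precoverage Scheme.{u}) [(QuotSh.J K S).Subcanonical]

/-- two points agreeing on a covering sieve are equal -/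
theorem hom_ext_of_cover {T H : Over S} (a b : T ⟶ H)
    (R : Sieve T.left) (hR : R ∈ K.toGrothendieck T.left)
    (h : ∀ {Z : Scheme.{u}} (c : Z ⟶ T.left), R.arrows c →
      (Over.homMk c rfl : Over.mk (c ≫ T.hom) ⟶ T) ≫ a =
        (Over.homMk c rfl : Over.mk (c ≫ T.hom) ⟶ T) ≫ b) : a = b := by
  have hsh : Presieve.IsSheaf (QuotSh.J K S) (yoneda.obj H) :=
    GrothendieckTopology.Subcanonical.isSheaf_of_isRepresentable (J := QuotSh.J K S) (yoneda.obj H)
  have hR' : (Sieve.overEquiv T).symm R ∈ QuotSh.J K S T := by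
    rw [GrothendieckTopology.mem_over_iff, OrderIso.apply_symm_apply]
    exact hR
  refine (hsh.isSeparated _ hR').ext ?_
  intro T' f hf
  have hf' : R.arrows f.left := (Sieve.overEquiv_symm_iff R f).1 hf
  have h1 := congrArg (fun t => t.left) (h f.left hf')
  apply Over.OverMorphism.ext
  exact h1

end Over

section Alt

variable {S : Scheme.{u}} {M M'' H : Over S}
  [GrpObj M] [IsCommMonObj M] [GrpObj M''] [IsCommMonObj M''] [GrpObj H]

theorem isAlternating_of_epi (K : Precoverage Scheme.{u}) [(QuotSh.J K S).Subcanonical]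
    (π : M ⟶ M'') [IsMonHom π] (hπ : Epi (CGrpSh.ptsMap K π))
    {r : ℕ} (φ : MultSch.pow M'' r ⟶ H)
    (halt : ∀ (T : Over S) (x : Fin r → (T ⟶ M)) (i j : Fin r), i ≠ j → x i = x j →
      MultSch.tuple (fun l => x l ≫ π) ≫ φ = 1) :
    MultSch.IsAlternating φ := by
  intro T x i j hij hx
  choose R hR hl using fun l => CGrpShLib.exists_lift_of_epi K π hπ T (x l)
  obtain ⟨R', hR', hle⟩ := exists_common_refinement (K.toGrothendieck) R hR
  apply hom_ext_of_cover K _ _ R' hR'
  intro Z c hc
  choose y hy using fun l => hl l c (hle l _ hc)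
  let y' : Fin r → (Over.mk (c ≫ T.hom) ⟶ M) := fun l => if l = j then y i else y l
  have hy' : ∀ l, y' l ≫ π = (Over.homMk c rfl : Over.mk (c ≫ T.hom) ⟶ T) ≫ x l := by
    intro l
    by_cases hlj : l = j
    · subst hlj
      simp only [y', if_pos rfl]
      rw [hy i, hx]
    · simp only [y', if_neg hlj]
      exact hy l
  have hij' : y' i = y' j := by
    simp only [y', if_neg hij, if_pos rfl]
  have h1 := halt _ y' i j hij hij'
  rw [MonObj.comp_one, ← Category.assoc, comp_tuple, ← h1]
  congr 2
  funext l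
  exact (hy' l).symm

end Alt

end Groth.Agent.Helper18.MultSchLib
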