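import Mathlib
import Groth.Prelude.Def_CGrpSh
import Groth.Agent.Lib.Helper18.CGrpShLib

/-!
# Exact sequences of abelian sheaves on the big site: local lifting (helper18)
-/

set_option autoImplicit false
universe u
open CategoryTheory CategoryTheory.Limits MonoidalCategory CartesianMonoidalCategory MonObj AlgebraicGeometry Opposite

namespace Groth.Agent.Helper18.SheafExactLib

variable {S : Scheme.{u}} (K : Precoverage Scheme.{u})

/-- in an exact sequence of abelian sheaves, a section killed by `g` locally comes from `f` -/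
theorem exists_local_preimage (𝒮 : ShortComplex (BigSite.Ab K S)) (hex : 𝒮.Exact)
    (T : Over S) (x : 𝒮.X₂.obj.obj (op T)) (hx : 𝒮.g.hom.app (op T) x = 0) :
    ∃ R : Sieve T, R ∈ QuotSh.J K S T ∧ ∀ {Z : Over S} (c : Z ⟶ T), R.arrows c →
      ∃ x₁ : 𝒮.X₁.obj.obj (op Z), 𝒮.f.hom.app (op Z) x₁ = 𝒮.X₂.obj.map c.op x := by
  haveI : Epi 𝒮.toCycles := hex.epi_toCycles
  haveI : Sheaf.IsLocallySurjective 𝒮.toCycles := by
    rw [Sheaf.isLocallySurjective_iff_epi']; infer_instance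
  let Φ : BigSite.Ab K S ⥤ AddCommGrpCat.{u + 1} :=
    sheafToPresheaf (QuotSh.J K S) AddCommGrpCat.{u + 1} ⋙ (evaluation _ _).obj (op T)
  have hlim : IsLimit ((KernelFork.ofι 𝒮.iCycles 𝒮.iCycles_g).map Φ) :=
    KernelFork.mapIsLimit _ 𝒮.cyclesIsKernel Φ
  let g' : 𝒮.X₂.obj.obj (op T) ⟶ 𝒮.X₃.obj.obj (op T) := 𝒮.g.hom.app (op T)
  let x' : (AddCommGrpCat.kernelCone g').pt := ⟨x, hx⟩
  let z : 𝒮.cycles.obj.obj (op T) := (hlim.lift (AddCommGrpCat.kernelCone g')) x'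
  have hz : 𝒮.iCycles.hom.app (op T) z = x := by
    have h1 := hlim.fac (AddCommGrpCat.kernelCone g') WalkingParallelPair.zero
    have h2 := ConcreteCategory.congr_hom h1 x'
    exact h2
  refine ⟨Presheaf.imageSieve 𝒮.toCycles.hom z,
    Presheaf.imageSieve_mem (QuotSh.J K S) 𝒮.toCycles.hom (U := op T) z, ?_⟩
  intro Z c hc
  obtain ⟨x₁, hx₁⟩ := (Presheaf.imageSieve_apply 𝒮.toCycles.hom z _ c).mp hc
  refine ⟨x₁, ?_⟩
  have h3 : 𝒮.f = 𝒮.toCycles ≫ 𝒮.iCycles := 𝒮.toCycles_i.symm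
  rw [h3]
  change 𝒮.iCycles.hom.app (op Z) (𝒮.toCycles.hom.app (op Z) x₁) = _
  rw [hx₁, ← hz]
  exact ConcreteCategory.congr_hom (𝒮.iCycles.hom.naturality c.op) z

end Groth.Agent.Helper18.SheafExactLib
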