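import Mathlib
import Groth.Prelude.Def_CGrpSh
import Groth.Prelude.Def_W4c1extbt15Mult
import Groth.Agent.Lib.Helper18.CGrpShLib
import Groth.Agent.Lib.Helper18.SheafExactLib

/-!
# Descent of morphisms of group schemes along sheaf epimorphisms (helper18)
-/

set_option autoImplicit false
universe u

open CategoryTheory CategoryTheory.Limits MonoidalCategory CartesianMonoidalCategory MonObj AlgebraicGeometry Opposite

namespace Groth.Agent.Helper18.MultSchLib2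

variable {S : Scheme.{u}} (K : Precoverage Scheme.{u}) [(QuotSh.J K S).Subcanonical]

section Basic

/-- two points agreeing on a covering sieve (in `Over S`) are equal -/
theorem hom_ext_of_cover {T H : Over S} (a b : T ⟶ H)
    (R : Sieve T) (hR : R ∈ QuotSh.J K S T)
    (h : ∀ {Z : Over S} (c : Z ⟶ T), R.arrows c → c ≫ a = c ≫ b) : a = b := by
  have hsh : Presieve.IsSheaf (QuotSh.J K S) (yoneda.obj H) :=
    GrothendieckTopology.Subcanonical.isSheaf_of_isRepresentable (J := QuotSh.J K S) (yoneda.obj H)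
  refine (hsh.isSeparated _ hR).ext ?_
  intro T' f hf
  exact h f hf

/-- glueing points along a covering sieve -/
theorem exists_glue {T H : Over S} (R : Sieve T) (hR : R ∈ QuotSh.J K S T)
    (n : ∀ {Z : Over S} (c : Z ⟶ T), R.arrows c → (Z ⟶ H))
    (hn : ∀ {Z Z' : Over S} (c : Z ⟶ T) (hc : R.arrows c) (d : Z' ⟶ Z),
      n (d ≫ c) (R.downward_closed hc d) = d ≫ n c hc) :
    ∃ a : T ⟶ H, ∀ {Z : Over S} (c : Z ⟶ T) (hc : R.arrows c), c ≫ a = n c hc := by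
  have hsh : Presieve.IsSheaf (QuotSh.J K S) (yoneda.obj H) :=
    GrothendieckTopology.Subcanonical.isSheaf_of_isRepresentable (J := QuotSh.J K S) (yoneda.obj H)
  let x : Presieve.FamilyOfElements (yoneda.obj H) R.arrows := fun Z c hc => n c hc
  have hx : x.Compatible := by
    rw [Presieve.compatible_iff_sieveCompatible]
    intro Z Z' c d hc
    exact hn c hc d
  obtain ⟨a, ha, -⟩ := hsh R hR x hx
  exact ⟨a, fun c hc => ha c hc⟩

variable {G H : Over S} [GrpObj G] [IsCommMonObj G] [GrpObj H] [IsCommMonObj H]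

/-- epi sheaf maps lift points locally (sieves in `Over S`) -/
theorem exists_lift_of_epi (φ : G ⟶ H) [IsMonHom φ] (hepi : Epi (CGrpSh.ptsMap K φ))
    (T : Over S) (x : T ⟶ H) :
    ∃ R : Sieve T, R ∈ QuotSh.J K S T ∧
      ∀ {Z : Over S} (c : Z ⟶ T), R.arrows c → ∃ y : Z ⟶ G, y ≫ φ = c ≫ x := by
  haveI : Sheaf.IsLocallySurjective (CGrpSh.ptsMap K φ) := by
    rw [Sheaf.isLocallySurjective_iff_epi']; exact hepi
  let x' : ToType ((CGrpSh.pts K H).obj.obj (op T)) := ULift.up (Additive.ofMul x)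
  refine ⟨Presheaf.imageSieve (CGrpSh.ptsMap K φ).hom x',
    Presheaf.imageSieve_mem (QuotSh.J K S) (CGrpSh.ptsMap K φ).hom (U := op T) x', ?_⟩
  intro Z c hc
  obtain ⟨t, ht⟩ := (Presheaf.imageSieve_apply (CGrpSh.ptsMap K φ).hom x' _ c).mp hc
  exact ⟨t.down.toMul, congrArg (fun z => Additive.toMul (ULift.down z)) ht⟩

variable {F : Over S} [GrpObj F] [IsCommMonObj F]

/-- exactness in the middle: points killed by `p` locally come from `f` -/
theorem exists_lift_of_exact (f : F ⟶ G) (p : G ⟶ H) [IsMonHom f] [IsMonHom p] (w : f ≫ p = 1)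
    (hex : (CGrpSh.seq K f p w).Exact) {T : Over S} (y : T ⟶ G) (hy : y ≫ p = 1) :
    ∃ R : Sieve T, R ∈ QuotSh.J K S T ∧
      ∀ {Z : Over S} (c : Z ⟶ T), R.arrows c → ∃ y' : Z ⟶ F, y' ≫ f = c ≫ y := by
  let x : (CGrpSh.seq K f p w).X₂.obj.obj (op T) := ULift.up (Additive.ofMul y)
  have hx : (CGrpSh.seq K f p w).g.hom.app (op T) x = 0 := by
    apply ULift.ext
    change Additive.ofMul (y ≫ p) = 0
    rw [hy]
    rfl
  obtain ⟨R, hR, hl⟩ := SheafExactLib.exists_local_preimage K _ hex T x hx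
  refine ⟨R, hR, ?_⟩
  intro Z c hc
  obtain ⟨x₁, hx₁⟩ := hl c hc
  exact ⟨x₁.down.toMul, congrArg (fun z => Additive.toMul (ULift.down z)) hx₁⟩

end Basic

section OneSlot

variable {P Q M' M M'' N : Over S}
  [GrpObj M'] [IsCommMonObj M'] [GrpObj M] [IsCommMonObj M] [GrpObj M''] [IsCommMonObj M'']
  [GrpObj N] [IsCommMonObj N]
  (j : M' ⟶ M) (π : M ⟶ M'') [IsMonHom j] [IsMonHom π]
  (w : j ≫ π = 1) (hex : (CGrpSh.seq K j π w).Exact)
  (hepi : Epi (CGrpSh.ptsMap K π))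
  (ψ : P ⊗ (M ⊗ Q) ⟶ N)
  (hadd : ∀ (T : Over S) (p : T ⟶ P) (q : T ⟶ Q) (y z : T ⟶ M),
    lift p (lift (y * z) q) ≫ ψ = (lift p (lift y q) ≫ ψ) * (lift p (lift z q) ≫ ψ))
  (hvan : ∀ (T : Over S) (p : T ⟶ P) (q : T ⟶ Q) (y' : T ⟶ M'), lift p (lift (y' ≫ j) q) ≫ ψ = 1)

include hex hadd hvan in
/-- the value of `ψ` only depends on the image in `M''` -/
theorem indep {T : Over S} (p : T ⟶ P) (q : T ⟶ Q) (y z : T ⟶ M) (hyz : y ≫ π = z ≫ π) :
    lift p (lift y q) ≫ ψ = lift p (lift z q) ≫ ψ := by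
  have hw : (y * z⁻¹) ≫ π = 1 := by
    rw [MonObj.mul_comp, GrpObj.inv_comp, hyz, mul_inv_cancel]
  obtain ⟨R, hR, hl⟩ := exists_lift_of_exact K j π w hex (y * z⁻¹) hw
  have h1 : lift p (lift (y * z⁻¹) q) ≫ ψ = 1 := by
    apply hom_ext_of_cover K _ _ R hR
    intro Z c hc
    obtain ⟨y', hy'⟩ := hl c hc
    rw [MonObj.comp_one, ← Category.assoc, comp_lift, comp_lift, ← hy']
    exact hvan Z _ _ y'
  have h2 := hadd T p q (y * z⁻¹) z
  rw [inv_mul_cancel_right, h1, _root_.one_mul] at h2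
  exact h2

/-- the universal point of `P ⊗ (M'' ⊗ Q)` -/
noncomputable abbrev T₀ (P Q M'' : Over S) : Over S := P ⊗ (M'' ⊗ Q)

include hex hepi hadd hvan in
theorem exists_desc :
    ∃ ψ' : P ⊗ (M'' ⊗ Q) ⟶ N, ∀ {T : Over S} (p : T ⟶ P) (q : T ⟶ Q) (y : T ⟶ M),
      lift p (lift (y ≫ π) q) ≫ ψ' = lift p (lift y q) ≫ ψ := by
  let p₀ : T₀ P Q M'' ⟶ P := fst P (M'' ⊗ Q)
  let y₀ : T₀ P Q M'' ⟶ M'' := snd P (M'' ⊗ Q) ≫ fst M'' Q
  let q₀ : T₀ P Q M'' ⟶ Q := snd P (M'' ⊗ Q) ≫ snd M'' Q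
  obtain ⟨R₀, hR₀, hl₀⟩ := exists_lift_of_epi K π hepi (T₀ P Q M'') y₀
  choose yc hyc using @hl₀
  have hind := @indep S K _ P Q M' M M'' N _ _ _ _ _ _ _ _ j π _ _ w hex ψ hadd hvan
  obtain ⟨ψ', hψ'⟩ := exists_glue K R₀ hR₀
    (fun {Z} c hc => lift (c ≫ p₀) (lift (yc c hc) (c ≫ q₀)) ≫ ψ) (by
      intro Z Z' c hc d
      rw [← Category.assoc d, comp_lift, comp_lift, Category.assoc, Category.assoc]
      apply hind
      rw [hyc, Category.assoc, Category.assoc, hyc])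
  refine ⟨ψ', ?_⟩
  intro T p q y
  obtain ⟨t, ht⟩ : ∃ t : T ⟶ T₀ P Q M'', t = lift p (lift (y ≫ π) q) := ⟨_, rfl⟩
  have htp : t ≫ p₀ = p := by rw [ht]; exact lift_fst _ _
  have hty : t ≫ y₀ = y ≫ π := by
    rw [ht]
    change lift p (lift (y ≫ π) q) ≫ snd P (M'' ⊗ Q) ≫ fst M'' Q = _
    rw [lift_snd_assoc, lift_fst]
  have htq : t ≫ q₀ = q := by
    rw [ht]
    change lift p (lift (y ≫ π) q) ≫ snd P (M'' ⊗ Q) ≫ snd M'' Q = _
    rw [lift_snd_assoc, lift_snd]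
  rw [← ht]
  apply hom_ext_of_cover K _ _ (R₀.pullback t) ((QuotSh.J K S).pullback_stable t hR₀)
  intro Z d hd
  have hd' : R₀.arrows (d ≫ t) := hd
  rw [← Category.assoc, hψ' (d ≫ t) hd', ← Category.assoc d, comp_lift, comp_lift]
  rw [Category.assoc d t p₀, htp, Category.assoc d t q₀, htq]
  apply hind
  rw [hyc, Category.assoc, hty, Category.assoc]

end OneSlot

section OneSlot2

variable {P Q M M'' N : Over S}
  [GrpObj M] [IsCommMonObj M] [GrpObj M''] [IsCommMonObj M'']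
  [GrpObj N] [IsCommMonObj N]
  (π : M ⟶ M'') [IsMonHom π]
  (hepi : Epi (CGrpSh.ptsMap K π))
  (ψ : P ⊗ (M ⊗ Q) ⟶ N) (ψ' : P ⊗ (M'' ⊗ Q) ⟶ N)
  (hψ' : ∀ {T : Over S} (p : T ⟶ P) (q : T ⟶ Q) (y : T ⟶ M),
      lift p (lift (y ≫ π) q) ≫ ψ' = lift p (lift y q) ≫ ψ)

include hψ' in
omit [IsCommMonObj M] [IsCommMonObj M''] [IsCommMonObj N] [GrpObj N] [IsMonHom π] [GrpObj M] [GrpObj M''] in
theorem whisker_comp : (P ◁ (π ▷ Q)) ≫ ψ' = ψ := by
  have h := hψ' (fst P (M ⊗ Q)) (snd P (M ⊗ Q) ≫ snd M Q) (snd P (M ⊗ Q) ≫ fst M Q)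
  have e1 : lift (fst P (M ⊗ Q)) (lift (snd P (M ⊗ Q) ≫ fst M Q) (snd P (M ⊗ Q) ≫ snd M Q)) =
      𝟙 (P ⊗ (M ⊗ Q)) := by
    apply CartesianMonoidalCategory.hom_ext
    · rw [lift_fst, Category.id_comp]
    · rw [lift_snd, Category.id_comp]
      apply CartesianMonoidalCategory.hom_ext
      · rw [lift_fst]
      · rw [lift_snd]
  have e2 : lift (fst P (M ⊗ Q)) (lift ((snd P (M ⊗ Q) ≫ fst M Q) ≫ π) (snd P (M ⊗ Q) ≫ snd M Q)) =
      P ◁ (π ▷ Q) := by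
    apply CartesianMonoidalCategory.hom_ext
    · rw [lift_fst, whiskerLeft_fst]
    · rw [lift_snd, whiskerLeft_snd]
      apply CartesianMonoidalCategory.hom_ext
      · rw [lift_fst, Category.assoc, Category.assoc, whiskerRight_fst]
      · rw [lift_snd, Category.assoc, whiskerRight_snd]
  rw [e1, e2, Category.id_comp] at h
  exact h

include hepi hψ' in
/-- a relation between `ψ`-values of lifts descends to `ψ'` -/
theorem add_desc
    (hadd : ∀ (T : Over S) (p : T ⟶ P) (q : T ⟶ Q) (y z : T ⟶ M),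
      lift p (lift (y * z) q) ≫ ψ = (lift p (lift y q) ≫ ψ) * (lift p (lift z q) ≫ ψ))
    {T : Over S} (p : T ⟶ P) (q : T ⟶ Q) (y z : T ⟶ M'') :
    lift p (lift (y * z) q) ≫ ψ' = (lift p (lift y q) ≫ ψ') * (lift p (lift z q) ≫ ψ') := by
  obtain ⟨R₁, hR₁, hl₁⟩ := exists_lift_of_epi K π hepi T y
  obtain ⟨R₂, hR₂, hl₂⟩ := exists_lift_of_epi K π hepi T z
  apply hom_ext_of_cover K _ _ (R₁ ⊓ R₂) ((QuotSh.J K S).intersection_covering hR₁ hR₂)
  intro Z c hc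
  obtain ⟨y₁, hy₁⟩ := hl₁ c hc.1
  obtain ⟨z₁, hz₁⟩ := hl₂ c hc.2
  rw [MonObj.comp_mul, ← Category.assoc, ← Category.assoc, ← Category.assoc, comp_lift, comp_lift,
    comp_lift, comp_lift, comp_lift, comp_lift, MonObj.comp_mul, ← hy₁, ← hz₁, ← MonObj.mul_comp,
    hψ', hψ', hψ', hadd]

include hepi hψ' in
theorem lin_desc (α : M ⟶ M) (α'' : M'' ⟶ M'') (β : N ⟶ N) (hα : π ≫ α'' = α ≫ π)
    (hlin : ∀ (T : Over S) (p : T ⟶ P) (q : T ⟶ Q) (y : T ⟶ M),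
      lift p (lift (y ≫ α) q) ≫ ψ = (lift p (lift y q) ≫ ψ) ≫ β)
    {T : Over S} (p : T ⟶ P) (q : T ⟶ Q) (y : T ⟶ M'') :
    lift p (lift (y ≫ α'') q) ≫ ψ' = (lift p (lift y q) ≫ ψ') ≫ β := by
  obtain ⟨R₁, hR₁, hl₁⟩ := exists_lift_of_epi K π hepi T y
  apply hom_ext_of_cover K _ _ R₁ hR₁
  intro Z c hc
  obtain ⟨y₁, hy₁⟩ := hl₁ c hc
  rw [← Category.assoc, ← Category.assoc, ← Category.assoc, comp_lift, comp_lift, comp_lift,
    comp_lift, ← Category.assoc, ← hy₁, Category.assoc, hα, ← Category.assoc, hψ', hψ', hlin]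

include hepi hψ' in
theorem desc_unique (ψ'' : P ⊗ (M'' ⊗ Q) ⟶ N) (h : (P ◁ (π ▷ Q)) ≫ ψ'' = ψ) : ψ'' = ψ' := by
  have hψ'' : ∀ {T : Over S} (p : T ⟶ P) (q : T ⟶ Q) (y : T ⟶ M),
      lift p (lift (y ≫ π) q) ≫ ψ'' = lift p (lift y q) ≫ ψ := by
    intro T p q y
    rw [← h, ← Category.assoc]
    congr 1
    apply CartesianMonoidalCategory.hom_ext
    · rw [lift_fst, Category.assoc, whiskerLeft_fst, lift_fst]
    · rw [lift_snd, Category.assoc, whiskerLeft_snd, lift_snd_assoc]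
      apply CartesianMonoidalCategory.hom_ext
      · rw [lift_fst, Category.assoc, whiskerRight_fst, lift_fst_assoc]
      · rw [lift_snd, Category.assoc, whiskerRight_snd, lift_snd]
  let y₀ : P ⊗ (M'' ⊗ Q) ⟶ M'' := snd P (M'' ⊗ Q) ≫ fst M'' Q
  obtain ⟨R₀, hR₀, hl₀⟩ := exists_lift_of_epi K π hepi (P ⊗ (M'' ⊗ Q)) y₀
  apply hom_ext_of_cover K _ _ R₀ hR₀
  intro Z c hc
  obtain ⟨y₁, hy₁⟩ := hl₀ c hc
  have hc' : c = lift (c ≫ fst P (M'' ⊗ Q)) (lift (y₁ ≫ π) (c ≫ snd P (M'' ⊗ Q) ≫ snd M'' Q)) := by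
    apply CartesianMonoidalCategory.hom_ext
    · rw [lift_fst]
    · rw [lift_snd]
      apply CartesianMonoidalCategory.hom_ext
      · rw [lift_fst, hy₁, Category.assoc]
      · rw [lift_snd, Category.assoc]
  rw [hc', hψ'', hψ']

end OneSlot2

end Groth.Agent.Helper18.MultSchLib2
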