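import Mathlib
import Groth.Prelude.Def_CGrpSh
import Groth.Prelude.Def_W4c1extbt15Mult
import Groth.Agent.Lib.Helper18.CGrpShLib
import Groth.Agent.Lib.Helper18.MultSchLib
import Groth.Agent.Lib.Helper18.MultSchLib2

/-!
# Descent of multilinear morphisms of group schemes along sheaf epimorphisms, all slots (helper18)
-/

set_option autoImplicit false
universe v' u' u

open CategoryTheory CategoryTheory.Limits MonoidalCategory CartesianMonoidalCategory MonObj AlgebraicGeometry Opposite

namespace Groth.Agent.Helper18.MultSchLib3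

open Groth.Agent.Helper18.MultSchLib

section General

variable {C : Type u'} [Category.{v'} C] [CartesianMonoidalCategory C] [BraidedCategory C]

/-- coordinate projections of a power -/
noncomputable def proj (M : C) : (n : ℕ) → Fin n → (MultSch.pow M n ⟶ M)
  | 0, l => l.elim0
  | n + 1, l => Fin.cases (fst M (MultSch.pow M n))
      (fun l' => snd M (MultSch.pow M n) ≫ proj M n l') l

theorem tuple_proj {M T : C} : ∀ {n : ℕ} (x : Fin n → (T ⟶ M)) (l : Fin n),
    MultSch.tuple x ≫ proj M n l = x l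
  | 0, _, l => l.elim0
  | n + 1, x, l => by
    refine Fin.cases ?_ (fun l' => ?_) l
    · change lift (x 0) _ ≫ fst _ _ = _
      rw [lift_fst]
    · change lift (x 0) (MultSch.tuple fun i => x i.succ) ≫ snd _ _ ≫ proj M n l' = _
      rw [lift_snd_assoc, tuple_proj]

theorem tuple_proj_id (M : C) : ∀ (n : ℕ), MultSch.tuple (proj M n) = 𝟙 (MultSch.pow M n)
  | 0 => toUnit_unique _ _
  | n + 1 => by
    change lift (proj M (n+1) 0) (MultSch.tuple fun i => proj M (n+1) i.succ) = _
    have h1 : proj M (n+1) 0 = fst M (MultSch.pow M n) := rfl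
    have h2 : (fun i : Fin n => proj M (n+1) i.succ) =
        fun i => snd M (MultSch.pow M n) ≫ proj M n i := rfl
    have h3 := comp_tuple (snd M (MultSch.pow M n)) (proj M n)
    rw [tuple_proj_id M n, Category.comp_id] at h3
    have aux : (lift (fst M (MultSch.pow M n))
        (MultSch.tuple fun l => snd M (MultSch.pow M n) ≫ proj M n l) :
          M ⊗ MultSch.pow M n ⟶ M ⊗ MultSch.pow M n) = 𝟙 _ := by
      rw [← h3]
      exact lift_fst_snd
    rw [h1, h2]
    exact aux

theorem eq_tuple {M T : C} {n : ℕ} (a : T ⟶ MultSch.pow M n) :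
    a = MultSch.tuple (fun l => a ≫ proj M n l) := by
  rw [← comp_tuple, tuple_proj_id, Category.comp_id]

theorem comp_update_lift {M M' : C} (π : M ⟶ M') {n : ℕ} {T Z : C} (c : Z ⟶ T)
    (x : Fin n → (T ⟶ M')) (x' : Fin n → (Z ⟶ M))
    (hx : ∀ l, x' l ≫ π = c ≫ x l) (i : Fin n) (a : T ⟶ M') (a' : Z ⟶ M) (ha : a' ≫ π = c ≫ a) :
    c ≫ MultSch.tuple (Function.update x i a) =
      MultSch.tuple (fun l => Function.update x' i a' l ≫ π) := by
  rw [comp_tuple]
  congr 1
  funext l
  by_cases hl : l = i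
  · subst hl; rw [Function.update_self, Function.update_self, ha]
  · rw [Function.update_of_ne hl, Function.update_of_ne hl, hx]

theorem comp_tuple_lift {M M' : C} (π : M ⟶ M') {n : ℕ} {T Z : C} (c : Z ⟶ T)
    (x : Fin n → (T ⟶ M')) (x' : Fin n → (Z ⟶ M))
    (hx : ∀ l, x' l ≫ π = c ≫ x l) :
    c ≫ MultSch.tuple x = MultSch.tuple (fun l => x' l ≫ π) := by
  rw [comp_tuple]
  congr 1
  funext l
  exact (hx l).symm

/-- multilinear + alternating implies antisymmetric -/
theorem swap_mul {M N : C} [GrpObj M] [GrpObj N] {n : ℕ} (φ : MultSch.pow M n ⟶ N)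
    (hmult : MultSch.IsMultilinear φ) (halt : MultSch.IsAlternating φ)
    {T : C} (x : Fin n → (T ⟶ M)) (i j : Fin n) (hij : i ≠ j) :
    (MultSch.tuple (Function.update (Function.update x i (x j)) j (x i)) ≫ φ) *
      (MultSch.tuple x ≫ φ) = 1 := by
  have hji : j ≠ i := Ne.symm hij
  have hA : MultSch.tuple (Function.update (Function.update x i (x i * x j)) j (x i * x j)) ≫ φ = 1 := by
    apply halt T _ i j hij
    rw [Function.update_of_ne hij, Function.update_self, Function.update_self]
  have h1 := hmult T (Function.update x i (x i * x j)) j (x i) (x j)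
  rw [hA, Function.update_comm hij (x i * x j) (x i) x,
    Function.update_comm hij (x i * x j) (x j) x] at h1
  have h2 := hmult T (Function.update x j (x i)) i (x i) (x j)
  have h3 := hmult T (Function.update x j (x j)) i (x i) (x j)
  rw [h2, h3] at h1
  have e1 : MultSch.tuple (Function.update (Function.update x j (x i)) i (x i)) ≫ φ = 1 := by
    apply halt T _ i j hij
    rw [Function.update_self, Function.update_of_ne hji, Function.update_self]
  have e4 : MultSch.tuple (Function.update (Function.update x j (x j)) i (x j)) ≫ φ = 1 := by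
    apply halt T _ i j hij
    rw [Function.update_self, Function.update_of_ne hji, Function.update_self]
  have e3 : Function.update (Function.update x j (x j)) i (x i) = x := by
    rw [Function.update_eq_self, Function.update_eq_self]
  have e2 : Function.update (Function.update x j (x i)) i (x j) =
      Function.update (Function.update x i (x j)) j (x i) :=
    Function.update_comm hji _ _ x
  rw [e1, e4, e3, e2, _root_.one_mul, _root_.mul_one] at h1
  exact h1.symm

/-- a function of tuples invariant under related changes of one coordinate is invariant under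
related changes of all coordinates -/
theorem indep_all {α β : Type*} {n : ℕ} (F : (Fin n → α) → β) (r : α → α → Prop)
    (hone : ∀ (x : Fin n → α) (i : Fin n) (z : α), r (x i) z → F (Function.update x i z) = F x)
    (x x' : Fin n → α) (h : ∀ l, r (x l) (x' l)) : F x' = F x := by
  classical
  have key : ∀ s : Finset (Fin n), F (fun l => if l ∈ s then x' l else x l) = F x := by
    intro s
    induction s using Finset.induction_on with
    | empty => simp
    | insert a s ha ih =>
      have e : (fun l => if l ∈ insert a s then x' l else x l) =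
          Function.update (fun l => if l ∈ s then x' l else x l) a (x' a) := by
        funext l
        by_cases hl : l = a
        · subst hl; simp
        · simp [Function.update_of_ne hl, Finset.mem_insert, hl]
      rw [e, hone _ a (x' a) (by simp only [if_neg ha]; exact h a), ih]
  have := key Finset.univ
  simpa using this

end General

section Over

variable {S : Scheme.{u}} (K : Precoverage Scheme.{u}) [(QuotSh.J K S).Subcanonical]
variable {M₂ M₃ N : Over S} [GrpObj M₂] [IsCommMonObj M₂] [GrpObj M₃] [IsCommMonObj M₃]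
  [GrpObj N] [IsCommMonObj N]
  (π : M₂ ⟶ M₃) [IsMonHom π] (hepi : Epi (CGrpSh.ptsMap K π))

include hepi in
theorem exists_lift_family {n : ℕ} {T : Over S} (x : Fin n → (T ⟶ M₃)) :
    ∃ R : Sieve T, R ∈ QuotSh.J K S T ∧ ∀ {Z : Over S} (c : Z ⟶ T), R.arrows c →
      ∃ x' : Fin n → (Z ⟶ M₂), ∀ l, x' l ≫ π = c ≫ x l := by
  choose R hR hl using fun l => MultSchLib2.exists_lift_of_epi K π hepi T (x l)
  obtain ⟨R', hR', hle⟩ := MultSchLib.exists_common_refinement (QuotSh.J K S) R hR
  refine ⟨R', hR', ?_⟩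
  intro Z c hc
  choose y hy using fun l => hl l c (hle l _ hc)
  exact ⟨y, hy⟩

include hepi in
theorem exists_desc_pow {n : ℕ} (φ : MultSch.pow M₂ n ⟶ N)
    (hind : ∀ (T : Over S) (x x' : Fin n → (T ⟶ M₂)), (∀ l, x l ≫ π = x' l ≫ π) →
      MultSch.tuple x ≫ φ = MultSch.tuple x' ≫ φ) :
    ∃ φ' : MultSch.pow M₃ n ⟶ N, ∀ (T : Over S) (x : Fin n → (T ⟶ M₂)),
      MultSch.tuple (fun l => x l ≫ π) ≫ φ' = MultSch.tuple x ≫ φ := by
  obtain ⟨R₀, hR₀, hl₀⟩ := exists_lift_family K π hepi (proj M₃ n)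
  choose yc hyc using @hl₀
  obtain ⟨φ', hφ'⟩ := MultSchLib2.exists_glue K R₀ hR₀
    (fun {Z} c hc => MultSch.tuple (yc c hc) ≫ φ) (by
      intro Z Z' c hc d
      rw [← Category.assoc, comp_tuple]
      apply hind
      intro l
      rw [hyc, Category.assoc, Category.assoc, hyc])
  refine ⟨φ', ?_⟩
  intro T x
  obtain ⟨t, ht⟩ : ∃ t : T ⟶ MultSch.pow M₃ n, t = MultSch.tuple (fun l => x l ≫ π) := ⟨_, rfl⟩
  rw [← ht]
  apply MultSchLib2.hom_ext_of_cover K _ _ (R₀.pullback t) ((QuotSh.J K S).pullback_stable t hR₀)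
  intro Z d hd
  have hd' : R₀.arrows (d ≫ t) := hd
  rw [← Category.assoc, hφ' (d ≫ t) hd', ← Category.assoc, comp_tuple]
  apply hind
  intro l
  rw [hyc, Category.assoc, ht, tuple_proj, Category.assoc]

variable {n : ℕ} (φ : MultSch.pow M₂ n ⟶ N) (φ' : MultSch.pow M₃ n ⟶ N)
  (hφ' : ∀ (T : Over S) (x : Fin n → (T ⟶ M₂)),
      MultSch.tuple (fun l => x l ≫ π) ≫ φ' = MultSch.tuple x ≫ φ)

include hepi hφ' in
theorem mult_desc (hmult : MultSch.IsMultilinear φ) : MultSch.IsMultilinear φ' := by
  intro T x i y z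
  obtain ⟨R, hR, hl⟩ := exists_lift_family K π hepi x
  obtain ⟨Ry, hRy, hly⟩ := MultSchLib2.exists_lift_of_epi K π hepi T y
  obtain ⟨Rz, hRz, hlz⟩ := MultSchLib2.exists_lift_of_epi K π hepi T z
  apply MultSchLib2.hom_ext_of_cover K _ _ (R ⊓ (Ry ⊓ Rz))
    ((QuotSh.J K S).intersection_covering hR ((QuotSh.J K S).intersection_covering hRy hRz))
  intro Z c hc
  obtain ⟨x₁, hx₁⟩ := hl c hc.1
  obtain ⟨y₁, hy₁⟩ := hly c hc.2.1
  obtain ⟨z₁, hz₁⟩ := hlz c hc.2.2
  have hyz : (y₁ * z₁) ≫ π = c ≫ (y * z) := by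
    rw [MonObj.mul_comp, hy₁, hz₁, MonObj.comp_mul]
  rw [MonObj.comp_mul, ← Category.assoc, ← Category.assoc, ← Category.assoc,
    comp_update_lift π c x x₁ hx₁ i (y * z) (y₁ * z₁) hyz,
    comp_update_lift π c x x₁ hx₁ i y y₁ hy₁, comp_update_lift π c x x₁ hx₁ i z z₁ hz₁,
    hφ', hφ', hφ', hmult]

include hepi hφ' in
theorem lin_desc (α : M₂ ⟶ M₂) (α'' : M₃ ⟶ M₃) (β : N ⟶ N) (hα : π ≫ α'' = α ≫ π)
    (hlin : ∀ (T : Over S) (x : Fin n → (T ⟶ M₂)) (i : Fin n),
      MultSch.tuple (Function.update x i (x i ≫ α)) ≫ φ = (MultSch.tuple x ≫ φ) ≫ β)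
    {T : Over S} (x : Fin n → (T ⟶ M₃)) (i : Fin n) :
    MultSch.tuple (Function.update x i (x i ≫ α'')) ≫ φ' = (MultSch.tuple x ≫ φ') ≫ β := by
  obtain ⟨R, hR, hl⟩ := exists_lift_family K π hepi x
  apply MultSchLib2.hom_ext_of_cover K _ _ R hR
  intro Z c hc
  obtain ⟨x₁, hx₁⟩ := hl c hc
  have ha : (x₁ i ≫ α) ≫ π = c ≫ (x i ≫ α'') := by
    rw [Category.assoc, ← hα, ← Category.assoc, hx₁, Category.assoc]
  have hx0 := comp_tuple_lift π c x x₁ hx₁
  rw [← Category.assoc, comp_update_lift π c x x₁ hx₁ i _ _ ha, hφ', hlin, ← hφ', ← hx0]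
  simp only [Category.assoc]

include hepi hφ' in
theorem alt_desc (halt : MultSch.IsAlternating φ) : MultSch.IsAlternating φ' := by
  apply MultSchLib.isAlternating_of_epi K π hepi φ'
  intro T x i j hij hx
  rw [hφ']
  exact halt T x i j hij hx

include hepi hφ' in
theorem desc_unique (φ'' : MultSch.pow M₃ n ⟶ N)
    (h : ∀ (T : Over S) (x : Fin n → (T ⟶ M₂)),
      MultSch.tuple (fun l => x l ≫ π) ≫ φ'' = MultSch.tuple x ≫ φ) : φ'' = φ' := by
  obtain ⟨R₀, hR₀, hl₀⟩ := exists_lift_family K π hepi (proj M₃ n)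
  apply MultSchLib2.hom_ext_of_cover K _ _ R₀ hR₀
  intro Z c hc
  obtain ⟨y₁, hy₁⟩ := hl₀ c hc
  have hc' : c = MultSch.tuple (fun l => y₁ l ≫ π) := by
    rw [eq_tuple c]
    congr 1
    funext l
    exact (hy₁ l).symm
  rw [hc', h, hφ']

end Over

end Groth.Agent.Helper18.MultSchLib3
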