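import Groth.Agent.Lib.Helper18.MultToGa
import Groth.Agent.Lib.Helper18.BcPts
import Groth.Agent.Lib.Helper22.GrpYoneda
import Groth.Prelude.Def_SGA3x

/-!
# Homomorphisms from groups of multiplicative type to the additive group are trivial (helper18)
-/

set_option autoImplicit false
set_option linter.style.haveILetI false
universe u
open CategoryTheory CategoryTheory.Limits MonoidalCategory CartesianMonoidalCategory MonObj
  AlgebraicGeometry

noncomputable section

namespace Groth.Agent.Helper18.MultToGa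

open Groth.Agent.Helper13 Groth.Agent.Helper18

section BC

variable {S U : Scheme.{u}} (g : U ⟶ S) (H : Over S) [GrpObj H] (u : H ⟶ Red.Ga S)

/-- the function of `u` pulled back to the base change -/
def yFn : Γ((Red.bc g H).left, ⊤) := (pullback.fst H.hom g).appTop (Red.gaFn u)

/-- the base-changed morphism to the additive group over `U` -/
def uBc : Red.bc g H ⟶ Red.Ga U := GaPts.ptOfElt (yFn g H u)

theorem gaFn_comp_uBc {T : Over U} (a : T ⟶ Red.bc g H) :
    Red.gaFn (a ≫ uBc g H u) = Red.gaFn (BcPts.dn g H a ≫ u) := by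
  rw [GaPts.gaFn_comp, GaPts.gaFn_comp, uBc, GaPts.gaFn_ptOfElt, yFn, BcPts.dn_left,
    Scheme.Hom.comp_appTop]
  rfl

variable [IsMonHom u]

theorem gaFn_mul_uBc {T : Over U} (a b : T ⟶ Red.bc g H) :
    Red.gaFn ((a * b) ≫ uBc g H u) =
      Red.gaFn (a ≫ uBc g H u) + Red.gaFn (b ≫ uBc g H u) := by
  rw [gaFn_comp_uBc, gaFn_comp_uBc, gaFn_comp_uBc, BcPts.dn_mul,
    MonObj.mul_comp (BcPts.dn g H a) (BcPts.dn g H b) u, GaPts.gaFn_mul]

instance isMonHom_uBc : IsMonHom (uBc g H u) := by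
  apply Groth.Agent.Helper22.GrpYoneda.isMonHom_of_points
  · apply GaPts.eq_of_gaFn_eq
    have h1 : η[Red.bc g H] = (1 : 𝟙_ (Over U) ⟶ Red.bc g H) := MonObj.one_eq_one _
    have h2 : η[Red.Ga U] = (1 : 𝟙_ (Over U) ⟶ Red.Ga U) := MonObj.one_eq_one _
    rw [h1, h2, GaPts.gaFn_one]
    have h3 := gaFn_mul_uBc g H u (1 : 𝟙_ (Over U) ⟶ Red.bc g H) 1
    rw [_root_.mul_one] at h3
    have h4 : Red.gaFn ((1 : 𝟙_ (Over U) ⟶ Red.bc g H) ≫ uBc g H u) + 0 =
        Red.gaFn ((1 : 𝟙_ (Over U) ⟶ Red.bc g H) ≫ uBc g H u) +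
          Red.gaFn ((1 : 𝟙_ (Over U) ⟶ Red.bc g H) ≫ uBc g H u) := by
      rw [add_zero]; exact h3
    exact (add_left_cancel h4).symm
  · apply GaPts.eq_of_gaFn_eq
    rw [gaFn_mul_uBc, GaPts.gaFn_mul]

/-- if the base change of `H` is diagonalisable, the function of `u` dies on it -/
theorem yFn_eq_zero {M : Type} [AddCommGroup M]
    (e : Grp.mk (Red.bc g H) ≅ Grp.mk (Red.DS U M)) : yFn g H u = 0 := by
  have h1 : e.inv.hom.hom ≫ uBc g H u = 1 := hom_DS_Ga_eq_one _
  have h2 : uBc g H u = e.hom.hom.hom ≫ e.inv.hom.hom ≫ uBc g H u := by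
    have := congrArg (fun k => k.hom.hom) e.hom_inv_id
    change e.hom.hom.hom ≫ e.inv.hom.hom = 𝟙 _ at this
    rw [← Category.assoc, this, Category.id_comp]
  rw [h1, MonObj.comp_one] at h2
  have h3 : Red.gaFn (uBc g H u) = yFn g H u := GaPts.gaFn_ptOfElt _
  rw [← h3, h2, GaPts.gaFn_one]

end BC

theorem main (S : Scheme.{u}) (H : Over S) [GrpObj H] (hH : SGA3x.IsMultTypeFT H)
    (u : H ⟶ Red.Ga S) [IsMonHom u] : u = 1 := by
  obtain ⟨S', f, hflat, hsurj, -, hloc⟩ := hH
  haveI := hflat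
  haveI := hsurj
  choose Uo hUo M instM hFG e using hloc
  let gfun : ∀ s' : S', (Uo s' : Scheme.{u}) ⟶ S := fun s' => (Uo s').ι ≫ f
  have key : ∀ s' : S', pullback.fst H.hom (gfun s') ≫ u.left =
      pullback.fst H.hom (gfun s') ≫ (1 : H ⟶ Red.Ga S).left := by
    intro s'
    letI := instM s'
    have h0 : yFn (gfun s') H u = 0 := yFn_eq_zero (gfun s') H u (e s').some
    have h1 : BcPts.dn (gfun s') H (𝟙 (Red.bc (gfun s') H)) ≫ u =
        BcPts.dn (gfun s') H (𝟙 (Red.bc (gfun s') H)) ≫ 1 := by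
      apply GaPts.eq_of_gaFn_eq
      rw [MonObj.comp_one, GaPts.gaFn_one, GaPts.gaFn_comp, BcPts.dn_left]
      rw [Over.id_left, Category.id_comp]
      exact h0
    have h2 := congrArg (fun k => k.left) h1
    simp only [Over.comp_left, BcPts.dn_left, Over.id_left, Category.id_comp] at h2
    exact h2
  let Pi0 : (∐ fun s' : S' => pullback H.hom (gfun s')) ⟶ H.left :=
    Sigma.desc fun s' => pullback.fst H.hom (gfun s')
  haveI : Flat Pi0 := inferInstance
  haveI : Surjective Pi0 := by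
    apply Surjective.sigmaDesc_of_union_range_eq_univ
    rw [Set.eq_univ_iff_forall]
    intro h
    obtain ⟨s', hs'⟩ := f.surjective (H.hom h)
    let x : ((Uo s' : Scheme.{u})) := ⟨s', hUo s'⟩
    have hx : H.hom h = (gfun s') x := by
      show H.hom h = ((Uo s').ι ≫ f) x
      rw [Scheme.Hom.comp_apply]
      exact hs'.symm
    obtain ⟨z, hz, -⟩ := Scheme.Pullback.exists_preimage_pullback (f := H.hom) (g := gfun s') h
      x hx
    exact Set.mem_iUnion.2 ⟨s', z, hz⟩
  haveI : Epi Pi0 := Flat.epi_of_flat_of_surjective Pi0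
  apply Over.OverMorphism.ext
  rw [← cancel_epi Pi0]
  apply Sigma.hom_ext
  intro s'
  rw [Sigma.ι_desc_assoc, Sigma.ι_desc_assoc, key]

end Groth.Agent.Helper18.MultToGa
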