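import Groth.Prelude.Def_NonAbH1

/-!
# Generic lemmas for the boundary map of non-abelian H¹ (helper18)
-/

universe w v u

open CategoryTheory Opposite

namespace Groth.Agent.Helper18.NonAbBd

variable {C : Type u} [Category.{v} C] {J : GrothendieckTopology C}

/-- the sheaf condition on types -/
lemma isSheafT (H : Sheaf J (Type w)) : Presieve.IsSheaf J H.obj :=
  (isSheaf_iff_isSheaf_of_type J H.obj).mp H.property

/-- separatedness in the elementary form -/
lemma sep (H : Sheaf J (Type w)) {U : C} (S : Sieve U) (hS : S ∈ J U) (x y : H.obj.obj (op U))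
    (h : ∀ ⦃V : C⦄ (f : V ⟶ U), S f → H.obj.map f.op x = H.obj.map f.op y) : x = y :=
  ((isSheafT H) S hS).isSeparatedFor.ext h

/-- (L1) a morphism from a locally nonempty sheaf which is constant on sections descends to a unique
global section. -/
lemma exists_section_of_const {T H : Sheaf J (Type w)}
    (hT : ∀ U : C, ∃ S ∈ J U, ∀ ⦃V : C⦄ (f : V ⟶ U), S f → Nonempty (T.obj.obj (op V)))
    (φ : T ⟶ H) (hφ : ∀ (U : Cᵒᵖ) (t t' : T.obj.obj U), φ.hom.app U t = φ.hom.app U t') :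
    ∃ h : H.obj.sections, ∀ (U : Cᵒᵖ) (t : T.obj.obj U), φ.hom.app U t = h.1 U := by
  have key : ∀ U : C, ∃ h : H.obj.obj (op U), ∀ ⦃V : C⦄ (f : V ⟶ U) (t : T.obj.obj (op V)),
      H.obj.map f.op h = φ.hom.app (op V) t := by
    intro U
    obtain ⟨S, hS, hne⟩ := hT U
    let x : Presieve.FamilyOfElements H.obj S.arrows := fun V f hf =>
      φ.hom.app (op V) (hne f hf).some
    have hx : x.Compatible := by
      intro V₁ V₂ W g₁ g₂ f₁ f₂ h₁ h₂ _
      dsimp only [x]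
      rw [← NatTrans.naturality_apply, ← NatTrans.naturality_apply]
      exact hφ _ _ _
    refine ⟨((isSheafT H) S hS).amalgamate x hx, fun V f t => ?_⟩
    obtain ⟨S', hS', hne'⟩ := hT V
    refine sep H (S' ⊓ S.pullback f) (J.intersection_covering hS' (J.pullback_stable f hS)) _ _ ?_
    intro W g hg
    have h1 := ((isSheafT H) S hS).valid_glue hx (g ≫ f) hg.2
    rw [← Functor.map_comp_apply, ← op_comp, h1, ← NatTrans.naturality_apply]
    exact hφ _ _ _
  choose h hh using key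
  have huniq : ∀ (U : C) (h' : H.obj.obj (op U)),
      (∀ ⦃V : C⦄ (f : V ⟶ U) (t : T.obj.obj (op V)), H.obj.map f.op h' = φ.hom.app (op V) t) →
      h' = h U := by
    intro U h' hh'
    obtain ⟨S, hS, hne⟩ := hT U
    refine sep H S hS _ _ fun V f hf => ?_
    rw [hh' f (hne f hf).some, hh U f (hne f hf).some]
  refine ⟨⟨fun U => h U.unop, ?_⟩, ?_⟩
  · intro U V a
    refine huniq V.unop _ fun W f t => ?_
    have := hh U.unop (f ≫ a.unop) t
    rw [op_comp, Functor.map_comp_apply] at this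
    exact this
  · intro U t
    refine huniq U.unop _ fun W f t' => ?_
    rw [← NatTrans.naturality_apply]
    exact hφ _ _ _

/-- (L2) the image of a morphism of sheaves injective on sections is closed under glueing. -/
lemma mem_image_of_locally {T H : Sheaf J (Type w)} (ι : T ⟶ H)
    (hι : ∀ U : Cᵒᵖ, Function.Injective (ι.hom.app U)) {U : C} (h : H.obj.obj (op U))
    (S : Sieve U) (hS : S ∈ J U)
    (hloc : ∀ ⦃V : C⦄ (f : V ⟶ U), S f → ∃ t : T.obj.obj (op V), ι.hom.app (op V) t = H.obj.map f.op h) :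
    ∃ t : T.obj.obj (op U), ι.hom.app (op U) t = h := by
  choose t ht using hloc
  let x : Presieve.FamilyOfElements T.obj S.arrows := fun V f hf => t f hf
  have hx : x.Compatible := by
    intro V₁ V₂ W g₁ g₂ f₁ f₂ h₁ h₂ e
    apply hι
    dsimp only [x]
    rw [NatTrans.naturality_apply, NatTrans.naturality_apply, ht, ht, ← Functor.map_comp_apply,
      ← Functor.map_comp_apply, ← op_comp, ← op_comp, e]
  refine ⟨((isSheafT T) S hS).amalgamate x hx, ?_⟩
  refine sep H S hS _ _ fun V f hf => ?_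
  rw [← NatTrans.naturality_apply, ((isSheafT T) S hS).valid_glue hx f hf]
  exact ht f hf


/-- (L5) factor a morphism through a sectionwise injective one containing its image. -/
lemma exists_factor {T T' H : Sheaf J (Type w)} (ι' : T' ⟶ H)
    (hι' : ∀ U : Cᵒᵖ, Function.Injective (ι'.hom.app U)) (ψ : T ⟶ H)
    (hψ : ∀ (U : Cᵒᵖ) (t : T.obj.obj U), ∃ t' : T'.obj.obj U, ι'.hom.app U t' = ψ.hom.app U t) :
    ∃ e : T ⟶ T', ∀ (U : Cᵒᵖ) (t : T.obj.obj U), ι'.hom.app U (e.hom.app U t) = ψ.hom.app U t := by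
  choose e he using hψ
  refine ⟨ObjectProperty.homMk { app := fun U => ↾(e U), naturality := ?_ }, fun U t => he U t⟩
  intro U V a
  ext t
  apply hι'
  change ι'.hom.app V (e V (T.obj.map a t)) = ι'.hom.app V (T'.obj.map a (e U t))
  rw [he, NatTrans.naturality_apply, NatTrans.naturality_apply, he]

section GS

open NonAbH1 NonAbH1.GSheaf

variable {F G : Sheaf J GrpCat.{w}}

/-- (L3) an equivariant morphism which is bijective on sections is an isomorphism of `F`-sheaves. -/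
lemma nonempty_iso_of_bijective {T T' : GSheaf F} (e : T ⟶ T')
    (he : ∀ U : Cᵒᵖ, Function.Bijective (e.hom.hom.app U)) : Nonempty (T ≅ T') := by
  have h1 : ∀ U : Cᵒᵖ, IsIso (e.hom.hom.app U) := fun U => (isIso_iff_bijective _).mpr (he U)
  have h2 : IsIso e.hom.hom := NatIso.isIso_of_isIso_app _
  have h3 : IsIso e.hom := by
    have : IsIso ((sheafToPresheaf J (Type w)).map e.hom) := h2
    exact isIso_of_reflects_iso e.hom (sheafToPresheaf J (Type w))
  refine ⟨⟨e, ⟨inv e.hom, fun {U} g p => ?_⟩, ?_, ?_⟩⟩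
  · apply (he U).1
    have hh : ∀ q : T'.P.obj.obj U, e.hom.hom.app U ((inv e.hom).hom.app U q) = q := by
      intro q
      have := congrArg (fun k => k.hom.app U q) (IsIso.inv_hom_id e.hom)
      exact this
    rw [hh, e.map_smul, hh]
  · apply GSheaf.hom_ext
    exact IsIso.hom_inv_id e.hom
  · apply GSheaf.hom_ext
    exact IsIso.inv_hom_id e.hom

end GS


section Bd

open NonAbH1 NonAbH1.GSheaf

variable {F G : Sheaf J GrpCat.{w}} [J.HasSheafCompose (forget GrpCat.{w})]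
  (u : F ⟶ G) {Q : GSheaf G} (π : GSheaf.trivial G ⟶ Q)

/-- equivariance of `π` in elementary form -/
lemma pi_mul {U : Cᵒᵖ} (g x : G.obj.obj U) :
    π.hom.hom.app U (ofGrp (g * x)) = Q.smul g (π.hom.hom.app U (ofGrp x)) :=
  π.map_smul g (ofGrp x)

/-- naturality of `π` in elementary form -/
lemma pi_map {U V : Cᵒᵖ} (a : U ⟶ V) (x : G.obj.obj U) :
    π.hom.hom.app V (ofGrp (G.obj.map a x)) = Q.P.obj.map a (π.hom.hom.app U (ofGrp x)) :=
  NatTrans.naturality_apply π.hom.hom a (ofGrp x)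

/-- naturality of a morphism to the underlying sheaf of `G`, elementary form -/
lemma iota_map {T : Sheaf J (Type w)} (ι : T ⟶ uSh G) {U V : Cᵒᵖ} (a : U ⟶ V) (t : T.obj.obj U) :
    toGrp (ι.hom.app V (T.obj.map a t)) = G.obj.map a (toGrp (ι.hom.app U t)) :=
  NatTrans.naturality_apply ι.hom a t

variable {u π}

/-- `π` is invariant under right translation by `F`. -/
lemma pi_mul_u (hQ : IsQuotientBy u π) {U : Cᵒᵖ} (g : G.obj.obj U) (f : F.obj.obj U) :
    π.hom.hom.app U (ofGrp (g * u.hom.app U f)) = π.hom.hom.app U (ofGrp g) :=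
  ((hQ.1 U g (g * u.hom.app U f)).mpr ⟨f, rfl⟩).symm

/-- A sheaf of liftings is a torsor. -/
theorem isTorsor_of_isFibreOver (hu : ∀ U : Cᵒᵖ, Function.Injective (u.hom.app U))
    (hQ : IsQuotientBy u π) {c : Q.P.obj.sections} {T : GSheaf F} (hT : IsFibreOver u π c T) :
    T.IsTorsor := by
  obtain ⟨ι, hinj, him, heq⟩ := hT
  refine ⟨fun U t t' => ?_, fun U => ?_⟩
  · have h1 : π.hom.hom.app U (ofGrp (toGrp (ι.hom.app U t))) = c.1 U := (him U _).mp ⟨t, rfl⟩
    have h2 : π.hom.hom.app U (ofGrp (toGrp (ι.hom.app U t'))) = c.1 U := (him U _).mp ⟨t', rfl⟩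
    obtain ⟨f, hf⟩ := (hQ.1 U _ _).mp (h1.trans h2.symm)
    refine ⟨f⁻¹, ?_, fun f' hf' => ?_⟩
    · apply hinj
      change toGrp (ι.hom.app U (T.smul f⁻¹ t)) = toGrp (ι.hom.app U t')
      rw [heq, hf, map_inv, inv_inv]
    · apply hu
      have := heq U f' t
      rw [hf', hf] at this
      have h3 : u.hom.app U f = (u.hom.app U f')⁻¹ := mul_left_cancel this
      rw [map_inv, h3, inv_inv]
  · obtain ⟨S, hS, hl⟩ := hQ.2 U (c.1 (op U))
    refine ⟨S, hS, fun V a ha => ?_⟩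
    obtain ⟨g, hg⟩ := hl a ha
    rw [c.2 a.op] at hg
    obtain ⟨t, -⟩ := (him (op V) g).mpr hg
    exact ⟨t⟩


/-- a global section of the underlying sheaf of `G`, compatibility in elementary form -/
lemma sec_map (g : (uSh G).obj.sections) {U V : Cᵒᵖ} (a : U ⟶ V) :
    G.obj.map a (toGrp (g.1 U)) = toGrp (g.1 V) := g.2 a

/-- left translation of a morphism to `G` by a global section of `G` -/
lemma exists_translate {T : Sheaf J (Type w)} (g : (uSh G).obj.sections) (ι : T ⟶ uSh G) :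
    ∃ ψ : T ⟶ uSh G, ∀ (U : Cᵒᵖ) (t : T.obj.obj U),
      toGrp (ψ.hom.app U t) = toGrp (g.1 U) * toGrp (ι.hom.app U t) := by
  refine ⟨ObjectProperty.homMk
    { app := fun U => ↾fun t => ofGrp (toGrp (g.1 U) * toGrp (ι.hom.app U t)), naturality := ?_ },
    fun U t => rfl⟩
  intro U V a
  ext t
  change toGrp (g.1 V) * toGrp (ι.hom.app V (T.obj.map a t)) =
    G.obj.map a (toGrp (g.1 U) * toGrp (ι.hom.app U t))
  rw [iota_map, map_mul, sec_map]

/-- If `g • c = c'` for a global section `g` of `G`, the sheaves of liftings are isomorphic. -/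
theorem nonempty_iso_of_translate {c c' : Q.P.obj.sections}
    {T T' : GSheaf F} (hT : IsFibreOver u π c T) (hT' : IsFibreOver u π c' T')
    (g : (uSh G).obj.sections)
    (hg : ∀ U : Cᵒᵖ, Q.smul (toGrp (g.1 U)) (c.1 U) = c'.1 U) : Nonempty (T ≅ T') := by
  obtain ⟨ι, hinj, him, heq⟩ := hT
  obtain ⟨ι', hinj', him', heq'⟩ := hT'
  obtain ⟨ψ, hψ⟩ := exists_translate g ι
  have hfac : ∀ (U : Cᵒᵖ) (t : T.P.obj.obj U), ∃ t' : T'.P.obj.obj U,
      ι'.hom.app U t' = ψ.hom.app U t := by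
    intro U t
    refine (him' U (toGrp (ψ.hom.app U t))).mpr ?_
    rw [hψ, pi_mul, (him U _).mp ⟨t, rfl⟩, hg]
  obtain ⟨e, he⟩ := exists_factor ι' hinj' ψ hfac
  have he' : ∀ (U : Cᵒᵖ) (t : T.P.obj.obj U),
      toGrp (ι'.hom.app U (e.hom.app U t)) = toGrp (g.1 U) * toGrp (ι.hom.app U t) := by
    intro U t
    rw [← hψ]
    exact congrArg toGrp (he U t)
  refine nonempty_iso_of_bijective (T := T) (T' := T') ⟨e, fun {U} f t => ?_⟩ fun U => ⟨?_, ?_⟩
  · apply hinj'
    change toGrp (ι'.hom.app U (e.hom.app U (T.smul f t))) =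
      toGrp (ι'.hom.app U (T'.smul f (e.hom.app U t)))
    rw [he', heq, heq', he', mul_assoc]
  · intro t₁ t₂ h12
    apply hinj
    have h3 := he' U t₁
    rw [show e.hom.app U t₁ = e.hom.app U t₂ from h12, he'] at h3
    exact (mul_left_cancel h3).symm
  · intro t'
    have h4 : π.hom.hom.app U (ofGrp ((toGrp (g.1 U))⁻¹ * toGrp (ι'.hom.app U t'))) = c.1 U := by
      rw [pi_mul, (him' U _).mp ⟨t', rfl⟩, ← hg, ← Q.mul_smul, inv_mul_cancel, Q.one_smul]
    obtain ⟨t, ht⟩ := (him U _).mpr h4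
    refine ⟨t, ?_⟩
    apply hinj'
    change toGrp (ι'.hom.app U (e.hom.app U t)) = toGrp (ι'.hom.app U t')
    rw [he', ht, mul_inv_cancel_left]


/-- the quotient `ι₂ · ι₁⁻¹` of two morphisms to `G` -/
lemma exists_div {T : Sheaf J (Type w)} (ι₁ ι₂ : T ⟶ uSh G) :
    ∃ ψ : T ⟶ uSh G, ∀ (U : Cᵒᵖ) (t : T.obj.obj U),
      toGrp (ψ.hom.app U t) = toGrp (ι₂.hom.app U t) * (toGrp (ι₁.hom.app U t))⁻¹ := by
  refine ⟨ObjectProperty.homMk
    { app := fun U => ↾fun t => ofGrp (toGrp (ι₂.hom.app U t) * (toGrp (ι₁.hom.app U t))⁻¹),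
      naturality := ?_ },
    fun U t => rfl⟩
  intro U V a
  ext t
  change toGrp (ι₂.hom.app V (T.obj.map a t)) * (toGrp (ι₁.hom.app V (T.obj.map a t)))⁻¹ =
    G.obj.map a (toGrp (ι₂.hom.app U t) * (toGrp (ι₁.hom.app U t))⁻¹)
  rw [iota_map, iota_map, map_mul, map_inv]

/-- If the sheaves of liftings of `c` and `c'` are isomorphic, then `c' = g • c` for a global
section `g` of `G`. -/
theorem exists_translate_of_iso (hu : ∀ U : Cᵒᵖ, Function.Injective (u.hom.app U))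
    (hQ : IsQuotientBy u π) {c c' : Q.P.obj.sections}
    {T T' : GSheaf F} (hT : IsFibreOver u π c T) (hT' : IsFibreOver u π c' T')
    (e : T ≅ T') :
    ∃ g : (uSh G).obj.sections, ∀ U : Cᵒᵖ, Q.smul (toGrp (g.1 U)) (c.1 U) = c'.1 U := by
  have htors := isTorsor_of_isFibreOver hu hQ hT
  obtain ⟨ι, hinj, him, heq⟩ := hT
  obtain ⟨ι', hinj', him', heq'⟩ := hT'
  obtain ⟨ψ, hψ⟩ := exists_div ι (e.hom.hom ≫ ι')
  have hψ' : ∀ (U : Cᵒᵖ) (t : T.P.obj.obj U), toGrp (ψ.hom.app U t) =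
      toGrp (ι'.hom.app U (e.hom.hom.hom.app U t)) * (toGrp (ι.hom.app U t))⁻¹ := hψ
  have hconst : ∀ (U : Cᵒᵖ) (t t' : T.P.obj.obj U), ψ.hom.app U t = ψ.hom.app U t' := by
    intro U t t'
    obtain ⟨f, hf, -⟩ := htors.1 U t t'
    change toGrp (ψ.hom.app U t) = toGrp (ψ.hom.app U t')
    rw [hψ', hψ', ← hf, e.hom.map_smul, heq, heq', mul_inv_rev, inv_inv, mul_assoc,
      inv_mul_cancel_left]
  obtain ⟨g, hg⟩ := exists_section_of_const htors.2 ψ hconst
  refine ⟨g, fun U => ?_⟩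
  obtain ⟨S, hS, hne⟩ := htors.2 U.unop
  refine sep Q.P S hS _ _ fun V a ha => ?_
  obtain ⟨t⟩ := hne a ha
  have h1 : Q.P.obj.map a.op (c'.1 U) = c'.1 (op V) := c'.2 a.op
  have h2 : Q.P.obj.map a.op (c.1 U) = c.1 (op V) := c.2 a.op
  have h3 : G.obj.map a.op (toGrp (g.1 U)) = toGrp (g.1 (op V)) := sec_map g a.op
  have h4 : toGrp (g.1 (op V)) = toGrp (ψ.hom.app (op V) t) := congrArg toGrp (hg (op V) t).symm
  rw [Q.map_smul, h1, h2, h3, h4, hψ', ← (him (op V) _).mp ⟨t, rfl⟩, ← pi_mul, inv_mul_cancel_right]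
  exact (him' (op V) _).mp ⟨_, rfl⟩


variable (π) in
/-- the subfunctor of liftings of `c` -/
def fib (c : Q.P.obj.sections) : Subfunctor (uSh G).obj where
  obj U := {g | π.hom.hom.app U (ofGrp (toGrp g)) = c.1 U}
  map {U V} a g hg := by
    change π.hom.hom.app V (ofGrp (G.obj.map a (toGrp g))) = c.1 V
    rw [pi_map, show π.hom.hom.app U (ofGrp (toGrp g)) = c.1 U from hg, c.2 a]

lemma fib_isSheaf (c : Q.P.obj.sections) : Presheaf.IsSheaf J (fib π c).toFunctor := by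
  rw [isSheaf_iff_isSheaf_of_type, Subfunctor.isSheaf_iff _ (isSheafT (uSh G))]
  intro U s hs
  change π.hom.hom.app U (ofGrp (toGrp s)) = c.1 U
  refine sep Q.P _ hs _ _ fun V a ha => ?_
  have h1 : π.hom.hom.app (op V) (ofGrp (G.obj.map a.op (toGrp s))) = c.1 (op V) := ha
  rw [pi_map] at h1
  rw [h1]
  exact (c.2 a.op).symm

/-- the `F`-sheaf of liftings of `c` -/
noncomputable def fibGSheaf (hQ : IsQuotientBy u π) (c : Q.P.obj.sections) : GSheaf F where
  P := ⟨(fib π c).toFunctor, fib_isSheaf c⟩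
  smul {U} f t := ⟨ofGrp (toGrp t.1 * (u.hom.app U f)⁻¹), by
    change π.hom.hom.app U (ofGrp (toGrp t.1 * (u.hom.app U f)⁻¹)) = c.1 U
    rw [← map_inv, pi_mul_u hQ]
    exact t.2⟩
  one_smul {U} t := Subtype.ext (by
    change toGrp t.1 * (u.hom.app U 1)⁻¹ = toGrp t.1
    rw [map_one, inv_one, mul_one])
  mul_smul {U} f h t := Subtype.ext (by
    change toGrp t.1 * (u.hom.app U (f * h))⁻¹ =
      toGrp t.1 * (u.hom.app U h)⁻¹ * (u.hom.app U f)⁻¹
    rw [map_mul, mul_inv_rev, mul_assoc])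
  map_smul {U V} a f t := Subtype.ext (by
    change G.obj.map a (toGrp t.1 * (u.hom.app U f)⁻¹) =
      G.obj.map a (toGrp t.1) * (u.hom.app V (F.obj.map a f))⁻¹
    rw [map_mul, map_inv]
    congr 2
    exact (NatTrans.naturality_apply u.hom a f).symm)

lemma isFibreOver_fibGSheaf (hQ : IsQuotientBy u π) (c : Q.P.obj.sections) :
    IsFibreOver u π c (fibGSheaf hQ c) := by
  refine ⟨ObjectProperty.homMk (fib π c).ι, fun U => ?_, fun U g => ⟨?_, fun h => ?_⟩, fun U f t => rfl⟩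
  · intro t t' h
    exact Subtype.ext h
  · rintro ⟨t, rfl⟩
    exact t.2
  · exact ⟨⟨ofGrp g, h⟩, rfl⟩

/-- the unit global section of `G` -/
def oneSec : (uSh G).obj.sections := ⟨fun U => ofGrp (1 : G.obj.obj U), fun {U V} a => by
  change G.obj.map a (1 : G.obj.obj U) = 1
  exact map_one _⟩

/-- The three assertions of the well-definedness of the boundary. -/
theorem boundary_wellDefined (hu : ∀ U : Cᵒᵖ, Function.Injective (u.hom.app U))
    (hQ : IsQuotientBy u π) (c : Q.P.obj.sections) :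
    (∃ T : NonAbH1.Torsor F, IsFibreOver u π c T.toGSheaf) ∧
      (∀ T : GSheaf F, IsFibreOver u π c T → T.IsTorsor) ∧
      ∀ T T' : GSheaf F, IsFibreOver u π c T → IsFibreOver u π c T' → Nonempty (T ≅ T') := by
  refine ⟨⟨⟨fibGSheaf hQ c, isTorsor_of_isFibreOver hu hQ (isFibreOver_fibGSheaf hQ c)⟩,
    isFibreOver_fibGSheaf hQ c⟩, fun T hT => isTorsor_of_isFibreOver hu hQ hT, fun T T' hT hT' => ?_⟩
  refine nonempty_iso_of_translate hT hT' oneSec fun U => ?_
  exact Q.one_smul _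


/-- the pointwise inverse of a morphism to `G` -/
lemma exists_inv {T : Sheaf J (Type w)} (ι : T ⟶ uSh G) :
    ∃ ψ : T ⟶ uSh G, ∀ (U : Cᵒᵖ) (t : T.obj.obj U),
      toGrp (ψ.hom.app U t) = (toGrp (ι.hom.app U t))⁻¹ := by
  refine ⟨ObjectProperty.homMk
    { app := fun U => ↾fun t => ofGrp ((toGrp (ι.hom.app U t))⁻¹), naturality := ?_ },
    fun U t => rfl⟩
  intro U V a
  ext t
  change (toGrp (ι.hom.app V (T.obj.map a t)))⁻¹ = G.obj.map a ((toGrp (ι.hom.app U t))⁻¹)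
  rw [iota_map, map_inv]

/-- Exactness at `H¹(F)`. -/
theorem pushforward_trivial_iff (hu : ∀ U : Cᵒᵖ, Function.Injective (u.hom.app U))
    (hQ : IsQuotientBy u π) (T : NonAbH1.Torsor F) :
    IsPushforwardAlong u T.toGSheaf (GSheaf.trivial G) ↔
      ∃ c : Q.P.obj.sections, IsFibreOver u π c T.toGSheaf := by
  constructor
  · rintro ⟨φ₀, hφ₀⟩
    obtain ⟨φ, hφ'⟩ : ∃ φ : T.P ⟶ uSh G, ∀ (U : Cᵒᵖ) (f : F.obj.obj U) (t : T.P.obj.obj U),
        toGrp (φ.hom.app U (T.smul f t)) = u.hom.app U f * toGrp (φ.hom.app U t) := ⟨φ₀, hφ₀⟩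
    obtain ⟨ι, hι⟩ := exists_inv (G := G) φ
    have heq : ∀ (U : Cᵒᵖ) (f : F.obj.obj U) (t : T.P.obj.obj U),
        toGrp (ι.hom.app U (T.smul f t)) = toGrp (ι.hom.app U t) * (u.hom.app U f)⁻¹ := by
      intro U f t
      rw [hι, hι, hφ', mul_inv_rev]
    have hinj : ∀ U : Cᵒᵖ, Function.Injective (ι.hom.app U) := by
      intro U t t' h
      obtain ⟨f, hf, -⟩ := T.isTorsor.1 U t t'
      have h1 := heq U f t
      rw [hf, show toGrp (ι.hom.app U t') = toGrp (ι.hom.app U t) from congrArg toGrp h.symm] at h1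
      have h2 : (u.hom.app U f)⁻¹ = 1 :=
        mul_left_cancel (a := toGrp (ι.hom.app U t)) (by rw [mul_one]; exact h1.symm)
      have h3 : u.hom.app U f = u.hom.app U 1 := by
        rw [map_one, ← inv_inv (u.hom.app U f), h2, inv_one]
      rw [← hf, hu U h3, T.one_smul]
    let κ : T.P ⟶ Q.P := ι ≫ π.hom
    have hκ : ∀ (U : Cᵒᵖ) (t : T.P.obj.obj U),
        κ.hom.app U t = π.hom.hom.app U (ofGrp (toGrp (ι.hom.app U t))) := fun U t => rfl
    have hconst : ∀ (U : Cᵒᵖ) (t t' : T.P.obj.obj U), κ.hom.app U t = κ.hom.app U t' := by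
      intro U t t'
      obtain ⟨f, hf, -⟩ := T.isTorsor.1 U t t'
      rw [hκ, hκ, ← hf, heq, ← map_inv, pi_mul_u hQ]
    obtain ⟨c, hc⟩ := exists_section_of_const T.isTorsor.2 κ hconst
    refine ⟨c, ι, hinj, fun U g => ⟨?_, fun hg => ?_⟩, heq⟩
    · rintro ⟨t, rfl⟩
      rw [← hc U t, hκ]
    · obtain ⟨S, hS, hne⟩ := T.isTorsor.2 U.unop
      have key : ∃ t : T.P.obj.obj (op U.unop), ι.hom.app (op U.unop) t = ofGrp g := by
        refine mem_image_of_locally ι hinj (ofGrp g) S hS fun V a ha => ?_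
        obtain ⟨t⟩ := hne a ha
        have h1 : π.hom.hom.app (op V) (ofGrp (G.obj.map a.op g)) =
            π.hom.hom.app (op V) (ofGrp (toGrp (ι.hom.app (op V) t))) := by
          rw [pi_map, hg, c.2 a.op, ← hc (op V) t, hκ]
        obtain ⟨f, hf⟩ := (hQ.1 (op V) _ _).mp h1.symm
        refine ⟨T.smul f⁻¹ t, ?_⟩
        change toGrp (ι.hom.app (op V) (T.smul f⁻¹ t)) = G.obj.map a.op g
        rw [heq, hf, map_inv, inv_inv]
      obtain ⟨t, ht⟩ := key
      exact ⟨t, ht⟩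
  · rintro ⟨c, ι, hinj, him, heq⟩
    obtain ⟨φ, hφ⟩ := exists_inv (G := G) ι
    refine ⟨φ, fun U f t => ?_⟩
    change toGrp (φ.hom.app U (T.smul f t)) = u.hom.app U f * toGrp (φ.hom.app U t)
    rw [hφ, hφ, heq, mul_inv_rev, inv_inv]


end Bd

section Triv

open NonAbH1 NonAbH1.GSheaf

variable {F : Sheaf J GrpCat.{w}} [J.HasSheafCompose (forget GrpCat.{w})]

/-- the class of a torsor is the base point iff the torsor is isomorphic to the trivial one -/
lemma cl_eq_one_iff (T : NonAbH1.Torsor F) :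
    T.cl = 1 ↔ Nonempty (T.toGSheaf ≅ GSheaf.trivial F) := by
  change Quot.mk _ T = Quot.mk _ (trivialTorsor F) ↔ _
  rw [Quot.eq]
  have hE : Equivalence fun P Q : NonAbH1.Torsor F => Nonempty (P.toGSheaf ≅ Q.toGSheaf) :=
    ⟨fun _ => ⟨Iso.refl _⟩, fun ⟨e⟩ => ⟨e.symm⟩, fun ⟨e⟩ ⟨e'⟩ => ⟨e ≪≫ e'⟩⟩
  rw [hE.eqvGen_iff]
  rfl

/-- a pseudo-torsor with a global section is trivial -/
lemma trivial_iso_of_section (T : GSheaf F) (hT : T.IsPseudoTorsor) (t : T.P.obj.sections) :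
    Nonempty (GSheaf.trivial F ≅ T) := by
  let e : uSh F ⟶ T.P := ObjectProperty.homMk
    { app := fun U => ↾fun f => T.smul (toGrp f) (t.1 U)
      naturality := by
        intro U V a
        ext f
        change T.smul (F.obj.map a (toGrp f)) (t.1 V) = T.P.obj.map a (T.smul (toGrp f) (t.1 U))
        rw [T.map_smul, t.2 a] }
  refine nonempty_iso_of_bijective (T := GSheaf.trivial F) (T' := T) ⟨e, fun {U} h f => ?_⟩
    fun U => ⟨fun f f' hff' => ?_, fun t' => ?_⟩
  · change T.smul (h * toGrp f) (t.1 U) = T.smul h (T.smul (toGrp f) (t.1 U))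
    rw [T.mul_smul]
  · have h1 : T.smul (toGrp f) (t.1 U) = T.smul (toGrp f') (t.1 U) := hff'
    obtain ⟨k, -, hk⟩ := hT U (t.1 U) (T.smul (toGrp f') (t.1 U))
    exact (hk _ h1).trans (hk _ rfl).symm
  · obtain ⟨k, hk, -⟩ := hT U (t.1 U) t'
    exact ⟨ofGrp k, hk⟩

/-- a trivial `F`-sheaf has a global section -/
lemma section_of_trivial_iso {T : GSheaf F} (e : GSheaf.trivial F ≅ T) :
    Nonempty T.P.obj.sections := by
  refine ⟨⟨fun U => e.hom.hom.hom.app U (ofGrp (1 : F.obj.obj U)), fun {U V} a => ?_⟩⟩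
  have h1 := NatTrans.naturality_apply e.hom.hom.hom a (ofGrp (1 : F.obj.obj U))
  rw [← h1]
  congr 1
  change F.obj.map a (1 : F.obj.obj U) = 1
  exact map_one _

end Triv

section Bd2

open NonAbH1 NonAbH1.GSheaf

variable {F G : Sheaf J GrpCat.{w}} [J.HasSheafCompose (forget GrpCat.{w})]
  {u : F ⟶ G} {Q : GSheaf G} {π : GSheaf.trivial G ⟶ Q}

/-- Exactness at the global sections of the quotient. -/
theorem boundary_eq_one_iff (c : Q.P.obj.sections) (T : NonAbH1.Torsor F)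
    (hT : IsFibreOver u π c T.toGSheaf) :
    T.cl = 1 ↔
      ∃ g : (uSh G).obj.sections, ∀ U : Cᵒᵖ, π.hom.hom.app U (g.1 U) = c.1 U := by
  rw [cl_eq_one_iff]
  obtain ⟨ι, hinj, him, heq⟩ := hT
  constructor
  · rintro ⟨e⟩
    obtain ⟨t⟩ := section_of_trivial_iso e.symm
    refine ⟨⟨fun U => ι.hom.app U (t.1 U), fun {U V} a => ?_⟩, fun U => ?_⟩
    · have h1 := NatTrans.naturality_apply ι.hom a (t.1 U)
      rw [← h1, t.2 a]
    · exact (him U _).mp ⟨t.1 U, rfl⟩
  · rintro ⟨g, hg⟩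
    have hex : ∀ U : Cᵒᵖ, ∃ t : T.P.obj.obj U, ι.hom.app U t = g.1 U :=
      fun U => (him U (toGrp (g.1 U))).mpr (hg U)
    choose t ht using hex
    have htc : ∀ {U V : Cᵒᵖ} (a : U ⟶ V), T.P.obj.map a (t U) = t V := by
      intro U V a
      apply hinj
      rw [NatTrans.naturality_apply, ht, ht]
      exact g.2 a
    obtain ⟨e⟩ := trivial_iso_of_section T.toGSheaf T.isTorsor.1 ⟨t, htc⟩
    exact ⟨e.symm⟩

end Bd2

end Groth.Agent.Helper18.NonAbBd
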