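import Groth.Prelude.Def_NonAbH1
import Groth.Prelude.Def_EtBase
import Groth.Agent.Lib.Helper18.NonAbBd

/-!
# Torsors coming from the direct image (helper18)
-/

universe u

open CategoryTheory CategoryTheory.Limits AlgebraicGeometry Opposite

namespace Groth.Agent.Helper18.NonAbPush

open NonAbH1

set_option backward.isDefEq.respectTransparency.types false in
theorem forward {X Y : Scheme.{u}} (f : X ⟶ Y)
    [EtCoh.BCCont f] (F : Sheaf X.smallEtaleTopology GrpCat.{u + 1}) (Q : NonAbH1.Torsor F)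
    (P : NonAbH1.Torsor (((EtCoh.bc f).sheafPushforwardContinuous GrpCat.{u + 1}
        Y.smallEtaleTopology X.smallEtaleTopology).obj F))
    (φ : P.P ⟶ ((EtCoh.bc f).sheafPushforwardContinuous (Type (u + 1))
        Y.smallEtaleTopology X.smallEtaleTopology).obj Q.P) :
    ∃ (ι : Type u) (V : ι → Y.Etale), EtCoh.Covers V ∧
      ∀ i, Nonempty (Q.P.obj.obj (op ((EtCoh.bc f).obj (V i)))) := by
  obtain ⟨S, hS, hne⟩ := P.isTorsor.2 (EtCoh.top Y)
  have eY : Y.smallEtaleTopology = (Y.smallPretopology (P := EtCoh.etaleMP) (Q := EtCoh.etaleMP)).toGrothendieck :=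
    Scheme.smallGrothendieckTopology_eq_toGrothendieck_smallPretopology Y le_rfl
  rw [eY] at hS
  replace hS := (Scheme.mem_toGrothendieck_smallPretopology (EtCoh.top Y) S).1 hS
  choose V g v hg _ hv using hS
  refine ⟨Y, V, fun x => ⟨x, v x, ?_⟩, fun i => ?_⟩
  · have h1 : (g x).left ≫ (EtCoh.top Y).hom = (V x).hom := Over.w (g x).hom
    have h2 : (V x).hom = (g x).left := by
      rw [← h1]
      exact Category.comp_id _
    rw [h2]
    exact hv x
  · obtain ⟨p⟩ := hne (g i) (hg i)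
    exact ⟨φ.hom.app (op (V i)) p⟩


set_option backward.isDefEq.respectTransparency.types false in
/-- the direct image of an `F`-sheaf as an `f_*F`-sheaf -/
noncomputable def pushGSheaf {X Y : Scheme.{u}} (f : X ⟶ Y)
    [EtCoh.BCCont f] (F : Sheaf X.smallEtaleTopology GrpCat.{u + 1}) (Q : NonAbH1.GSheaf F) :
    NonAbH1.GSheaf (((EtCoh.bc f).sheafPushforwardContinuous GrpCat.{u + 1}
        Y.smallEtaleTopology X.smallEtaleTopology).obj F) where
  P := ((EtCoh.bc f).sheafPushforwardContinuous (Type (u + 1))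
        Y.smallEtaleTopology X.smallEtaleTopology).obj Q.P
  smul {U} g s := Q.smul (U := op ((EtCoh.bc f).obj U.unop)) g s
  one_smul {U} s := Q.one_smul (U := op ((EtCoh.bc f).obj U.unop)) s
  mul_smul {U} g h s := Q.mul_smul (U := op ((EtCoh.bc f).obj U.unop)) g h s
  map_smul {U V} a g s := Q.map_smul (U := op ((EtCoh.bc f).obj U.unop))
    (V := op ((EtCoh.bc f).obj V.unop)) ((EtCoh.bc f).map a.unop).op g s

set_option backward.isDefEq.respectTransparency.types false in
theorem backward {X Y : Scheme.{u}} (f : X ⟶ Y)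
    [EtCoh.BCCont f] (F : Sheaf X.smallEtaleTopology GrpCat.{u + 1}) (Q : NonAbH1.Torsor F)
    (ι : Type u) (V : ι → Y.Etale) (hV : EtCoh.Covers V)
    (hne : ∀ i, Nonempty (Q.P.obj.obj (op ((EtCoh.bc f).obj (V i))))) :
    (pushGSheaf f F Q.toGSheaf).IsTorsor := by
  refine ⟨fun U p q => Q.isTorsor.1 (op ((EtCoh.bc f).obj U.unop)) p q, fun U => ?_⟩
  let W : ι → Y.Etale := fun i => Scheme.Etale.mk (pullback.fst U.hom (V i).hom ≫ U.hom)
  let p₁ : ∀ i, W i ⟶ U := fun i => MorphismProperty.Over.homMk (pullback.fst U.hom (V i).hom) rfl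
  let p₂ : ∀ i, W i ⟶ V i := fun i => MorphismProperty.Over.homMk (pullback.snd U.hom (V i).hom)
    pullback.condition.symm
  have hcov : Sieve.ofArrows _ p₁ ∈ Y.smallEtaleTopology U := by
    rw [Scheme.ofArrows_mem_smallEtaleTopology_iff]
    ext x
    simp only [Set.mem_iUnion, Set.mem_range, Set.mem_univ, iff_true]
    obtain ⟨i, y, hy⟩ := hV (U.hom x)
    obtain ⟨z, hz, -⟩ := Scheme.Pullback.exists_preimage_pullback (f := U.hom) (g := (V i).hom) x y hy.symm
    exact ⟨i, z, hz⟩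
  refine ⟨Sieve.ofArrows _ p₁, hcov, ?_⟩
  rintro V' a ⟨Z, b, _, ⟨i⟩, rfl⟩
  obtain ⟨q⟩ := hne i
  exact ⟨Q.P.obj.map ((EtCoh.bc f).map (b ≫ p₂ i)).op q⟩

end Groth.Agent.Helper18.NonAbPush
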