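import Mathlib
import Groth.Prelude
import Groth.Agent.S1585
import Groth.Agent.Lib.Helper28.AlgGrpShear
import Groth.Agent.Lib.Helper18.GrpDesc

/-!
# Group actions and the normalization: common lemmas (helper18)
-/

set_option autoImplicit false
set_option linter.style.haveILetI false
universe u
open CategoryTheory CategoryTheory.Limits MonoidalCategory CartesianMonoidalCategory MonObj GrpObj
  AlgebraicGeometry

namespace Groth.Agent.Helper18.NormAct

open Groth.Agent.Helper28.AlgGrpShear

section General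

variable {S : Scheme.{u}}

/-- two morphisms to a separated scheme which agree after a scheme-theoretically dominant
morphism are equal -/
theorem eq_of_schDominant {A B C : Over S} [IsSeparated C.hom] (h : A ⟶ B)
    [IsSchemeTheoreticallyDominant h.left] (φ₁ φ₂ : B ⟶ C) (heq : h ≫ φ₁ = h ≫ φ₂) :
    φ₁ = φ₂ := by
  let e := equalizer.ι φ₁ φ₂
  let l : A ⟶ equalizer φ₁ φ₂ := equalizer.lift h heq
  have hl : l ≫ e = h := equalizer.lift_ι h heq
  haveI : IsClosedImmersion e.left := isClosedImmersion_equalizer_ι_left φ₁ φ₂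
  have hker : e.left.ker = ⊥ := by
    have h1 := Scheme.Hom.le_ker_comp l.left e.left
    rw [← Over.comp_left, hl, h.left.ker_eq_bot] at h1
    exact le_bot_iff.mp h1
  haveI : IsIso e.left := IsClosedImmersion.isIso_iff_ker_eq_bot.mpr hker
  haveI : IsIso e := by
    haveI : IsIso ((Over.forget S).map e) := inferInstanceAs (IsIso e.left)
    exact isIso_of_reflects_iso e (Over.forget S)
  rw [← cancel_epi e]
  exact equalizer.condition φ₁ φ₂

/-- points of the source which agree in the target and lie over an open set over which the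
morphism is an isomorphism are equal -/
theorem inj_over {X' X T : Scheme.{u}} (ν : X' ⟶ X) (V : X.Opens) [IsIso (ν ∣_ V)]
    (y y' : T ⟶ X') (hyy : y ≫ ν = y' ≫ ν) (hy : ∀ t, ν (y t) ∈ V) : y = y' := by
  have hy' : ∀ t, ν (y' t) ∈ V := by
    intro t
    have : ν (y' t) = ν (y t) := by
      rw [← Scheme.Hom.comp_apply, ← Scheme.Hom.comp_apply, hyy]
    rw [this]; exact hy t
  have hr : Set.range y ⊆ Set.range (ν ⁻¹ᵁ V).ι := by
    rintro _ ⟨t, rfl⟩
    rw [Scheme.Opens.range_ι]
    exact hy t
  have hr' : Set.range y' ⊆ Set.range (ν ⁻¹ᵁ V).ι := by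
    rintro _ ⟨t, rfl⟩
    rw [Scheme.Opens.range_ι]
    exact hy' t
  have e1 : IsOpenImmersion.lift (ν ⁻¹ᵁ V).ι y hr ≫ (ν ∣_ V) ≫ V.ι =
      IsOpenImmersion.lift (ν ⁻¹ᵁ V).ι y' hr' ≫ (ν ∣_ V) ≫ V.ι := by
    rw [morphismRestrict_ι, ← Category.assoc, ← Category.assoc, IsOpenImmersion.lift_fac,
      IsOpenImmersion.lift_fac, hyy]
  rw [← Category.assoc, ← Category.assoc, cancel_mono, cancel_mono] at e1
  rw [← IsOpenImmersion.lift_fac (ν ⁻¹ᵁ V).ι y hr, ← IsOpenImmersion.lift_fac (ν ⁻¹ᵁ V).ι y' hr', e1]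

end General

end Groth.Agent.Helper18.NormAct
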