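import Mathlib
import Groth.Prelude
import Groth.Agent.Lib.Helper18.NormActA

/-!
# Group actions and the normalization: the action square and the kernels (helper18)
-/

set_option autoImplicit false
set_option linter.style.haveILetI false
universe u
open CategoryTheory CategoryTheory.Limits MonoidalCategory CartesianMonoidalCategory MonObj GrpObj
  AlgebraicGeometry

namespace Groth.Agent.Helper18.NormAct

open Groth.Agent.Helper28.AlgGrpShear

variable (k : Type u) [Field k] (X : Over (Spec (CommRingCat.of k)))
  [IsIntegral X.left] [QuasiCompact (X.left.fromSpecStalk (genericPoint ↥X.left))]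
  [QuasiSeparated (X.left.fromSpecStalk (genericPoint ↥X.left))]

/-- the normalization as an object over `k` -/
noncomputable abbrev Xn : Over (Spec (CommRingCat.of k)) :=
  Over.mk (Curv2.normalizationι X.left ≫ X.hom)

/-- the normalization morphism over `k` -/
noncomputable abbrev jn : Xn k X ⟶ X := Over.homMk (Curv2.normalizationι X.left) rfl

theorem norm_facts [LocallyOfFiniteType X.hom] :
    IsFinite (Curv2.normalizationι X.left) ∧ IsDominant (Curv2.normalizationι X.left) ∧
      (∃ V : X.left.Opens, (V : Set X.left).Nonempty ∧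
        IsIso (Curv2.normalizationι X.left ∣_ V)) ∧
      IsIntegral (Curv2.normalization X.left) := by
  letI : X.left.Over (Spec (CommRingCat.of k)) := ⟨X.hom⟩
  haveI : LocallyOfFiniteType (X.left ↘ (Spec (CommRingCat.of k))) :=
    inferInstanceAs (LocallyOfFiniteType X.hom)
  obtain ⟨h1, h2, h3, h4, -⟩ := Groth.Agent.S1585.result k X.left
  exact ⟨h1, h2, h3, h4⟩

variable {k X}
variable {G : Over (Spec (CommRingCat.of k))} [GrpObj G]

theorem same_kernel [IsSeparated X.hom] [LocallyOfFiniteType X.hom]
    (a : AlgGrp.Action G X) (b : AlgGrp.Action G (Xn k X))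
    (hb : (G ◁ jn k X) ≫ a.act = b.act ≫ jn k X)
    (T : Over (Spec (CommRingCat.of k))) (g : T ⟶ G) :
    (∀ (T' : Over (Spec (CommRingCat.of k))) (s : T' ⟶ T) (x : T' ⟶ X),
        lift (s ≫ g) x ≫ a.act = x) ↔
    (∀ (T' : Over (Spec (CommRingCat.of k))) (s : T' ⟶ T) (y : T' ⟶ Xn k X),
        lift (s ≫ g) y ≫ b.act = y) := by
  obtain ⟨hfin, hdom, ⟨V, hVne, hViso⟩, hint⟩ := norm_facts k X
  haveI : Flat T.hom := inferInstance
  haveI : IsLocallyNoetherian (Curv2.normalization X.left) :=
    LocallyOfFiniteType.isLocallyNoetherian (Curv2.normalizationι X.left ≫ X.hom)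
  constructor
  · intro hXa
    -- the universal case
    have hψj : (lift (fst T (Xn k X) ≫ g) (snd T (Xn k X)) ≫ b.act) ≫ jn k X =
        snd T (Xn k X) ≫ jn k X := by
      rw [Category.assoc, ← hb, lift_whiskerLeft_assoc]
      exact hXa _ _ _
    -- the open subscheme over which the normalization is an isomorphism
    let Vt : (Curv2.normalization X.left).Opens := Curv2.normalizationι X.left ⁻¹ᵁ V
    let V'' : Over (Spec (CommRingCat.of k)) := Over.mk (Vt.ι ≫ (Xn k X).hom)
    let ι'' : V'' ⟶ Xn k X := Over.homMk Vt.ι rfl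
    have hVtne : (Vt : Set (Curv2.normalization X.left)).Nonempty := by
      obtain ⟨y, hy⟩ := hdom.denseRange.exists_mem_open V.2 hVne
      exact ⟨y, hy⟩
    haveI : IsDominant Vt.ι := by
      constructor
      show Dense (Set.range Vt.ι)
      rw [Scheme.Opens.range_ι]
      exact Vt.2.dense hVtne
    haveI : IsSchemeTheoreticallyDominant ι''.left :=
      IsSchemeTheoreticallyDominant.of_isDominant Vt.ι
    haveI : QuasiCompact ι''.left := inferInstanceAs (QuasiCompact Vt.ι)
    haveI : Flat (snd T (Xn k X)).left := by
      show Flat (pullback.snd T.hom (Xn k X).hom)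
      infer_instance
    haveI : IsSchemeTheoreticallyDominant (T ◁ ι'').left :=
      IsSchemeTheoreticallyDominant.of_isPullback
        (Groth.Agent.Helper18.GrpFppf.isPullback_left (isPullback_snd T ι''))
    haveI : IsSeparated (Xn k X).hom := by
      show IsSeparated (Curv2.normalizationι X.left ≫ X.hom)
      infer_instance
    have huniv : lift (fst T (Xn k X) ≫ g) (snd T (Xn k X)) ≫ b.act = snd T (Xn k X) := by
      apply eq_of_schDominant (T ◁ ι'')
      apply Over.OverMorphism.ext
      symm
      apply inj_over (Curv2.normalizationι X.left) V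
      · have := congrArg (fun m => ((T ◁ ι'') ≫ m).left) hψj
        simp only [Over.comp_left] at this ⊢
        simp only [Category.assoc]
        exact this.symm
      · intro t
        have e : ((T ◁ ι'') ≫ snd T (Xn k X)).left t = (snd T V'' ≫ ι'').left t := by
          rw [whiskerLeft_snd]
        rw [e]
        show Curv2.normalizationι X.left (Vt.ι ((snd T V'').left t)) ∈ V
        exact ((snd T V'').left t).2
    intro T' s y
    have e : lift (s ≫ g) y = lift s y ≫ lift (fst T (Xn k X) ≫ g) (snd T (Xn k X)) := by
      apply CartesianMonoidalCategory.hom_ext <;> simp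
    rw [e, Category.assoc, huniv, lift_snd]
  · intro hXb
    haveI : IsReduced X.left := inferInstance
    haveI : IsSchemeTheoreticallyDominant (jn k X).left :=
      IsSchemeTheoreticallyDominant.of_isDominant (Curv2.normalizationι X.left)
    haveI : QuasiCompact (jn k X).left := inferInstanceAs (QuasiCompact (Curv2.normalizationι X.left))
    haveI : Flat (snd T X).left := by
      show Flat (pullback.snd T.hom X.hom)
      infer_instance
    haveI : IsSchemeTheoreticallyDominant (T ◁ jn k X).left :=
      IsSchemeTheoreticallyDominant.of_isPullback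
        (Groth.Agent.Helper18.GrpFppf.isPullback_left (isPullback_snd T (jn k X)))
    have huniv : lift (fst T X ≫ g) (snd T X) ≫ a.act = snd T X := by
      apply eq_of_schDominant (T ◁ jn k X)
      have e1 : (T ◁ jn k X) ≫ lift (fst T X ≫ g) (snd T X) =
          lift (fst T (Xn k X) ≫ g) (snd T (Xn k X)) ≫ (G ◁ jn k X) := by
        apply CartesianMonoidalCategory.hom_ext <;> simp
      rw [← Category.assoc, e1, Category.assoc, hb, ← Category.assoc, hXb, whiskerLeft_snd]
    intro T' s x
    have e : lift (s ≫ g) x = lift s x ≫ lift (fst T X ≫ g) (snd T X) := by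
      apply CartesianMonoidalCategory.hom_ext <;> simp
    rw [e, Category.assoc, huniv, lift_snd]

theorem main14648 [IsSeparated X.hom] [LocallyOfFiniteType X.hom]
    (a : AlgGrp.Action G X) (b : AlgGrp.Action G (Xn k X))
    (hb : (G ◁ jn k X) ≫ a.act = b.act ≫ jn k X) :
    IsPullback b.act (G ◁ jn k X) (jn k X) a.act ∧
    ∀ (T : Over (Spec (CommRingCat.of k))) (g : T ⟶ G),
      (∀ (T' : Over (Spec (CommRingCat.of k))) (s : T' ⟶ T) (x : T' ⟶ X),
        lift (s ≫ g) x ≫ a.act = x) ↔
      (∀ (T' : Over (Spec (CommRingCat.of k))) (s : T' ⟶ T) (y : T' ⟶ Xn k X),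
        lift (s ≫ g) y ≫ b.act = y) :=
  ⟨isPullback_act b a (jn k X) hb, fun T g => same_kernel a b hb T g⟩

end Groth.Agent.Helper18.NormAct
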