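import Mathlib
import Groth.Prelude
import Groth.Agent.Lib.Helper18.NormActB
import Groth.Agent.Lib.Helper18.UnramMono

/-!
# Group actions and the normalization: almost homogeneity (helper18)
-/

set_option autoImplicit false
set_option linter.style.haveILetI false
universe u
open CategoryTheory CategoryTheory.Limits MonoidalCategory CartesianMonoidalCategory MonObj GrpObj
  AlgebraicGeometry

namespace Groth.Agent.Helper18.NormAct

open Groth.Agent.Helper28.AlgGrpShear

section General

variable {S : Scheme.{u}}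

theorem whiskerRight_left_of_property (P : MorphismProperty Scheme.{u}) [P.IsStableUnderBaseChange]
    {A B : Over S} (i : A ⟶ B) (Z : Over S) (hi : P i.left) : P (i ▷ Z).left :=
  MorphismProperty.of_isPullback (P := P)
    (Groth.Agent.Helper18.GrpFppf.isPullback_left (isPullback_fst i Z)) hi

theorem whiskerLeft_left_of_property' (P : MorphismProperty Scheme.{u}) [P.IsStableUnderBaseChange]
    (M : Over S) {Z X : Over S} (z : Z ⟶ X) (hz : P z.left) : P (M ◁ z).left :=
  MorphismProperty.of_isPullback (P := P)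
    (Groth.Agent.Helper18.GrpFppf.isPullback_left (isPullback_snd M z)) hz

theorem tensorHom_left_of_property (P : MorphismProperty Scheme.{u}) [P.IsStableUnderBaseChange]
    [P.IsStableUnderComposition] {A B : Over S} (i : A ⟶ B) (hi : P i.left) :
    P (i ⊗ₘ i).left := by
  rw [MonoidalCategory.tensorHom_def, Over.comp_left]
  exact P.comp_mem _ _ (whiskerRight_left_of_property P i A hi)
    (whiskerLeft_left_of_property' P B i hi)

end General

variable {k : Type u} [Field k] {X : Over (Spec (CommRingCat.of k))}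
  [IsIntegral X.left] [QuasiCompact (X.left.fromSpecStalk (genericPoint ↥X.left))]
  [QuasiSeparated (X.left.fromSpecStalk (genericPoint ↥X.left))]

/-- `ν × ν` is injective over `V × V` -/
theorem inj_prod (V : X.left.Opens) [IsIso (Curv2.normalizationι X.left ∣_ V)]
    (p c : (Xn k X ⊗ Xn k X).left) (hpc : (jn k X ⊗ₘ jn k X).left p = (jn k X ⊗ₘ jn k X).left c)
    (h1 : Curv2.normalizationι X.left ((fst (Xn k X) (Xn k X)).left p) ∈ V)
    (h2 : Curv2.normalizationι X.left ((snd (Xn k X) (Xn k X)).left p) ∈ V) : p = c := by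
  obtain ⟨w, hw1, hw2⟩ := Scheme.Pullback.exists_preimage_pullback
    (f := (jn k X ⊗ₘ jn k X).left) (g := (jn k X ⊗ₘ jn k X).left) p c hpc
  obtain ⟨K, _, _, wb, pt, hwb⟩ := Groth.Agent.Lib.Helper18.UnramMono.exists_geometric_point w
  haveI : Subsingleton ↥(Spec (CommRingCat.of K)) :=
    inferInstanceAs (Subsingleton (PrimeSpectrum K))
  let pb := wb ≫ pullback.fst (jn k X ⊗ₘ jn k X).left (jn k X ⊗ₘ jn k X).left
  let cb := wb ≫ pullback.snd (jn k X ⊗ₘ jn k X).left (jn k X ⊗ₘ jn k X).left
  have hΦ : pb ≫ (jn k X ⊗ₘ jn k X).left = cb ≫ (jn k X ⊗ₘ jn k X).left := by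
    simp only [pb, cb, Category.assoc, pullback.condition]
  have hpb : ∀ t, pb t = p := by
    intro t
    show (wb ≫ pullback.fst (jn k X ⊗ₘ jn k X).left (jn k X ⊗ₘ jn k X).left) t = p
    rw [Scheme.Hom.comp_apply, Subsingleton.elim t pt, hwb, hw1]
  have hcb : ∀ t, cb t = c := by
    intro t
    show (wb ≫ pullback.snd (jn k X ⊗ₘ jn k X).left (jn k X ⊗ₘ jn k X).left) t = c
    rw [Scheme.Hom.comp_apply, Subsingleton.elim t pt, hwb, hw2]
  have e1 : (jn k X ⊗ₘ jn k X).left ≫ (fst X X).left =
      (fst (Xn k X) (Xn k X)).left ≫ Curv2.normalizationι X.left := by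
    have := congrArg (fun m => m.left) (tensorHom_fst (jn k X) (jn k X))
    exact this
  have e2 : (jn k X ⊗ₘ jn k X).left ≫ (snd X X).left =
      (snd (Xn k X) (Xn k X)).left ≫ Curv2.normalizationι X.left := by
    have := congrArg (fun m => m.left) (tensorHom_snd (jn k X) (jn k X))
    exact this
  have hmain : pb = cb := by
    show pb = cb
    apply pullback.hom_ext (f := (Xn k X).hom) (g := (Xn k X).hom)
    · apply inj_over (Curv2.normalizationι X.left) V
      · show (pb ≫ (fst (Xn k X) (Xn k X)).left) ≫ Curv2.normalizationι X.left =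
          (cb ≫ (fst (Xn k X) (Xn k X)).left) ≫ Curv2.normalizationι X.left
        calc (pb ≫ (fst (Xn k X) (Xn k X)).left) ≫ Curv2.normalizationι X.left
            = pb ≫ ((jn k X ⊗ₘ jn k X).left ≫ (fst X X).left) := by
              rw [e1]; exact Category.assoc _ _ _
          _ = cb ≫ ((jn k X ⊗ₘ jn k X).left ≫ (fst X X).left) := by
              rw [← Category.assoc pb, hΦ]; exact Category.assoc _ _ _
          _ = (cb ≫ (fst (Xn k X) (Xn k X)).left) ≫ Curv2.normalizationι X.left := by
              rw [e1]; exact (Category.assoc _ _ _).symm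
      · intro t
        show Curv2.normalizationι X.left ((fst (Xn k X) (Xn k X)).left (pb t)) ∈ V
        rw [hpb]; exact h1
    · apply inj_over (Curv2.normalizationι X.left) V
      · show (pb ≫ (snd (Xn k X) (Xn k X)).left) ≫ Curv2.normalizationι X.left =
          (cb ≫ (snd (Xn k X) (Xn k X)).left) ≫ Curv2.normalizationι X.left
        calc (pb ≫ (snd (Xn k X) (Xn k X)).left) ≫ Curv2.normalizationι X.left
            = pb ≫ ((jn k X ⊗ₘ jn k X).left ≫ (snd X X).left) := by
              rw [e2]; exact Category.assoc _ _ _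
          _ = cb ≫ ((jn k X ⊗ₘ jn k X).left ≫ (snd X X).left) := by
              rw [← Category.assoc pb, hΦ]; exact Category.assoc _ _ _
          _ = (cb ≫ (snd (Xn k X) (Xn k X)).left) ≫ Curv2.normalizationι X.left := by
              rw [e2]; exact (Category.assoc _ _ _).symm
      · intro t
        show Curv2.normalizationι X.left ((snd (Xn k X) (Xn k X)).left (pb t)) ∈ V
        rw [hpb]; exact h2
  rw [← hpb pt, ← hcb pt, hmain]

variable {G : Over (Spec (CommRingCat.of k))} [GrpObj G]

theorem main14636 [LocallyOfFiniteType X.hom]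
    (a : AlgGrp.Action G X) (b : AlgGrp.Action G (Xn k X))
    (hb : (G ◁ jn k X) ≫ a.act = b.act ≫ jn k X) :
    IsDominant (lift (snd G X) a.act).left ↔
      IsDominant (lift (snd G (Xn k X)) b.act).left := by
  obtain ⟨hfin, hdom, ⟨V, hVne, hViso⟩, hint⟩ := norm_facts k X
  have hsurjν : Surjective (Curv2.normalizationι X.left) := by
    constructor
    have hcl : IsClosed (Set.range (Curv2.normalizationι X.left)) :=
      (Curv2.normalizationι X.left).isClosedMap.isClosed_range
    intro x
    have := hdom.denseRange x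
    rwa [hcl.closure_eq] at this
  have hΦ : lift (snd G (Xn k X)) b.act ≫ (jn k X ⊗ₘ jn k X) =
      (G ◁ jn k X) ≫ lift (snd G X) a.act := by
    apply CartesianMonoidalCategory.hom_ext
    · simp
    · simp only [Category.assoc, tensorHom_snd, lift_snd, lift_snd_assoc]
      exact hb.symm
  have hΦl : ∀ z', (jn k X ⊗ₘ jn k X).left ((lift (snd G (Xn k X)) b.act).left z') =
      (lift (snd G X) a.act).left ((G ◁ jn k X).left z') := by
    intro z'
    exact congrArg (fun m => m.left z') hΦ
  have hΦfin : IsFinite (jn k X ⊗ₘ jn k X).left :=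
    tensorHom_left_of_property @IsFinite (jn k X) hfin
  have hΦsurj : Surjective (jn k X ⊗ₘ jn k X).left :=
    tensorHom_left_of_property @Surjective (jn k X) hsurjν
  have hGsurj : Surjective (G ◁ jn k X).left :=
    whiskerLeft_left_of_property' @Surjective G (jn k X) hsurjν
  constructor
  · intro hda
    have hd : DenseRange (lift (snd G X) a.act).left := hda.denseRange
    constructor
    show Dense (Set.range (lift (snd G (Xn k X)) b.act).left)
    rw [dense_iff_inter_open]
    intro Ω hΩ hΩne
    let Vt : (Curv2.normalization X.left).Opens := Curv2.normalizationι X.left ⁻¹ᵁ V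
    have hVtne : (Vt : Set (Curv2.normalization X.left)).Nonempty := by
      obtain ⟨y, hy⟩ := hdom.denseRange.exists_mem_open V.2 hVne
      exact ⟨y, hy⟩
    have hVtd : Dense (Vt : Set (Curv2.normalization X.left)) := Vt.2.dense hVtne
    haveI : UniversallyOpen (fst (Xn k X) (Xn k X)).left := by
      show UniversallyOpen (pullback.fst (Xn k X).hom (Xn k X).hom)
      infer_instance
    haveI : UniversallyOpen (snd (Xn k X) (Xn k X)).left := by
      show UniversallyOpen (pullback.snd (Xn k X).hom (Xn k X).hom)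
      infer_instance
    have hD1 : Dense ((fst (Xn k X) (Xn k X)).left ⁻¹' (Vt : Set ↥(Curv2.normalization X.left))) :=
      hVtd.preimage (fst (Xn k X) (Xn k X)).left.isOpenMap
    have hD2 : Dense ((snd (Xn k X) (Xn k X)).left ⁻¹' (Vt : Set ↥(Curv2.normalization X.left))) :=
      hVtd.preimage (snd (Xn k X) (Xn k X)).left.isOpenMap
    have hO1 : IsOpen ((fst (Xn k X) (Xn k X)).left ⁻¹' (Vt : Set ↥(Curv2.normalization X.left))) :=
      Vt.2.preimage (fst (Xn k X) (Xn k X)).left.continuous
    have hO2 : IsOpen ((snd (Xn k X) (Xn k X)).left ⁻¹' (Vt : Set ↥(Curv2.normalization X.left))) :=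
      Vt.2.preimage (snd (Xn k X) (Xn k X)).left.continuous
    have hne1 := hD1.inter_open_nonempty Ω hΩ hΩne
    have hne2 := hD2.inter_open_nonempty _ (hΩ.inter hO1) hne1
    obtain ⟨p, ⟨hpΩ, hp1⟩, hp2⟩ := hne2
    let Ω' : Set (Xn k X ⊗ Xn k X).left :=
      (Ω ∩ (fst (Xn k X) (Xn k X)).left ⁻¹' (Vt : Set ↥(Curv2.normalization X.left))) ∩
        (snd (Xn k X) (Xn k X)).left ⁻¹' (Vt : Set ↥(Curv2.normalization X.left))
    have hΩ'o : IsOpen Ω' := (hΩ.inter hO1).inter hO2
    have hcl : IsClosed ((jn k X ⊗ₘ jn k X).left '' Ω'ᶜ) :=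
      (jn k X ⊗ₘ jn k X).left.isClosedMap _ hΩ'o.isClosed_compl
    have hpN : (jn k X ⊗ₘ jn k X).left p ∈ ((jn k X ⊗ₘ jn k X).left '' Ω'ᶜ)ᶜ := by
      rintro ⟨c, hc, hcp⟩
      have := inj_prod V p c hcp.symm hp1 hp2
      rw [← this] at hc
      exact hc ⟨⟨hpΩ, hp1⟩, hp2⟩
    obtain ⟨z, hz⟩ := hd.exists_mem_open hcl.isOpen_compl ⟨_, hpN⟩
    obtain ⟨z', rfl⟩ := hGsurj.surj z
    refine ⟨(lift (snd G (Xn k X)) b.act).left z', ?_, ⟨z', rfl⟩⟩
    by_contra hcon
    apply hz
    refine ⟨(lift (snd G (Xn k X)) b.act).left z', ?_, hΦl z'⟩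
    intro hmem
    exact hcon hmem.1.1
  · intro hdb
    have hd : DenseRange (lift (snd G (Xn k X)) b.act).left := hdb.denseRange
    constructor
    have h1 : DenseRange ((jn k X ⊗ₘ jn k X).left ∘ (lift (snd G (Xn k X)) b.act).left) :=
      DenseRange.comp hΦsurj.surj.denseRange hd (jn k X ⊗ₘ jn k X).left.continuous
    refine h1.mono ?_
    rintro _ ⟨z', rfl⟩
    exact ⟨(G ◁ jn k X).left z', (hΦl z').symm⟩

end Groth.Agent.Helper18.NormAct
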