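import Groth.Agent.Lib.Helper18.ArtFunSmall
import Groth.Prelude.Def_ArtFun3
import Mathlib.LinearAlgebra.TensorProduct.Basis

/-!
# Obstructions lie in the span of the obstructions along tiny extensions (helper18)
-/

set_option autoImplicit false
universe u v
open CategoryTheory
open scoped TensorProduct

namespace Groth.Agent.Helper18.ObsSpan

open ArtFun ArtFun.Art

variable {k : Type u} [Field k] {C' C : Art k k} (p : C' ⟶ C)

theorem mul_eq_smul (hp : IsSemismallExt p) (c x : C') (hx : x ∈ RingHom.ker p.toAlgHom) :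
    c * x = (C'.res c) • x := by
  have h1 : c - algebraMap k C' (C'.res c) ∈ IsLocalRing.maximalIdeal C' := by
    rw [Art.mem_maximalIdeal_iff, map_sub, AlgHom.commutes]
    simp
  have h2 : (c - algebraMap k C' (C'.res c)) * x ∈
      IsLocalRing.maximalIdeal C' * RingHom.ker p.toAlgHom := Ideal.mul_mem_mul h1 hx
  rw [hp.2, Ideal.mem_bot] at h2
  rw [Algebra.smul_def]
  linear_combination h2

/-- the kernel of a functional on `ker p`, as an ideal of `C'` -/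
def kerIdeal (hp : IsSemismallExt p) (ℓ : ↥(RingHom.ker p.toAlgHom) →ₗ[k] k) : Ideal C' where
  carrier := {x | ∃ h : x ∈ RingHom.ker p.toAlgHom, ℓ ⟨x, h⟩ = 0}
  add_mem' := by
    rintro x y ⟨hx, hx0⟩ ⟨hy, hy0⟩
    refine ⟨(RingHom.ker p.toAlgHom).add_mem hx hy, ?_⟩
    have : (⟨x + y, (RingHom.ker p.toAlgHom).add_mem hx hy⟩ : ↥(RingHom.ker p.toAlgHom)) =
        ⟨x, hx⟩ + ⟨y, hy⟩ := rfl
    rw [this, map_add, hx0, hy0, add_zero]
  zero_mem' := ⟨(RingHom.ker p.toAlgHom).zero_mem, by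
    have : (⟨0, (RingHom.ker p.toAlgHom).zero_mem⟩ : ↥(RingHom.ker p.toAlgHom)) = 0 := rfl
    rw [this, map_zero]⟩
  smul_mem' := by
    rintro c x ⟨hx, hx0⟩
    refine ⟨(RingHom.ker p.toAlgHom).mul_mem_left c hx, ?_⟩
    have : (⟨c • x, (RingHom.ker p.toAlgHom).mul_mem_left c hx⟩ : ↥(RingHom.ker p.toAlgHom)) =
        (C'.res c) • ⟨x, hx⟩ := Subtype.ext (mul_eq_smul p hp c x hx)
    rw [this, map_smul, hx0, smul_zero]

theorem mem_kerIdeal (hp : IsSemismallExt p) (ℓ : ↥(RingHom.ker p.toAlgHom) →ₗ[k] k) (x : C') :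
    x ∈ kerIdeal p hp ℓ ↔ ∃ h : x ∈ RingHom.ker p.toAlgHom, ℓ ⟨x, h⟩ = 0 := Iff.rfl

theorem kerIdeal_le_ker (hp : IsSemismallExt p) (ℓ : ↥(RingHom.ker p.toAlgHom) →ₗ[k] k) :
    kerIdeal p hp ℓ ≤ RingHom.ker p.toAlgHom := fun _ hx => hx.1

theorem kerIdeal_le_max (hp : IsSemismallExt p) (ℓ : ↥(RingHom.ker p.toAlgHom) →ₗ[k] k) :
    kerIdeal p hp ℓ ≤ IsLocalRing.maximalIdeal C' :=
  (kerIdeal_le_ker p hp ℓ).trans (Groth.Agent.Helper18.ker_le_maximalIdeal p)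

section Tiny

variable (hp : IsSemismallExt p) (ℓ : ↥(RingHom.ker p.toAlgHom) →ₗ[k] k)
  (x₀ : ↥(RingHom.ker p.toAlgHom)) (hx₀ : ℓ x₀ = 1)

/-- the tiny extension `C'/ker ℓ → C` -/
noncomputable abbrev tiny : quot C' (kerIdeal p hp ℓ) (kerIdeal_le_max p hp ℓ) ⟶ C :=
  quotFactor (kerIdeal_le_max p hp ℓ) p (kerIdeal_le_ker p hp ℓ)

theorem tiny_quotMk (c : C') :
    tiny p hp ℓ (quotMk C' (kerIdeal p hp ℓ) (kerIdeal_le_max p hp ℓ) c) = p c := rfl

theorem mem_ker_tiny_iff (c : C') :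
    quotMk C' (kerIdeal p hp ℓ) (kerIdeal_le_max p hp ℓ) c ∈ RingHom.ker (tiny p hp ℓ).toAlgHom ↔
      c ∈ RingHom.ker p.toAlgHom := by
  rw [RingHom.mem_ker, RingHom.mem_ker]
  rfl

include hx₀ in
theorem quotMk_eq_smul (x : ↥(RingHom.ker p.toAlgHom)) :
    quotMk C' (kerIdeal p hp ℓ) (kerIdeal_le_max p hp ℓ) (x : C') =
      ℓ x • quotMk C' (kerIdeal p hp ℓ) (kerIdeal_le_max p hp ℓ) (x₀ : C') := by
  have h1 : ((x - ℓ x • x₀ : ↥(RingHom.ker p.toAlgHom)) : C') ∈ kerIdeal p hp ℓ := by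
    refine ⟨(x - ℓ x • x₀).2, ?_⟩
    rw [Subtype.coe_eta, map_sub, map_smul, hx₀, smul_eq_mul, mul_one, sub_self]
  have h2 := (quotMk_eq_zero_iff C' (kerIdeal p hp ℓ) (kerIdeal_le_max p hp ℓ) _).2 h1
  have h3 : ((x - ℓ x • x₀ : ↥(RingHom.ker p.toAlgHom)) : C') = (x : C') - ℓ x • (x₀ : C') := rfl
  rw [h3] at h2
  have h4 : quotMk C' (kerIdeal p hp ℓ) (kerIdeal_le_max p hp ℓ) ((x : C') - ℓ x • (x₀ : C')) =
      quotMk C' (kerIdeal p hp ℓ) (kerIdeal_le_max p hp ℓ) (x : C') -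
        ℓ x • quotMk C' (kerIdeal p hp ℓ) (kerIdeal_le_max p hp ℓ) (x₀ : C') := by
    rw [map_sub, map_smul]
  rw [h4, sub_eq_zero] at h2
  exact h2

include hx₀ in
theorem quotMk_x₀_ne_zero :
    quotMk C' (kerIdeal p hp ℓ) (kerIdeal_le_max p hp ℓ) (x₀ : C') ≠ 0 := by
  intro h
  rw [quotMk_eq_zero_iff] at h
  obtain ⟨h1, h2⟩ := h
  rw [Subtype.coe_eta, hx₀] at h2
  exact one_ne_zero h2

/-- the generator of the kernel of the tiny extension -/
noncomputable def gen : ↥(RingHom.ker (tiny p hp ℓ).toAlgHom) :=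
  ⟨quotMk C' (kerIdeal p hp ℓ) (kerIdeal_le_max p hp ℓ) (x₀ : C'),
    (mem_ker_tiny_iff p hp ℓ _).2 x₀.2⟩

include hx₀ in
theorem kerToQuot_eq (x : ↥(RingHom.ker p.toAlgHom)) :
    kerToQuot (kerIdeal_le_max p hp ℓ) p (kerIdeal_le_ker p hp ℓ) x = ℓ x • gen p hp ℓ x₀ :=
  Subtype.ext (quotMk_eq_smul p hp ℓ x₀ hx₀ x)

include hx₀ in
theorem isSmallExt_tiny : IsSmallExt (tiny p hp ℓ) := by
  refine ⟨?_, ?_, ?_, ?_⟩
  · intro c
    obtain ⟨c', hc'⟩ := hp.1 c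
    exact ⟨quotMk C' _ (kerIdeal_le_max p hp ℓ) c', hc'⟩
  · intro h
    have h1 : (gen p hp ℓ x₀ : quot C' (kerIdeal p hp ℓ) (kerIdeal_le_max p hp ℓ)) ∈
        (⊥ : Ideal (quot C' (kerIdeal p hp ℓ) (kerIdeal_le_max p hp ℓ))) := by
      rw [← h]; exact (gen p hp ℓ x₀).2
    rw [Ideal.mem_bot] at h1
    exact quotMk_x₀_ne_zero p hp ℓ x₀ hx₀ h1
  · refine ⟨⟨quotMk C' (kerIdeal p hp ℓ) (kerIdeal_le_max p hp ℓ) (x₀ : C'), ?_⟩⟩
    apply le_antisymm
    · intro y hy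
      obtain ⟨c, rfl⟩ := quotMk_surjective C' _ (kerIdeal_le_max p hp ℓ) y
      have hc : c ∈ RingHom.ker p.toAlgHom := (mem_ker_tiny_iff p hp ℓ c).1 hy
      have := quotMk_eq_smul p hp ℓ x₀ hx₀ ⟨c, hc⟩
      change quotMk C' _ (kerIdeal_le_max p hp ℓ) c = _ at this
      rw [this, Algebra.smul_def]
      exact Ideal.mul_mem_left _ _ (Ideal.subset_span rfl)
    · rw [Ideal.submodule_span_eq, Ideal.span_singleton_le_iff_mem]
      exact (gen p hp ℓ x₀).2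
  · rw [eq_bot_iff]
    refine Ideal.mul_le.2 (fun a ha y hy => ?_)
    obtain ⟨a', ha', rfl⟩ := (mem_maximalIdeal_quot C' _ (kerIdeal_le_max p hp ℓ) a).1 ha
    obtain ⟨c, rfl⟩ := quotMk_surjective C' _ (kerIdeal_le_max p hp ℓ) y
    have hc : c ∈ RingHom.ker p.toAlgHom := (mem_ker_tiny_iff p hp ℓ c).1 hy
    have h0 : a' * c = 0 := by
      have : a' * c ∈ IsLocalRing.maximalIdeal C' * RingHom.ker p.toAlgHom := Ideal.mul_mem_mul ha' hc
      rwa [hp.2, Ideal.mem_bot] at this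
    rw [Ideal.mem_bot, ← map_mul, h0, map_zero]

include hx₀ in
theorem toSpan_bijective :
    Function.Bijective (LinearMap.toSpanSingleton k _ (gen p hp ℓ x₀)) := by
  constructor
  · rw [← LinearMap.ker_eq_bot, LinearMap.ker_eq_bot']
    intro r hr
    rw [LinearMap.toSpanSingleton_apply, smul_eq_zero] at hr
    rcases hr with hr | hr
    · exact hr
    · exact absurd (congrArg Subtype.val hr) (quotMk_x₀_ne_zero p hp ℓ x₀ hx₀)
  · rintro ⟨y, hy⟩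
    obtain ⟨c, rfl⟩ := quotMk_surjective C' _ (kerIdeal_le_max p hp ℓ) y
    have hc : c ∈ RingHom.ker p.toAlgHom := (mem_ker_tiny_iff p hp ℓ c).1 hy
    refine ⟨ℓ ⟨c, hc⟩, ?_⟩
    rw [LinearMap.toSpanSingleton_apply]
    exact Subtype.ext (quotMk_eq_smul p hp ℓ x₀ hx₀ ⟨c, hc⟩).symm

/-- the isomorphism `ker (tiny) ≃ k` sending the generator to `1` -/
noncomputable def kerEquiv : ↥(RingHom.ker (tiny p hp ℓ).toAlgHom) ≃ₗ[k] k :=
  (LinearEquiv.ofBijective (LinearMap.toSpanSingleton k _ (gen p hp ℓ x₀))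
    (toSpan_bijective p hp ℓ x₀ hx₀)).symm

theorem kerEquiv_kerToQuot (x : ↥(RingHom.ker p.toAlgHom)) :
    kerEquiv p hp ℓ x₀ hx₀ (kerToQuot (kerIdeal_le_max p hp ℓ) p (kerIdeal_le_ker p hp ℓ) x) = ℓ x := by
  rw [kerEquiv, LinearEquiv.symm_apply_eq, LinearEquiv.ofBijective_apply, LinearMap.toSpanSingleton_apply]
  exact kerToQuot_eq p hp ℓ x₀ hx₀ x

end Tiny

section Main

variable {F : Art k k ⥤ Type v} {V : Type u} [AddCommGroup V] [Module k V] (T : ObsTheory F V)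

/-- the spanning set of obstructions along tiny extensions -/
def tinySet : Set V :=
  {v : V | ∃ (B' B : Art k k) (t : B' ⟶ B) (ht : IsSmallExt t) (w : F.obj B)
    (φ : ↥(RingHom.ker t.toAlgHom) ≃ₗ[k] k),
    v = TensorProduct.rid k V (LinearMap.lTensor V φ.toLinearMap (T.obs t ht.isSemismallExt w))}

theorem coord_mem (hp : IsSemismallExt p) (u : F.obj C) (ℓ : ↥(RingHom.ker p.toAlgHom) →ₗ[k] k)
    (x₀ : ↥(RingHom.ker p.toAlgHom)) (hx₀ : ℓ x₀ = 1) :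
    TensorProduct.rid k V (LinearMap.lTensor V ℓ (T.obs p hp u)) ∈ tinySet T := by
  refine ⟨_, _, tiny p hp ℓ, isSmallExt_tiny p hp ℓ x₀ hx₀, u, kerEquiv p hp ℓ x₀ hx₀, ?_⟩
  have h1 := T.obs_quot p hp (kerIdeal p hp ℓ) (kerIdeal_le_max p hp ℓ) (kerIdeal_le_ker p hp ℓ)
    (isSmallExt_tiny p hp ℓ x₀ hx₀).isSemismallExt u
  have h2 : T.obs (tiny p hp ℓ) (isSmallExt_tiny p hp ℓ x₀ hx₀).isSemismallExt u =
      LinearMap.lTensor V ((kerToQuot (kerIdeal_le_max p hp ℓ) p (kerIdeal_le_ker p hp ℓ)).restrictScalars k)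
        (T.obs p hp u) := h1
  have hℓ : ℓ = (kerEquiv p hp ℓ x₀ hx₀).toLinearMap ∘ₗ
      (kerToQuot (kerIdeal_le_max p hp ℓ) p (kerIdeal_le_ker p hp ℓ)).restrictScalars k :=
    LinearMap.ext (fun x => (kerEquiv_kerToQuot p hp ℓ x₀ hx₀ x).symm)
  rw [h2, ← LinearMap.lTensor_comp_apply, ← hℓ]

theorem obs_mem (hp : IsSemismallExt p) (u : F.obj C) :
    T.obs p hp u ∈ LinearMap.range (LinearMap.rTensor (↥(RingHom.ker p.toAlgHom))
      (Submodule.span k (tinySet T)).subtype) := by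
  classical
  let b := Module.Basis.ofVectorSpace k ↥(RingHom.ker p.toAlgHom)
  set ω := T.obs p hp u with hω
  let c := TensorProduct.equivFinsuppOfBasisRight (M := V) b ω
  have hc : ∀ i, c i ∈ Submodule.span k (tinySet T) := by
    intro i
    apply Submodule.subset_span
    have : c i = TensorProduct.rid k V (LinearMap.lTensor V (b.coord i) ω) :=
      TensorProduct.equivFinsuppOfBasisRight_apply b ω i
    rw [this]
    exact coord_mem p T hp u (b.coord i) (b i) (by simp)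
  have hsum : ω = c.sum fun i m => m ⊗ₜ[k] b i := by
    rw [← TensorProduct.equivFinsuppOfBasisRight_symm_apply]
    exact ((TensorProduct.equivFinsuppOfBasisRight (M := V) b).symm_apply_apply ω).symm
  rw [hsum]
  refine Submodule.sum_mem _ (fun i _ => ?_)
  exact ⟨(⟨c i, hc i⟩ : ↥(Submodule.span k (tinySet T))) ⊗ₜ[k] b i, rfl⟩

end Main

end Groth.Agent.Helper18.ObsSpan
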