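import Mathlib
import Groth.Agent.Lib.Helper18.OmegaD3
import Groth.Agent.Lib.Helper18.KDiffIso

set_option autoImplicit false
set_option linter.style.haveILetI false
universe u
open CategoryTheory CategoryTheory.Limits AlgebraicGeometry TopologicalSpace Opposite TensorProduct

namespace Groth.Agent.Helper18.OmegaSec

open OmegaSh

variable (A B : Type u) [CommRing A] [CommRing B] [Algebra A B]

set_option maxRecDepth 8000 in
theorem bijective_toSpec : Function.Bijective (OmAff.toSpec A B) := by
  let f : Spec (CommRingCat.of B) ⟶ Spec (CommRingCat.of A) :=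
    Spec.map (CommRingCat.ofHom (algebraMap A B))
  have e : (⊤ : (Spec (CommRingCat.of B)).Opens) ≤ f ⁻¹ᵁ ⊤ := le_of_eq rfl
  have hU := isAffineOpen_top (Spec (CommRingCat.of B))
  have hV := isAffineOpen_top (Spec (CommRingCat.of A))
  letI := algUV f e
  let σ : A ≃+* Γ(Spec (CommRingCat.of A), ⊤) :=
    (Scheme.ΓSpecIso (CommRingCat.of A)).symm.commRingCatIsoToRingEquiv
  let τ : B ≃+* Γ(Spec (CommRingCat.of B), ⊤) :=
    (Scheme.ΓSpecIso (CommRingCat.of B)).symm.commRingCatIsoToRingEquiv
  let T : Ω[B⁄A] →+ Ω[Γ(Spec (CommRingCat.of B), ⊤)⁄Γ(Spec (CommRingCat.of A), ⊤)] :=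
    (omegaSections f hU hV e).toLinearMap.toAddMonoidHom.comp (OmAff.toSpec A B).toAddMonoidHom
  have hT : Function.Bijective T := by
    apply Groth.Agent.Helper18.KDiffIso.bijective_of_semilinear σ τ
    · intro a
      change OmAff.toΓ B (algebraMap A B a) = (f.appLE ⊤ ⊤ e).hom (OmAff.toΓ A a)
      rw [← OmAff.appTop_toΓ]
      rfl
    · intro b ω
      change omegaSections f hU hV e (OmAff.toSpec A B (b • ω)) =
        OmAff.toΓ B b • omegaSections f hU hV e (OmAff.toSpec A B ω)
      rw [LinearMap.map_smulₛₗ, LinearEquiv.map_smul]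
    · intro b
      change omegaSections f hU hV e (OmAff.toSpec A B (KaehlerDifferential.D A B b)) = _
      rw [OmAff.toSpec_D, omegaSections_dSect]
      rfl
  have hcomp : ⇑(OmAff.toSpec A B) = (omegaSections f hU hV e).symm ∘ T := by
    funext x
    change _ = (omegaSections f hU hV e).symm (omegaSections f hU hV e (OmAff.toSpec A B x))
    rw [LinearEquiv.symm_apply_apply]
  rw [hcomp]
  exact (omegaSections f hU hV e).symm.bijective.comp hT

end Groth.Agent.Helper18.OmegaSec
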