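import Mathlib
import Groth.Agent.Lib.Helper18.RecBC
import Groth.Agent.Lib.Helper18.RecCoker
import Groth.Agent.Lib.Helper18.CnSplit

set_option autoImplicit false
set_option linter.style.haveILetI false
set_option linter.unusedSectionVars false
universe u
open CategoryTheory CategoryTheory.Limits AlgebraicGeometry TopologicalSpace Opposite

namespace Groth.Agent.Helper18.OmegaProd

section Abstract

variable {C : Type*} [Category C] [Abelian C] {A B Z : C} (c₁ : A ⟶ Z) (c₂ : B ⟶ Z)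

/-- if each of `c₁`, `c₂` maps isomorphically onto the cokernel of the other, then
`A ⨿ B → Z` is an isomorphism. -/
theorem isIso_coprod_desc [IsIso (c₁ ≫ cokernel.π c₂)] [IsIso (c₂ ≫ cokernel.π c₁)] :
    IsIso (coprod.desc c₁ c₂) := by
  let π₁ := cokernel.π c₁
  let π₂ := cokernel.π c₂
  obtain ⟨r₁, hr₁⟩ : ∃ r : Z ⟶ A, r = π₂ ≫ inv (c₁ ≫ π₂) := ⟨_, rfl⟩
  obtain ⟨r₂, hr₂⟩ : ∃ r : Z ⟶ B, r = π₁ ≫ inv (c₂ ≫ π₁) := ⟨_, rfl⟩
  have h11 : c₁ ≫ r₁ = 𝟙 A := by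
    rw [hr₁, ← Category.assoc, IsIso.hom_inv_id]
  have h22 : c₂ ≫ r₂ = 𝟙 B := by
    rw [hr₂, ← Category.assoc, IsIso.hom_inv_id]
  have h21 : c₂ ≫ r₁ = 0 := by
    rw [hr₁, ← Category.assoc]
    change (c₂ ≫ cokernel.π c₂) ≫ _ = 0
    rw [cokernel.condition, zero_comp]
  have h12 : c₁ ≫ r₂ = 0 := by
    rw [hr₂, ← Category.assoc]
    change (c₁ ≫ cokernel.π c₁) ≫ _ = 0
    rw [cokernel.condition, zero_comp]
  let G : Z ⟶ A ⨿ B := r₁ ≫ coprod.inl + r₂ ≫ coprod.inr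
  have hFG : coprod.desc c₁ c₂ ≫ G = 𝟙 _ := by
    apply coprod.hom_ext
    · rw [← Category.assoc, coprod.inl_desc, Category.comp_id]
      change c₁ ≫ (r₁ ≫ coprod.inl + r₂ ≫ coprod.inr) = _
      rw [Preadditive.comp_add, ← Category.assoc, h11, ← Category.assoc, h12, zero_comp,
        add_zero, Category.id_comp]
    · rw [← Category.assoc, coprod.inr_desc, Category.comp_id]
      change c₂ ≫ (r₁ ≫ coprod.inl + r₂ ≫ coprod.inr) = _
      rw [Preadditive.comp_add, ← Category.assoc, h21, ← Category.assoc, h22, zero_comp,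
        zero_add, Category.id_comp]
  have hGF : G ≫ coprod.desc c₁ c₂ = 𝟙 Z := by
    change (r₁ ≫ coprod.inl + r₂ ≫ coprod.inr) ≫ coprod.desc c₁ c₂ = 𝟙 Z
    rw [Preadditive.add_comp, Category.assoc, coprod.inl_desc, Category.assoc, coprod.inr_desc]
    -- `𝟙 - r₁ ≫ c₁` factors through `π₁`
    have hz : c₁ ≫ (𝟙 Z - r₁ ≫ c₁) = 0 := by
      rw [Preadditive.comp_sub, Category.comp_id, ← Category.assoc, h11, Category.id_comp, sub_self]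
    let s : cokernel c₁ ⟶ Z := cokernel.desc c₁ (𝟙 Z - r₁ ≫ c₁) hz
    have hs : π₁ ≫ s = 𝟙 Z - r₁ ≫ c₁ := cokernel.π_desc _ _ _
    have hs2 : s = inv (c₂ ≫ π₁) ≫ c₂ := by
      rw [← cancel_epi (c₂ ≫ π₁), Category.assoc, hs, IsIso.hom_inv_id_assoc,
        Preadditive.comp_sub, Category.comp_id, ← Category.assoc, h21, zero_comp, sub_zero]
    have : r₂ ≫ c₂ = π₁ ≫ s := by
      rw [hs2, hr₂, Category.assoc]
    rw [this, hs]
    abel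
  exact ⟨G, hFG, hGF⟩

end Abstract


open OmegaSh Groth.Agent.Helper18.DerLib Groth.Agent.Helper18.Rec Groth.Agent.Helper18.CnSplit

variable {X Y S Z : Scheme.{u}} (a : X ⟶ S) (b : Y ⟶ S)
    (p : Z ⟶ X) (q : Z ⟶ Y) (hZ : IsPullback p q a b)
    (ΩX : X.Modules) (dX : OmegaSh.Der a ΩX) (hX : OmegaSh.IsUniversal dX)
    (ΩY : Y.Modules) (dY : OmegaSh.Der b ΩY) (hY : OmegaSh.IsUniversal dY)
    (ΩZ : Z.Modules) (dZ : OmegaSh.Der (q ≫ b) ΩZ) (hZu : OmegaSh.IsUniversal dZ)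
    (c₁ : (Scheme.Modules.pullback p).obj ΩX ⟶ ΩZ) (hc₁ : OmegaSh.IsDiffCompat p dX dZ c₁)
    (c₂ : (Scheme.Modules.pullback q).obj ΩY ⟶ ΩZ) (hc₂ : OmegaSh.IsDiffCompat q dY dZ c₂)

include hZ hX hY hZu hc₁ hc₂ in
theorem isIso_coprod : IsIso (coprod.desc c₁ c₂) := by
  -- `c₁` onto the cokernel of `c₂`
  have hQ₂ : IsUniversal (dQ q b ΩY dY ΩZ dZ c₂ hc₂) :=
    isUniversal_dQ q b ΩY dY hY ΩZ dZ hZu c₂ hc₂
  have hcompat₁ : IsDiffCompat p dX (dQ q b ΩY dY ΩZ dZ c₂ hc₂) (c₁ ≫ cokernel.π c₂) := by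
    intro U s
    rw [comp_app_apply, hc₁ U s, dQ_app]
  haveI i1 : IsIso (c₁ ≫ cokernel.π c₂) :=
    Groth.Agent.Helper18.RecSq.isIso_baseChange a b p q hZ ΩX dX hX (cokernel c₂)
      (dQ q b ΩY dY ΩZ dZ c₂ hc₂) hQ₂ (c₁ ≫ cokernel.π c₂) hcompat₁
  -- `c₂` onto the cokernel of `c₁`
  let dZ' : OmegaSh.Der (p ≫ a) ΩZ := castDer hZ.w.symm dZ
  have hZu' : IsUniversal dZ' := isUniversal_castDer _ _ hZu
  have hc₁' : IsDiffCompat p dX dZ' c₁ := by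
    intro U s
    rw [hc₁ U s, castDer_app]
  have hQ₁ : IsUniversal (dQ p a ΩX dX ΩZ dZ' c₁ hc₁') :=
    isUniversal_dQ p a ΩX dX hX ΩZ dZ' hZu' c₁ hc₁'
  have hcompat₂ : IsDiffCompat q dY (dQ p a ΩX dX ΩZ dZ' c₁ hc₁') (c₂ ≫ cokernel.π c₁) := by
    intro U s
    rw [comp_app_apply, hc₂ U s, dQ_app, castDer_app]
  haveI i2 : IsIso (c₂ ≫ cokernel.π c₁) :=
    Groth.Agent.Helper18.RecSq.isIso_baseChange b a q p hZ.flip ΩY dY hY (cokernel c₁)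
      (dQ p a ΩX dX ΩZ dZ' c₁ hc₁') hQ₁ (c₂ ≫ cokernel.π c₁) hcompat₂
  exact isIso_coprod_desc c₁ c₂

end Groth.Agent.Helper18.OmegaProd
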