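import Mathlib
import Groth.Prelude.Def_Omega2
import Groth.Agent.Lib.Helper13.PullbackSections
import Groth.Agent.Lib.Helper13.EffCartier
import Groth.Agent.Lib.Helper18.OmegaSpecAlg

set_option autoImplicit false
set_option linter.style.haveILetI false
set_option linter.unusedSectionVars false
universe u
open CategoryTheory CategoryTheory.Limits AlgebraicGeometry TensorProduct TopologicalSpace
open Groth.Agent.Helper13.EffCartier Groth.Agent.Helper13.Pullback

namespace Groth.Agent.Helper18.OmegaSpec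


section General

variable {Z P : Scheme.{u}} [IsAffine Z] [IsAffine P] (i : Z ⟶ P)

/-- the algebra structure on `Γ(Z, ⊤)` over `Γ(P, ⊤)` -/
noncomputable abbrev algTop : Algebra Γ(P, ⊤) Γ(Z, ⊤) := (i.appLE ⊤ ⊤ le_top).hom.toAlgebra

theorem algebraMap_algTop (b : Γ(P, ⊤)) :
    letI := algTop i
    algebraMap Γ(P, ⊤) Γ(Z, ⊤) b = i.app ⊤ b := by
  letI := algTop i
  change (i.appLE ⊤ ⊤ le_top).hom b = _
  rw [← Scheme.Hom.appLE_eq_app]
  rfl

/-- sections of the pulled back ideal module -/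
noncomputable def secPull :
    letI := algTop i
    Γ((Scheme.Modules.pullback i).obj (K i.ker), ⊤) ≃ₗ[Γ(Z, ⊤)]
      Γ(Z, ⊤) ⊗[Γ(P, ⊤)] Γ(K i.ker, ⊤) :=
  sectionsPullbackEquiv i (K i.ker) (isAffineOpen_top Z) (isAffineOpen_top P) le_top

theorem fn_mem_ker (k : Γ(K i.ker, ⊤)) :
    letI := algTop i
    fn i.ker k ∈ RingHom.ker (algebraMap Γ(P, ⊤) Γ(Z, ⊤)) := by
  letI := algTop i
  have h1 : fn i.ker k ∈ i.ker.ideal ⟨⊤, isAffineOpen_top P⟩ :=
    (mem_ideal_iff i.ker ⟨⊤, isAffineOpen_top P⟩ _).2 ⟨k, rfl⟩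
  rw [Scheme.Hom.ker_apply, RingHom.mem_ker] at h1
  rw [RingHom.mem_ker, algebraMap_algTop]
  exact h1

/-- sections of the ideal module are the kernel -/
noncomputable def secKerLin :
    letI := algTop i
    Γ(K i.ker, ⊤) →ₗ[Γ(P, ⊤)] RingHom.ker (algebraMap Γ(P, ⊤) Γ(Z, ⊤)) :=
  letI := algTop i
  { toFun := fun k => ⟨fn i.ker k, fn_mem_ker i k⟩
    map_add' := fun a b => by
      apply Subtype.ext
      exact map_add ((Groth.Agent.Helper13.VanishIdeal.idealι i.ker.subschemeι).app ⊤).hom a b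
    map_smul' := fun r k => by
      apply Subtype.ext
      exact fn_smul i.ker r k }

theorem secKerLin_bijective :
    letI := algTop i
    Function.Bijective (secKerLin i) := by
  letI := algTop i
  constructor
  · intro a b h
    exact fn_injective i.ker ⊤ (congrArg Subtype.val h)
  · rintro ⟨g, hg⟩
    rw [RingHom.mem_ker, algebraMap_algTop] at hg
    have h1 : g ∈ i.ker.ideal ⟨⊤, isAffineOpen_top P⟩ := by
      rw [Scheme.Hom.ker_apply, RingHom.mem_ker]
      exact hg
    obtain ⟨k, hk⟩ := (mem_ideal_iff i.ker ⟨⊤, isAffineOpen_top P⟩ _).1 h1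
    exact ⟨k, Subtype.ext hk⟩

variable {R A : Type u} [CommRing R] [CommRing A] [Algebra R A]

/-- the middle equivalence -/
noncomputable def secMid :
    letI := algTop i
    Γ(Z, ⊤) ⊗[Γ(P, ⊤)] Γ(K i.ker, ⊤) ≃ₗ[Γ(Z, ⊤)]
      Γ(Z, ⊤) ⊗[Γ(P, ⊤)] (RingHom.ker (algebraMap Γ(P, ⊤) Γ(Z, ⊤))) :=
  letI := algTop i
  TensorProduct.AlgebraTensorModule.congr (LinearEquiv.refl Γ(Z, ⊤) Γ(Z, ⊤))
      (LinearEquiv.ofBijective (secKerLin i) (secKerLin_bijective i))

theorem surj_algTop (hsurj : Function.Surjective (i.app ⊤)) :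
    letI := algTop i
    Function.Surjective (algebraMap Γ(P, ⊤) Γ(Z, ⊤)) := by
  letI := algTop i
  intro a
  obtain ⟨b, rfl⟩ := hsurj a
  exact ⟨b, algebraMap_algTop i b⟩

theorem hcomp_algTop (β : Γ(P, ⊤) ≃+* A ⊗[R] A) (ψ : Γ(Z, ⊤) ≃+* A)
    (hcomp : ∀ b, ψ (i.app ⊤ b) = Algebra.TensorProduct.lmul' R (β b)) :
    letI := algTop i
    ∀ b, ψ (algebraMap Γ(P, ⊤) Γ(Z, ⊤) b) = Algebra.TensorProduct.lmul' R (β b) := by
  letI := algTop i
  intro b
  rw [algebraMap_algTop]
  exact hcomp b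

/-- sections of the pullback of the ideal module, compared with Kähler differentials. -/
noncomputable def Psi (hsurj : Function.Surjective (i.app ⊤))
    (β : Γ(P, ⊤) ≃+* A ⊗[R] A) (ψ : Γ(Z, ⊤) ≃+* A)
    (hcomp : ∀ b, ψ (i.app ⊤ b) = Algebra.TensorProduct.lmul' R (β b)) :
    Γ((Scheme.Modules.pullback i).obj (K i.ker), ⊤) ≃+ Ω[A⁄R] :=
  letI := algTop i
  (secPull i).toAddEquiv.trans ((secMid i).toAddEquiv.trans
    (Phi (R := R) (A := A) (B := Γ(P, ⊤)) (A' := Γ(Z, ⊤))
      (surj_algTop i hsurj) β ψ (hcomp_algTop i β ψ hcomp)))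

theorem Psi_apply (hsurj : Function.Surjective (i.app ⊤))
    (β : Γ(P, ⊤) ≃+* A ⊗[R] A) (ψ : Γ(Z, ⊤) ≃+* A)
    (hcomp : ∀ b, ψ (i.app ⊤ b) = Algebra.TensorProduct.lmul' R (β b))
    (s : Γ((Scheme.Modules.pullback i).obj (K i.ker), ⊤)) :
    letI := algTop i
    Psi i hsurj β ψ hcomp s =
      Phi (R := R) (A := A) (B := Γ(P, ⊤)) (A' := Γ(Z, ⊤))
        (surj_algTop i hsurj) β ψ (hcomp_algTop i β ψ hcomp) (secMid i (secPull i s)) := rfl

theorem Psi_smul (hsurj : Function.Surjective (i.app ⊤))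
    (β : Γ(P, ⊤) ≃+* A ⊗[R] A) (ψ : Γ(Z, ⊤) ≃+* A)
    (hcomp : ∀ b, ψ (i.app ⊤ b) = Algebra.TensorProduct.lmul' R (β b))
    (a : Γ(Z, ⊤)) (s : Γ((Scheme.Modules.pullback i).obj (K i.ker), ⊤)) :
    Psi i hsurj β ψ hcomp (a • s) = ψ a • Psi i hsurj β ψ hcomp s := by
  letI := algTop i
  rw [Psi_apply, Psi_apply, LinearEquiv.map_smul, LinearEquiv.map_smul]
  exact Phi_smul _ β ψ _ a _

end General



section Spec

variable (R A : Type u) [CommRing R] [CommRing A] [Algebra R A]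

/-- the structure morphism -/
noncomputable abbrev fS : Spec (CommRingCat.of A) ⟶ Spec (CommRingCat.of R) :=
  Spec.map (CommRingCat.ofHom (algebraMap R A))

/-- the diagonal -/
noncomputable abbrev dS : Spec (CommRingCat.of A) ⟶ pullback (fS R A) (fS R A) :=
  pullback.diagonal (fS R A)

instance : IsAffine (pullback (fS R A) (fS R A)) := inferInstance

/-- global sections of the self-product -/
noncomputable def betaS : Γ(pullback (fS R A) (fS R A), ⊤) ≃+* A ⊗[R] A :=
  (Scheme.Γ.mapIso (pullbackSpecIso R A A).symm.op ≪≫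
    Scheme.ΓSpecIso (CommRingCat.of (A ⊗[R] A))).commRingCatIsoToRingEquiv

/-- global sections of `Spec A` -/
noncomputable def psiS : Γ(Spec (CommRingCat.of A), ⊤) ≃+* A :=
  (Scheme.ΓSpecIso (CommRingCat.of A)).commRingCatIsoToRingEquiv

theorem hcompS (b : Γ(pullback (fS R A) (fS R A), ⊤)) :
    psiS A ((dS R A).app ⊤ b) = Algebra.TensorProduct.lmul' R (betaS R A b) := by
  have h1 : dS R A = Spec.map (CommRingCat.ofHom
      (Algebra.TensorProduct.lmul' R : A ⊗[R] A →ₐ[R] A).toRingHom) ≫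
        (pullbackSpecIso R A A).inv := diagonal_SpecMap R A
  have h2 : (dS R A).appTop = (pullbackSpecIso R A A).inv.appTop ≫
      (Spec.map (CommRingCat.ofHom
      (Algebra.TensorProduct.lmul' R : A ⊗[R] A →ₐ[R] A).toRingHom)).appTop := by
    rw [h1, Scheme.Hom.comp_appTop]
  have h3 := Scheme.ΓSpecIso_naturality (CommRingCat.ofHom
      (Algebra.TensorProduct.lmul' R : A ⊗[R] A →ₐ[R] A).toRingHom)
  change (Scheme.ΓSpecIso (CommRingCat.of A)).hom ((dS R A).appTop b) = _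
  rw [h2]
  have h4 := congr($h3 ((pullbackSpecIso R A A).inv.appTop b))
  exact h4

theorem hsurjS : Function.Surjective ((dS R A).app ⊤) := by
  intro a
  obtain ⟨t, ht⟩ : ∃ t : A ⊗[R] A, Algebra.TensorProduct.lmul' R t = psiS A a :=
    ⟨psiS A a ⊗ₜ 1, by simp⟩
  refine ⟨(betaS R A).symm t, ?_⟩
  apply (psiS A).injective
  rw [hcompS, RingEquiv.apply_symm_apply, ht]

end Spec


section Final

theorem smul_top_eq {R : CommRingCat.{u}} (M : (Spec R).Modules) (a : R) (x : Γ(M, ⊤)) :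
    a • x = ((Scheme.ΓSpecIso R).inv a) • x := by
  rw [Scheme.Modules.smul_Spec_def]
  have : (⊤ : (Spec R).Opens).leTop = 𝟙 _ := Subsingleton.elim _ _
  rw [this]
  erw [CategoryTheory.Functor.map_id]
  rfl

variable (R A : Type u) [CommRing R] [CommRing A] [Algebra R A]

/-- the pulled back ideal module -/
noncomputable abbrev OmegaK : (Spec (CommRingCat.of A)).Modules :=
  (Scheme.Modules.pullback (dS R A)).obj (K (dS R A).ker)

instance : (OmegaK R A).IsQuasicoherent := isQuasicoherent_pullback (dS R A) (K (dS R A).ker)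

/-- `Ω ≅ Δ^* K` -/
noncomputable def omegaIsoK : Omega.sheaf (fS R A) ≅ OmegaK R A :=
  (Scheme.Modules.pullback (dS R A)).mapIso (idealModIso (dS R A).ker)

/-- the global sections module -/
noncomputable abbrev OmegaN : ModuleCat (CommRingCat.of A) :=
  (modulesSpecToSheaf.obj (OmegaK R A)).presheaf.obj (.op ⊤)

/-- `Δ^* K` is the tilde of its global sections -/
noncomputable def tildeIsoK : tilde (OmegaN R A) ≅ OmegaK R A := by
  haveI h : IsIso (Scheme.Modules.fromTildeΓ (R := CommRingCat.of A) (OmegaK R A)) :=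
    Scheme.Modules.isIso_fromTildeΓ_of_isQuasicoherent _
  exact asIso (Scheme.Modules.fromTildeΓ (R := CommRingCat.of A) (OmegaK R A))

/-- the comparison of global sections with Kähler differentials -/
noncomputable def PsiS : Γ(OmegaK R A, ⊤) ≃+ Ω[A⁄R] :=
  Psi (R := R) (A := A) (dS R A) (hsurjS R A) (betaS R A) (psiS A) (hcompS R A)

theorem PsiS_smul (a : A) (x : OmegaN R A) :
    PsiS R A (a • x : OmegaN R A) = a • PsiS R A x := by
  have h : (a • x : OmegaN R A) =
      ((Scheme.ΓSpecIso (CommRingCat.of A)).inv a) • (show Γ(OmegaK R A, ⊤) from x) :=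
    smul_top_eq (R := CommRingCat.of A) (OmegaK R A) a x
  rw [h]
  unfold PsiS
  rw [Psi_smul]
  congr 1
  exact (psiS A).apply_symm_apply a

set_option maxRecDepth 4000 in
/-- the linear equivalence -/
noncomputable def linS : OmegaN R A ≃ₗ[A] Ω[A⁄R] where
  toFun x := PsiS R A x
  invFun y := (PsiS R A).symm y
  map_add' x y := map_add (PsiS R A) x y
  map_smul' a x := PsiS_smul R A a x
  left_inv x := (PsiS R A).symm_apply_apply x
  right_inv y := (PsiS R A).apply_symm_apply y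

theorem omega_spec_iso :
    Nonempty (Omega.sheaf (Spec.map (CommRingCat.ofHom (algebraMap R A))) ≅
      tilde (R := CommRingCat.of A) (ModuleCat.of A (Ω[A⁄R]))) :=
  ⟨omegaIsoK R A ≪≫ (tildeIsoK R A).symm ≪≫
    (tilde.functor (CommRingCat.of A)).mapIso (linS R A).toModuleIso⟩

end Final

end Groth.Agent.Helper18.OmegaSpec
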