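import Mathlib
import Groth.Agent.Lib.Helper18.GrpQuot
import Groth.Agent.Lib.Helper18.GrpSchT
import Groth.Agent.Lib.Helper18.GoodQuotOrb
import Groth.Prelude.Def_ChGrp

/-!
# Preliminaries for properness of orbit maps (helper18)
-/

set_option autoImplicit false
set_option linter.style.haveILetI false
universe u
open CategoryTheory CategoryTheory.Limits MonoidalCategory CartesianMonoidalCategory MonObj GrpObj
  AlgebraicGeometry

namespace Groth.Agent.Helper18.OrbProper

section General

variable {S : Scheme.{u}} {G Go X : Over S} [GrpObj G] [GrpObj Go]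

/-- `G × G_o ≅ G ×_X G` for the stabilizer `G_o` of `o` -/
theorem isPullback_shear (a : AlgGrp.Action G X) (o : 𝟙_ (Over S) ⟶ X) (i : Go ⟶ G) [IsMonHom i]
    (hGo : IsPullback i (toUnit Go) (a.orbitMap o) o) :
    IsPullback (fst G Go) ((G ◁ i) ≫ μ[G]) (a.orbitMap o) (a.orbitMap o) := by
  have hiπ : ∀ {T : Over S} (h : T ⟶ Go),
      (h ≫ i) ≫ a.orbitMap o = toUnit T ≫ o := by
    intro T h
    rw [Category.assoc, hGo.w, ← Category.assoc, toUnit_unique (h ≫ toUnit Go) (toUnit T)]
  have hone : ∀ {T : Over S},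
      (1 : T ⟶ G) ≫ a.orbitMap o = toUnit T ≫ o := by
    intro T
    rw [Groth.Agent.Helper18.GrpFppf.comp_orbitMap, Groth.Agent.Helper28.AlgGrpShear.act_one]
  have hpt : ∀ {T : Over S} (g : T ⟶ G) (h : T ⟶ Go),
      (g * (h ≫ i)) ≫ a.orbitMap o = g ≫ a.orbitMap o := by
    intro T g h
    rw [Groth.Agent.Helper18.GrpFppf.orbitMap_mul, hiπ,
      ← Groth.Agent.Helper18.GrpFppf.comp_orbitMap]
  have hmulpt : ∀ {T : Over S} (w : T ⟶ G ⊗ Go),
      w ≫ (G ◁ i) ≫ μ[G] = (w ≫ fst G Go) * ((w ≫ snd G Go) ≫ i) := by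
    intro T w
    have : (w ≫ fst G Go) * ((w ≫ snd G Go) ≫ i) =
        lift (w ≫ fst G Go) ((w ≫ snd G Go) ≫ i) ≫ μ[G] := rfl
    rw [this, ← Category.assoc]
    congr 1
    apply CartesianMonoidalCategory.hom_ext <;> simp
  haveI : Mono o := ⟨fun {T} x y _ => toUnit_unique x y⟩
  haveI : Mono i := Limits.PullbackCone.mono_fst_of_is_pullback_of_mono hGo.isLimit
  have hcomm : fst G Go ≫ a.orbitMap o = ((G ◁ i) ≫ μ[G]) ≫ a.orbitMap o := by
    have h1 := hmulpt (𝟙 (G ⊗ Go))
    rw [Category.id_comp, Category.id_comp, Category.id_comp] at h1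
    rw [h1, hpt]
  have hex : ∀ (s : Limits.PullbackCone (a.orbitMap o) (a.orbitMap o)),
      ∃ h' : s.pt ⟶ Go, h' ≫ i = s.fst⁻¹ * s.snd := by
    intro s
    have e : (s.fst⁻¹ * s.snd) ≫ a.orbitMap o = toUnit s.pt ≫ o := by
      rw [Groth.Agent.Helper18.GrpFppf.orbitMap_mul, ← s.condition,
        ← Groth.Agent.Helper18.GrpFppf.orbitMap_mul, inv_mul_cancel, hone]
    exact ⟨hGo.lift _ _ e, hGo.lift_fst _ _ _⟩
  refine ⟨⟨hcomm⟩, ⟨Limits.PullbackCone.IsLimit.mk _
    (fun s => lift s.fst (hex s).choose) (fun s => by simp) (fun s => ?_) (fun s m h1 h2 => ?_)⟩⟩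
  · rw [hmulpt, lift_fst, lift_snd, (hex s).choose_spec, mul_inv_cancel_left]
  · apply CartesianMonoidalCategory.hom_ext
    · rw [lift_fst]; exact h1
    · rw [lift_snd, ← cancel_mono i, (hex s).choose_spec]
      have h3 := hmulpt m
      rw [h2, h1] at h3
      rw [h3, inv_mul_cancel_left]

variable {Z : Over S} [GrpObj Z]

theorem restrict_orbitMap (a : AlgGrp.Action G X) (z : Z ⟶ G) [IsMonHom z]
    (x : 𝟙_ (Over S) ⟶ X) : (a.restrict z).orbitMap x = z ≫ a.orbitMap x := by
  have h1 := Groth.Agent.Helper18.GrpFppf.comp_orbitMap (a.restrict z) x (𝟙 Z)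
  rw [Category.id_comp] at h1
  rw [h1, Groth.Agent.Helper18.GrpFppf.comp_orbitMap, AlgGrp.Action.lift_restrict_act,
    Category.id_comp]

end General

section Field

variable {k : Type u} [Field k]

/-- a rational point of a `k`-scheme is a closed immersion -/
theorem isClosedImmersion_of_section {Y : Scheme.{u}} (p : Y ⟶ Spec (CommRingCat.of k))
    (s : Spec (CommRingCat.of k) ⟶ Y) (hs : s ≫ p = 𝟙 _) : IsClosedImmersion s := by
  haveI := Groth.Agent.Helper18.GrpdOm.isImmersion_section p s hs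
  apply IsClosedImmersion.of_isPreimmersion
  haveI : Subsingleton ↥(Spec (CommRingCat.of k)) :=
    inferInstanceAs (Subsingleton (PrimeSpectrum k))
  have hr : Set.range s = {s (IsLocalRing.closedPoint k)} := by
    ext y
    constructor
    · rintro ⟨t, rfl⟩
      rw [Subsingleton.elim t (IsLocalRing.closedPoint k)]
      rfl
    · rintro rfl
      exact ⟨_, rfl⟩
  rw [hr]
  exact Groth.Agent.Helper18.GoodQuotOrb.isClosed_singleton_of_section p s hs _

/-- a group scheme over a field is separated -/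
theorem isSeparated_of_field (G : Over (Spec (CommRingCat.of k))) [GrpObj G] :
    IsSeparated G.hom :=
  (Groth.Agent.Helper18.GrpSchOm.isSeparated_iff G).mpr
    (isClosedImmersion_of_section G.hom η[G].left (Groth.Agent.Helper18.GrpSchOm.unit_section G))

end Field

end Groth.Agent.Helper18.OrbProper
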