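import Mathlib
import Groth.Agent.Lib.Helper12.MaxGRGrp
import Groth.Agent.Lib.Helper18.KPts

/-!
# Over an algebraically closed field, a group scheme of finite type has a smooth closed subgroup
with the same underlying space (helper18)
-/

set_option autoImplicit false
set_option linter.style.haveILetI false
universe u
open CategoryTheory CategoryTheory.Limits MonoidalCategory CartesianMonoidalCategory MonObj GrpObj
  AlgebraicGeometry TensorProduct

namespace Groth.Agent.Helper18.OrbProper

/-- over an algebraically closed field every reduced algebra is geometrically reduced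
(copy of helper3's lemma, light imports) -/
theorem isGeometricallyReduced_of_isAlgClosed' (k K : Type*) [Field k] [IsAlgClosed k] [CommRing K]
    [Algebra k K] [IsReduced K] : Algebra.IsGeometricallyReduced k K := by
  rw [Algebra.isGeometricallyReduced_field_iff]
  have hbij : Function.Bijective (algebraMap k (AlgebraicClosure k)) :=
    IsAlgClosed.algebraMap_bijective_of_isIntegral
  let e : k ≃ₐ[k] AlgebraicClosure k := AlgEquiv.ofBijective (Algebra.ofId k _) hbij
  let e2 : AlgebraicClosure k ⊗[k] K ≃ₐ[k] K :=
    (Algebra.TensorProduct.congr e.symm AlgEquiv.refl).trans (Algebra.TensorProduct.lid k K)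
  exact isReduced_of_injective e2.toRingEquiv.toRingHom e2.injective

variable (k : Type u) [Field k] [IsAlgClosed k]

theorem exists_smooth_subgroup (G : Over (Spec (CommRingCat.of k))) [GrpObj G]
    [LocallyOfFiniteType G.hom] :
    ∃ (Z : Over (Spec (CommRingCat.of k))) (_ : GrpObj Z) (z : Z ⟶ G), IsMonHom z ∧
      IsClosedImmersion z.left ∧ Smooth Z.hom ∧ Surjective z.left := by
  obtain ⟨Z₀, z₀, hcl, hgr, hpts, -⟩ := Groth.Agent.Helper12.MaxGR.main k G.left G.hom
  haveI := hcl
  let Z : Over (Spec (CommRingCat.of k)) := Over.mk (z₀ ≫ G.hom)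
  let z : Z ⟶ G := Over.homMk z₀ rfl
  obtain ⟨hsm, hgrp, hmon⟩ := Groth.Agent.Helper12.MaxGR.main_grp k G Z z hcl hgr hpts
  refine ⟨Z, hgrp, z, hmon, hcl, hsm, ⟨?_⟩⟩
  -- surjectivity: the range is closed and contains all closed points
  haveI : JacobsonSpace G.left := Groth.Agent.Helper18.KPts.jacobsonSpace_of_lft G
  have hopen : IsOpen (Set.range z₀)ᶜ := z₀.isClosedEmbedding.isClosed_range.isOpen_compl
  by_contra hne
  have hne' : ((Set.range z₀)ᶜ).Nonempty := by
    rw [Set.nonempty_compl]
    intro h
    exact hne (Set.range_eq_univ.mp h)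
  obtain ⟨y, hyW, hy⟩ := nonempty_inter_closedPoints hne' hopen.isLocallyClosed
  have hy' : IsClosed ({y} : Set G.left) := hy
  haveI : Algebra.IsGeometricallyReduced k k := isGeometricallyReduced_of_isAlgClosed' k k
  obtain ⟨w, hw⟩ := hpts k (pointOfClosedPoint G.hom y hy') (by
    rw [pointOfClosedPoint_comp]
    simp)
  apply hyW
  refine ⟨w (IsLocalRing.closedPoint k), ?_⟩
  rw [← Scheme.Hom.comp_apply, hw, pointOfClosedPoint_apply]

end Groth.Agent.Helper18.OrbProper
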