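import Mathlib
import Groth.Agent.Lib.Helper18.OrbProper1
import Groth.Agent.Lib.Helper18.OrbProper2
import Groth.Agent.Lib.Helper18.OrbQuot
import Groth.Agent.Lib.Helper18.GrpDesc
import Groth.Agent.S0086

/-!
# An orbit map with closed image and proper stabilizer is proper (helper18)
-/

set_option autoImplicit false
set_option linter.style.haveILetI false
universe u
open CategoryTheory CategoryTheory.Limits MonoidalCategory CartesianMonoidalCategory MonObj GrpObj
  AlgebraicGeometry

namespace Groth.Agent.Helper18.OrbProper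

theorem isPullback_comp_mono {C : Type*} [Category C] {P A B D E : C} {fst : P ⟶ A}
    {snd : P ⟶ B} {f : A ⟶ D} {g : B ⟶ D} (h : IsPullback fst snd f g) (i : D ⟶ E) [Mono i] :
    IsPullback fst snd (f ≫ i) (g ≫ i) := by
  refine ⟨⟨by rw [← Category.assoc, h.w, Category.assoc]⟩,
    ⟨PullbackCone.IsLimit.mk _
      (fun s => h.lift s.fst s.snd (by
        rw [← cancel_mono i, Category.assoc, Category.assoc]; exact s.condition))
      (fun s => h.lift_fst _ _ _) (fun s => h.lift_snd _ _ _)
      (fun s m h1 h2 => h.hom_ext (by rw [h1, h.lift_fst]) (by rw [h2, h.lift_snd]))⟩⟩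

variable (k : Type u) [Field k] [IsAlgClosed k]

theorem isProper_orbitMap (G X : Over (Spec (CommRingCat.of k))) [GrpObj G]
    [LocallyOfFiniteType G.hom] [QuasiCompact G.hom] [LocallyOfFiniteType X.hom]
    [QuasiCompact X.hom] (a : AlgGrp.Action G X) (x : 𝟙_ (Over (Spec (CommRingCat.of k))) ⟶ X)
    (hcl : IsClosed (Set.range (a.orbitMap x).left.base))
    (H : Scheme.{u}) (h₁ : H ⟶ G.left) (h₂ : H ⟶ (𝟙_ (Over (Spec (CommRingCat.of k)))).left)
    (hH : IsPullback h₁ h₂ (a.orbitMap x).left x.left) (hprop : IsProper h₂) :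
    IsProper (a.orbitMap x).left := by
  obtain ⟨Z, hZ, z, hmon, hzcl, hZsm, hzsurj⟩ := exists_smooth_subgroup k G
  haveI : QuasiCompact Z.hom := by rw [← Over.w z]; infer_instance
  haveI : LocallyOfFiniteType Z.hom := by rw [← Over.w z]; infer_instance
  have hf' : (a.restrict z).orbitMap x = z ≫ a.orbitMap x := restrict_orbitMap a z x
  have hrange : Set.range ((a.restrict z).orbitMap x).left.base =
      Set.range (a.orbitMap x).left.base := by
    rw [hf', Over.comp_left, Scheme.Hom.comp_base, TopCat.coe_comp, Set.range_comp,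
      Set.range_eq_univ.mpr hzsurj.surj, Set.image_univ]
  obtain ⟨O, i, hi, hOred, hOr⟩ :=
    Groth.Agent.Helper18.OrbQuot.exists_reduced_immersion X.left _ hcl.isLocallyClosed
  haveI := hi
  haveI := hOred
  haveI : IsClosedImmersion i := IsClosedImmersion.of_isPreimmersion i (by
    have : Set.range i = Set.range i.base := rfl
    rw [this, hOr]; exact hcl)
  obtain ⟨aO, o, hact, ho, horb, hsurj⟩ :=
    Groth.Agent.Helper18.OrbitAct.main k Z X (a.restrict z) x O i (hOr.trans hrange.symm)
  let XO : Over (Spec (CommRingCat.of k)) := Over.mk (i ≫ X.hom)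
  let i' : XO ⟶ X := Over.homMk i rfl
  haveI : Mono i'.left := inferInstanceAs (Mono i)
  haveI : Mono i' := Over.mono_of_mono_left _
  haveI : IsReduced XO.left := hOred
  haveI : LocallyOfFiniteType XO.hom := inferInstanceAs (LocallyOfFiniteType (i ≫ X.hom))
  haveI : QuasiCompact XO.hom := inferInstanceAs (QuasiCompact (i ≫ X.hom))
  haveI := hsurj
  -- flatness
  haveI hflat : Flat (aO.orbitMap o).left :=
    Groth.Agent.Helper18.OrbMapSmooth.flat_orbitMap Z XO aO o (fun U hU => by
      haveI : Nonempty XO.left := ⟨o.left (IsLocalRing.closedPoint k)⟩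
      obtain ⟨u, hu⟩ := hU.nonempty
      obtain ⟨v, hv⟩ := hsurj.surj u
      exact ⟨v, by rw [show (aO.orbitMap o).left v = u from hv]; exact hu⟩)
  haveI : QuasiCompact (aO.orbitMap o).left :=
    Groth.Agent.Helper18.GrpFppf.quasiCompact_left (aO.orbitMap o)
  -- stabilizer
  obtain ⟨N, hN, n, hnmon, hNpb⟩ := Groth.Agent.Helper18.OrbMapSmooth.exists_stabilizer aO o
  have hsq := isPullback_shear aO o n hNpb
  have hN' : IsPullback n (toUnit N) (z ≫ a.orbitMap x) x := by
    have := isPullback_comp_mono hNpb i'
    rwa [horb, ho, hf'] at this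
  have hN'' : IsPullback n.left (toUnit N).left (z.left ≫ (a.orbitMap x).left) x.left := by
    have := Groth.Agent.Helper18.GrpFppf.isPullback_left hN'
    rwa [Over.comp_left] at this
  let u : N.left ⟶ H := hH.lift (n.left ≫ z.left) (toUnit N).left (by
    rw [Category.assoc]; exact hN''.w)
  have hu1 : u ≫ h₁ = n.left ≫ z.left := hH.lift_fst _ _ _
  have hu2 : u ≫ h₂ = (toUnit N).left := hH.lift_snd _ _ _
  have hupb : IsPullback u n.left h₁ z.left := by
    apply IsPullback.of_right (h₁₂ := h₂) (h₂₂ := (a.orbitMap x).left) (v₁₃ := x.left) _ hu1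
      hH.flip
    rw [hu2]
    exact hN''.flip
  haveI : IsClosedImmersion u :=
    MorphismProperty.of_isPullback (P := @IsClosedImmersion) hupb.flip hzcl
  have hNprop : IsProper N.hom := by
    have h1 : (toUnit N).left ≫ (𝟙_ (Over (Spec (CommRingCat.of k)))).hom = N.hom :=
      Over.w (toUnit N)
    rw [← h1, ← hu2]
    haveI := hprop
    haveI : IsProper (𝟙_ (Over (Spec (CommRingCat.of k)))).hom :=
      inferInstanceAs (IsProper (𝟙 (Spec (CommRingCat.of k))))
    infer_instance
  have hfst : IsProper (fst Z N).left := by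
    rw [Over.fst_left]
    exact MorphismProperty.pullback_fst (P := @IsProper) _ _ hNprop
  haveI : MorphismProperty.DescendsAlong @IsProper
      (@Surjective ⊓ @Flat ⊓ @QuasiCompact : MorphismProperty Scheme.{u}) :=
    Groth.Agent.S0086.result
  have hq : IsProper (aO.orbitMap o).left :=
    Groth.Agent.Helper18.GrpFppf.descend @IsProper hsq hfst
  have hzf : IsProper (z.left ≫ (a.orbitMap x).left) := by
    rw [← Over.comp_left, ← hf', ← horb, Over.comp_left]
    haveI := hq
    haveI : IsProper i'.left := inferInstanceAs (IsProper i)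
    infer_instance
  haveI := isSeparated_of_field G
  haveI : IsSeparated (a.orbitMap x).left := by
    haveI : IsSeparated ((a.orbitMap x).left ≫ X.hom) := by rw [Over.w]; infer_instance
    exact IsSeparated.of_comp (a.orbitMap x).left X.hom
  haveI : LocallyOfFiniteType (a.orbitMap x).left := by
    haveI : LocallyOfFiniteType ((a.orbitMap x).left ≫ X.hom) := by rw [Over.w]; infer_instance
    exact locallyOfFiniteType_of_comp (a.orbitMap x).left X.hom
  haveI : QuasiCompact (a.orbitMap x).left :=
    Groth.Agent.Helper18.GrpFppf.quasiCompact_left (a.orbitMap x)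
  haveI : UniversallyClosed (a.orbitMap x).left := by
    haveI := hzf
    haveI : Surjective z.left := hzsurj
    exact UniversallyClosed.of_comp_surjective z.left (a.orbitMap x).left
  exact {}

end Groth.Agent.Helper18.OrbProper
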