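import Mathlib
import Groth.Agent.Lib.Helper18.OrbProper3
import Groth.Prelude.Def_W4bk4git07Quot

/-!
# `ψ_x` versus the orbit map (helper18)
-/

set_option autoImplicit false
set_option linter.style.haveILetI false
universe u
open CategoryTheory CategoryTheory.Limits MonoidalCategory CartesianMonoidalCategory MonObj GrpObj
  AlgebraicGeometry

namespace Groth.Agent.Helper18.OrbProper

theorem isPullback_of_iso_comp {C : Type*} [Category C] {P A A' B D : C} {fst : P ⟶ A}
    {snd : P ⟶ B} (e : A ⟶ A') [IsIso e] {f : A' ⟶ D} {g : B ⟶ D}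
    (h : IsPullback fst snd (e ≫ f) g) : IsPullback (fst ≫ e) snd f g := by
  refine ⟨⟨by rw [Category.assoc]; exact h.w⟩,
    ⟨PullbackCone.IsLimit.mk _
      (fun s => h.lift (s.fst ≫ inv e) s.snd (by
        rw [Category.assoc, IsIso.inv_hom_id_assoc]; exact s.condition))
      (fun s => by rw [← Category.assoc, h.lift_fst, Category.assoc, IsIso.inv_hom_id,
        Category.comp_id])
      (fun s => h.lift_snd _ _ _)
      (fun s m h1 h2 => h.hom_ext
        (by rw [h.lift_fst, ← h1, Category.assoc, Category.assoc, IsIso.hom_inv_id,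
          Category.comp_id])
        (by rw [h2, h.lift_snd]))⟩⟩

variable {S : Scheme.{u}} {G X : Over S} [GrpObj G] (a : AlgGrp.Action G X)
  (x : 𝟙_ (Over S) ⟶ X)

instance isIso_fst_unit (Y : Over S) : IsIso (fst Y (𝟙_ (Over S))) :=
  ⟨lift (𝟙 Y) (toUnit Y), by
    apply CartesianMonoidalCategory.hom_ext
    · simp
    · exact toUnit_unique _ _, by simp⟩

theorem psi_fst : GIT.psi a x ≫ fst X (𝟙_ (Over S)) = fst G (𝟙_ (Over S)) ≫ a.orbitMap x := by
  unfold GIT.psi
  rw [lift_fst, Groth.Agent.Helper18.GrpFppf.comp_orbitMap]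
  congr 1
  apply CartesianMonoidalCategory.hom_ext
  · simp
  · rw [lift_snd, whiskerLeft_snd]
    congr 1
    exact toUnit_unique _ _

theorem pt_fst : lift x (𝟙 (𝟙_ (Over S))) ≫ fst X (𝟙_ (Over S)) = x := lift_fst _ _

theorem psi_left_fst : (GIT.psi a x).left ≫ (fst X (𝟙_ (Over S))).left =
    (fst G (𝟙_ (Over S))).left ≫ (a.orbitMap x).left := by
  rw [← Over.comp_left, psi_fst, Over.comp_left]

instance isIso_fst_unit_left (Y : Over S) : IsIso (fst Y (𝟙_ (Over S))).left :=
  inferInstanceAs (IsIso ((Over.forget S).map (fst Y (𝟙_ (Over S)))))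

/-- the stabilizer in terms of the orbit map -/
theorem isPullback_stab :
    IsPullback
      (pullback.fst (GIT.psi a x).left (lift x (𝟙 (𝟙_ (Over S)))).left ≫
        (fst G (𝟙_ (Over S))).left)
      (pullback.snd (GIT.psi a x).left (lift x (𝟙 (𝟙_ (Over S)))).left)
      (a.orbitMap x).left x.left := by
  have h0 := IsPullback.of_hasPullback (GIT.psi a x).left (lift x (𝟙 (𝟙_ (Over S)))).left
  have h1 := isPullback_comp_mono h0 (fst X (𝟙_ (Over S))).left
  have e1 : (lift x (𝟙 (𝟙_ (Over S)))).left ≫ (fst X (𝟙_ (Over S))).left = x.left := by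
    rw [← Over.comp_left, pt_fst]
  rw [psi_left_fst, e1] at h1
  exact isPullback_of_iso_comp _ h1

theorem range_orbitMap :
    Set.range (a.orbitMap x).left.base =
      (fst X (𝟙_ (Over S))).left.base '' Set.range (GIT.psi a x).left.base := by
  rw [← Set.range_comp, ← TopCat.coe_comp, ← Scheme.Hom.comp_base, psi_left_fst,
    Scheme.Hom.comp_base, TopCat.coe_comp, Set.range_comp]
  have : Function.Surjective (fst G (𝟙_ (Over S))).left.base :=
    (fst G (𝟙_ (Over S))).left.homeomorph.surjective
  rw [Set.range_eq_univ.mpr this, Set.image_univ]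

theorem isProper_psi_of_orbitMap (h : IsProper (a.orbitMap x).left) :
    IsProper (GIT.psi a x).left := by
  have e : (GIT.psi a x).left = ((fst G (𝟙_ (Over S))).left ≫ (a.orbitMap x).left) ≫
      inv (fst X (𝟙_ (Over S))).left := by
    rw [← psi_left_fst, Category.assoc, IsIso.hom_inv_id, Category.comp_id]
  rw [e]
  infer_instance

end Groth.Agent.Helper18.OrbProper
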