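import Groth.Agent.Lib.Helper18.OrbitMin
import Groth.Agent.Lib.Helper18.DimFG

/-!
# Dimension of orbits: a boundary orbit has infinite stabilizer (helper18)
-/

open TensorProduct

set_option linter.unusedSectionVars false
set_option autoImplicit false

namespace Groth.Agent.Helper18.OrbitDim

open Groth.Agent.Helper29.H12Copy Groth.Agent.Helper29.Reynolds Groth.Agent.Helper29.GLinOrbit
open Groth.Agent.Helper18.OrbitMin

universe u

section CommAlg

/-- Pulling back a prime along a surjection whose kernel lies in no minimal prime raises the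
height by at least one. -/
theorem height_add_one_le_height_comap {B B' : Type*} [CommRing B] [CommRing B']
    [IsNoetherianRing B'] (f : B →+* B') (hf : Function.Surjective f)
    (hmin : ∀ Q ∈ minimalPrimes B, ¬ RingHom.ker f ≤ Q) (P' : Ideal B') [P'.IsPrime] :
    P'.height + 1 ≤ (P'.comap f).height := by
  obtain ⟨l, hl, hlen⟩ := P'.exists_ltSeries_length_eq_height
  let l' : LTSeries (PrimeSpectrum B) :=
    l.map (PrimeSpectrum.comap f) (RingHom.strictMono_comap_of_surjective hf)
  have hker : RingHom.ker f ≤ l'.head.asIdeal := by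
    intro x hx
    show x ∈ (RelSeries.head (l.map (PrimeSpectrum.comap f) _)).asIdeal
    rw [LTSeries.head_map]
    show f x ∈ (RelSeries.head l).asIdeal
    rw [RingHom.mem_ker.1 hx]
    exact zero_mem _
  obtain ⟨Q, hQ, hQle⟩ := Ideal.exists_minimalPrimes_le (I := ⊥) (J := l'.head.asIdeal) bot_le
  have hQprime : Q.IsPrime := hQ.1.1
  have hlt : (⟨Q, hQprime⟩ : PrimeSpectrum B) < l'.head := by
    refine lt_of_le_of_ne hQle ?_
    intro heq
    apply hmin Q hQ
    have : Q = l'.head.asIdeal := congrArg PrimeSpectrum.asIdeal heq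
    rw [this]
    exact hker
  let l'' : LTSeries (PrimeSpectrum B) := RelSeries.cons l' ⟨Q, hQprime⟩ hlt
  have h1 : (l''.length : ℕ∞) ≤ Order.height (RelSeries.last l'') := Order.length_le_height_last
  have hlast : RelSeries.last l'' = ⟨P'.comap f, inferInstance⟩ := by
    show RelSeries.last (RelSeries.cons l' _ _) = _
    rw [RelSeries.last_cons]
    show RelSeries.last (l.map (PrimeSpectrum.comap f) _) = _
    rw [LTSeries.last_map, hl]
    rfl
  rw [hlast, ← PrimeSpectrum.height_eq_orderHeight] at h1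
  have hlen'' : l''.length = l.length + 1 := by
    show (RelSeries.cons l' _ _).length = _
    rw [RelSeries.cons_length]
    rfl
  rw [hlen''] at h1
  rw [← hlen]
  exact_mod_cast h1

/-- If `n` is a minimal prime over the extension of `P`, then `ht n ≤ ht P`. -/
theorem height_le_of_mem_minimalPrimes_map {B A : Type*} [CommRing B] [CommRing A]
    [IsNoetherianRing B] [IsNoetherianRing A] [Algebra B A] (P : Ideal B) [P.IsPrime]
    (n : Ideal A) [n.IsPrime]
    [n.LiesOver P] (hmin : n ∈ (P.map (algebraMap B A)).minimalPrimes) :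
    n.height ≤ P.height := by
  have h := Ideal.height_le_height_add_of_liesOver P n
  have hle : P.map (algebraMap B A) ≤ n := hmin.1.2
  have hne : n.map (Ideal.Quotient.mk (P.map (algebraMap B A))) ≠ ⊤ := by
    intro htop
    have h1 := congrArg (Ideal.comap (Ideal.Quotient.mk (P.map (algebraMap B A)))) htop
    rw [Ideal.comap_map_of_surjective _ Ideal.Quotient.mk_surjective, Ideal.comap_top,
      ← RingHom.ker_eq_comap_bot, Ideal.mk_ker, sup_eq_left.2 hle] at h1
    exact (inferInstance : n.IsPrime).ne_top h1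
  haveI hprime : (n.map (Ideal.Quotient.mk (P.map (algebraMap B A)))).IsPrime :=
    Ideal.map_isPrime_of_surjective Ideal.Quotient.mk_surjective (by rwa [Ideal.mk_ker])
  have h0 : (n.map (Ideal.Quotient.mk (P.map (algebraMap B A)))).height = 0 := by
    rw [Ideal.height_eq_zero_iff]
    have := Ideal.minimalPrimes_map_of_surjective
      (f := Ideal.Quotient.mk (P.map (algebraMap B A))) Ideal.Quotient.mk_surjective
      (P.map (algebraMap B A))
    rw [Ideal.mk_ker, sup_idem, Ideal.map_quotient_self] at this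
    show _ ∈ (⊥ : Ideal _).minimalPrimes
    rw [this]
    exact ⟨n, hmin, rfl⟩
  rw [h0, add_zero] at h
  exact h

end CommAlg

section Points

variable {k : Type u} [Field k] {A : Type u} [CommRing A] [Algebra k A]

/-- Nullstellensatz without a coaction around. -/
theorem exists_point_of_ne_top' [IsAlgClosed k] [Algebra.FiniteType k A] (I : Ideal A)
    (hI : I ≠ ⊤) : ∃ z : A →ₐ[k] k, I ≤ RingHom.ker z := by
  obtain ⟨m, hm, hIm⟩ := Ideal.exists_le_maximal I hI
  let _ : Field (A ⧸ m) := Ideal.Quotient.field m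
  have hft : Algebra.FiniteType k (A ⧸ m) :=
    Algebra.FiniteType.of_surjective (Ideal.Quotient.mkₐ k m) (Ideal.Quotient.mkₐ_surjective k m)
  have hfin : Module.Finite k (A ⧸ m) := finite_of_finite_type_of_isJacobsonRing k (A ⧸ m)
  have hint : Algebra.IsIntegral k (A ⧸ m) := Algebra.IsIntegral.of_finite k (A ⧸ m)
  have hbij : Function.Bijective (algebraMap k (A ⧸ m)) :=
    IsAlgClosed.algebraMap_bijective_of_isIntegral
  let e : k ≃ₐ[k] (A ⧸ m) := AlgEquiv.ofBijective (Algebra.ofId k (A ⧸ m)) hbij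
  refine ⟨(e.symm : (A ⧸ m) →ₐ[k] k).comp (Ideal.Quotient.mkₐ k m), ?_⟩
  intro f hf
  rw [RingHom.mem_ker, AlgHom.comp_apply]
  have h0 : Ideal.Quotient.mkₐ k m f = 0 := by
    rw [Ideal.Quotient.mkₐ_eq_mk]
    exact Ideal.Quotient.eq_zero_iff_mem.2 (hIm hf)
  rw [h0, map_zero]

theorem exists_point_ker_eq' [IsAlgClosed k] [Algebra.FiniteType k A] (m : Ideal A)
    (hm : m.IsMaximal) : ∃ w : A →ₐ[k] k, RingHom.ker w = m := by
  obtain ⟨w, hw⟩ := exists_point_of_ne_top' (k := k) m hm.ne_top
  exact ⟨w, (hm.eq_of_le (RingHom.ker_ne_top _) hw).symm⟩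

/-- If only finitely many points kill `I`, every prime containing `I` is maximal. -/
theorem isMaximal_of_finite_points [IsAlgClosed k] [Algebra.FiniteType k A] (I : Ideal A)
    (hfin : {h : A →ₐ[k] k | I ≤ RingHom.ker h}.Finite) (q : Ideal A) [hq : q.IsPrime]
    (hIq : I ≤ q) : q.IsMaximal := by
  haveI : IsJacobsonRing A := isJacobsonRing_of_finiteType (A := k) (B := A)
  let Z : Set (PrimeSpectrum A) := PrimeSpectrum.zeroLocus I
  let T : Set (PrimeSpectrum A) := Z ∩ closedPoints (PrimeSpectrum A)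
  have hTfin : T.Finite := by
    refine (hfin.image (fun h : A →ₐ[k] k =>
      (⟨RingHom.ker h, RingHom.ker_isPrime h⟩ : PrimeSpectrum A))).subset ?_
    rintro M ⟨hMZ, hMcl⟩
    have hmax : M.asIdeal.IsMaximal := (PrimeSpectrum.isClosed_singleton_iff_isMaximal M).1 hMcl
    obtain ⟨w, hw⟩ := exists_point_ker_eq' (k := k) M.asIdeal hmax
    refine ⟨w, ?_, PrimeSpectrum.ext hw⟩
    show I ≤ RingHom.ker w
    rw [hw]
    exact (PrimeSpectrum.mem_zeroLocus _ _).1 hMZ
  have hTcl : IsClosed T := by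
    have : T = ⋃ t ∈ T, ({t} : Set (PrimeSpectrum A)) := by
      ext x; simp
    rw [this]
    exact hTfin.isClosed_biUnion (fun t ht => ht.2)
  have hZT : closure T = closure Z :=
    JacobsonSpace.closure_inter_closedPoints_eq_closure
      (PrimeSpectrum.isClosed_zeroLocus _).isLocallyClosed
  rw [hTcl.closure_eq, (PrimeSpectrum.isClosed_zeroLocus _).closure_eq] at hZT
  have hqZ : (⟨q, hq⟩ : PrimeSpectrum A) ∈ Z := (PrimeSpectrum.mem_zeroLocus _ _).2 hIq
  have hqT : (⟨q, hq⟩ : PrimeSpectrum A) ∈ T := by rw [hZT]; exact hqZ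
  exact (PrimeSpectrum.isClosed_singleton_iff_isMaximal _).1 hqT.2

end Points

section Orbit

variable {k : Type u} [Field k] {A : Type u} [CommRing A] [HopfAlgebra k A]
variable {R : Type u} [CommRing R] [Algebra k R] [HopfRep.Comod k A R] [GLin.IsCoactAlg k A R]

theorem actPt_inv_actPt (g : A →ₐ[k] k) (y : R →ₐ[k] k) :
    GLin.actPt k ((WithConv.toConv g)⁻¹).ofConv (GLin.actPt k g y) = y := by
  rw [show g = (WithConv.toConv g).ofConv from rfl, ← actPt_mul, mul_inv_cancel, actPt_one]

/-- translating a point does not change the kernel of its orbit map -/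
theorem ker_orbitHom_actPt (g : A →ₐ[k] k) (y : R →ₐ[k] k) :
    RingHom.ker (GLin.orbitHom k A (GLin.actPt k g y)) = RingHom.ker (GLin.orbitHom k A y) := by
  have key : ∀ (g : A →ₐ[k] k) (y : R →ₐ[k] k),
      RingHom.ker (GLin.orbitHom k A y) ≤ RingHom.ker (GLin.orbitHom k A (GLin.actPt k g y)) := by
    intro g y
    apply le_ker_orbitHom_of_isSubcomod _ (ker_orbitHom_isSubcomod y)
    intro f hf
    rw [RingHom.mem_ker] at hf ⊢
    unfold GLin.actPt
    rw [AlgHom.comp_apply, hf, map_zero]
  apply le_antisymm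
  · have h := key ((WithConv.toConv g)⁻¹).ofConv (GLin.actPt k g y)
    rwa [actPt_inv_actPt] at h
  · exact key g y

/-- A prime in the image of the orbit map of `y` cannot contain the orbit ideal of a point `x`
whose orbit ideal is strictly bigger than that of `y`. -/
theorem not_le_of_mem_range [IsAlgClosed k] [Algebra.FiniteType k A] [Algebra.FiniteType k R]
    (x y : R →ₐ[k] k)
    (hle : RingHom.ker (GLin.orbitHom k A y) ≤ RingHom.ker (GLin.orbitHom k A x))
    (hne : RingHom.ker (GLin.orbitHom k A y) ≠ RingHom.ker (GLin.orbitHom k A x))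
    (Q : PrimeSpectrum R)
    (hQ : Q ∈ Set.range (PrimeSpectrum.comap (GLin.orbitHom k A y).toRingHom)) :
    ¬ RingHom.ker (GLin.orbitHom k A x) ≤ Q.asIdeal := by
  intro hxQ
  haveI : IsJacobsonRing R := isJacobsonRing_of_finiteType (A := k) (B := R)
  let Cy : Set (PrimeSpectrum R) := Set.range (PrimeSpectrum.comap (GLin.orbitHom k A y).toRingHom)
  have hE : Topology.IsConstructible Cy :=
    PrimeSpectrum.isConstructible_range_comap (finitePresentation_orbitHom y)
  have hY : IsIrreducible (closure ({Q} : Set (PrimeSpectrum R))) :=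
    isIrreducible_singleton.closure
  have hd : closure ({Q} : Set (PrimeSpectrum R)) ⊆
      closure (Cy ∩ closure ({Q} : Set (PrimeSpectrum R))) := by
    apply closure_mono
    rintro _ rfl
    exact ⟨hQ, subset_closure rfl⟩
  obtain ⟨U, hU, hne', hsub⟩ := Groth.Agent.Helper4.Constr.sub_of_subset_closure hY hE hd
  obtain ⟨w, ⟨hwUY, hwcl⟩⟩ := nonempty_inter_closedPoints hne'
    (hU.isLocallyClosed.inter isClosed_closure.isLocallyClosed)
  have hwmax : w.asIdeal.IsMaximal := (PrimeSpectrum.isClosed_singleton_iff_isMaximal w).1 hwcl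
  obtain ⟨w', hw'⟩ := exists_point_ker_eq (k := k) w.asIdeal hwmax
  obtain ⟨p₁, hp₁⟩ := hsub hwUY
  obtain ⟨g, hg⟩ := exists_actPt_of_mem_range y w' p₁
    ((congrArg PrimeSpectrum.asIdeal hp₁).trans hw'.symm)
  -- `Q ≤ ker w'`
  have hQw : Q.asIdeal ≤ RingHom.ker w' := by
    rw [hw']
    have h1 : w ∈ closure ({Q} : Set (PrimeSpectrum R)) := hwUY.2
    rw [PrimeSpectrum.closure_singleton, PrimeSpectrum.mem_zeroLocus] at h1
    exact h1
  have h1 : RingHom.ker (GLin.orbitHom k A x) ≤ RingHom.ker (GLin.orbitHom k A w') :=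
    le_ker_orbitHom_of_isSubcomod _ (ker_orbitHom_isSubcomod x) w' (hxQ.trans hQw)
  rw [hg, ker_orbitHom_actPt] at h1
  exact hne (le_antisymm hle h1)

/-- **Boundary orbits have infinite stabilizers**: if the orbit ideal of `x` strictly contains
that of `y` (the orbit of `x` lies in the closure of the orbit of `y` but not in the orbit), then
the stabilizer of `x` is infinite. -/
theorem not_finite_stabilizer_of_lt [IsAlgClosed k] [Algebra.FiniteType k A]
    [Algebra.FiniteType k R] (x y : R →ₐ[k] k)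
    (hle : RingHom.ker (GLin.orbitHom k A y) ≤ RingHom.ker (GLin.orbitHom k A x))
    (hne : RingHom.ker (GLin.orbitHom k A y) ≠ RingHom.ker (GLin.orbitHom k A x)) :
    ¬ {g : A →ₐ[k] k | GLin.actPt k g x = x}.Finite := by
  classical
  intro hfin
  haveI : Algebra.FiniteType k (R ⧸ RingHom.ker (GLin.orbitHom k A y)) :=
    .of_surjective (Ideal.Quotient.mkₐ k _) (Ideal.Quotient.mkₐ_surjective k _)
  haveI : Algebra.FiniteType k (R ⧸ RingHom.ker (GLin.orbitHom k A x)) :=
    .of_surjective (Ideal.Quotient.mkₐ k _) (Ideal.Quotient.mkₐ_surjective k _)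
  haveI : IsNoetherianRing (R ⧸ RingHom.ker (GLin.orbitHom k A x)) :=
    Algebra.FiniteType.isNoetherianRing k _
  haveI : IsNoetherianRing A := Algebra.FiniteType.isNoetherianRing k A
  let φy : (R ⧸ RingHom.ker (GLin.orbitHom k A y)) →ₐ[k] A :=
    Ideal.kerLiftAlg (GLin.orbitHom k A y)
  let φx : (R ⧸ RingHom.ker (GLin.orbitHom k A x)) →ₐ[k] A :=
    Ideal.kerLiftAlg (GLin.orbitHom k A x)
  have hdimBA : ringKrullDim (R ⧸ RingHom.ker (GLin.orbitHom k A y)) ≤ ringKrullDim A :=
    DimFG.ringKrullDim_le_of_injective _ A φy (Ideal.kerLiftAlg_injective _)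
  let f : (R ⧸ RingHom.ker (GLin.orbitHom k A y)) →+* (R ⧸ RingHom.ker (GLin.orbitHom k A x)) :=
    Ideal.Quotient.factor hle
  have hfsurj : Function.Surjective f := Ideal.Quotient.factor_surjective hle
  have hmin : ∀ Q ∈ minimalPrimes (R ⧸ RingHom.ker (GLin.orbitHom k A y)),
      ¬ RingHom.ker f ≤ Q := by
    intro Q hQ hker
    haveI hQprime : Q.IsPrime := hQ.1.1
    obtain ⟨q, hq, hqQ⟩ := Ideal.exists_comap_eq_of_mem_minimalPrimes_of_injective
      (f := φy.toRingHom) (Ideal.kerLiftAlg_injective _) Q hQ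
    let QR : PrimeSpectrum R :=
      ⟨Q.comap (Ideal.Quotient.mk (RingHom.ker (GLin.orbitHom k A y))), inferInstance⟩
    have hQR : QR ∈ Set.range (PrimeSpectrum.comap (GLin.orbitHom k A y).toRingHom) := by
      refine ⟨⟨q, hq⟩, PrimeSpectrum.ext ?_⟩
      show q.comap (GLin.orbitHom k A y).toRingHom =
        Q.comap (Ideal.Quotient.mk (RingHom.ker (GLin.orbitHom k A y)))
      rw [← hqQ]
      ext a
      simp only [Ideal.mem_comap]
      rfl
    apply not_le_of_mem_range x y hle hne QR hQR
    intro a ha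
    show Ideal.Quotient.mk (RingHom.ker (GLin.orbitHom k A y)) a ∈ Q
    apply hker
    rw [RingHom.mem_ker, Ideal.Quotient.factor_mk]
    exact Ideal.Quotient.eq_zero_iff_mem.2 ha
  -- a maximal ideal of `A` of maximal height
  haveI : Nontrivial A := (Bialgebra.counitAlgHom k A).toRingHom.domain_nontrivial
  have hAtop : ringKrullDim A ≠ ⊤ := DimFG.ringKrullDim_ne_top (k := k) A
  haveI : FiniteRingKrullDim A := by
    rw [finiteRingKrullDim_iff_ne_bot_and_top]
    refine ⟨?_, hAtop⟩
    intro hbot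
    have := ringKrullDim_nonneg_of_nontrivial (R := A)
    rw [hbot] at this
    exact absurd this (by simp)
  obtain ⟨n, hnmax, hnht⟩ := Ideal.exists_isMaximal_height (R := A)
  obtain ⟨g, hg⟩ := exists_point_ker_eq' (k := k) n hnmax
  let w : R →ₐ[k] k := GLin.actPt k g x
  have hKw : ∀ a ∈ RingHom.ker (GLin.orbitHom k A x), w a = 0 := by
    intro a ha
    show (g.comp (GLin.orbitHom k A x)) a = 0
    rw [AlgHom.comp_apply, RingHom.mem_ker.1 ha, map_zero]
  let wbar : (R ⧸ RingHom.ker (GLin.orbitHom k A x)) →ₐ[k] k :=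
    Ideal.Quotient.liftₐ _ w hKw
  have hwbar : ∀ b, wbar b = g (φx b) := by
    intro b
    obtain ⟨a, rfl⟩ := Ideal.Quotient.mk_surjective b
    rfl
  let P' : Ideal (R ⧸ RingHom.ker (GLin.orbitHom k A x)) := RingHom.ker wbar
  haveI hP'prime : P'.IsPrime := RingHom.ker_isPrime _
  letI algBA : Algebra (R ⧸ RingHom.ker (GLin.orbitHom k A x)) A := φx.toRingHom.toAlgebra
  haveI hn_prime : n.IsPrime := hnmax.isPrime
  have hcomap : n.comap (algebraMap (R ⧸ RingHom.ker (GLin.orbitHom k A x)) A) = P' := by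
    ext b
    rw [Ideal.mem_comap, ← hg, RingHom.mem_ker, RingHom.mem_ker, hwbar]
    rfl
  haveI : n.LiesOver P' := ⟨hcomap.symm⟩
  have hle' : P'.map (algebraMap (R ⧸ RingHom.ker (GLin.orbitHom k A x)) A) ≤ n := by
    rw [Ideal.map_le_iff_le_comap, hcomap]
  have hfin' : {h : A →ₐ[k] k |
      P'.map (algebraMap (R ⧸ RingHom.ker (GLin.orbitHom k A x)) A) ≤ RingHom.ker h}.Finite := by
    refine (hfin.image (fun s : A →ₐ[k] k =>
      (WithConv.toConv s * WithConv.toConv g).ofConv)).subset ?_
    intro h hh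
    have hhw : GLin.actPt k h x = w := by
      symm
      apply eq_of_ker_le
      intro a ha
      rw [RingHom.mem_ker] at ha ⊢
      show h (GLin.orbitHom k A x a) = 0
      have h1 : Ideal.Quotient.mk (RingHom.ker (GLin.orbitHom k A x)) a ∈ P' := by
        show wbar _ = 0
        exact ha
      have h2 := hh (Ideal.mem_map_of_mem
        (algebraMap (R ⧸ RingHom.ker (GLin.orbitHom k A x)) A) h1)
      exact h2
    refine ⟨(WithConv.toConv h * (WithConv.toConv g)⁻¹).ofConv, ?_, ?_⟩
    · show GLin.actPt k (WithConv.toConv h * (WithConv.toConv g)⁻¹).ofConv x = x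
      rw [actPt_mul, WithConv.ofConv_toConv, hhw]
      exact actPt_inv_actPt g x
    · show (WithConv.toConv (WithConv.toConv h * (WithConv.toConv g)⁻¹).ofConv *
        WithConv.toConv g).ofConv = h
      rw [WithConv.toConv_ofConv, inv_mul_cancel_right]
  have hminn : n ∈ (P'.map (algebraMap (R ⧸ RingHom.ker (GLin.orbitHom k A x)) A)).minimalPrimes := by
    refine ⟨⟨hn_prime, hle'⟩, ?_⟩
    rintro q ⟨hqprime, hq⟩ hqn
    haveI := hqprime
    have hqmax := isMaximal_of_finite_points (k := k) _ hfin' q hq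
    exact (hqmax.eq_of_le hn_prime.ne_top hqn).ge
  have h_iii : n.height ≤ P'.height := height_le_of_mem_minimalPrimes_map P' n hminn
  have h_ii : P'.height + 1 ≤ (P'.comap f).height :=
    height_add_one_le_height_comap f hfsurj hmin P'
  have h_i : ((P'.comap f).height : WithBot ℕ∞) ≤
      ringKrullDim (R ⧸ RingHom.ker (GLin.orbitHom k A y)) :=
    Ideal.height_le_ringKrullDim_of_ne_top (Ideal.comap_ne_top f hP'prime.ne_top)
  have h1 : n.height + 1 ≤ (P'.comap f).height := (add_le_add_left h_iii 1).trans h_ii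
  have h2 : ((n.height + 1 : ℕ∞) : WithBot ℕ∞) ≤ (n.height : WithBot ℕ∞) := by
    calc ((n.height + 1 : ℕ∞) : WithBot ℕ∞) ≤ ((P'.comap f).height : WithBot ℕ∞) :=
          WithBot.coe_le_coe.2 h1
      _ ≤ ringKrullDim (R ⧸ RingHom.ker (GLin.orbitHom k A y)) := h_i
      _ ≤ ringKrullDim A := hdimBA
      _ = n.height := hnht.symm
  have h3 : n.height + 1 ≤ n.height := WithBot.coe_le_coe.1 h2
  have hntop : n.height ≠ ⊤ := by
    intro htop
    rw [htop] at hnht
    exact hAtop hnht.symm
  exact absurd ((ENat.add_one_le_iff hntop).1 h3) (lt_irrefl _)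

/-- In the fibre of a stable point there is only its orbit. -/
theorem exists_actPt_of_same_invariants_of_stable [IsAlgClosed k] [Algebra.FiniteType k A]
    [Algebra.FiniteType k R] (hG : HopfRep.IsLinearlyReductive k A) (x z : R →ₐ[k] k)
    (hclosed : ∀ c : R →ₐ[k] k, GLin.InOrbitClosure k A x c →
      ∃ g : A →ₐ[k] k, c = GLin.actPt k g x)
    (hfin : {g : A →ₐ[k] k | GLin.actPt k g x = x}.Finite)
    (h : ∀ f ∈ GLin.invariants k A R, z f = x f) :
    ∃ g : A →ₐ[k] k, z = GLin.actPt k g x := by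
  obtain ⟨c, hxc, hzc⟩ := exists_common_point hG x z (fun f hf => (h f hf).symm)
  obtain ⟨g, hg⟩ := hclosed c hxc
  have hle : RingHom.ker (GLin.orbitHom k A z) ≤ RingHom.ker (GLin.orbitHom k A x) := by
    have h1 := le_ker_orbitHom_of_isSubcomod _ (ker_orbitHom_isSubcomod z) c hzc
    rwa [hg, ker_orbitHom_actPt] at h1
  by_cases heq : RingHom.ker (GLin.orbitHom k A z) = RingHom.ker (GLin.orbitHom k A x)
  · exact exists_actPt_of_ker_eq x z heq.symm
  · exact absurd hfin (not_finite_stabilizer_of_lt x z hle heq)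

/-- conjugating the stabilizer -/
theorem finite_stabilizer_actPt (x : R →ₐ[k] k) (g₀ : A →ₐ[k] k)
    (hfin : {g : A →ₐ[k] k | GLin.actPt k g x = x}.Finite) :
    {g : A →ₐ[k] k | GLin.actPt k g (GLin.actPt k g₀ x) = GLin.actPt k g₀ x}.Finite := by
  let c : (A →ₐ[k] k) → (A →ₐ[k] k) := fun h =>
    (WithConv.toConv g₀ * WithConv.toConv h * (WithConv.toConv g₀)⁻¹).ofConv
  have hc : Function.Injective c := by
    intro h h' hh
    have h1 : WithConv.toConv g₀ * WithConv.toConv h * (WithConv.toConv g₀)⁻¹ =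
        WithConv.toConv g₀ * WithConv.toConv h' * (WithConv.toConv g₀)⁻¹ :=
      congrArg WithConv.toConv hh
    have h2 := mul_left_cancel (mul_right_cancel h1)
    exact congrArg WithConv.ofConv h2
  refine (hfin.preimage hc.injOn).subset ?_
  intro h hh
  show GLin.actPt k (c h) x = x
  have hh' : GLin.actPt k h (GLin.actPt k g₀ x) = GLin.actPt k g₀ x := hh
  show GLin.actPt k (WithConv.toConv g₀ * WithConv.toConv h * (WithConv.toConv g₀)⁻¹).ofConv x = x
  rw [actPt_mul, actPt_mul, WithConv.ofConv_toConv, WithConv.ofConv_toConv, hh']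
  exact actPt_inv_actPt g₀ x

/-- Stability is equivalent to finiteness of all stabilizers in the fibre. -/
theorem stable_iff_forall_fibre_finite [IsAlgClosed k] [Algebra.FiniteType k A]
    [Algebra.FiniteType k R] (hG : HopfRep.IsLinearlyReductive k A) (x : R →ₐ[k] k) :
    ((∀ c : R →ₐ[k] k, GLin.InOrbitClosure k A x c → ∃ g : A →ₐ[k] k, c = GLin.actPt k g x) ∧
      {g : A →ₐ[k] k | GLin.actPt k g x = x}.Finite) ↔
    ∀ z : R →ₐ[k] k, (∀ f ∈ GLin.invariants k A R, z f = x f) →
      {g : A →ₐ[k] k | GLin.actPt k g z = z}.Finite := by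
  constructor
  · rintro ⟨hclosed, hfin⟩ z hz
    obtain ⟨g₀, rfl⟩ := exists_actPt_of_same_invariants_of_stable hG x z hclosed hfin hz
    exact finite_stabilizer_actPt x g₀ hfin
  · intro h
    refine ⟨?_, h x (fun _ _ => rfl)⟩
    intro c hc
    have hcinv : ∀ f ∈ GLin.invariants k A R, c f = x f := fun f hf =>
      eq_of_inOrbitClosure x c hc hf
    have hcfin := h c hcinv
    have hle : RingHom.ker (GLin.orbitHom k A x) ≤ RingHom.ker (GLin.orbitHom k A c) :=
      le_ker_orbitHom_of_isSubcomod _ (ker_orbitHom_isSubcomod x) c hc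
    by_cases heq : RingHom.ker (GLin.orbitHom k A x) = RingHom.ker (GLin.orbitHom k A c)
    · exact exists_actPt_of_ker_eq x c heq
    · exact absurd hcfin (not_finite_stabilizer_of_lt c x hle heq)

end Orbit

end Groth.Agent.Helper18.OrbitDim
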