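import Groth.Agent.Lib.Helper18.InvQ
import Groth.Agent.Lib.Helper4.Constr

/-!
# Orbits with the same closure coincide; existence of closed orbits (helper18)
-/

open TensorProduct

set_option linter.unusedSectionVars false
set_option autoImplicit false

namespace Groth.Agent.Helper18.OrbitMin

open Groth.Agent.Helper29.H12Copy Groth.Agent.Helper29.Reynolds Groth.Agent.Helper29.GLinOrbit

universe u

section Basic

variable {k : Type u} [Field k] {A : Type u} [CommRing A] [Bialgebra k A]
variable {R : Type u} [CommRing R] [Algebra k R] [HopfRep.Comod k A R] [GLin.IsCoactAlg k A R]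

/-- a maximal ideal of a finite type algebra over an algebraically closed field is the kernel of
a rational point -/
theorem exists_point_ker_eq [IsAlgClosed k] [Algebra.FiniteType k R] (m : Ideal R)
    (hm : m.IsMaximal) : ∃ w : R →ₐ[k] k, RingHom.ker w = m := by
  obtain ⟨w, hw⟩ := exists_point_of_ne_top (k := k) m hm.ne_top
  exact ⟨w, (hm.eq_of_le (RingHom.ker_ne_top _) hw).symm⟩

/-- a rational point whose prime lies in the image of the orbit map of `y` is in the orbit -/
theorem exists_actPt_of_mem_range [IsAlgClosed k] [Algebra.FiniteType k A]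
    (y w : R →ₐ[k] k) (q : PrimeSpectrum A)
    (hq : q.asIdeal.comap (GLin.orbitHom k A y).toRingHom = RingHom.ker w) :
    ∃ g : A →ₐ[k] k, w = GLin.actPt k g y := by
  have hI : Ideal.map (GLin.orbitHom k A y).toRingHom (RingHom.ker w) ≠ ⊤ := by
    intro htop
    have hle : Ideal.map (GLin.orbitHom k A y).toRingHom (RingHom.ker w) ≤ q.asIdeal := by
      rw [Ideal.map_le_iff_le_comap, hq]
    rw [htop] at hle
    exact q.isPrime.ne_top (top_le_iff.1 hle)
  obtain ⟨g, hg⟩ := exists_point_of_ne_top (k := k) (R := A) _ hI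
  refine ⟨g, eq_of_ker_le w _ ?_⟩
  intro f hf
  rw [RingHom.mem_ker]
  unfold GLin.actPt
  rw [AlgHom.comp_apply]
  exact hg (Ideal.mem_map_of_mem _ hf)

theorem finitePresentation_orbitHom [Algebra.FiniteType k A] [Algebra.FiniteType k R]
    (y : R →ₐ[k] k) : (GLin.orbitHom k A y).toRingHom.FinitePresentation := by
  haveI : IsNoetherianRing R := Algebra.FiniteType.isNoetherianRing k R
  rw [← RingHom.FinitePresentation.of_finiteType]
  apply RingHom.FiniteType.of_comp_finiteType (f := algebraMap k R)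
  have : (GLin.orbitHom k A y).toRingHom.comp (algebraMap k R) = algebraMap k A :=
    (GLin.orbitHom k A y).comp_algebraMap
  rw [this, RingHom.finiteType_algebraMap]
  infer_instance

/-- Two rational points whose orbit maps have the same kernel have a common translate. -/
theorem exists_common_translate [IsAlgClosed k] [Algebra.FiniteType k A] [Algebra.FiniteType k R]
    (y z : R →ₐ[k] k)
    (h : RingHom.ker (GLin.orbitHom k A y) = RingHom.ker (GLin.orbitHom k A z)) :
    ∃ (w : R →ₐ[k] k) (g g' : A →ₐ[k] k), w = GLin.actPt k g y ∧ w = GLin.actPt k g' z := by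
  classical
  haveI : IsJacobsonRing R := isJacobsonRing_of_finiteType (A := k) (B := R)
  set J : Ideal R := RingHom.ker (GLin.orbitHom k A y) with hJ
  have hJy : J ≤ RingHom.ker y := ker_orbitHom_le_ker (A := A) y
  haveI : (RingHom.ker y).IsPrime := RingHom.ker_isPrime y
  obtain ⟨P, hP, -⟩ := Ideal.exists_minimalPrimes_le hJy
  haveI hPprime : P.IsPrime := hP.1.1
  -- lift the minimal prime along both orbit maps
  have hP1 : P ∈ ((⊥ : Ideal A).comap (GLin.orbitHom k A y).toRingHom).minimalPrimes := by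
    have : (⊥ : Ideal A).comap (GLin.orbitHom k A y).toRingHom = J := rfl
    rw [this]; exact hP
  have hP2 : P ∈ ((⊥ : Ideal A).comap (GLin.orbitHom k A z).toRingHom).minimalPrimes := by
    have : (⊥ : Ideal A).comap (GLin.orbitHom k A z).toRingHom = J := by rw [h]; rfl
    rw [this]; exact hP
  obtain ⟨q₁, hq₁, -, hq₁P⟩ := Ideal.exists_comap_eq_of_mem_minimalPrimes _ P hP1
  obtain ⟨q₂, hq₂, -, hq₂P⟩ := Ideal.exists_comap_eq_of_mem_minimalPrimes _ P hP2
  let η : PrimeSpectrum R := ⟨P, hPprime⟩
  let Cy : Set (PrimeSpectrum R) := Set.range (PrimeSpectrum.comap (GLin.orbitHom k A y).toRingHom)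
  let Cz : Set (PrimeSpectrum R) := Set.range (PrimeSpectrum.comap (GLin.orbitHom k A z).toRingHom)
  have hηy : η ∈ Cy := ⟨⟨q₁, hq₁⟩, PrimeSpectrum.ext hq₁P⟩
  have hηz : η ∈ Cz := ⟨⟨q₂, hq₂⟩, PrimeSpectrum.ext hq₂P⟩
  have hE : Topology.IsConstructible (Cy ∩ Cz) :=
    (PrimeSpectrum.isConstructible_range_comap (finitePresentation_orbitHom y)).inter
      (PrimeSpectrum.isConstructible_range_comap (finitePresentation_orbitHom z))
  have hY : IsIrreducible (closure ({η} : Set (PrimeSpectrum R))) :=
    isIrreducible_singleton.closure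
  have hd : closure ({η} : Set (PrimeSpectrum R)) ⊆
      closure ((Cy ∩ Cz) ∩ closure ({η} : Set (PrimeSpectrum R))) := by
    apply closure_mono
    rintro _ rfl
    exact ⟨⟨hηy, hηz⟩, subset_closure rfl⟩
  obtain ⟨U, hU, hne, hsub⟩ := Groth.Agent.Helper4.Constr.sub_of_subset_closure hY hE hd
  obtain ⟨w, ⟨hwUY, hwcl⟩⟩ := nonempty_inter_closedPoints hne
    (hU.isLocallyClosed.inter isClosed_closure.isLocallyClosed)
  have hwmax : w.asIdeal.IsMaximal := (PrimeSpectrum.isClosed_singleton_iff_isMaximal w).1 hwcl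
  obtain ⟨w', hw'⟩ := exists_point_ker_eq (k := k) w.asIdeal hwmax
  obtain ⟨⟨p₁, hp₁⟩, ⟨p₂, hp₂⟩⟩ := hsub hwUY
  obtain ⟨g, hg⟩ := exists_actPt_of_mem_range y w' p₁
    ((congrArg PrimeSpectrum.asIdeal hp₁).trans hw'.symm)
  obtain ⟨g', hg'⟩ := exists_actPt_of_mem_range z w' p₂
    ((congrArg PrimeSpectrum.asIdeal hp₂).trans hw'.symm)
  exact ⟨w', g, g', hg, hg'⟩

end Basic

section Hopf

variable {k : Type u} [Field k] {A : Type u} [CommRing A] [HopfAlgebra k A]
variable {R : Type u} [CommRing R] [Algebra k R] [HopfRep.Comod k A R] [GLin.IsCoactAlg k A R]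

/-- Two rational points whose orbit maps have the same kernel are in the same orbit. -/
theorem exists_actPt_of_ker_eq [IsAlgClosed k] [Algebra.FiniteType k A] [Algebra.FiniteType k R]
    (y z : R →ₐ[k] k)
    (h : RingHom.ker (GLin.orbitHom k A y) = RingHom.ker (GLin.orbitHom k A z)) :
    ∃ g : A →ₐ[k] k, z = GLin.actPt k g y := by
  obtain ⟨w, g, g', hg, hg'⟩ := exists_common_translate y z h
  exact exists_actPt_eq_of_common y z w g g' hg hg'

/-- a stable ideal killed by a point is killed by its whole orbit -/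
theorem le_ker_orbitHom_of_isSubcomod (J : Ideal R)
    (hJ : HopfRep.IsSubcomod (k := k) (A := A) (J.restrictScalars k)) (y : R →ₐ[k] k)
    (hy : J ≤ RingHom.ker y) : J ≤ RingHom.ker (GLin.orbitHom k A y) := by
  intro f hf
  rw [RingHom.mem_ker, orbitHom_apply]
  have key : ∀ t : ↥(J.restrictScalars k) ⊗[k] A,
      evalL y A ((J.restrictScalars k).subtype.rTensor A t) = 0 := by
    intro t
    induction t using TensorProduct.induction_on with
    | zero => simp
    | tmul j a =>
      rw [LinearMap.rTensor_tmul, evalL_tmul]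
      have : y ((J.restrictScalars k).subtype j) = 0 := hy j.2
      rw [this, zero_smul]
    | add t s ht hs => rw [map_add, map_add, ht, hs, add_zero]
  obtain ⟨t, ht⟩ := hJ f hf
  rw [← ht]
  exact key t

/-- Existence of a closed orbit in every fibre of the quotient map, lying in the closure of
every orbit of the fibre. -/
theorem exists_closed_orbit [IsAlgClosed k] [Algebra.FiniteType k A] [Algebra.FiniteType k R]
    (hG : HopfRep.IsLinearlyReductive k A) (x : R →ₐ[k] k) :
    ∃ y : R →ₐ[k] k,
      (∀ f ∈ GLin.invariants k A R, y f = x f) ∧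
      (∀ z : R →ₐ[k] k, GLin.InOrbitClosure k A y z → ∃ g : A →ₐ[k] k, z = GLin.actPt k g y) ∧
      (∀ x' : R →ₐ[k] k, (∀ f ∈ GLin.invariants k A R, x' f = x f) →
        GLin.InOrbitClosure k A x' y) := by
  classical
  haveI : IsNoetherianRing R := Algebra.FiniteType.isNoetherianRing k R
  let S : Set (Ideal R) := {J | HopfRep.IsSubcomod (k := k) (A := A) (J.restrictScalars k) ∧
    J ≠ ⊤ ∧ ∀ f ∈ GLin.invariants k A R, f - algebraMap k R (x f) ∈ J}
  -- kernels of orbit maps of points of the fibre belong to `S`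
  have hmemS : ∀ w : R →ₐ[k] k, (∀ f ∈ GLin.invariants k A R, w f = x f) →
      RingHom.ker (GLin.orbitHom k A w) ∈ S := by
    intro w hw
    refine ⟨ker_orbitHom_isSubcomod w, ?_, ?_⟩
    · intro htop
      have h1 : (1 : R) ∈ RingHom.ker w := ker_orbitHom_le_ker (A := A) w (by rw [htop]; trivial)
      rw [RingHom.mem_ker, map_one] at h1
      exact one_ne_zero h1
    · intro f hf
      rw [RingHom.mem_ker, map_sub, orbitHom_of_mem_invariants w hf, AlgHom.commutes, hw f hf,
        sub_self]
  have hSne : S.Nonempty := ⟨_, hmemS x (fun _ _ => rfl)⟩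
  obtain ⟨J, hJS, hJmax⟩ := WellFounded.has_min (wellFounded_gt (α := Ideal R)) S hSne
  obtain ⟨hJsub, hJtop, hJinv⟩ := hJS
  have hmax : ∀ J' ∈ S, J ≤ J' → J' = J := by
    intro J' hJ' hle
    by_contra hne
    exact hJmax J' hJ' (lt_of_le_of_ne hle (Ne.symm hne))
  obtain ⟨y, hy⟩ := exists_point_of_ne_top (k := k) J hJtop
  have hyinv : ∀ f ∈ GLin.invariants k A R, y f = x f := by
    intro f hf
    have h1 := hy (hJinv f hf)
    rw [RingHom.mem_ker, map_sub, AlgHom.commutes] at h1
    simpa [sub_eq_zero] using h1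
  -- points of `V(J)` have orbit kernel `J`
  have hF1 : ∀ w : R →ₐ[k] k, J ≤ RingHom.ker w → RingHom.ker (GLin.orbitHom k A w) = J := by
    intro w hw
    have hle := le_ker_orbitHom_of_isSubcomod (A := A) J hJsub w hw
    refine hmax _ ⟨ker_orbitHom_isSubcomod w, ?_, fun f hf => hle (hJinv f hf)⟩ hle
    intro htop
    have h1 : (1 : R) ∈ RingHom.ker w := ker_orbitHom_le_ker (A := A) w (by rw [htop]; trivial)
    rw [RingHom.mem_ker, map_one] at h1
    exact one_ne_zero h1
  refine ⟨y, hyinv, ?_, ?_⟩
  · intro z hz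
    have hKy := hF1 y hy
    have hJz : J ≤ RingHom.ker z := by
      rw [← hKy]; exact hz
    exact exists_actPt_of_ker_eq y z (hKy.trans (hF1 z hJz).symm)
  · intro x' hx'
    have hK := hmemS x' hx'
    by_cases htop : RingHom.ker (GLin.orbitHom k A x') ⊔ J = ⊤
    · exfalso
      obtain ⟨f, hf, hf1, hf2⟩ := exists_invariant_of_sup_eq_top hG _ _
        (ker_orbitHom_isSubcomod x') hJsub htop
      have e1 : x' f = 0 := ker_orbitHom_le_ker (A := A) x' hf1
      have e2 : y (1 - f) = 0 := hy hf2
      rw [map_sub, map_one, hyinv f hf, ← hx' f hf, e1, sub_zero] at e2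
      exact one_ne_zero e2
    · have hsupS : RingHom.ker (GLin.orbitHom k A x') ⊔ J ∈ S := by
        refine ⟨?_, htop, fun f hf => Ideal.mem_sup_right (hJinv f hf)⟩
        rw [Submodule.restrictScalars_sup]
        exact isSubcomod_sup (ker_orbitHom_isSubcomod x') hJsub
      have heq := hmax _ hsupS le_sup_right
      intro f hf
      exact hy (heq ▸ Ideal.mem_sup_left hf)

end Hopf

end Groth.Agent.Helper18.OrbitMin
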