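import Mathlib

/-!
# The p-rank is invariant under surjections with finite kernel (helper18)
-/

set_option autoImplicit false
set_option linter.style.haveILetI false
universe u v

namespace Groth.Agent.Helper18.PRankGrp

variable {A : Type u} {B : Type v} [CommGroup A] [CommGroup B]

/-- the `n`-torsion subgroup -/
abbrev tors (A : Type*) [CommGroup A] (n : ℕ) : Subgroup A := (powMonoidHom n : A →* A).ker

theorem mem_tors {n : ℕ} (a : A) : a ∈ tors A n ↔ a ^ n = 1 := Iff.rfl

theorem card_tors_of_equiv {p m i : ℕ} [Fact p.Prime]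
    (e : tors A (p ^ m) ≃* Multiplicative (Fin i → ZMod (p ^ m))) :
    Nat.card (tors A (p ^ m)) = p ^ (m * i) := by
  haveI : NeZero (p ^ m) := ⟨pow_ne_zero _ (Fact.out : p.Prime).ne_zero⟩
  rw [Nat.card_congr e.toEquiv]
  change Nat.card (Fin i → ZMod (p ^ m)) = _
  rw [Nat.card_eq_fintype_card, Fintype.card_fun, ZMod.card, Fintype.card_fin, ← pow_mul]

theorem finite_tors_of_equiv {p m i : ℕ} [Fact p.Prime]
    (e : tors A (p ^ m) ≃* Multiplicative (Fin i → ZMod (p ^ m))) :
    Finite (tors A (p ^ m)) := by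
  haveI : NeZero (p ^ m) := ⟨pow_ne_zero _ (Fact.out : p.Prime).ne_zero⟩
  haveI : Finite (Multiplicative (Fin i → ZMod (p ^ m))) :=
    inferInstanceAs (Finite (Fin i → ZMod (p ^ m)))
  exact Finite.of_equiv _ e.symm.toEquiv

theorem main (φ : A →* B) (hs : Function.Surjective φ) (hk : Finite φ.ker) (p : ℕ) [Fact p.Prime]
    (i j : ℕ)
    (hi : ∀ m : ℕ, Nonempty (tors A (p ^ m) ≃* Multiplicative (Fin i → ZMod (p ^ m))))
    (hj : ∀ m : ℕ, Nonempty (tors B (p ^ m) ≃* Multiplicative (Fin j → ZMod (p ^ m)))) :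
    i = j := by
  have hp : p.Prime := Fact.out
  have hp1 : 1 < p := hp.one_lt
  set c := Nat.card φ.ker with hc
  have hcpos : 0 < c := Nat.card_pos
  have hcA : ∀ m, Nat.card (tors A (p ^ m)) = p ^ (m * i) := fun m =>
    card_tors_of_equiv (hi m).some
  have hcB : ∀ m, Nat.card (tors B (p ^ m)) = p ^ (m * j) := fun m =>
    card_tors_of_equiv (hj m).some
  have hfA : ∀ m, Finite (tors A (p ^ m)) := fun m => finite_tors_of_equiv (hi m).some
  have hfB : ∀ m, Finite (tors B (p ^ m)) := fun m => finite_tors_of_equiv (hj m).some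
  -- Claim 1: p^(m i) ≤ c * p^(m j)
  have h1 : ∀ m, p ^ (m * i) ≤ c * p ^ (m * j) := by
    intro m
    haveI := hfA m
    haveI := hfB m
    -- restriction of φ
    let f : tors A (p ^ m) →* tors B (p ^ m) :=
      { toFun := fun a => ⟨φ a.1, by
          rw [mem_tors, ← map_pow, (mem_tors a.1).mp a.2, map_one]⟩
        map_one' := Subtype.ext (map_one φ)
        map_mul' := fun a b => Subtype.ext (map_mul φ a.1 b.1) }
    have hcard : Nat.card (tors A (p ^ m)) = Nat.card f.ker * Nat.card f.range := by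
      rw [← Subgroup.index_ker f, Subgroup.card_mul_index]
    have hker : Nat.card f.ker ≤ c := by
      refine Nat.card_le_card_of_injective (fun x : f.ker => (⟨x.1.1, ?_⟩ : φ.ker)) ?_
      · have := x.2
        rw [MonoidHom.mem_ker] at this ⊢
        exact congrArg Subtype.val this
      · intro x y hxy
        apply Subtype.ext
        apply Subtype.ext
        exact congrArg (fun z : φ.ker => z.1) hxy
    have hrange : Nat.card f.range ≤ Nat.card (tors B (p ^ m)) :=
      Nat.card_le_card_of_injective (fun x : f.range => x.1) Subtype.val_injective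
    rw [← hcA m, hcard, ← hcB m]
    exact Nat.mul_le_mul hker hrange
  -- decomposition of c
  obtain ⟨r, c', hc'dvd, hcc'⟩ := Nat.exists_eq_pow_mul_and_not_dvd hcpos.ne' p hp.ne_one
  have hcop : Nat.Coprime c' p := (Nat.Coprime.symm ((Nat.Prime.coprime_iff_not_dvd hp).mpr hc'dvd))
  -- Claim 2: p^(m j) ≤ p^((m + r) i)
  have h2 : ∀ m, p ^ (m * j) ≤ p ^ ((m + r) * i) := by
    intro m
    haveI := hfA (m + r)
    haveI := hfB m
    choose g hg using hs
    have hmem : ∀ b : tors B (p ^ m), (g b.1) ^ c' ∈ tors A (p ^ (m + r)) := by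
      intro b
      rw [mem_tors, ← pow_mul]
      have hN : (g b.1) ^ (p ^ m) ∈ φ.ker := by
        rw [MonoidHom.mem_ker, map_pow, hg]
        exact (mem_tors b.1).mp b.2
      have hNc : ((g b.1) ^ (p ^ m)) ^ c = 1 := by
        have := pow_card_eq_one' (G := φ.ker) (x := ⟨_, hN⟩)
        exact congrArg Subtype.val this
      rw [← pow_mul] at hNc
      have e : c' * p ^ (m + r) = p ^ m * c := by
        rw [hcc', pow_add]; ring
      rw [e]
      exact hNc
    rw [← hcA (m + r), ← hcB m]
    refine Nat.card_le_card_of_injective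
      (fun b : tors B (p ^ m) => (⟨(g b.1) ^ c', hmem b⟩ : tors A (p ^ (m + r)))) ?_
    intro b b' hbb'
    have h3 : (g b.1) ^ c' = (g b'.1) ^ c' := congrArg Subtype.val hbb'
    have h4 : b.1 ^ c' = b'.1 ^ c' := by
      have := congrArg φ h3
      rwa [map_pow, map_pow, hg, hg] at this
    set d := b.1 * b'.1⁻¹ with hd
    have hd1 : d ^ c' = 1 := by
      rw [hd, mul_pow, inv_pow, h4, mul_inv_cancel]
    have hd2 : d ^ (p ^ m) = 1 := by
      rw [hd, mul_pow, inv_pow, (mem_tors b.1).mp b.2, (mem_tors b'.1).mp b'.2, inv_one, mul_one]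
    have ho : orderOf d ∣ Nat.gcd c' (p ^ m) :=
      Nat.dvd_gcd (orderOf_dvd_of_pow_eq_one hd1) (orderOf_dvd_of_pow_eq_one hd2)
    have hg1 : Nat.gcd c' (p ^ m) = 1 := Nat.Coprime.pow_right m hcop
    rw [hg1, Nat.dvd_one, orderOf_eq_one_iff] at ho
    apply Subtype.ext
    exact mul_inv_eq_one.mp ho
  -- conclude
  apply le_antisymm
  · by_contra hlt
    rw [not_le] at hlt
    have h5 := h1 c
    have h6 : p ^ (c * (j + 1)) ≤ p ^ (c * i) :=
      Nat.pow_le_pow_right hp.pos (Nat.mul_le_mul_left c hlt)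
    have h7 : p ^ (c * (j + 1)) = p ^ c * p ^ (c * j) := by
      rw [← pow_add]; congr 1; ring
    have h8 : p ^ c * p ^ (c * j) ≤ c * p ^ (c * j) := by
      rw [← h7]; exact h6.trans h5
    have h9 : p ^ c ≤ c := Nat.le_of_mul_le_mul_right h8 (pow_pos hp.pos _)
    exact absurd h9 (not_le.mpr (Nat.lt_pow_self hp1))
  · by_contra hlt
    rw [not_le] at hlt
    have h5 := (Nat.pow_le_pow_iff_right hp1).mp (h2 (r * i + 1))
    have h6 : (r * i + 1) * (i + 1) ≤ (r * i + 1) * j := Nat.mul_le_mul_left _ hlt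
    nlinarith [h5, h6]

end Groth.Agent.Helper18.PRankGrp
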