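import Mathlib
import Groth.Agent.Lib.Helper18.ProjQPre
import Groth.Agent.Lib.Helper18.AwayBC
import Groth.Agent.Lib.Helper12.RelProjGlue

set_option autoImplicit false
universe u
open CategoryTheory CategoryTheory.Limits AlgebraicGeometry TopologicalSpace Opposite
open HomogeneousLocalization
open scoped HomogeneousIdeal

/-!
# `Proj(u)` for `𝒮' = ψ^*𝒮`: everywhere defined, and `Proj(𝒮') = Proj(𝒮) ×_Y Y'`
-/

noncomputable section

namespace Groth.Agent.Helper18.ProjQBC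

open Groth.Agent.Helper18.ProjQ

section BC

variable {Y Y' P P' : Scheme.{u}} {g : Y' ⟶ Y} {𝒮 : RelProj.QCGrAlg Y} {𝒮' : RelProj.QCGrAlg Y'}
  (u : RelProj.QGrHom g 𝒮 𝒮') (hu : RelSpec.IsQBaseChange u.toQHom)
  {p : P ⟶ Y} {chart : ∀ (U : Y.Opens) (hU : IsAffineOpen U),
    (((p ⁻¹ᵁ U : P.Opens) : Scheme.{u}) ≅ Proj (𝒮.deg U hU))}
  (hP : RelProj.IsRelProj 𝒮 p chart)
  {p' : P' ⟶ Y'} {chart' : ∀ (U : Y'.Opens) (hU : IsAffineOpen U),
    (((p' ⁻¹ᵁ U : P'.Opens) : Scheme.{u}) ≅ Proj (𝒮'.deg U hU))}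
  (hP' : RelProj.IsRelProj 𝒮' p' chart')

include hu in
theorem domOpen_eq_top (U : Y.Opens) (hU : IsAffineOpen U) (U' : Y'.Opens) (hU' : IsAffineOpen U')
    (hle : U' ≤ g ⁻¹ᵁ U) : RelCone.domOpen (u.gradedAt U hU U' hU' hle) = ⊤ := by
  rw [eq_top_iff]
  intro y _
  have hy : y ∈ (⨆ s : (Σ i : ℕ+, 𝒮'.deg U' hU' i),
      Proj.basicOpen (𝒮'.deg U' hU') (s.2 : 𝒮'.presheaf.obj (op U'))) := by
    rw [iSup_basicOpen_eq_top]; trivial
  obtain ⟨⟨i, b⟩, hyb⟩ := Opens.mem_iSup.mp hy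
  have hb : (b : 𝒮'.presheaf.obj (op U')) ∉ y.asHomogeneousIdeal.toIdeal :=
    (Proj.mem_basicOpen _ _ y).mp hyb
  obtain ⟨s, hs, hsy⟩ := AwayBC.exists_not_mem_of_isPushout (g.appLE U U' hle)
    (𝒮.str.app (op U)) (𝒮'.str.app (op U')) (u.appLE U U' hle) (hu U hU U' hU' hle)
    (𝒮.deg U hU) (𝒮'.deg U' hU') (u.gradedAt U hU U' hU' hle) (fun _ => rfl)
    (𝒮.str_mem U hU) (𝒮'.str_mem U' hU') y.asHomogeneousIdeal.toIdeal b.2 hb
  exact mem_domOpen_of_mem_basicOpen _ y i.pos s hs ((Proj.mem_basicOpen _ _ y).mpr hsy)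

include hu in
theorem domQ_eq_top : RelProj.domQ u p' chart' = ⊤ := by
  rw [eq_top_iff]
  intro x _
  obtain ⟨U, hU0, hxU, -⟩ := Opens.isBasis_iff_nbhd.mp (Y.isBasis_affineOpens)
    (show g.base (p'.base x) ∈ (⊤ : Y.Opens) from trivial)
  have hU : IsAffineOpen U := hU0
  obtain ⟨U', hU0', hxU', hle⟩ := Opens.isBasis_iff_nbhd.mp (Y'.isBasis_affineOpens)
    (show p'.base x ∈ g ⁻¹ᵁ U from hxU)
  have hU' : IsAffineOpen U' := hU0'
  have hx' : x ∈ (RelProj.emb p' chart' U' hU').opensRange := by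
    rw [opensRange_emb]; exact hxU'
  obtain ⟨y, hy⟩ := hx'
  unfold RelProj.domQ
  rw [TopologicalSpace.Opens.mem_iSup]
  refine ⟨⟨(⟨U, hU⟩, ⟨U', hU'⟩), hle⟩, y, ?_, hy⟩
  dsimp only
  rw [domOpen_eq_top u hu U hU U' hU' hle]
  trivial


include hu hP hP' in
theorem exists_isProjQMap : ∃ h : P' ⟶ P, RelProj.IsProjQMap u p chart p' chart' h := by
  have e := domQ_eq_top u hu (p' := p') (chart' := chart')
  obtain ⟨w, hw⟩ := exists_projQMapOn (u := u) hP hP'
  have : IsIso (RelProj.domQ u p' chart').ι := by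
    rw [e]; exact (Scheme.topIso P').isIso_hom
  refine ⟨inv (RelProj.domQ u p' chart').ι ≫ w, e, ?_⟩
  intro U hU U' hU' hle d hd f hf
  have h1 := hw ⟨U, hU, U', hU', hle, d, hd, f, hf⟩
  have h2 : RelProj.awayEmb u p' chart' U hU U' hU' hle hd f hf = _ :=
    (QIdx.k'_ι (u := u) (p' := p') (chart' := chart') ⟨U, hU, U', hU', hle, d, hd, f, hf⟩).symm
  refine Eq.trans ?_ h1
  rw [h2, Category.assoc, IsIso.hom_inv_id_assoc]

theorem isProjQMapOn_of_isProjQMap (h : P' ⟶ P) (hh : RelProj.IsProjQMap u p chart p' chart' h) :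
    RelProj.IsProjQMapOn u p chart p' chart' (RelProj.domQ u p' chart')
      ((RelProj.domQ u p' chart').ι ≫ h) := by
  intro U hU U' hU' hle d hd f hf hW
  rw [← Category.assoc, IsOpenImmersion.lift_fac]
  exact hh.2 U hU U' hU' hle d hd f hf

include hP hP' in
theorem comp_p (h : P' ⟶ P) (hh : RelProj.IsProjQMap u p chart p' chart' h) :
    h ≫ p = p' ≫ g := by
  have : IsIso (RelProj.domQ u p' chart').ι := by
    rw [hh.1]; exact (Scheme.topIso P').isIso_hom
  rw [← cancel_epi (RelProj.domQ u p' chart').ι, ← Category.assoc]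
  exact projQMapOn_comp_p hP hP' _ (isProjQMapOn_of_isProjQMap u h hh)


/-- the structure map `Γ(Y, U) → 𝒮(U)_(f)` -/
abbrev αf (i : QIdx g 𝒮) :
    Γ(Y, i.U) ⟶ CommRingCat.of (Away (𝒮.deg i.U i.hU) i.f) :=
  CommRingCat.ofHom (AwayBC.toAwayHom (𝒮.str.app (op i.U)).hom (𝒮.deg i.U i.hU)
    (𝒮.str_mem i.U i.hU) i.f)

/-- the structure map `Γ(Y', U') → 𝒮'(U')_(u f)` -/
abbrev αf' (i : QIdx g 𝒮) :
    Γ(Y', i.U') ⟶ CommRingCat.of (Away (𝒮'.deg i.U' i.hU') (i.ψ u i.f)) :=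
  CommRingCat.ofHom (AwayBC.toAwayHom (𝒮'.str.app (op i.U')).hom (𝒮'.deg i.U' i.hU')
    (𝒮'.str_mem i.U' i.hU') (i.ψ u i.f))

/-- the standard chart of `P` -/
abbrev i₁ (p : P ⟶ Y) (chart : ∀ (U : Y.Opens) (hU : IsAffineOpen U),
    (((p ⁻¹ᵁ U : P.Opens) : Scheme.{u}) ≅ Proj (𝒮.deg U hU))) (i : QIdx g 𝒮) :
    Spec (CommRingCat.of (Away (𝒮.deg i.U i.hU) i.f)) ⟶ P :=
  Proj.awayι (𝒮.deg i.U i.hU) i.f i.hf i.hd ≫ RelProj.emb p chart i.U i.hU

include hP in
theorem e₁ (i : QIdx g 𝒮) :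
    Spec.map (αf (g := g) i) ≫ i.hU.fromSpec = i₁ p chart i ≫ p := by
  rw [Category.assoc, emb_comp hP i.U i.hU, Proj.awayι_toSpecZero_assoc, ← Spec.map_comp_assoc]
  rfl

theorem e₂ (i : QIdx g 𝒮) :
    Spec.map (g.appLE i.U i.U' i.hle) ≫ i.hU.fromSpec = i.hU'.fromSpec ≫ g :=
  IsAffineOpen.SpecMap_appLE_fromSpec g i.hU i.hU' i.hle

include hP' in
theorem e₁' (i : QIdx g 𝒮) :
    Spec.map (αf' u i) ≫ i.hU'.fromSpec = i.k u p' chart' ≫ p' := by
  change _ = (Proj.awayι _ _ _ _ ≫ RelProj.emb p' chart' i.U' i.hU') ≫ p'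
  rw [Category.assoc, emb_comp hP' i.U' i.hU', Proj.awayι_toSpecZero_assoc,
    ← Spec.map_comp_assoc]
  rfl

include hu in
theorem isPushout_idx (i : QIdx g 𝒮) :
    IsPushout (αf (g := g) i) (g.appLE i.U i.U' i.hle)
      (CommRingCat.ofHom (Away.map (i.ψ u) i.f)) (αf' u i) :=
  AwayBC.isPushout_away (g.appLE i.U i.U' i.hle)
    (𝒮.str.app (op i.U)) (𝒮'.str.app (op i.U')) (u.appLE i.U i.U' i.hle)
    (hu i.U i.hU i.U' i.hU' i.hle)
    (𝒮.deg i.U i.hU) (𝒮'.deg i.U' i.hU') (i.ψ u) (fun _ => rfl)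
    (𝒮.str_mem i.U i.hU) (𝒮'.str_mem i.U' i.hU') i.hf

include hu in
theorem isPullback_idx (i : QIdx g 𝒮) :
    IsPullback (Spec.map (CommRingCat.ofHom (Away.map (i.ψ u) i.f))) (Spec.map (αf' u i))
      (Spec.map (αf (g := g) i)) (Spec.map (g.appLE i.U i.U' i.hle)) :=
  isPullback_SpecMap_of_isPushout _ _ _ _ (isPushout_idx u hu i)


include hu hP hP' in
theorem isPullback_of_isProjQMap (h : P' ⟶ P) (hh : RelProj.IsProjQMap u p chart p' chart' h) :
    IsPullback h p' p g := by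
  have hcomm := comp_p u hP hP' h hh
  let t : P' ⟶ pullback p g := pullback.lift h p' hcomm
  suffices IsIso t from IsPullback.of_iso_pullback ⟨hcomm⟩ (asIso t)
    (pullback.lift_fst _ _ _) (pullback.lift_snd _ _ _)
  let m : ∀ i : QIdx g 𝒮,
      pullback (Spec.map (αf (g := g) i)) (Spec.map (g.appLE i.U i.U' i.hle)) ⟶ pullback p g :=
    fun i => pullback.map _ _ _ _ (i₁ p chart i) i.hU'.fromSpec i.hU.fromSpec (e₁ hP i) (e₂ i)
  let c : ∀ i : QIdx g 𝒮,
      i.src u ⟶ pullback (Spec.map (αf (g := g) i)) (Spec.map (g.appLE i.U i.U' i.hle)) :=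
    fun i => (isPullback_idx u hu i).isoPullback.hom
  have hcm : ∀ i, c i ≫ m i = i.k u p' chart' ≫ t := by
    intro i
    apply pullback.hom_ext
    · simp only [Category.assoc, m, c, t, pullback.lift_fst, pullback.map]
      rw [IsPullback.isoPullback_hom_fst_assoc]
      exact (hh.2 i.U i.hU i.U' i.hU' i.hle i.d i.hd i.f i.hf).symm
    · simp only [Category.assoc, m, c, t, pullback.lift_snd, pullback.map]
      rw [IsPullback.isoPullback_hom_snd_assoc]
      exact e₁' u hP' i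
  have hrange : ∀ (i : QIdx g 𝒮) (z : ↥(pullback p g)), z ∈ (m i).opensRange ↔
      (pullback.fst p g).base z ∈ Set.range (i₁ p chart i).base ∧
        (pullback.snd p g).base z ∈ i.U' := by
    intro i z
    have h1 := Scheme.Pullback.range_map (Spec.map (αf (g := g) i))
      (Spec.map (g.appLE i.U i.U' i.hle)) p g (i₁ p chart i) i.hU'.fromSpec i.hU.fromSpec
      (e₁ hP i) (e₂ i)
    change z ∈ Set.range (m i).base ↔ _
    rw [h1, Set.mem_inter_iff, Set.mem_preimage, Set.mem_preimage, i.hU'.range_fromSpec]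
    rfl
  change (MorphismProperty.isomorphisms Scheme) t
  refine Groth.Agent.Helper12.RelProjGlue.of_local_squares t (fun i : QIdx g 𝒮 => (m i).opensRange)
    ?_ (fun i => i.src u) (fun i => i.k u p' chart')
    (fun i => c i ≫ (m i).isoOpensRange.hom) ?_ ?_ ?_
  · -- cover
    rw [eq_top_iff]
    intro z _
    have hzc : p.base ((pullback.fst p g).base z) = g.base ((pullback.snd p g).base z) := by
      have := congrArg (fun k => k.base z) (pullback.condition (f := p) (g := g))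
      exact this
    obtain ⟨U, hU0, hxU, -⟩ := Opens.isBasis_iff_nbhd.mp (Y.isBasis_affineOpens)
      (show g.base ((pullback.snd p g).base z) ∈ (⊤ : Y.Opens) from trivial)
    have hU : IsAffineOpen U := hU0
    obtain ⟨U', hU0', hxU', hle⟩ := Opens.isBasis_iff_nbhd.mp (Y'.isBasis_affineOpens)
      (show (pullback.snd p g).base z ∈ g ⁻¹ᵁ U from hxU)
    have hU' : IsAffineOpen U' := hU0'
    have hx' : (pullback.fst p g).base z ∈ (RelProj.emb p chart U hU).opensRange := by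
      rw [opensRange_emb]
      change p.base _ ∈ U
      rw [hzc]; exact hxU
    obtain ⟨q, hq⟩ := hx'
    have hq' : q ∈ (⨆ s : (Σ i : ℕ+, 𝒮.deg U hU i),
        Proj.basicOpen (𝒮.deg U hU) (s.2 : 𝒮.presheaf.obj (op U))) := by
      rw [iSup_basicOpen_eq_top]; trivial
    obtain ⟨⟨i, b⟩, hqb⟩ := Opens.mem_iSup.mp hq'
    rw [← Proj.opensRange_awayι _ _ b.2 i.pos] at hqb
    obtain ⟨w, hw⟩ := hqb
    refine Opens.mem_iSup.mpr ⟨⟨U, hU, U', hU', hle, i, i.pos, b, b.2⟩, ?_⟩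
    rw [hrange]
    refine ⟨⟨w, ?_⟩, hxU'⟩
    rw [← hq, ← hw]
    rfl
  · intro i
    rw [Category.assoc, Scheme.Hom.isoOpensRange_hom_ι]
    exact (hcm i).symm
  · intro i
    ext x'
    have e := domQ_eq_top u hu (p' := p') (chart' := chart')
    have hx'' : x' ∈ RelProj.domQ u p' chart' := by rw [e]; trivial
    have h1 : (pullback.fst p g).base (t.base x') = h.base x' := by
      have := congrArg (fun k => k.base x') (pullback.lift_fst h p' hcomm)
      exact this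
    have h2 : (pullback.snd p g).base (t.base x') = p'.base x' := by
      have := congrArg (fun k => k.base x') (pullback.lift_snd h p' hcomm)
      exact this
    change t.base x' ∈ (m i).opensRange ↔ x' ∈ Set.range (i.k u p' chart').base
    rw [hrange, h1, h2]
    constructor
    · rintro ⟨⟨w, hw⟩, hxU'⟩
      have hin : i.InD p chart (((RelProj.domQ u p' chart').ι ≫ h).base ⟨x', hx''⟩) := by
        refine ⟨(Proj.awayι (𝒮.deg i.U i.hU) i.f i.hf i.hd).base w, ?_, hw⟩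
        rw [← Proj.opensRange_awayι _ _ i.hf i.hd]
        exact ⟨w, rfl⟩
      exact (map_inD_iff hP hP' _ (isProjQMapOn_of_isProjQMap u h hh) i ⟨x', hx''⟩ hxU').mp hin
    · rintro ⟨z', rfl⟩
      have h3 := mem_of_mem_range_k (u := u) (p' := p') (chart' := chart') i _ ⟨z', rfl⟩
      refine ⟨?_, h3⟩
      refine ⟨(Spec.map (CommRingCat.ofHom (Away.map (i.ψ u) i.f))).base z', ?_⟩
      have := congrArg (fun k => k.base z') (hh.2 i.U i.hU i.U' i.hU' i.hle i.d i.hd i.f i.hf)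
      exact this.symm
  · intro i
    have : IsIso (c i) := by
      change IsIso (isPullback_idx u hu i).isoPullback.hom
      infer_instance
    change IsIso (c i ≫ (m i).isoOpensRange.hom)
    infer_instance

end BC

end Groth.Agent.Helper18.ProjQBC
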