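import Mathlib
import Groth.Agent.Lib.Helper18.PtDrop
import Groth.Agent.Lib.Helper16.Sch.VanPt
import Groth.Agent.Lib.Helper13.GlobGen2

/-!
# Global generation of an invertible module on a curve, tested by twists with points (helper18)

For an invertible module `L` on an integral proper curve over an algebraically closed field and a
closed point `P`: `h⁰(L ⊗ I_P) ≤ h⁰(L) ≤ h⁰(L ⊗ I_P) + 1`, and `h⁰` drops exactly when some global
section generates `L` at `P`.  Hence `L` is globally generated iff `h⁰` drops at every closed point.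
-/

set_option autoImplicit false
set_option maxHeartbeats 1600000
set_option linter.unusedSectionVars false
set_option linter.style.haveILetI false
set_option linter.unusedVariables false
universe u
open CategoryTheory CategoryTheory.Limits AlgebraicGeometry Opposite TopologicalSpace
open Groth.Agent.Helper13 Groth.Agent.Helper13.TwistSES
open Groth.Agent.Helper13.QCoh Groth.Agent.Helper13.FinType Groth.Agent.Helper13.LocFree
open Groth.Agent.Helper13.PnFin Groth.Agent.Helper24.LinLES
open Groth.Agent.Helper24 Groth.Agent.Helper24.PtSky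
open Groth.Agent.Helper18.PtDrop

namespace Groth.Agent.Helper18.PtCrit

section A

variable (k : Type u) [Field k] {X : Scheme.{u}} [X.Over (Spec (CommRingCat.of k))]

theorem cls_homOfSec {M : X.Modules} (t : Γ(M, ⊤)) :
    cls (Groth.Agent.Helper13.LocFree.homOfSec M t) =
      (Groth.Agent.Helper12.CompDeg.h0 M).symm t := by
  unfold cls
  rw [Groth.Agent.Helper13.GenLoc.sec_homOfSec]

theorem hstar_cls_eq_zero {M N : X.Modules} (s : Coh.structureModule X ⟶ M) (φ : M ⟶ N)
    (h : s ≫ φ = 0) : hstar k φ 0 (cls s) = 0 := by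
  apply (Groth.Agent.Helper12.CompDeg.h0 N).injective
  rw [h0_hstar, map_zero]
  unfold cls
  rw [AddEquiv.apply_symm_apply]
  have h2 := Groth.Agent.Helper13.LocalLift.homOfSec_comp φ (Groth.Agent.Helper13.GenLoc.sec M s)
  rw [Groth.Agent.Helper13.GenLoc.homOfSec_sec, h] at h2
  have h3 := Groth.Agent.Helper13.GenLoc.sec_homOfSec N (φ.app ⊤ (Groth.Agent.Helper13.GenLoc.sec M s))
  rw [← h3, ← h2]
  rfl

end A

section B

variable {X : Scheme.{u}}

/-- (after helper16's `exists_closedPoint_factor`) a section which does not generate at the closed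
point `P` dies in `(O/I_P) ⊗ Q`. -/
theorem comp_g_eq_zero (Q : X.Modules) (hQ : PicF.IsInvertible Q)
    (t : Coh.structureModule X ⟶ Q) (P : X) (hP : IsClosed ({P} : Set X))
    (hPmem : P ∉ CohB1.genLocus Q t) :
    (t ≫ (Groth.Agent.Helper13.Tensor.lid Q).inv) ≫
      (Groth.Agent.Helper13.TwistSES.tensorSC (Groth.Agent.Helper24.PtIdeal.idealSC
        (Scheme.IdealSheafData.vanishingIdeal ⟨{P}, hP⟩)) Q).g = 0 := by
  apply hom_ext_stalk
  intro x m
  rw [Groth.Agent.Helper18.BasisCrit.stalkMap_zero,
    Groth.Agent.Helper18.BasisCrit.stalkMap_comp,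
    Groth.Agent.Helper18.BasisCrit.stalkMap_comp]
  by_cases hx : x = P
  · subst hx
    have h1 := Groth.Agent.Helper16.VanPt.stalkMap_mem_of_not_mem_genLocus Q hQ t x hPmem m
    have key : ∀ w ∈ IsLocalRing.maximalIdeal (X.presheaf.stalk x) •
        (⊤ : Submodule (X.presheaf.stalk x) (Q.presheaf.stalk x)),
        ((stalkLinearMap (Groth.Agent.Helper13.TwistSES.tensorSC
          (Groth.Agent.Helper24.PtIdeal.idealSC
            (Scheme.IdealSheafData.vanishingIdeal ⟨{x}, hP⟩)) Q).g x).comp
          (stalkLinearMap (Groth.Agent.Helper13.Tensor.lid Q).inv x)) w = 0 := by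
      intro w hw
      refine Submodule.smul_induction_on hw ?_ ?_
      · intro c hc n _
        rw [map_smul]
        exact Groth.Agent.Helper16.VanPt.smul_stalk_tensor_eq_zero x hP Q c hc _
      · intro a b ha hb
        rw [map_add, ha, hb, add_zero]
    exact key _ h1
  · have hsub : Subsingleton ((CohB1.tensorMod (ClSub.quotMod
        (Scheme.IdealSheafData.vanishingIdeal ⟨{P}, hP⟩)) Q).presheaf.stalk x) := by
      by_contra hns
      have hmem : x ∈ CohB1.support (CohB1.tensorMod (ClSub.quotMod
        (Scheme.IdealSheafData.vanishingIdeal ⟨{P}, hP⟩)) Q) := hns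
      have h2 := Groth.Agent.Helper24.PtIdeal.support_quot_tensor_subset _ Q hmem
      rw [Scheme.IdealSheafData.coe_support_vanishingIdeal] at h2
      exact hx h2
    exact hsub.elim _ _

end B

section C

variable (k : Type u) [Field k] [IsAlgClosed k] {X : Scheme.{u}} [X.Over (Spec (CommRingCat.of k))]
  [IsIntegral X] [IsProper (X ↘ Spec (CommRingCat.of k))]

/-- the twist package at a closed point `P` (ideal in kernel form). -/
theorem twist_pkg_ker (L' : X.Modules) (hL' : PicF.IsInvertible L') (x : X)
    (hx : IsClosed ({x} : Set X)) :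
    (Module.finrank k (Coh.HH X
        (CohB1.tensorMod L' (ClSub.idealMod (X.fromSpecResidueField x).ker)) 0) ≤
        Module.finrank k (Coh.HH X L' 0) ∧
      Module.finrank k (Coh.HH X L' 0) ≤ Module.finrank k (Coh.HH X
        (CohB1.tensorMod L' (ClSub.idealMod (X.fromSpecResidueField x).ker)) 0) + 1) ∧
    ((∃ s : Coh.structureModule X ⟶ L', x ∈ CohB1.genLocus L' s) ↔
      Module.finrank k (Coh.HH X
        (CohB1.tensorMod L' (ClSub.idealMod (X.fromSpecResidueField x).ker)) 0) ≠
        Module.finrank k (Coh.HH X L' 0)) := by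
  haveI := PtIdeal.isNoetherian_of_proper k X
  have hker := PtSky.ker_eq_vanishingIdeal x hx
  haveI : IsClosedImmersion (X.fromSpecResidueField x) :=
    isClosed_singleton_iff_isClosedImmersion.1 hx
  haveI hsub : Subsingleton ((X.fromSpecResidueField x).ker.subscheme) := subsingleton_image x hx
  have z0 : Spec (X.residueField x) := (default : PrimeSpectrum (X.residueField x))
  have hIsupp : (((X.fromSpecResidueField x).ker).support : Set X) ⊆ {x} := by
    rw [hker, Scheme.IdealSheafData.coe_support_vanishingIdeal]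
    exact subset_rfl
  obtain ⟨eQ⟩ := nonempty_quot_tensor_iso (X.fromSpecResidueField x).ker
    ((X.fromSpecResidueField x).toImage z0) L' hL'
  have hS : (tensorSC (PtIdeal.idealSC (X.fromSpecResidueField x).ker) L').ShortExact :=
    tensorSC_shortExact _ (PtIdeal.idealSC_shortExact _) L' hL'
  have hc1 : Coh.IsCoh (CohB1.tensorMod (ClSub.idealMod (X.fromSpecResidueField x).ker) L') :=
    PtIdeal.isCoh_tensor_invertible _ _ (PtIdeal.isCoh_idealMod _) hL'
  have hc2 : Coh.IsCoh (CohB1.tensorMod (Coh.structureModule X) L') :=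
    PtIdeal.isCoh_tensor_invertible _ _
      (Groth.Agent.Helper13.CohRoof.isCoh_structureModule X) hL'
  have hc3 : Coh.IsCoh (CohB1.tensorMod (ClSub.quotMod (X.fromSpecResidueField x).ker) L') :=
    PtIdeal.isCoh_tensor_invertible _ _ (PtIdeal.isCoh_quotMod _) hL'
  haveI f1 : Module.Finite k (Coh.HH X
      (tensorSC (PtIdeal.idealSC (X.fromSpecResidueField x).ker) L').X₁ 0) :=
    Groth.Agent.S0002.result k X _ hc1 0
  haveI f2 : Module.Finite k (Coh.HH X
      (tensorSC (PtIdeal.idealSC (X.fromSpecResidueField x).ker) L').X₂ 0) :=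
    Groth.Agent.S0002.result k X _ hc2 0
  haveI f3 : Module.Finite k (Coh.HH X
      (tensorSC (PtIdeal.idealSC (X.fromSpecResidueField x).ker) L').X₃ 0) :=
    Groth.Agent.S0002.result k X _ hc3 0
  have r1 : Module.finrank k (Coh.HH X
      (tensorSC (PtIdeal.idealSC (X.fromSpecResidueField x).ker) L').X₁ 0) =
      Module.finrank k (Coh.HH X
        (CohB1.tensorMod L' (ClSub.idealMod (X.fromSpecResidueField x).ker)) 0) :=
    (PnMumford.hEquiv k (Groth.Agent.Helper13.Tensor.braid _ _) 0).finrank_eq
  have r2 : Module.finrank k (Coh.HH X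
      (tensorSC (PtIdeal.idealSC (X.fromSpecResidueField x).ker) L').X₂ 0) =
      Module.finrank k (Coh.HH X L' 0) :=
    (PnMumford.hEquiv k (Groth.Agent.Helper13.Tensor.lid L') 0).finrank_eq
  have r3 : Module.finrank k (Coh.HH X
      (tensorSC (PtIdeal.idealSC (X.fromSpecResidueField x).ker) L').X₃ 0) = 1 :=
    ((PnMumford.hEquiv k eQ 0).finrank_eq).trans
      ((finrank_H0_quotMod k X x hx).trans (finrank_residueField_eq_one k X x hx))
  have hinj := LinLES.hstar_f_injective_zero k
    (tensorSC (PtIdeal.idealSC (X.fromSpecResidueField x).ker) L') hS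
  have hle := LinearMap.finrank_le_finrank_of_injective hinj
  have e := LinearMap.finrank_range_add_finrank_ker
    (hstar k (tensorSC (PtIdeal.idealSC (X.fromSpecResidueField x).ker) L').g 0)
  rw [← LinLES.range_f_eq_ker_g k _ hS 0, LinearMap.finrank_range_of_inj hinj] at e
  have hr : Module.finrank k (LinearMap.range
      (hstar k (tensorSC (PtIdeal.idealSC (X.fromSpecResidueField x).ker) L').g 0)) ≤
      Module.finrank k (Coh.HH X
        (tensorSC (PtIdeal.idealSC (X.fromSpecResidueField x).ker) L').X₃ 0) :=
    Submodule.finrank_le _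
  refine ⟨⟨by omega, by omega⟩, ?_, ?_⟩
  · -- a generating section is not in the image
    rintro ⟨s, hxU'⟩ heq
    have hfr : Module.finrank k (Coh.HH X
        (tensorSC (PtIdeal.idealSC (X.fromSpecResidueField x).ker) L').X₁ 0) =
        Module.finrank k (Coh.HH X
          (tensorSC (PtIdeal.idealSC (X.fromSpecResidueField x).ker) L').X₂ 0) := by
      rw [r1, r2, heq]
    have hsurj : Function.Surjective
        (hstar k (tensorSC (PtIdeal.idealSC (X.fromSpecResidueField x).ker) L').f 0) :=
      (LinearMap.injective_iff_surjective_of_finrank_eq_finrank hfr).1 hinj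
    let s' : Coh.structureModule X ⟶
        (tensorSC (PtIdeal.idealSC (X.fromSpecResidueField x).ker) L').X₂ :=
      s ≫ (Groth.Agent.Helper13.Tensor.lid L').inv
    have hsx : Function.Surjective (stalkMap s' x) := by
      intro m
      obtain ⟨m1, hm1⟩ :=
        (Groth.Agent.Helper13.Inv.stalkMap_bijective_of_isIso
          (Groth.Agent.Helper13.Tensor.lid L').inv x).2 m
      obtain ⟨a1, ha1⟩ :=
        (Groth.Agent.Helper13.GenLoc.stalkMap_bijective_of_mem_genLocus L' s hxU').2 m1
      refine ⟨a1, ?_⟩
      show stalkMap (s ≫ (Groth.Agent.Helper13.Tensor.lid L').inv) x a1 = m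
      rw [Groth.Agent.Helper13.PbInv.stalkMap_comp, ha1, hm1]
    have hsupp : ∀ y : X, y ≠ x → Subsingleton
        ((tensorSC (PtIdeal.idealSC (X.fromSpecResidueField x).ker) L').X₃.presheaf.stalk y) := by
      intro y hy
      by_contra hns
      have hmem : y ∈ CohB1.support
          (CohB1.tensorMod (ClSub.quotMod (X.fromSpecResidueField x).ker) L') := hns
      exact hy (Set.mem_singleton_iff.1
        (hIsupp (PtIdeal.support_quot_tensor_subset (X.fromSpecResidueField x).ker L' hmem)))
    have hneZ : ¬ IsZero (tensorSC (PtIdeal.idealSC (X.fromSpecResidueField x).ker) L').X₃ := by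
      intro hz
      haveI := subsingleton_HH_of_isZero k _ hz 0
      rw [Module.finrank_zero_of_subsingleton] at r3
      exact zero_ne_one r3
    exact cls_not_mem_range k _ hS s' x hsx hsupp hneZ (LinearMap.mem_range.2 (hsurj _))
  · -- if no section generates, `H⁰(S.f)` is onto
    intro hne
    by_contra hno
    rw [not_exists] at hno
    apply hne
    have hsurj : Function.Surjective
        (hstar k (tensorSC (PtIdeal.idealSC (X.fromSpecResidueField x).ker) L').f 0) := by
      intro c
      have hc : c = cls (Groth.Agent.Helper13.LocFree.homOfSec _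
          (Groth.Agent.Helper12.CompDeg.h0 _ c)) := by
        rw [cls_homOfSec, AddEquiv.symm_apply_apply]
      set s' := Groth.Agent.Helper13.LocFree.homOfSec
        (tensorSC (PtIdeal.idealSC (X.fromSpecResidueField x).ker) L').X₂
        (Groth.Agent.Helper12.CompDeg.h0 _ c) with hs'
      have hfac : (s' ≫ (Groth.Agent.Helper13.Tensor.lid L').hom) ≫
          (Groth.Agent.Helper13.Tensor.lid L').inv = s' :=
        (Category.assoc _ _ _).trans
          ((congrArg (fun f => s' ≫ f) (Groth.Agent.Helper13.Tensor.lid L').hom_inv_id).trans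
            (Category.comp_id _))
      have hz := comp_g_eq_zero L' hL' (s' ≫ (Groth.Agent.Helper13.Tensor.lid L').hom) x hx
        (hno _)
      rw [← hker, hfac] at hz
      have hk := hstar_cls_eq_zero k s' _ hz
      rw [← hc] at hk
      have hmem : c ∈ LinearMap.ker
          (hstar k (tensorSC (PtIdeal.idealSC (X.fromSpecResidueField x).ker) L').g 0) :=
        LinearMap.mem_ker.2 hk
      rw [← LinLES.range_f_eq_ker_g k _ hS 0] at hmem
      exact LinearMap.mem_range.1 hmem
    have hge := LinearMap.finrank_le_finrank_of_surjective hsurj  -- placeholder name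
    omega

end C

section D

variable (k : Type u) [Field k] [IsAlgClosed k] {X : Scheme.{u}} [X.Over (Spec (CommRingCat.of k))]
  [IsIntegral X] [IsProper (X ↘ Spec (CommRingCat.of k))]

/-- the twist package at a closed point `P` (vanishing ideal form). -/
theorem twist_pkg (L : X.Modules) (hL : PicF.IsInvertible L) (P : X)
    (hP : IsClosed ({P} : Set X)) :
    (Module.finrank k (Coh.HH X (CohB1.tensorMod L (ClSub.idealMod
        (Scheme.IdealSheafData.vanishingIdeal ⟨{P}, hP⟩))) 0) ≤ Module.finrank k (Coh.HH X L 0) ∧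
      Module.finrank k (Coh.HH X L 0) ≤ Module.finrank k (Coh.HH X (CohB1.tensorMod L
        (ClSub.idealMod (Scheme.IdealSheafData.vanishingIdeal ⟨{P}, hP⟩))) 0) + 1) ∧
    ((∃ s : Coh.structureModule X ⟶ L, P ∈ CohB1.genLocus L s) ↔
      Module.finrank k (Coh.HH X (CohB1.tensorMod L (ClSub.idealMod
        (Scheme.IdealSheafData.vanishingIdeal ⟨{P}, hP⟩))) 0) ≠
        Module.finrank k (Coh.HH X L 0)) := by
  have h := twist_pkg_ker k L hL P hP
  rw [PtSky.ker_eq_vanishingIdeal P hP] at h
  exact h

/-- an invertible module on an integral proper curve over an algebraically closed field is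
globally generated iff `h⁰` drops by one under the twist by every closed point. -/
theorem isGloballyGenerated_iff_h0 (L : X.Modules) (hL : PicF.IsInvertible L) :
    Curv2.IsGloballyGenerated L ↔
      ∀ (P : X) (hP : IsClosed ({P} : Set X)),
        Module.finrank k (Coh.HH X (CohB1.tensorMod L (ClSub.idealMod
          (Scheme.IdealSheafData.vanishingIdeal ⟨{P}, hP⟩))) 0) + 1 =
          Module.finrank k (Coh.HH X L 0) := by
  constructor
  · intro hgg P hP
    obtain ⟨⟨h1, h2⟩, h3⟩ := twist_pkg k L hL P hP
    rw [Groth.Agent.Helper13.GlobGen.isGloballyGenerated_iff] at hgg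
    obtain ⟨t, ht⟩ := Groth.Agent.Helper13.GlobGen.exists_isGen_of_ggAt L hL P (hgg P)
    have hmem : P ∈ CohB1.genLocus L (Groth.Agent.Helper13.LocFree.homOfSec L t) := by
      rw [Groth.Agent.Helper13.GenLoc.mem_genLocus_iff_isGen L _ hL,
        Groth.Agent.Helper13.GenLoc.sec_homOfSec]
      exact ht
    have hne := h3.1 ⟨_, hmem⟩
    omega
  · intro h
    rw [Groth.Agent.Helper13.GlobGen.isGloballyGenerated_iff]
    haveI : CompactSpace X :=
      QuasiCompact.compactSpace_of_compactSpace (X ↘ Spec (CommRingCat.of k))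
    have hall : ∀ y : X, ∃ s : Coh.structureModule X ⟶ L, y ∈ CohB1.genLocus L s := by
      by_contra hcon
      rw [not_forall] at hcon
      obtain ⟨y0, hy0⟩ := hcon
      let G : Set X := ⋃ s : Coh.structureModule X ⟶ L, (CohB1.genLocus L s : Set X)
      have hGo : IsOpen G := isOpen_iUnion (fun s => (CohB1.genLocus L s).2)
      have hne : (Gᶜ).Nonempty := ⟨y0, fun hy => by
        obtain ⟨s, hs⟩ := Set.mem_iUnion.1 hy
        exact hy0 ⟨s, hs⟩⟩
      obtain ⟨P, hPmem, hP⟩ := IsClosed.exists_closed_singleton hGo.isClosed_compl hne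
      obtain ⟨⟨h1, h2⟩, h3⟩ := twist_pkg k L hL P hP
      have hno : ¬ ∃ s : Coh.structureModule X ⟶ L, P ∈ CohB1.genLocus L s := by
        rintro ⟨s, hs⟩
        exact hPmem (Set.mem_iUnion.2 ⟨s, hs⟩)
      have hP1 := h P hP
      have heq : Module.finrank k (Coh.HH X (CohB1.tensorMod L (ClSub.idealMod
          (Scheme.IdealSheafData.vanishingIdeal ⟨{P}, hP⟩))) 0) =
          Module.finrank k (Coh.HH X L 0) := by
        by_contra hne'
        exact hno (h3.2 hne')
      omega
    intro y
    obtain ⟨s, hs⟩ := hall y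
    have hgen := Groth.Agent.Helper13.GenLoc.isGen_of_mem_genLocus L s hs
    unfold Groth.Agent.Helper13.GlobGen.GGAt
    rw [eq_top_iff]
    intro z _
    obtain ⟨r, rfl⟩ := hgen.2 z
    exact Submodule.smul_mem _ _ (Submodule.subset_span ⟨_, rfl⟩)

end D

end Groth.Agent.Helper18.PtCrit
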