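import Mathlib
import Groth.Agent.Lib.Helper18.PtDrop

/-!
# An invertible module of degree `g` with `h⁰ = 1`, `h¹ = 0` on a smooth proper curve (helper18)
-/

set_option autoImplicit false
set_option maxHeartbeats 1600000
set_option linter.unusedSectionVars false
set_option linter.style.haveILetI false
set_option linter.unusedVariables false
universe u
open CategoryTheory CategoryTheory.Limits AlgebraicGeometry Opposite TopologicalSpace

namespace Groth.Agent.Helper18.PtDrop

variable (k : Type u) [Field k] [IsAlgClosed k] {X : Scheme.{u}} [X.Over (Spec (CommRingCat.of k))]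
  [IsIntegral X] [IsProper (X ↘ Spec (CommRingCat.of k))] [Smooth (X ↘ Spec (CommRingCat.of k))]

/-- from an invertible module with `H¹ = 0` and `h⁰ ≥ m` to one with `h⁰ = m`, `H¹ = 0`. -/
theorem exists_h0_eq_h1_zero_aux (hdim : topologicalKrullDim X = 1) (m : ℕ) :
    ∀ (n : ℕ) (L' : X.Modules), PicF.IsInvertible L' → Subsingleton (Coh.HH X L' 1) →
      Module.finrank k (Coh.HH X L' 0) = m + n →
      ∃ L : X.Modules, PicF.IsInvertible L ∧ Module.finrank k (Coh.HH X L 0) = m ∧
        Subsingleton (Coh.HH X L 1) := by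
  intro n
  induction n with
  | zero => exact fun L' hL' h1 h0 => ⟨L', hL', h0, h1⟩
  | succ n ih =>
    intro L' hL' h1 h0
    obtain ⟨L, hL, hd, hform⟩ := exists_twist_drop k hdim L' hL' (by omega)
    have hz1 : Module.finrank k (Coh.HH X L' 1) = 0 := Module.finrank_zero_of_subsingleton
    have hLc := Groth.Agent.Helper13.CurveDeg.isCoh_of_isInvertible L hL
    haveI : Module.Finite k (Coh.HH X L 1) := Groth.Agent.S0002.result k X _ hLc 1
    have hz : Module.finrank k (Coh.HH X L 1) = 0 := by omega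
    have hsub : Subsingleton (Coh.HH X L 1) := Module.finrank_zero_iff.1 hz
    exact ih L hL hsub (by omega)

/-- for `1 ≤ g`: an invertible module with `h⁰ = 1`, `H¹ = 0`, hence of degree `g`. -/
theorem exists_invertible_deg_genus_h0_one (hdim : topologicalKrullDim X = 1)
    (hg : 1 ≤ Curv2.genus k X) :
    ∃ L : X.Modules, PicF.IsInvertible L ∧
      Curv2.deg k X L 1 = (Curv2.genus k X : ℤ) ∧ Module.finrank k (Coh.HH X L 0) = 1 ∧
      Subsingleton (Coh.HH X L 1) := by
  obtain ⟨M, hM, hdM⟩ := Groth.Agent.Helper20.IndecSub.exists_invertible_of_deg k hdim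
    (2 * (Curv2.genus k X : ℤ) - 1)
  have hM1 : Subsingleton (Coh.HH X M 1) :=
    Groth.Agent.Helper3.CurveHopf.main1522 k X hdim M hM (by rw [hdM])
  have hrrM := Groth.Agent.Helper3.CurveHopf.deg_eq_rr k X hdim M hM
  have hzM : Module.finrank k (Coh.HH X M 1) = 0 := Module.finrank_zero_of_subsingleton
  rw [hdM, hzM] at hrrM
  have h0M : Module.finrank k (Coh.HH X M 0) = 1 + (Curv2.genus k X - 1) := by
    push_cast at hrrM
    omega
  obtain ⟨L, hL, h0, h1⟩ := exists_h0_eq_h1_zero_aux k hdim 1 _ M hM hM1 h0M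
  refine ⟨L, hL, ?_, h0, h1⟩
  have hrr := Groth.Agent.Helper3.CurveHopf.deg_eq_rr k X hdim L hL
  have hz1 : Module.finrank k (Coh.HH X L 1) = 0 := Module.finrank_zero_of_subsingleton
  rw [hrr, h0, hz1]
  push_cast
  ring

end Groth.Agent.Helper18.PtDrop
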