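import Mathlib
import Groth.Agent.Lib.Helper18.PtDrop2
import Groth.Agent.Lib.Helper18.PtCrit
import Groth.Agent.Lib.Helper13.IntInv

/-!
# Invertible modules of every degree `r ≤ g` with `h⁰ = 1` on a smooth proper curve (helper18)

Twisting an invertible module with `h⁰ = 1` and positive degree by a zero of its section keeps
`h⁰ = 1` and lowers the degree by one.
-/

set_option autoImplicit false
set_option maxHeartbeats 1600000
set_option linter.unusedSectionVars false
set_option linter.style.haveILetI false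
set_option linter.unusedVariables false
universe u
open CategoryTheory CategoryTheory.Limits AlgebraicGeometry Opposite TopologicalSpace
open Groth.Agent.Helper13.PnFin
open Groth.Agent.Helper24

namespace Groth.Agent.Helper18.PtDrop

variable (k : Type u) [Field k] [IsAlgClosed k] {X : Scheme.{u}} [X.Over (Spec (CommRingCat.of k))]
  [IsIntegral X] [IsProper (X ↘ Spec (CommRingCat.of k))] [Smooth (X ↘ Spec (CommRingCat.of k))]

theorem cls_ne_zero {M : X.Modules} (s : Coh.structureModule X ⟶ M) (hs : s ≠ 0) :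
    cls s ≠ 0 := by
  intro h
  apply Groth.Agent.Helper13.IntInv.sec_ne_zero M s hs
  have h1 : Groth.Agent.Helper12.CompDeg.h0 M (cls s) = 0 := by rw [h, map_zero]
  unfold cls at h1
  rwa [AddEquiv.apply_symm_apply] at h1

/-- the degree of an invertible module isomorphic to `O_X` is zero. -/
theorem deg_eq_zero_of_iso (hdim : topologicalKrullDim X = 1) (L : X.Modules)
    (hL : PicF.IsInvertible L) (e : L ≅ Coh.structureModule X) : Curv2.deg k X L 1 = 0 := by
  have h1 := Groth.Agent.Helper3.CurveHopf.deg_eq_rr k X hdim L hL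
  have h2 := Groth.Agent.Helper3.CurveHopf.deg_eq_rr k X hdim (Coh.structureModule X)
    Groth.Agent.Helper13.Inv.isInvertible_structureModule
  have e0 := (PnMumford.hEquiv k e 0).finrank_eq
  have e1 := (PnMumford.hEquiv k e 1).finrank_eq
  have hO : Curv2.deg k X (Coh.structureModule X) 1 = 0 := by
    unfold Curv2.deg
    simp
  rw [h1, e0, e1, ← h2, hO]

/-- twisting by a zero of the section: `h⁰ = 1` is kept, the degree drops by one. -/
theorem exists_twist_h0_one (hdim : topologicalKrullDim X = 1) (L : X.Modules)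
    (hL : PicF.IsInvertible L) (h0 : Module.finrank k (Coh.HH X L 0) = 1)
    (hd : 1 ≤ Curv2.deg k X L 1) :
    ∃ L2 : X.Modules, PicF.IsInvertible L2 ∧ Curv2.deg k X L2 1 = Curv2.deg k X L 1 - 1 ∧
      Module.finrank k (Coh.HH X L2 0) = 1 := by
  haveI : Nontrivial (Coh.HH X L 0) :=
    Module.nontrivial_of_finrank_pos (R := k) (by omega)
  obtain ⟨a, ha⟩ := exists_ne (0 : Coh.HH X L 0)
  set t := Groth.Agent.Helper12.CompDeg.h0 L a with ht_def
  have ht : t ≠ 0 := fun h0' =>
    ha ((Groth.Agent.Helper12.CompDeg.h0 L).injective (h0'.trans (map_zero _).symm))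
  let s := Groth.Agent.Helper13.LocFree.homOfSec L t
  have hs : s ≠ 0 := by
    intro hs0
    apply ht
    have h1 := Groth.Agent.Helper13.GenLoc.sec_homOfSec L t
    rw [← h1]
    change Groth.Agent.Helper13.GenLoc.sec L s = 0
    rw [hs0]
    rfl
  have hni : ¬ IsIso s := by
    intro hiso
    have := deg_eq_zero_of_iso k hdim L hL (asIso s).symm
    omega
  obtain ⟨P, hP, tP, hfac⟩ := Groth.Agent.Helper16.VanPt.exists_closedPoint_factor k X L hL s hs hni
  have hIinv := isInvertible_idealMod_point k hdim P hP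
  have hIdeg := Groth.Agent.Helper24.PtDeg.deg_idealMod_point k X P hP
  obtain ⟨hL2, hdeg2⟩ := Groth.Agent.Helper20.IndecSub.tensor_invertible k hdim L
    (ClSub.idealMod (Scheme.IdealSheafData.vanishingIdeal ⟨{P}, hP⟩)) hL hIinv
  refine ⟨_, hL2, by rw [hdeg2, hIdeg]; ring, ?_⟩
  have hle := (Groth.Agent.Helper18.PtCrit.twist_pkg k L hL P hP).1.1
  have hLc2 := Groth.Agent.Helper13.CurveDeg.isCoh_of_isInvertible _ hL2
  haveI : Module.Finite k (Coh.HH X (CohB1.tensorMod L
      (ClSub.idealMod (Scheme.IdealSheafData.vanishingIdeal ⟨{P}, hP⟩))) 0) :=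
    Groth.Agent.S0002.result k X _ hLc2 0
  have htP : tP ≠ 0 := by
    intro h
    apply hs
    rw [← hfac, h, zero_comp]
  have htP' : tP ≫ (Groth.Agent.Helper13.Tensor.braid
      (ClSub.idealMod (Scheme.IdealSheafData.vanishingIdeal ⟨{P}, hP⟩)) L).hom ≠ 0 := by
    intro h
    apply htP
    have h2 := congrArg (fun f => f ≫ (Groth.Agent.Helper13.Tensor.braid
      (ClSub.idealMod (Scheme.IdealSheafData.vanishingIdeal ⟨{P}, hP⟩)) L).inv) h
    simpa using h2
  have hpos : 0 < Module.finrank k (Coh.HH X (CohB1.tensorMod L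
      (ClSub.idealMod (Scheme.IdealSheafData.vanishingIdeal ⟨{P}, hP⟩))) 0) :=
    Module.finrank_pos_iff_exists_ne_zero.2 ⟨_, cls_ne_zero _ htP'⟩
  omega

/-- S14152: for every `r ≤ g` (with `1 ≤ g`) an invertible module of degree `r` with `h⁰ = 1`. -/
theorem exists_invertible_deg_h0_one (hdim : topologicalKrullDim X = 1)
    (hg : 1 ≤ Curv2.genus k X) :
    ∀ (j : ℕ), j ≤ Curv2.genus k X → ∃ L : X.Modules, PicF.IsInvertible L ∧
      Curv2.deg k X L 1 = (Curv2.genus k X : ℤ) - (j : ℤ) ∧
      Module.finrank k (Coh.HH X L 0) = 1 := by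
  intro j
  induction j with
  | zero =>
    intro _
    obtain ⟨L, hL, hdeg, h0, -⟩ := exists_invertible_deg_genus_h0_one k hdim hg
    exact ⟨L, hL, by rw [hdeg]; simp, h0⟩
  | succ j ih =>
    intro hj
    obtain ⟨L, hL, hdeg, h0⟩ := ih (by omega)
    obtain ⟨L2, hL2, hdeg2, h02⟩ := exists_twist_h0_one k hdim L hL h0 (by rw [hdeg]; omega)
    exact ⟨L2, hL2, by rw [hdeg2, hdeg]; push_cast; ring, h02⟩

end Groth.Agent.Helper18.PtDrop
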