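import Mathlib
import Groth.Agent.Lib.Helper18.PtCrit
import Groth.Agent.Lib.Helper13.CurveSV5
import Groth.Agent.Lib.Helper16.Sch.GeomRk2
import Groth.Agent.Lib.Helper12.FieldSm3
import Groth.Agent.Lib.Helper18.OrbProper2
import Groth.Agent.Lib.Helper13.InvDual

/-!
# Point twists through regular closed points of an integral proper curve (helper18)

On an integral proper curve over an algebraically closed field (not necessarily smooth) the ideal
of a closed point with regular local ring is invertible, the regular closed points are dense, and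
twisting an invertible module by a well chosen regular closed point drops `h⁰` by one.  Hence there
are invertible modules with `(h⁰, h¹) = (1, 0)` and `(0, 0)` (S1523).
-/

set_option autoImplicit false
set_option maxHeartbeats 1600000
set_option linter.unusedSectionVars false
set_option linter.style.haveILetI false
set_option linter.unusedVariables false
universe u
open CategoryTheory CategoryTheory.Limits AlgebraicGeometry Opposite TopologicalSpace
open Groth.Agent.Helper13 Groth.Agent.Helper13.TwistSES
open Groth.Agent.Helper13.QCoh Groth.Agent.Helper13.FinType Groth.Agent.Helper13.LocFree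
open Groth.Agent.Helper13.PnFin Groth.Agent.Helper24.LinLES
open Groth.Agent.Helper24 Groth.Agent.Helper24.PtSky
open Groth.Agent.Helper18.PtDrop

namespace Groth.Agent.Helper18.PtReg

section Inv

variable (k : Type u) [Field k] {X : Scheme.{u}} [X.Over (Spec (CommRingCat.of k))]
  [IsIntegral X] [IsProper (X ↘ Spec (CommRingCat.of k))]

include k in
/-- the ideal sheaf of a closed point with regular local ring on an integral proper curve is
invertible. -/
theorem isInvertible_idealMod_point_of_regular (hdim : topologicalKrullDim X = 1) (P : X)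
    (hP : IsClosed ({P} : Set X)) (hreg : IsRegularLocalRing (X.presheaf.stalk P)) :
    PicF.IsInvertible (ClSub.idealMod
      (Scheme.IdealSheafData.vanishingIdeal (⟨{P}, hP⟩ : TopologicalSpace.Closeds X))) := by
  haveI hNoe := PtIdeal.isNoetherian_of_proper k X
  haveI : CompactSpace X :=
    QuasiCompact.compactSpace_of_compactSpace (X ↘ Spec (CommRingCat.of k))
  let I : X.IdealSheafData :=
    Scheme.IdealSheafData.vanishingIdeal (⟨{P}, hP⟩ : TopologicalSpace.Closeds X)
  have hIc : Coh.IsCoh (ClSub.idealMod I) := Groth.Agent.Helper24.PtIdeal.isCoh_idealMod I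
  haveI : Mono (ClSub.idealModι I) := inferInstanceAs (Mono (kernel.ι (ClSub.toSubscheme I)))
  obtain ⟨hqc, hft⟩ := hIc
  haveI : (ClSub.idealMod I).IsQuasicoherent := hqc
  haveI : SheafOfModules.IsFiniteType (R := X.ringCatSheaf) (ClSub.idealMod I) := hft
  haveI : SheafOfModules.IsFinitePresentation (R := X.ringCatSheaf) (ClSub.idealMod I) := by
    apply isFinitePresentation_of_finitePresentation_sections (ClSub.idealMod I)
    intro x
    obtain ⟨_, ⟨U, hU, rfl⟩, hxU, -⟩ :=
      X.isBasis_affineOpens.exists_subset_of_mem_open (Set.mem_univ x) isOpen_univ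
    haveI : IsNoetherianRing Γ(X, U) := IsLocallyNoetherian.component_noetherian ⟨U, hU⟩
    haveI : Module.Finite Γ(X, U) Γ(ClSub.idealMod I, U) :=
      finite_sections_of_isFiniteType (ClSub.idealMod I) hU
    exact ⟨U, hU, hxU, Module.finitePresentation_of_finite _ _⟩
  have hsupp : (I.support : Set X) = {P} := Scheme.IdealSheafData.coe_support_vanishingIdeal _
  have hIf : FlatMod.IsFinLocFree (ClSub.idealMod I) := by
    apply isFinLocFree_of_isFinitePresentation_of_free_stalks (ClSub.idealMod I)
    intro x
    have hinj : Function.Injective (stalkMap (ClSub.idealModι I) x) :=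
      (mono_iff_stalk_injective (ClSub.idealModι I)).1 inferInstance x
    by_cases hx : x = P
    · subst hx
      haveI := hreg
      obtain ⟨hd, hpid⟩ := Groth.Agent.Helper3.TorsFreeDim1.isPrincipalIdealRing_of_regular
        (X.presheaf.stalk x)
        ((Groth.Agent.Helper3.TorsFreeDim1.ringKrullDim_stalk_le X x).trans hdim.le)
      haveI : NoZeroSMulDivisors (X.presheaf.stalk x)
          ((Coh.structureModule X).presheaf.stalk x) := by
        have e := Groth.Agent.Helper13.WeakAss.unitStalkEquiv x
        exact Function.Injective.noZeroSMulDivisors e e.injective (map_zero _)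
          (fun r m => map_smul e r m)
      haveI : NoZeroSMulDivisors (X.presheaf.stalk x) ((ClSub.idealMod I).presheaf.stalk x) :=
        Function.Injective.noZeroSMulDivisors (stalkLinearMap (ClSub.idealModι I) x) hinj
          (map_zero _) (fun r m => map_smul _ r m)
      haveI : Module.Finite (X.presheaf.stalk x) ((ClSub.idealMod I).presheaf.stalk x) :=
        finite_stalk_of_isFiniteType (ClSub.idealMod I) x
      exact Module.free_of_finite_type_torsion_free'
    · have hη : x ∉ (I.support : Set X) := by
        rw [hsupp]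
        exact hx
      haveI hsub : Subsingleton ((ClSub.quotMod I).presheaf.stalk x) := by
        by_contra h
        exact hη (PtIdeal.support_quotMod_subset I h)
      have hsurj : Function.Surjective (stalkMap (ClSub.idealModι I) x) := by
        intro m
        haveI : Mono (PtIdeal.idealSC I).f := inferInstanceAs (Mono (ClSub.idealModι I))
        exact stalk_exact_of_exact_of_mono (PtIdeal.idealSC I)
          (PtIdeal.idealSC_shortExact I).exact x m (@Subsingleton.elim _ hsub _ _)
      have e : (ClSub.idealMod I).presheaf.stalk x ≃ₗ[X.presheaf.stalk x] X.presheaf.stalk x :=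
        (LinearEquiv.ofBijective (stalkLinearMap (ClSub.idealModι I) x) ⟨hinj, hsurj⟩).trans
          (Groth.Agent.Helper13.WeakAss.unitStalkEquiv x)
      exact Module.Free.of_equiv e.symm
  have hη : genericPoint X ∉ (I.support : Set X) := by
    rw [hsupp]
    intro hmem
    have heq : genericPoint X = P := Set.mem_singleton_iff.1 hmem
    have h1 : ({P} : Set X) = Set.univ := by
      rw [← hP.closure_eq, ← heq]
      exact genericPoint_spec X
    haveI : Subsingleton X := by
      refine ⟨fun a b => ?_⟩
      have ha : a ∈ ({P} : Set X) := h1 ▸ Set.mem_univ a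
      have hb : b ∈ ({P} : Set X) := h1 ▸ Set.mem_univ b
      rw [Set.mem_singleton_iff.1 ha, Set.mem_singleton_iff.1 hb]
    have h2 := Groth.Agent.Helper24.PtIdeal.topologicalKrullDim_le_zero_of_subsingleton X
    rw [hdim] at h2
    exact lt_irrefl _ (lt_of_lt_of_le zero_lt_one h2)
  have hrk : Groth.Agent.Helper20.RankFn.rk (ClSub.idealMod I) (genericPoint X) = 1 :=
    Groth.Agent.Helper24.PtDeg.finrank_stalk_idealMod I _ hη
  have hI1 : FlatMod.IsFinLocFreeOfRank 1 (ClSub.idealMod I) := by
    have := Groth.Agent.Helper20.RankFn.isFinLocFreeOfRank_of_preconnected (ClSub.idealMod I) hIf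
      (genericPoint X)
    rwa [hrk] at this
  exact Groth.Agent.Helper26.NefExt.isInvertible_of_rank_one _ hI1

end Inv

section Main

variable (k : Type u) [Field k] [IsAlgClosed k] {X : Scheme.{u}} [X.Over (Spec (CommRingCat.of k))]
  [IsIntegral X] [IsProper (X ↘ Spec (CommRingCat.of k))]

include k in
/-- every nonempty open subset contains a closed point with regular local ring. -/
theorem exists_regular_closedPoint (U : X.Opens) (hU : (U : Set X).Nonempty) :
    ∃ x : X, x ∈ U ∧ IsClosed ({x} : Set X) ∧ IsRegularLocalRing (X.presheaf.stalk x) := by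
  haveI : LocallyOfFiniteType (X ↘ Spec (CommRingCat.of k)) := inferInstance
  haveI := Groth.Agent.Helper12.FieldSm.lfp (X ↘ Spec (CommRingCat.of k))
  have hsm : ((X ↘ Spec (CommRingCat.of k)).smoothLocus : Set X).Nonempty := by
    refine Groth.Agent.Helper12.FieldSm.smoothLocus_nonempty_of_isGeometricallyReduced_stalk
      (X ↘ Spec (CommRingCat.of k)) (genericPoint X) ?_
    letI := (Groth.Agent.Helper12.FieldSm.stalkHom (X ↘ Spec (CommRingCat.of k))
      (genericPoint X)).toAlgebra
    exact Groth.Agent.Helper18.OrbProper.isGeometricallyReduced_of_isAlgClosed' k _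
  have hne : ((U : Set X) ∩
      ((X ↘ Spec (CommRingCat.of k)).smoothLocus : Set X)).Nonempty :=
    nonempty_preirreducible_inter U.2 (X ↘ Spec (CommRingCat.of k)).smoothLocus.2 hU hsm
  haveI : JacobsonSpace X := LocallyOfFiniteType.jacobsonSpace (X ↘ Spec (CommRingCat.of k))
  obtain ⟨x, ⟨hxU, hxs⟩, hxc⟩ := nonempty_inter_closedPoints hne
    (U.2.inter (X ↘ Spec (CommRingCat.of k)).smoothLocus.2).isLocallyClosed
  exact ⟨x, hxU, hxc,
    Groth.Agent.Helper16.GeomRk.isRegularLocalRing_stalk_of_mem_smoothLocus _ x hxs⟩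

/-- twisting by a well chosen regular closed point drops `h⁰` by exactly one. -/
theorem exists_twist_drop_reg (hdim : topologicalKrullDim X = 1) (L' : X.Modules)
    (hL' : PicF.IsInvertible L') (hpos : 0 < Module.finrank k (Coh.HH X L' 0)) :
    ∃ L : X.Modules, PicF.IsInvertible L ∧
      Module.finrank k (Coh.HH X L 0) + 1 = Module.finrank k (Coh.HH X L' 0) ∧
      1 + Module.finrank k (Coh.HH X L 0) + Module.finrank k (Coh.HH X L' 1) =
        Module.finrank k (Coh.HH X L' 0) + Module.finrank k (Coh.HH X L 1) := by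
  haveI : Nontrivial (Coh.HH X L' 0) := Module.nontrivial_of_finrank_pos (R := k) hpos
  obtain ⟨a, ha⟩ := exists_ne (0 : Coh.HH X L' 0)
  set t := Groth.Agent.Helper12.CompDeg.h0 L' a with ht_def
  have ht : t ≠ 0 := fun h0' =>
    ha ((Groth.Agent.Helper12.CompDeg.h0 L').injective (h0'.trans (map_zero _).symm))
  let s := Groth.Agent.Helper13.LocFree.homOfSec L' t
  have hs : s ≠ 0 := by
    intro hs0
    apply ht
    have h1 := Groth.Agent.Helper13.GenLoc.sec_homOfSec L' t
    rw [← h1]
    change Groth.Agent.Helper13.GenLoc.sec L' s = 0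
    rw [hs0]
    rfl
  have hU : (CohB1.genLocus L' s : Set X).Nonempty := by
    by_contra hne
    apply hs
    apply Groth.Agent.Helper12.CompDeg.eq_zero_of_genLocus_eq_bot L' hL' s
    ext y
    have : (CohB1.genLocus L' s : Set X) = ∅ := Set.not_nonempty_iff_eq_empty.1 hne
    simp [this]
  obtain ⟨x, hxU, hx, hreg⟩ := exists_regular_closedPoint k (CohB1.genLocus L' s) hU
  have hIinv : PicF.IsInvertible (ClSub.idealMod (X.fromSpecResidueField x).ker) := by
    rw [PtSky.ker_eq_vanishingIdeal x hx]
    exact isInvertible_idealMod_point_of_regular k hdim x hx hreg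
  have hL : PicF.IsInvertible (CohB1.tensorMod L'
      (ClSub.idealMod (X.fromSpecResidueField x).ker)) :=
    Groth.Agent.Helper13.Inv.isInvertible_tensorMod _ _ hL' hIinv
  refine ⟨_, hL, ?_⟩
  obtain ⟨⟨hle1, hle2⟩, hform⟩ :=
    Groth.Agent.Helper3.GapCount.step k X x hx _ L' hL hL' (Iso.refl _)
  refine ⟨?_, hform⟩
  have hne := (Groth.Agent.Helper18.PtCrit.twist_pkg_ker k L' hL' x hx).2.1 ⟨s, hxU⟩
  omega

/-- from an invertible module with `H¹ = 0` and `h⁰ = m + n` to one with `h⁰ = m`, `H¹ = 0`. -/
theorem exists_h0_eq_h1_zero_aux (hdim : topologicalKrullDim X = 1) (m : ℕ) :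
    ∀ (n : ℕ) (L' : X.Modules), PicF.IsInvertible L' → Subsingleton (Coh.HH X L' 1) →
      Module.finrank k (Coh.HH X L' 0) = m + n →
      ∃ L : X.Modules, PicF.IsInvertible L ∧ Module.finrank k (Coh.HH X L 0) = m ∧
        Subsingleton (Coh.HH X L 1) := by
  intro n
  induction n with
  | zero => exact fun L' hL' h1 h0 => ⟨L', hL', h0, h1⟩
  | succ n ih =>
    intro L' hL' h1 h0
    obtain ⟨L, hL, hd, hform⟩ := exists_twist_drop_reg k hdim L' hL' (by omega)
    have hz1 : Module.finrank k (Coh.HH X L' 1) = 0 := Module.finrank_zero_of_subsingleton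
    have hLc := Groth.Agent.Helper13.CurveDeg.isCoh_of_isInvertible L hL
    haveI : Module.Finite k (Coh.HH X L 1) := Groth.Agent.S0002.result k X _ hLc 1
    have hz : Module.finrank k (Coh.HH X L 1) = 0 := by omega
    have hsub : Subsingleton (Coh.HH X L 1) := Module.finrank_zero_iff.1 hz
    exact ih L hL hsub (by omega)

/-- S1523: invertible modules with `(h⁰, h¹) = (1, 0)` and `(0, 0)`. -/
theorem main1523 (hdim : topologicalKrullDim X = 1) :
    (∃ L : X.Modules, PicF.IsInvertible L ∧ Module.finrank k (Coh.HH X L 0) = 1 ∧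
      Subsingleton (Coh.HH X L 1)) ∧
    (∃ N : X.Modules, PicF.IsInvertible N ∧ Subsingleton (Coh.HH X N 0) ∧
      Subsingleton (Coh.HH X N 1)) := by
  obtain ⟨P, -, hP, hreg⟩ := exists_regular_closedPoint k (⊤ : X.Opens)
    ⟨genericPoint X, trivial⟩
  have hIinv := isInvertible_idealMod_point_of_regular k hdim P hP hreg
  have hIdeg := Groth.Agent.Helper24.PtDeg.deg_idealMod_point k X P hP
  obtain ⟨D, hD, ⟨eID⟩, -⟩ := Groth.Agent.Helper13.InvDual.exists_inverse _ hIinv
  have hdD : Curv2.deg k X D 1 = 1 := by
    have hI1 := Groth.Agent.Helper26.IntLF.isFinLocFreeOfRank_one_of_isInvertible _ hIinv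
    have hD1 := Groth.Agent.Helper26.IntLF.isFinLocFreeOfRank_one_of_isInvertible D hD
    have h := Groth.Agent.Helper26.DegTensor.deg_tensor k X hdim.le _ D 1 1 hI1 hD1
    rw [Groth.Agent.Helper26.DegTensor.deg_of_iso k X eID (1 * 1)] at h
    have h0 : Curv2.deg k X (Coh.structureModule X) (1 * 1) = 0 := by
      unfold Curv2.deg
      simp
    rw [h0, hIdeg] at h
    push_cast at h
    linarith
  have hdpos : 0 < Curv2.deg k X D 1 := by rw [hdD]; norm_num
  have hOc := Groth.Agent.Helper13.CohRoof.isCoh_structureModule X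
  obtain ⟨n₀, hn₀⟩ := Groth.Agent.Helper13.CurveSV.H1_vanishing k X hdim D hD hdpos _ hOc
  obtain ⟨n, hn1, hn2⟩ : ∃ n : ℕ, n₀ ≤ n ∧
      1 - Curv2.euler k X (Coh.structureModule X) ≤ (n : ℤ) :=
    ⟨max n₀ (Int.toNat (1 - Curv2.euler k X (Coh.structureModule X))), le_max_left _ _, by
      have := Int.self_le_toNat (1 - Curv2.euler k X (Coh.structureModule X))
      have h2 : (Int.toNat (1 - Curv2.euler k X (Coh.structureModule X)) : ℤ) ≤
          (max n₀ (Int.toNat (1 - Curv2.euler k X (Coh.structureModule X))) : ℕ) := by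
        exact_mod_cast le_max_right _ _
      linarith⟩
  have hLn : PicF.IsInvertible (CohB1.tensorPow D n) :=
    Groth.Agent.Helper13.Inv.isInvertible_tensorPow D hD n
  have h1 : Subsingleton (Coh.HH X (CohB1.tensorPow D n) 1) := by
    haveI := hn₀ n hn1
    exact (PnMumford.hEquiv k (Groth.Agent.Helper13.Tensor.lid (CohB1.tensorPow D n))
      1).symm.toEquiv.subsingleton
  have h0 := Groth.Agent.Helper13.CurveSV.h0_lower k X hdim D hD hdpos n
  have hpos : 1 ≤ Module.finrank k (Coh.HH X (CohB1.tensorPow D n) 0) := by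
    have : (1 : ℤ) ≤ (Module.finrank k (Coh.HH X (CohB1.tensorPow D n) 0) : ℤ) := by linarith
    exact_mod_cast this
  obtain ⟨L, hL, hL0, hL1⟩ := exists_h0_eq_h1_zero_aux k hdim 1
    (Module.finrank k (Coh.HH X (CohB1.tensorPow D n) 0) - 1) _ hLn h1 (by omega)
  refine ⟨⟨L, hL, hL0, hL1⟩, ?_⟩
  obtain ⟨N, hN, hN0, hN1⟩ := exists_h0_eq_h1_zero_aux k hdim 0 1 L hL hL1 (by omega)
  have hNc := Groth.Agent.Helper13.CurveDeg.isCoh_of_isInvertible N hN
  haveI : Module.Finite k (Coh.HH X N 0) := Groth.Agent.S0002.result k X _ hNc 0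
  exact ⟨N, hN, Module.finrank_zero_iff.1 hN0, hN1⟩

end Main

end Groth.Agent.Helper18.PtReg
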