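import Mathlib
import Groth.Prelude
import Groth.Agent.Lib.Helper18.PseudoTorsPts

set_option autoImplicit false
set_option linter.style.haveILetI false
set_option linter.unusedSectionVars false
universe u
open CategoryTheory MonoidalCategory CartesianMonoidalCategory MonObj GrpObj AlgebraicGeometry Limits

namespace Groth.Agent.Helper18.PushTorsor

open Groth.Agent.Helper18.PseudoTorsPts

variable {S : Scheme.{u}} {G G' Pt : Over S} [GrpObj G] [GrpObj G'] (u : G ⟶ G') [IsMonHom u]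
  (a : AlgGrp.Action G Pt) (hpt : NonAbH1.IsPseudoTorsorSch a)

/-- the unique `g` with `g • p₁ = p₀` -/
noncomputable def gg {A : Over S} (p₀ p₁ : A ⟶ Pt) : A ⟶ G := (pt_exists a hpt p₁ p₀).choose

theorem gg_spec {A : Over S} (p₀ p₁ : A ⟶ Pt) : lift (gg a hpt p₀ p₁) p₁ ≫ a.act = p₀ :=
  (pt_exists a hpt p₁ p₀).choose_spec

theorem gg_unique {A : Over S} (p₀ p₁ : A ⟶ Pt) (g : A ⟶ G) (h : lift g p₁ ≫ a.act = p₀) :
    g = gg a hpt p₀ p₁ :=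
  pt_unique a hpt _ _ p₁ (h.trans (gg_spec a hpt p₀ p₁).symm)

theorem gg_nat {A A' : Over S} (k : A' ⟶ A) (p₀ p₁ : A ⟶ Pt) :
    k ≫ gg a hpt p₀ p₁ = gg a hpt (k ≫ p₀) (k ≫ p₁) := by
  apply gg_unique
  rw [← comp_lift, Category.assoc, gg_spec]

theorem gg_self {A : Over S} (p : A ⟶ Pt) : gg a hpt p p = 1 :=
  (gg_unique a hpt p p 1 (AlgGrp.Action.lift_one_act a p)).symm

theorem gg_mul {A : Over S} (p₀ p₁ p₂ : A ⟶ Pt) :
    gg a hpt p₀ p₁ * gg a hpt p₁ p₂ = gg a hpt p₀ p₂ := by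
  apply gg_unique
  rw [AlgGrp.Action.lift_mul_act, gg_spec, gg_spec]

theorem gg_inv {A : Over S} (p₀ p₁ : A ⟶ Pt) : (gg a hpt p₀ p₁)⁻¹ = gg a hpt p₁ p₀ := by
  rw [inv_eq_iff_mul_eq_one, gg_mul, gg_self]

theorem gg_act {A : Over S} (g : A ⟶ G) (p : A ⟶ Pt) : gg a hpt (lift g p ≫ a.act) p = g :=
  (gg_unique a hpt _ _ g rfl).symm

/-- the twist: change the `Pt`-coordinate of a point of `G' ⊗ Pt` to `p₁`, correcting the
`G'`-coordinate -/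
noncomputable def tw {A : Over S} (m : A ⟶ G' ⊗ Pt) (p₁ : A ⟶ Pt) : A ⟶ G' ⊗ Pt :=
  lift ((m ≫ fst G' Pt) * (gg a hpt (m ≫ snd G' Pt) p₁ ≫ u)) p₁

@[simp] theorem tw_snd {A : Over S} (m : A ⟶ G' ⊗ Pt) (p₁ : A ⟶ Pt) :
    tw u a hpt m p₁ ≫ snd G' Pt = p₁ := lift_snd _ _

@[simp] theorem tw_fst {A : Over S} (m : A ⟶ G' ⊗ Pt) (p₁ : A ⟶ Pt) :
    tw u a hpt m p₁ ≫ fst G' Pt = (m ≫ fst G' Pt) * (gg a hpt (m ≫ snd G' Pt) p₁ ≫ u) :=
  lift_fst _ _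

theorem tw_nat {A A' : Over S} (k : A' ⟶ A) (m : A ⟶ G' ⊗ Pt) (p₁ : A ⟶ Pt) :
    k ≫ tw u a hpt m p₁ = tw u a hpt (k ≫ m) (k ≫ p₁) := by
  unfold tw
  rw [comp_lift, MonObj.comp_mul, ← Category.assoc k (gg a hpt _ _), gg_nat, Category.assoc,
    Category.assoc]

theorem tw_self {A : Over S} (m : A ⟶ G' ⊗ Pt) : tw u a hpt m (m ≫ snd G' Pt) = m := by
  apply CartesianMonoidalCategory.hom_ext
  · rw [tw_fst, gg_self, MonObj.one_comp, _root_.mul_one]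
  · rw [tw_snd]

theorem tw_tw {A : Over S} (m : A ⟶ G' ⊗ Pt) (p₁ p₂ : A ⟶ Pt) :
    tw u a hpt (tw u a hpt m p₁) p₂ = tw u a hpt m p₂ := by
  apply CartesianMonoidalCategory.hom_ext
  · rw [tw_fst, tw_fst, tw_snd, tw_fst, _root_.mul_assoc, ← MonObj.mul_comp, gg_mul]
  · rw [tw_snd, tw_snd]

theorem tw_lift {A : Over S} (h : A ⟶ G') (p p₁ : A ⟶ Pt) :
    tw u a hpt (lift h p) p₁ = lift (h * (gg a hpt p p₁ ≫ u)) p₁ := by
  unfold tw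
  rw [lift_fst, lift_snd]

end Groth.Agent.Helper18.PushTorsor
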