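import Mathlib
import Groth.Prelude
import Groth.Agent.Lib.Helper18.PushTorsor1
import Groth.Agent.Lib.Helper21.DescA

set_option autoImplicit false
set_option linter.style.haveILetI false
set_option linter.unusedSectionVars false
universe u
open CategoryTheory MonoidalCategory CartesianMonoidalCategory MonObj GrpObj AlgebraicGeometry Limits

namespace Groth.Agent.Helper18.PushTorsor

open Groth.Agent.Helper18.PseudoTorsPts Desc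

variable {S : Scheme.{u}} {G G' Pt : Over S} [GrpObj G] [GrpObj G'] (u : G ⟶ G') [IsMonHom u]
  (a : AlgGrp.Action G Pt) (hpt : NonAbH1.IsPseudoTorsorSch a)

theorem lifts_w {A : Over S} {x : A.left ⟶ Pt.left} (hx : x ≫ Pt.hom = A.hom)
    (v : Lifts (Over.mk (snd G' Pt).left) x) : v.1 ≫ (G' ⊗ Pt).hom = A.hom := by
  have e : v.1 ≫ (snd G' Pt).left = x := v.2
  rw [← Over.w (snd G' Pt), ← Category.assoc, e, hx]

/-- a lift as a morphism over `S` -/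
noncomputable def toOv {A : Over S} {x : A.left ⟶ Pt.left} (hx : x ≫ Pt.hom = A.hom)
    (v : Lifts (Over.mk (snd G' Pt).left) x) : A ⟶ G' ⊗ Pt := Over.homMk v.1 (lifts_w hx v)

theorem toOv_snd {A : Over S} {x : A.left ⟶ Pt.left} (hx : x ≫ Pt.hom = A.hom)
    (v : Lifts (Over.mk (snd G' Pt).left) x) : toOv hx v ≫ snd G' Pt = Over.homMk x hx := by
  apply Over.OverMorphism.ext
  exact v.2

/-- the gluing map on points -/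
noncomputable def phiFun {A : Over S} {x₀ x₁ : A.left ⟶ Pt.left} (hx₀ : x₀ ≫ Pt.hom = A.hom)
    (hx₁ : x₁ ≫ Pt.hom = A.hom) (v : Lifts (Over.mk (snd G' Pt).left) x₀) :
    Lifts (Over.mk (snd G' Pt).left) x₁ :=
  ⟨(tw u a hpt (toOv hx₀ v) (Over.homMk x₁ hx₁)).left, by
    have := congrArg (fun k => k.left) (tw_snd u a hpt (toOv hx₀ v) (Over.homMk x₁ hx₁))
    exact this⟩

theorem toOv_phiFun {A : Over S} {x₀ x₁ : A.left ⟶ Pt.left} (hx₀ : x₀ ≫ Pt.hom = A.hom)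
    (hx₁ : x₁ ≫ Pt.hom = A.hom) (v : Lifts (Over.mk (snd G' Pt).left) x₀) :
    toOv hx₁ (phiFun u a hpt hx₀ hx₁ v) = tw u a hpt (toOv hx₀ v) (Over.homMk x₁ hx₁) := by
  apply Over.OverMorphism.ext
  rfl

theorem phiFun_comp {A : Over S} {x₀ x₁ x₂ : A.left ⟶ Pt.left} (hx₀ : x₀ ≫ Pt.hom = A.hom)
    (hx₁ : x₁ ≫ Pt.hom = A.hom) (hx₂ : x₂ ≫ Pt.hom = A.hom)
    (v : Lifts (Over.mk (snd G' Pt).left) x₀) :
    phiFun u a hpt hx₁ hx₂ (phiFun u a hpt hx₀ hx₁ v) = phiFun u a hpt hx₀ hx₂ v := by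
  apply Subtype.ext
  change (tw u a hpt (toOv hx₁ (phiFun u a hpt hx₀ hx₁ v)) (Over.homMk x₂ hx₂)).left = _
  rw [toOv_phiFun, tw_tw]
  rfl

theorem phiFun_self {A : Over S} {x : A.left ⟶ Pt.left} (hx : x ≫ Pt.hom = A.hom)
    (v : Lifts (Over.mk (snd G' Pt).left) x) : phiFun u a hpt hx hx v = v := by
  apply Subtype.ext
  change (tw u a hpt (toOv hx v) (Over.homMk x hx)).left = _
  rw [← toOv_snd hx v, tw_self]
  rfl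

theorem phiFun_nat {A A' : Over S} (k : A' ⟶ A) {x₀ x₁ : A.left ⟶ Pt.left}
    (hx₀ : x₀ ≫ Pt.hom = A.hom) (hx₁ : x₁ ≫ Pt.hom = A.hom) {y₀ y₁ : A'.left ⟶ Pt.left}
    (hy₀ : y₀ ≫ Pt.hom = A'.hom) (hy₁ : y₁ ≫ Pt.hom = A'.hom)
    (e₁ : k.left ≫ x₁ = y₁) (v : Lifts (Over.mk (snd G' Pt).left) x₀)
    (v' : Lifts (Over.mk (snd G' Pt).left) y₀) (hv : v'.1 = k.left ≫ v.1) :
    (phiFun u a hpt hy₀ hy₁ v').1 = k.left ≫ (phiFun u a hpt hx₀ hx₁ v).1 := by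
  have h1 : toOv hy₀ v' = k ≫ toOv hx₀ v := by
    apply Over.OverMorphism.ext
    exact hv
  have h2 : (Over.homMk y₁ hy₁ : A' ⟶ Pt) = k ≫ Over.homMk x₁ hx₁ := by
    apply Over.OverMorphism.ext
    exact e₁.symm
  change (tw u a hpt (toOv hy₀ v') (Over.homMk y₁ hy₁)).left =
    k.left ≫ (tw u a hpt (toOv hx₀ v) (Over.homMk x₁ hx₁)).left
  rw [h1, h2, ← tw_nat]
  rfl

theorem phiFun_indep {T : Scheme.{u}} {t t' : T ⟶ S} (ht : t = t') {x₀ x₁ : T ⟶ Pt.left}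
    (hx₀ : x₀ ≫ Pt.hom = t) (hx₁ : x₁ ≫ Pt.hom = t) (hx₀' : x₀ ≫ Pt.hom = t')
    (hx₁' : x₁ ≫ Pt.hom = t') (v : Lifts (Over.mk (snd G' Pt).left) x₀) :
    (phiFun u a hpt (A := Over.mk t) hx₀ hx₁ v).1 =
      (phiFun u a hpt (A := Over.mk t') hx₀' hx₁' v).1 := by
  subst ht
  rfl

theorem phiFun_nat_mk {T T' : Scheme.{u}} (g : T' ⟶ T) {x₀ x₁ : T ⟶ Pt.left}
    (h : x₀ ≫ Pt.hom = x₁ ≫ Pt.hom) {y₀ y₁ : T' ⟶ Pt.left} (h' : y₀ ≫ Pt.hom = y₁ ≫ Pt.hom)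
    (e₀ : g ≫ x₀ = y₀) (e₁ : g ≫ x₁ = y₁) (v : Lifts (Over.mk (snd G' Pt).left) x₀)
    (v' : Lifts (Over.mk (snd G' Pt).left) y₀) (hv : v'.1 = g ≫ v.1) :
    (phiFun u a hpt (A := Over.mk (y₀ ≫ Pt.hom)) rfl h'.symm v').1 =
      g ≫ (phiFun u a hpt (A := Over.mk (x₀ ≫ Pt.hom)) rfl h.symm v).1 := by
  have hk : g ≫ (Over.mk (x₀ ≫ Pt.hom)).hom = (Over.mk (y₀ ≫ Pt.hom)).hom := by
    change g ≫ x₀ ≫ Pt.hom = y₀ ≫ Pt.hom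
    rw [← e₀, Category.assoc]
  exact phiFun_nat u a hpt (A := Over.mk (x₀ ≫ Pt.hom)) (A' := Over.mk (y₀ ≫ Pt.hom))
    (Over.homMk g hk) rfl h.symm rfl h'.symm e₁ v v' hv

/-- the gluing bijection -/
noncomputable def phiEquiv {T : Scheme.{u}} (x₀ x₁ : T ⟶ Pt.left) (h : x₀ ≫ Pt.hom = x₁ ≫ Pt.hom) :
    Lifts (Over.mk (snd G' Pt).left) x₀ ≃ Lifts (Over.mk (snd G' Pt).left) x₁ where
  toFun := phiFun u a hpt (A := Over.mk (x₀ ≫ Pt.hom)) rfl h.symm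
  invFun := phiFun u a hpt (A := Over.mk (x₀ ≫ Pt.hom)) h.symm rfl
  left_inv := fun v => by rw [phiFun_comp, phiFun_self]
  right_inv := fun v => by rw [phiFun_comp, phiFun_self]

theorem phiEquiv_val {T : Scheme.{u}} (x₀ x₁ : T ⟶ Pt.left) (h : x₀ ≫ Pt.hom = x₁ ≫ Pt.hom)
    (v : Lifts (Over.mk (snd G' Pt).left) x₀) :
    (phiEquiv u a hpt x₀ x₁ h v).1 =
      (phiFun u a hpt (A := Over.mk (x₀ ≫ Pt.hom)) rfl h.symm v).1 := rfl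

theorem phiEquiv_comp {T : Scheme.{u}} (x₀ x₁ x₂ : T ⟶ Pt.left)
    (h₀₁ : x₀ ≫ Pt.hom = x₁ ≫ Pt.hom) (h₁₂ : x₁ ≫ Pt.hom = x₂ ≫ Pt.hom)
    (v : Lifts (Over.mk (snd G' Pt).left) x₀) :
    phiEquiv u a hpt x₁ x₂ h₁₂ (phiEquiv u a hpt x₀ x₁ h₀₁ v) =
      phiEquiv u a hpt x₀ x₂ (h₀₁.trans h₁₂) v := by
  apply Subtype.ext
  rw [phiEquiv_val, phiEquiv_val]
  refine (phiFun_indep u a hpt h₀₁.symm rfl h₁₂.symm h₀₁.symm (h₀₁.trans h₁₂).symm _).trans ?_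
  have : phiEquiv u a hpt x₀ x₁ h₀₁ v =
      phiFun u a hpt (A := Over.mk (x₀ ≫ Pt.hom)) rfl h₀₁.symm v := rfl
  rw [this, phiFun_comp]

/-- the descent datum on `G' ×_S Pt` relative to `Pt ⟶ S` defining the contracted product -/
noncomputable def DD : SchDDFam (fun _ : PUnit.{u + 1} => Pt.hom) where
  obj _ := Over.mk (snd G' Pt).left
  φ T _ _ x₀ x₁ h := phiEquiv u a hpt x₀ x₁ h
  φ_natural T T' g _ _ x₀ x₁ h y₀ y₁ hy₀ hy₁ h' v v' hv' :=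
    phiFun_nat_mk u a hpt g h h' hy₀ hy₁ v v' hv'
  φ_self T _ x v := phiFun_self u a hpt (A := Over.mk (x ≫ Pt.hom)) rfl v
  φ_comp T _ _ _ x₀ x₁ x₂ h₀₁ h₁₂ v := phiEquiv_comp u a hpt x₀ x₁ x₂ h₀₁ h₁₂ v

theorem DD_φ_val_mk {T : Scheme.{u}} {t : T ⟶ S} {x₀ x₁ : T ⟶ Pt.left} (hx₀ : x₀ ≫ Pt.hom = t)
    (hx₁ : x₁ ≫ Pt.hom = t) (v : Lifts (Over.mk (snd G' Pt).left) x₀) :
    ((DD u a hpt).φ (i := PUnit.unit) (j := PUnit.unit) x₀ x₁ (hx₀.trans hx₁.symm) v).1 =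
      (phiFun u a hpt (A := Over.mk t) hx₀ hx₁ v).1 := by
  subst hx₀
  rfl

theorem DD_φ_val {A : Over S} {x₀ x₁ : A.left ⟶ Pt.left} (hx₀ : x₀ ≫ Pt.hom = A.hom)
    (hx₁ : x₁ ≫ Pt.hom = A.hom) (v : Lifts (Over.mk (snd G' Pt).left) x₀) :
    ((DD u a hpt).φ (i := PUnit.unit) (j := PUnit.unit) x₀ x₁ (hx₀.trans hx₁.symm) v).1 =
      (phiFun u a hpt hx₀ hx₁ v).1 :=
  DD_φ_val_mk u a hpt (t := A.hom) hx₀ hx₁ v

end Groth.Agent.Helper18.PushTorsor
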