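import Mathlib
import Groth.Prelude
import Groth.Agent.Lib.Helper18.PushTorsor2
import Groth.Agent.Lib.Helper18.TorsorMap0
import Groth.Agent.Lib.Helper21.DescProp
import Groth.Agent.Lib.Helper21.DescR

set_option autoImplicit false
set_option linter.style.haveILetI false
set_option linter.unusedSectionVars false
universe u
open CategoryTheory MonoidalCategory CartesianMonoidalCategory MonObj GrpObj AlgebraicGeometry Limits

namespace Groth.Agent.Helper18.PushTorsor

open Groth.Agent.Helper18.PseudoTorsPts Desc Groth.Agent.Helper21.DescA Groth.Agent.Helper21.DescR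
  Groth.Agent.Helper18.FpqcCov Groth.Agent.Helper18.TorsorMap

variable {S : Scheme.{u}} {G G' Pt : Over S} [GrpObj G] [GrpObj G'] (u : G ⟶ G') [IsMonHom u]
  (a : AlgGrp.Action G Pt) (hpt : NonAbH1.IsPseudoTorsorSch a)

theorem exists_cone [IsAffineHom G'.hom] {κ : Type u} {Y : κ → Scheme.{u}} (f : ∀ i, Y i ⟶ S)
    (hf : Presieve.ofArrows Y f ∈ Scheme.fpqcPrecoverage S) (s : ∀ i, Y i ⟶ Pt.left)
    (hs : ∀ i, s i ≫ Pt.hom = f i) : Nonempty (Cone (DD u a hpt)) := by
  have w : ∀ k, s k ≫ (fun _ : PUnit.{u + 1} => Pt.hom) PUnit.unit = f k ≫ 𝟙 S := fun k => by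
    rw [Category.comp_id]; exact hs k
  have hA : ((pullDDFam (α := fun _ => PUnit.unit) (p := 𝟙 S) (p' := s) w).obj
      (DD u a hpt)).IsEffective := by
    refine Groth.Agent.Helper21.DescProp.affine_isEffective f hf _ (fun i => ?_)
    change IsAffineHom (pullback.snd (snd G' Pt).left (s i))
    have h1 : IsAffineHom (snd G' Pt).left := by
      change IsAffineHom (pullback.snd G'.hom Pt.hom)
      exact MorphismProperty.pullback_snd (P := @IsAffineHom) _ _ inferInstance
    exact MorphismProperty.pullback_snd (P := @IsAffineHom) _ _ h1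
  obtain ⟨c'⟩ := nonempty_cone_of_isEffective hA
  exact nonempty_cone_of_pull (f := fun _ : PUnit.{u + 1} => Pt.hom) (α := fun _ => PUnit.unit)
    (q := s) w hf (DD u a hpt) c'

variable (c : Cone (DD u a hpt))

/-- the quotient map on underlying schemes -/
noncomputable def piL : (G' ⊗ Pt).left ⟶ c.U.left := c.π PUnit.unit

theorem isPullback_piL : IsPullback (snd G' Pt).left (piL u a hpt c) Pt.hom c.U.hom :=
  c.isPullback PUnit.unit

/-- the quotient map `G' ⊗ Pt ⟶ U` -/
noncomputable def piO : G' ⊗ Pt ⟶ c.U :=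
  Over.homMk (piL u a hpt c) (by
    have h1 := (isPullback_piL u a hpt c).w
    rw [← h1]
    exact Over.w (snd G' Pt))

theorem exists_lift {A : Over S} (p : A ⟶ Pt) (r : A ⟶ c.U) :
    ∃ m : A ⟶ G' ⊗ Pt, m ≫ snd G' Pt = p ∧ m ≫ piO u a hpt c = r := by
  have h0 : p.left ≫ Pt.hom = r.left ≫ c.U.hom := by rw [Over.w, Over.w]
  have hw : (isPullback_piL u a hpt c).lift p.left r.left h0 ≫ (G' ⊗ Pt).hom = A.hom := by
    rw [← Over.w (snd G' Pt), ← Category.assoc, (isPullback_piL u a hpt c).lift_fst, Over.w]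
  refine ⟨Over.homMk ((isPullback_piL u a hpt c).lift p.left r.left h0) hw, ?_, ?_⟩
  · apply Over.OverMorphism.ext
    exact (isPullback_piL u a hpt c).lift_fst p.left r.left h0
  · apply Over.OverMorphism.ext
    exact (isPullback_piL u a hpt c).lift_snd p.left r.left h0

theorem lift_unique {A : Over S} (m m' : A ⟶ G' ⊗ Pt) (h1 : m ≫ snd G' Pt = m' ≫ snd G' Pt)
    (h2 : m ≫ piO u a hpt c = m' ≫ piO u a hpt c) : m = m' := by
  apply Over.OverMorphism.ext
  refine (isPullback_piL u a hpt c).hom_ext ?_ ?_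
  · exact congrArg (fun k => k.left) h1
  · exact congrArg (fun k => k.left) h2

theorem tw_piO {A : Over S} (m : A ⟶ G' ⊗ Pt) (p₁ : A ⟶ Pt) :
    tw u a hpt m p₁ ≫ piO u a hpt c = m ≫ piO u a hpt c := by
  apply Over.OverMorphism.ext
  have hx₀ : (m ≫ snd G' Pt).left ≫ Pt.hom = A.hom := Over.w _
  have hx₁ : p₁.left ≫ Pt.hom = A.hom := Over.w _
  let v : Lifts (Over.mk (snd G' Pt).left) (m ≫ snd G' Pt).left := ⟨m.left, rfl⟩
  have h1 := c.inv (i := PUnit.unit) (j := PUnit.unit) (m ≫ snd G' Pt).left p₁.left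
    (hx₀.trans hx₁.symm) v
  rw [DD_φ_val u a hpt hx₀ hx₁ v] at h1
  have e1 : toOv hx₀ v = m := by
    apply Over.OverMorphism.ext
    rfl
  have e2 : (Over.homMk p₁.left hx₁ : A ⟶ Pt) = p₁ := by
    apply Over.OverMorphism.ext
    rfl
  change (tw u a hpt (toOv hx₀ v) (Over.homMk p₁.left hx₁)).left ≫ piL u a hpt c =
    m.left ≫ piL u a hpt c at h1
  rw [e1, e2] at h1
  exact h1

theorem eq_tw_of_piO {A : Over S} (m m' : A ⟶ G' ⊗ Pt)
    (h : m ≫ piO u a hpt c = m' ≫ piO u a hpt c) : m' = tw u a hpt m (m' ≫ snd G' Pt) := by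
  apply lift_unique u a hpt c
  · rw [tw_snd]
  · rw [tw_piO, h]

theorem isFpqcCov_piO (hloc : NonAbH1.IsLocallyTrivialFor Scheme.fpqcPrecoverage Pt) :
    IsFpqcCov (piO u a hpt c).left :=
  IsFpqcCov.of_isPullback (isPullback_piL u a hpt c) (isFpqcCov_hom hloc)

end Groth.Agent.Helper18.PushTorsor
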