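import Mathlib
import Groth.Prelude
import Groth.Agent.Lib.Helper18.PushTorsor1
import Groth.Agent.Lib.Helper18.TorsorMap0

set_option autoImplicit false
set_option linter.style.haveILetI false
set_option linter.unusedSectionVars false
universe u
open CategoryTheory MonoidalCategory CartesianMonoidalCategory MonObj GrpObj AlgebraicGeometry Limits

namespace Groth.Agent.Helper18.PushTorsor

open Groth.Agent.Helper18.PseudoTorsPts Groth.Agent.Helper18.FpqcCov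
  Groth.Agent.Helper18.TorsorMap Groth.Agent.Helper18.FlatEpi

variable {S : Scheme.{u}} {G G' Pt : Over S} [GrpObj G] [GrpObj G'] (u : G ⟶ G') [IsMonHom u]
  (a : AlgGrp.Action G Pt) (hpt : NonAbH1.IsPseudoTorsorSch a) {U : Over S} (π : G' ⊗ Pt ⟶ U)

/-- `π : G' ⊗ Pt ⟶ U` is a quotient by the twisted diagonal action of `G` -/
structure IsQuot : Prop where
  tw_π : ∀ {A : Over S} (m : A ⟶ G' ⊗ Pt) (p₁ : A ⟶ Pt), tw u a hpt m p₁ ≫ π = m ≫ π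
  eq_tw : ∀ {A : Over S} (m m' : A ⟶ G' ⊗ Pt), m ≫ π = m' ≫ π →
    m' = tw u a hpt m (m' ≫ snd G' Pt)
  cov : IsFpqcCov π.left

/-- the action before descent -/
noncomputable def psi : G' ⊗ (G' ⊗ Pt) ⟶ U :=
  lift (fst G' (G' ⊗ Pt) * (snd G' (G' ⊗ Pt) ≫ fst G' Pt)) (snd G' (G' ⊗ Pt) ≫ snd G' Pt) ≫ π

theorem psi_pt {A : Over S} (h : A ⟶ G') (m : A ⟶ G' ⊗ Pt) :
    lift h m ≫ psi π = lift (h * (m ≫ fst G' Pt)) (m ≫ snd G' Pt) ≫ π := by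
  unfold psi
  rw [← Category.assoc, comp_lift, MonObj.comp_mul, lift_fst, lift_snd_assoc, lift_snd_assoc]

variable {u a hpt π}

theorem exists_act (hq : IsQuot u a hpt π) : ∃ act' : G' ⊗ U ⟶ U, (G' ◁ π) ≫ act' = psi π := by
  haveI : EffectiveEpi (G' ◁ π).left := (hq.cov.whiskerLeft G').effectiveEpi
  apply exists_desc
  intro T g₁ g₂ hg
  have e1 : g₁ = lift (g₁ ≫ fst _ _) (g₁ ≫ snd _ _) := (lift_comp_fst_snd g₁).symm
  have e2 : g₂ = lift (g₂ ≫ fst _ _) (g₂ ≫ snd _ _) := (lift_comp_fst_snd g₂).symm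
  have hh : g₁ ≫ fst _ _ = g₂ ≫ fst _ _ := by
    have := congrArg (fun k => k ≫ fst G' U) hg
    simpa only [Category.assoc, whiskerLeft_fst] using this
  have hm : (g₁ ≫ snd _ _) ≫ π = (g₂ ≫ snd _ _) ≫ π := by
    have := congrArg (fun k => k ≫ snd G' U) hg
    simpa only [Category.assoc, whiskerLeft_snd] using this
  obtain ⟨h₁, hh₁⟩ : ∃ h₁, h₁ = g₁ ≫ fst _ _ := ⟨_, rfl⟩
  obtain ⟨m₁, hm₁⟩ : ∃ m₁, m₁ = g₁ ≫ snd _ _ := ⟨_, rfl⟩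
  obtain ⟨m₂, hm₂⟩ : ∃ m₂, m₂ = g₂ ≫ snd _ _ := ⟨_, rfl⟩
  rw [← hh₁, ← hm₁] at e1
  rw [← hh, ← hh₁, ← hm₂] at e2
  rw [← hm₁, ← hm₂] at hm
  have h3 := hq.eq_tw m₁ m₂ hm
  obtain ⟨p, hp⟩ : ∃ p, p = m₂ ≫ snd G' Pt := ⟨_, rfl⟩
  rw [← hp] at h3
  rw [e1, e2, psi_pt, psi_pt, h3, tw_fst, tw_snd, ← _root_.mul_assoc, ← tw_lift, hq.tw_π]

/-- points form of the descended action -/
theorem act_pt (hq : IsQuot u a hpt π) {act' : G' ⊗ U ⟶ U} (hact : (G' ◁ π) ≫ act' = psi π)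
    {A : Over S} (h : A ⟶ G') (m : A ⟶ G' ⊗ Pt) :
    lift h (m ≫ π) ≫ act' = lift (h * (m ≫ fst G' Pt)) (m ≫ snd G' Pt) ≫ π := by
  rw [← lift_whiskerLeft, Category.assoc, hact, psi_pt]

theorem hom_ext_π (hq : IsQuot u a hpt π) {X Z : Over S} {f g : X ⊗ U ⟶ Z}
    (h : ∀ (T : Over S) (x : T ⟶ X) (m : T ⟶ G' ⊗ Pt),
      lift x (m ≫ π) ≫ f = lift x (m ≫ π) ≫ g) : f = g := by
  haveI : Epi (X ◁ π) := (hq.cov.whiskerLeft X).epi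
  rw [← cancel_epi (X ◁ π)]
  apply AlgGrp.Action.hom_ext_lift₂
  intro T x m
  rw [lift_whiskerLeft_assoc, lift_whiskerLeft_assoc]
  exact h T x m

/-- the descended action -/
noncomputable def mkAction (hq : IsQuot u a hpt π) {act' : G' ⊗ U ⟶ U}
    (hact : (G' ◁ π) ≫ act' = psi π) : AlgGrp.Action G' U where
  act := act'
  one_act := by
    apply hom_ext_π hq
    intro T e m
    rw [lift_whiskerRight_assoc, leftUnitor_hom, lift_snd]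
    have : e ≫ η[G'] = 1 := by rw [Hom.one_def]; congr 1; exact toUnit_unique _ _
    rw [this, act_pt hq hact, _root_.one_mul, lift_comp_fst_snd]
  mul_act := by
    apply hom_ext_π hq
    intro T x m
    have ex : x = lift (x ≫ fst _ _) (x ≫ snd _ _) := (lift_comp_fst_snd x).symm
    obtain ⟨h, hh⟩ : ∃ h, h = x ≫ fst G' G' := ⟨_, rfl⟩
    obtain ⟨k, hk⟩ : ∃ k, k = x ≫ snd G' G' := ⟨_, rfl⟩
    rw [← hh, ← hk] at ex
    rw [ex, lift_whiskerRight_assoc, ← Hom.mul_def, act_pt hq hact,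
      lift_lift_associator_hom_assoc, lift_whiskerLeft_assoc, act_pt hq hact, act_pt hq hact,
      lift_fst, lift_snd, _root_.mul_assoc]

variable (π) in
/-- the canonical equivariant map `Pt ⟶ U` -/
noncomputable def qmap : Pt ⟶ U := lift (1 : Pt ⟶ G') (𝟙 Pt) ≫ π

theorem comp_qmap {A : Over S} (p : A ⟶ Pt) : p ≫ qmap π = lift (1 : A ⟶ G') p ≫ π := by
  unfold qmap
  rw [← Category.assoc, comp_lift, MonObj.comp_one, Category.comp_id]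

theorem qmap_equivariant (hq : IsQuot u a hpt π) {act' : G' ⊗ U ⟶ U}
    (hact : (G' ◁ π) ≫ act' = psi π) :
    a.act ≫ qmap π = lift (fst G Pt ≫ u) (snd G Pt ≫ qmap π) ≫ act' := by
  apply AlgGrp.Action.hom_ext_lift₂
  intro T g p
  rw [← Category.assoc, comp_qmap, ← Category.assoc (lift g p), comp_lift, lift_fst_assoc,
    lift_snd_assoc, comp_qmap, act_pt hq hact, lift_fst, lift_snd, _root_.mul_one,
    ← hq.tw_π (lift 1 (lift g p ≫ a.act)) p, tw_lift, gg_act, _root_.one_mul]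

/-- the division map before descent -/
noncomputable def delta : (G' ⊗ Pt) ⊗ (G' ⊗ Pt) ⟶ G' :=
  (fst _ _ ≫ fst G' Pt) * (gg a hpt (fst _ _ ≫ snd G' Pt) (snd _ _ ≫ snd G' Pt) ≫ u) *
    (snd _ _ ≫ fst G' Pt)⁻¹

theorem delta_pt {A : Over S} (m n : A ⟶ G' ⊗ Pt) :
    lift m n ≫ delta (u := u) (a := a) (hpt := hpt) =
      (m ≫ fst G' Pt) * (gg a hpt (m ≫ snd G' Pt) (n ≫ snd G' Pt) ≫ u) * (n ≫ fst G' Pt)⁻¹ := by
  unfold delta
  rw [MonObj.comp_mul, MonObj.comp_mul, GrpObj.comp_inv, ← Category.assoc (lift m n) (gg a hpt _ _),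
    gg_nat, lift_fst_assoc, lift_snd_assoc, lift_fst_assoc, lift_snd_assoc]

theorem exists_div (hq : IsQuot u a hpt π) :
    ∃ d : U ⊗ U ⟶ G', (π ⊗ₘ π) ≫ d = delta (u := u) (a := a) (hpt := hpt) := by
  haveI : EffectiveEpi (π ⊗ₘ π).left := (hq.cov.tensorHom hq.cov).effectiveEpi
  apply exists_desc
  intro T g₁ g₂ hg
  have e1 : g₁ = lift (g₁ ≫ fst _ _) (g₁ ≫ snd _ _) := (lift_comp_fst_snd g₁).symm
  have e2 : g₂ = lift (g₂ ≫ fst _ _) (g₂ ≫ snd _ _) := (lift_comp_fst_snd g₂).symm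
  have hm : (g₁ ≫ fst _ _) ≫ π = (g₂ ≫ fst _ _) ≫ π := by
    have := congrArg (fun k => k ≫ fst U U) hg
    simpa only [Category.assoc, tensorHom_fst] using this
  have hn : (g₁ ≫ snd _ _) ≫ π = (g₂ ≫ snd _ _) ≫ π := by
    have := congrArg (fun k => k ≫ snd U U) hg
    simpa only [Category.assoc, tensorHom_snd] using this
  obtain ⟨m₁, hm₁⟩ : ∃ m₁, m₁ = g₁ ≫ fst _ _ := ⟨_, rfl⟩
  obtain ⟨n₁, hn₁⟩ : ∃ n₁, n₁ = g₁ ≫ snd _ _ := ⟨_, rfl⟩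
  obtain ⟨m₂, hm₂⟩ : ∃ m₂, m₂ = g₂ ≫ fst _ _ := ⟨_, rfl⟩
  obtain ⟨n₂, hn₂⟩ : ∃ n₂, n₂ = g₂ ≫ snd _ _ := ⟨_, rfl⟩
  rw [← hm₁, ← hn₁] at e1
  rw [← hm₂, ← hn₂] at e2
  rw [← hm₁, ← hm₂] at hm
  rw [← hn₁, ← hn₂] at hn
  have h3 := hq.eq_tw m₁ m₂ hm
  have h4 := hq.eq_tw n₁ n₂ hn
  obtain ⟨p, hp⟩ : ∃ p, p = m₂ ≫ snd G' Pt := ⟨_, rfl⟩
  obtain ⟨q, hq'⟩ : ∃ q, q = n₂ ≫ snd G' Pt := ⟨_, rfl⟩
  rw [← hp] at h3
  rw [← hq'] at h4
  rw [e1, e2, delta_pt, delta_pt, h3, h4, tw_fst, tw_snd, tw_fst, tw_snd]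
  have key : (gg a hpt (m₁ ≫ snd G' Pt) p ≫ u) * (gg a hpt p q ≫ u) *
      (gg a hpt (n₁ ≫ snd G' Pt) q ≫ u)⁻¹ =
      gg a hpt (m₁ ≫ snd G' Pt) (n₁ ≫ snd G' Pt) ≫ u := by
    rw [← GrpObj.inv_comp, ← MonObj.mul_comp, ← MonObj.mul_comp, gg_mul, gg_inv, gg_mul]
  rw [← key]
  group

end Groth.Agent.Helper18.PushTorsor
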