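import Mathlib
import Groth.Prelude
import Groth.Agent.Lib.Helper18.PushTorsor0
import Groth.Agent.Lib.Helper18.PushTorsor3
import Groth.Agent.Lib.Helper18.PushTorsor4

set_option autoImplicit false
set_option linter.style.haveILetI false
set_option linter.unusedSectionVars false
universe u
open CategoryTheory MonoidalCategory CartesianMonoidalCategory MonObj GrpObj AlgebraicGeometry Limits

namespace Groth.Agent.Helper18.PushTorsor

open Groth.Agent.Helper18.PseudoTorsPts Groth.Agent.Helper18.FpqcCov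
  Groth.Agent.Helper18.TorsorMap Groth.Agent.Helper18.FlatEpi

variable {S : Scheme.{u}} {G G' Pt : Over S} [GrpObj G] [GrpObj G'] {u : G ⟶ G'} [IsMonHom u]
  {a : AlgGrp.Action G Pt} {hpt : NonAbH1.IsPseudoTorsorSch a} {U : Over S} {π : G' ⊗ Pt ⟶ U}

theorem div_spec_E (hq : IsQuot u a hpt π) {act' : G' ⊗ U ⟶ U}
    (hact : (G' ◁ π) ≫ act' = psi π) {d : U ⊗ U ⟶ G'}
    (hd : (π ⊗ₘ π) ≫ d = delta (u := u) (a := a) (hpt := hpt)) :
    lift d (snd U U) ≫ act' = fst U U := by
  haveI : Epi (π ⊗ₘ π) := (hq.cov.tensorHom hq.cov).epi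
  rw [← cancel_epi (π ⊗ₘ π)]
  apply AlgGrp.Action.hom_ext_lift₂
  intro T m n
  have e : lift (m ≫ π) (n ≫ π) ≫ d = lift m n ≫ delta (u := u) (a := a) (hpt := hpt) := by
    rw [← hd, lift_map_assoc]
  rw [lift_map_assoc, lift_map_assoc, lift_fst, ← Category.assoc, comp_lift, lift_snd, e,
    delta_pt, act_pt hq hact, inv_mul_cancel_right]
  exact hq.tw_π m (n ≫ snd G' Pt)

theorem div_spec_U (hq : IsQuot u a hpt π) {act' : G' ⊗ U ⟶ U}
    (hact : (G' ◁ π) ≫ act' = psi π) {d : U ⊗ U ⟶ G'}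
    (hd : (π ⊗ₘ π) ≫ d = delta (u := u) (a := a) (hpt := hpt)) :
    lift act' (snd G' U) ≫ d = fst G' U := by
  apply hom_ext_π hq
  intro T h m
  rw [← Category.assoc, comp_lift, lift_snd, lift_fst, act_pt hq hact, ← lift_map, Category.assoc,
    hd, delta_pt, lift_fst, lift_snd, gg_self, MonObj.one_comp, _root_.mul_one,
    mul_inv_cancel_right]

theorem isPseudoTorsor_mk (hq : IsQuot u a hpt π) {act' : G' ⊗ U ⟶ U}
    (hact : (G' ◁ π) ≫ act' = psi π) : NonAbH1.IsPseudoTorsorSch (mkAction hq hact) := by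
  obtain ⟨d, hd⟩ := exists_div hq
  have hE := div_spec_E hq hact hd
  have hU := div_spec_U hq hact hd
  apply isPseudoTorsorSch_of_pts
  · intro T r r'
    refine ⟨lift r' r ≫ d, ?_⟩
    have e : lift (lift r' r ≫ d) r = lift r' r ≫ lift d (snd U U) := by
      rw [comp_lift, lift_snd]
    change lift (lift r' r ≫ d) r ≫ act' = r'
    rw [e, Category.assoc, hE, lift_fst]
  · intro T h h' r hh
    change lift h r ≫ act' = lift h' r ≫ act' at hh
    have e1 : ∀ k : T ⟶ G', k = lift (lift k r ≫ act') r ≫ d := by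
      intro k
      have : lift (lift k r ≫ act') r = lift k r ≫ lift act' (snd G' U) := by
        rw [comp_lift, lift_snd]
      rw [this, Category.assoc, hU, lift_fst]
    rw [e1 h, e1 h', hh]

/-- **Pushforward of an fpqc torsor along a homomorphism to an affine group.** -/
theorem main {X : Scheme.{u}} {J J' : Over X} [GrpObj J] [GrpObj J'] [IsAffineHom J'.hom]
    (v : J ⟶ J') [IsMonHom v] (P : NonAbH1.TorsorSch J Scheme.fpqcPrecoverage) :
    ∃ P' : NonAbH1.TorsorSch J' Scheme.fpqcPrecoverage,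
      NonAbH1.IsPushforwardAlongSch v P.act P'.act := by
  obtain ⟨hpt, hloc⟩ := P.isTorsor
  obtain ⟨R, hR, hsec⟩ := hloc
  obtain ⟨κ, Y, f, hf, hRf⟩ := exists_small_family R hR
  choose s hs using fun i => hsec (f i) (hRf i)
  obtain ⟨c⟩ := exists_cone v P.act hpt f hf s hs
  have hq : IsQuot v P.act hpt (piO v P.act hpt c) :=
    ⟨fun m p₁ => tw_piO v P.act hpt c m p₁, fun m m' h => eq_tw_of_piO v P.act hpt c m m' h,
      isFpqcCov_piO v P.act hpt c ⟨R, hR, hsec⟩⟩
  obtain ⟨act', hact⟩ := exists_act hq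
  refine ⟨⟨c.U, mkAction hq hact, isPseudoTorsor_mk hq hact, ⟨R, hR, fun S' g hg => ?_⟩⟩,
    ⟨qmap (piO v P.act hpt c), qmap_equivariant hq hact⟩⟩
  obtain ⟨s', hs'⟩ := hsec g hg
  exact ⟨s' ≫ (qmap (piO v P.act hpt c)).left, by rw [Category.assoc, Over.w, hs']⟩

end Groth.Agent.Helper18.PushTorsor
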