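import Mathlib

/-!
# Quasi-constructible sets (finite unions of locally closed sets) and quasi-homeomorphisms
-/

set_option autoImplicit false

namespace Groth.Agent.Helper18.QHomeo

open Set Topology TopologicalSpace

variable {X : Type*} [TopologicalSpace X]

/-- finite union of locally closed subsets -/
def QC (Z : Set X) : Prop :=
  ∃ T : Set (Set X), T.Finite ∧ (∀ t ∈ T, IsLocallyClosed t) ∧ Z = ⋃₀ T

theorem QC.of_isLocallyClosed {t : Set X} (h : IsLocallyClosed t) : QC t :=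
  ⟨{t}, finite_singleton _, by simpa using h, by simp⟩

theorem QC.empty : QC (∅ : Set X) := ⟨∅, finite_empty, by simp, by simp⟩

theorem QC.univ : QC (univ : Set X) := QC.of_isLocallyClosed isOpen_univ.isLocallyClosed

theorem QC.union {A B : Set X} (hA : QC A) (hB : QC B) : QC (A ∪ B) := by
  obtain ⟨T, hT, hTl, rfl⟩ := hA
  obtain ⟨S, hS, hSl, rfl⟩ := hB
  refine ⟨T ∪ S, hT.union hS, ?_, (sUnion_union T S).symm⟩
  rintro t (h | h)
  exacts [hTl t h, hSl t h]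

theorem QC.inter {A B : Set X} (hA : QC A) (hB : QC B) : QC (A ∩ B) := by
  obtain ⟨T, hT, hTl, rfl⟩ := hA
  obtain ⟨S, hS, hSl, rfl⟩ := hB
  refine ⟨image2 (· ∩ ·) T S, hT.image2 _ hS, ?_, ?_⟩
  · rintro _ ⟨t, ht, s, hs, rfl⟩
    exact (hTl t ht).inter (hSl s hs)
  · ext x
    constructor
    · rintro ⟨⟨t, ht, hxt⟩, ⟨s, hs, hxs⟩⟩
      exact ⟨t ∩ s, ⟨t, ht, s, hs, rfl⟩, hxt, hxs⟩
    · rintro ⟨_, ⟨t, ht, s, hs, rfl⟩, hxt, hxs⟩
      exact ⟨⟨t, ht, hxt⟩, ⟨s, hs, hxs⟩⟩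

theorem QC.compl_of_isLocallyClosed {t : Set X} (h : IsLocallyClosed t) : QC tᶜ := by
  obtain ⟨U, Z, hU, hZ, rfl⟩ := h
  rw [compl_inter]
  exact (QC.of_isLocallyClosed hU.isClosed_compl.isLocallyClosed).union
    (QC.of_isLocallyClosed hZ.isOpen_compl.isLocallyClosed)

theorem QC.compl {A : Set X} (hA : QC A) : QC Aᶜ := by
  obtain ⟨T, hT, hTl, rfl⟩ := hA
  induction T, hT using Set.Finite.induction_on with
  | empty => simpa using QC.univ
  | @insert a s _ _ ih =>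
    rw [sUnion_insert, compl_union]
    exact (QC.compl_of_isLocallyClosed (hTl a (mem_insert _ _))).inter
      (ih (fun t ht => hTl t (mem_insert_of_mem _ ht)))

theorem QC.diff {A B : Set X} (hA : QC A) (hB : QC B) : QC (A \ B) := by
  rw [sdiff_eq]; exact hA.inter hB.compl

theorem QC.preimage {Y : Type*} [TopologicalSpace Y] {f : X → Y} (hf : Continuous f) {Z : Set Y}
    (hZ : QC Z) : QC (f ⁻¹' Z) := by
  obtain ⟨T, hT, hTl, rfl⟩ := hZ
  refine ⟨(fun t => f ⁻¹' t) '' T, hT.image _, ?_, ?_⟩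
  · rintro _ ⟨t, ht, rfl⟩
    exact (hTl t ht).preimage hf
  · rw [preimage_sUnion, sUnion_image]

/-- quasi-constructibility in an open subspace -/
theorem QC_subtype_iff {V : Set X} (hV : IsOpen V) (Z : Set X) :
    QC (Subtype.val ⁻¹' Z : Set ↥V) ↔ QC (Z ∩ V) := by
  constructor
  · rintro ⟨T, hT, hTl, hZT⟩
    refine ⟨(fun t => Subtype.val '' t) '' T, hT.image _, ?_, ?_⟩
    · rintro _ ⟨t, ht, rfl⟩
      refine (hTl t ht).image IsInducing.subtypeVal ?_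
      rw [Subtype.range_coe]
      exact hV.isLocallyClosed
    · rw [sUnion_image, ← image_iUnion₂, ← sUnion_eq_biUnion, ← hZT, Subtype.image_preimage_coe,
        inter_comm]
  · intro h
    have := h.preimage (continuous_subtype_val : Continuous (Subtype.val : ↥V → X))
    rwa [preimage_inter, Subtype.coe_preimage_self, inter_univ] at this

section qh

variable {Y : Type*} [TopologicalSpace Y] (f : X → Y) (hf : Continuous f)
  (hq : Function.Bijective (fun U : Opens Y =>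
      (⟨f ⁻¹' (U : Set Y), U.isOpen.preimage hf⟩ : Opens X)))

include hq

theorem exists_open_preimage {U' : Set X} (hU' : IsOpen U') :
    ∃ U : Set Y, IsOpen U ∧ f ⁻¹' U = U' := by
  obtain ⟨U, hU⟩ := hq.2 ⟨U', hU'⟩
  exact ⟨U, U.isOpen, congrArg (fun W : Opens X => (W : Set X)) hU⟩

theorem preimage_open_injective {U V : Set Y} (hU : IsOpen U) (hV : IsOpen V)
    (h : f ⁻¹' U = f ⁻¹' V) : U = V := by
  have := @hq.1 ⟨U, hU⟩ ⟨V, hV⟩ (Opens.ext h)
  exact congrArg (fun W : Opens Y => (W : Set Y)) this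

theorem exists_closed_preimage {C' : Set X} (hC' : IsClosed C') :
    ∃ C : Set Y, IsClosed C ∧ f ⁻¹' C = C' := by
  obtain ⟨U, hU, h⟩ := exists_open_preimage f hf hq hC'.isOpen_compl
  refine ⟨Uᶜ, hU.isClosed_compl, ?_⟩
  rw [preimage_compl, h, compl_compl]

theorem exists_lc_preimage {t' : Set X} (ht' : IsLocallyClosed t') :
    ∃ t : Set Y, IsLocallyClosed t ∧ f ⁻¹' t = t' := by
  obtain ⟨U', C', hU', hC', rfl⟩ := ht'
  obtain ⟨U, hU, rfl⟩ := exists_open_preimage f hf hq hU'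
  obtain ⟨C, hC, rfl⟩ := exists_closed_preimage f hf hq hC'
  exact ⟨U ∩ C, ⟨U, C, hU, hC, rfl⟩, preimage_inter⟩

theorem exists_QC_preimage {Z' : Set X} (hZ' : QC Z') :
    ∃ Z : Set Y, QC Z ∧ f ⁻¹' Z = Z' := by
  obtain ⟨T, hT, hTl, rfl⟩ := hZ'
  induction T, hT using Set.Finite.induction_on with
  | empty => exact ⟨∅, QC.empty, by simp⟩
  | @insert a s _ _ ih =>
    obtain ⟨Z, hZ, hZs⟩ := ih (fun t ht => hTl t (mem_insert_of_mem _ ht))
    obtain ⟨t, ht, hta⟩ := exists_lc_preimage f hf hq (hTl a (mem_insert _ _))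
    exact ⟨t ∪ Z, (QC.of_isLocallyClosed ht).union hZ, by rw [preimage_union, hta, hZs, sUnion_insert]⟩

theorem eq_empty_of_lc {t : Set Y} (ht : IsLocallyClosed t) (h : f ⁻¹' t = ∅) : t = ∅ := by
  obtain ⟨U, C, hU, hC, rfl⟩ := ht
  have h1 : f ⁻¹' U = f ⁻¹' (U ∩ Cᶜ) := by
    ext x
    simp only [mem_preimage, mem_inter_iff, mem_compl_iff]
    constructor
    · intro hx
      refine ⟨hx, fun hxC => ?_⟩
      have : x ∈ f ⁻¹' (U ∩ C) := ⟨hx, hxC⟩
      rw [h] at this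
      exact this
    · exact fun hx => hx.1
  have h2 := preimage_open_injective f hf hq hU (hU.inter hC.isOpen_compl) h1
  ext y
  simp only [mem_inter_iff, mem_empty_iff_false, iff_false, not_and]
  intro hyU hyC
  rw [h2] at hyU
  exact hyU.2 hyC

theorem eq_empty_of_QC {Z : Set Y} (hZ : QC Z) (h : f ⁻¹' Z = ∅) : Z = ∅ := by
  obtain ⟨T, hT, hTl, rfl⟩ := hZ
  rw [sUnion_eq_empty]
  intro t ht
  apply eq_empty_of_lc f hf hq (hTl t ht)
  rw [← subset_empty_iff, ← h]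
  exact preimage_mono (subset_sUnion_of_mem ht)

theorem QC_preimage_injective {Z₁ Z₂ : Set Y} (h1 : QC Z₁) (h2 : QC Z₂)
    (h : f ⁻¹' Z₁ = f ⁻¹' Z₂) : Z₁ = Z₂ := by
  have e1 : Z₁ \ Z₂ = ∅ := eq_empty_of_QC f hf hq (h1.diff h2) (by rw [preimage_sdiff, h, sdiff_self])
  have e2 : Z₂ \ Z₁ = ∅ := eq_empty_of_QC f hf hq (h2.diff h1) (by rw [preimage_sdiff, h, sdiff_self])
  exact Subset.antisymm (sdiff_eq_empty.mp e1) (sdiff_eq_empty.mp e2)

/-- locally quasi-constructible, ambient formulation -/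
def LQC {W : Type*} [TopologicalSpace W] (Z : Set W) : Prop :=
  ∀ x : W, ∃ V : Set W, IsOpen V ∧ x ∈ V ∧ QC (Z ∩ V)

omit hq in
theorem LQC.preimage (hf : Continuous f) {Z : Set Y} (hZ : LQC Z) : LQC (f ⁻¹' Z) := by
  intro x
  obtain ⟨V, hV, hxV, hQ⟩ := hZ (f x)
  refine ⟨f ⁻¹' V, hV.preimage hf, hxV, ?_⟩
  rw [← preimage_inter]
  exact hQ.preimage hf

theorem LQC_preimage_injective {Z₁ Z₂ : Set Y} (h1 : LQC Z₁) (h2 : LQC Z₂)
    (h : f ⁻¹' Z₁ = f ⁻¹' Z₂) : Z₁ = Z₂ := by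
  have key : ∀ Z₁ Z₂ : Set Y, LQC Z₁ → LQC Z₂ → f ⁻¹' Z₁ = f ⁻¹' Z₂ → Z₁ ⊆ Z₂ := by
    intro Z₁ Z₂ h1 h2 h y hy
    obtain ⟨V₁, hV₁, hy₁, hQ₁⟩ := h1 y
    obtain ⟨V₂, hV₂, hy₂, hQ₂⟩ := h2 y
    have q1 : QC (Z₁ ∩ (V₁ ∩ V₂)) := by
      rw [← inter_assoc]
      exact hQ₁.inter (QC.of_isLocallyClosed hV₂.isLocallyClosed)
    have q2 : QC (Z₂ ∩ (V₁ ∩ V₂)) := by
      rw [inter_comm V₁ V₂, ← inter_assoc]
      exact hQ₂.inter (QC.of_isLocallyClosed hV₁.isLocallyClosed)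
    have := QC_preimage_injective f hf hq q1 q2 (by rw [preimage_inter, preimage_inter (s := Z₂), h])
    have hy' : y ∈ Z₁ ∩ (V₁ ∩ V₂) := ⟨hy, hy₁, hy₂⟩
    rw [this] at hy'
    exact hy'.1
  exact Subset.antisymm (key _ _ h1 h2 h) (key _ _ h2 h1 h.symm)

theorem exists_LQC_preimage {Z' : Set X} (hZ' : LQC Z') :
    ∃ Z : Set Y, LQC Z ∧ f ⁻¹' Z = Z' := by
  choose V' hV'o hxV' hQ' using hZ'
  have h1 : ∀ x, ∃ V : Set Y, IsOpen V ∧ f ⁻¹' V = V' x := fun x =>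
    exists_open_preimage f hf hq (hV'o x)
  choose V hVo hVV' using h1
  have h2 : ∀ x, ∃ W : Set Y, QC W ∧ f ⁻¹' W = Z' ∩ V' x := fun x =>
    exists_QC_preimage f hf hq (hQ' x)
  choose W hWQ hWpre using h2
  have hZx : ∀ x, QC (W x ∩ V x) := fun x =>
    (hWQ x).inter (QC.of_isLocallyClosed (hVo x).isLocallyClosed)
  have hZxpre : ∀ x, f ⁻¹' (W x ∩ V x) = Z' ∩ V' x := by
    intro x
    rw [preimage_inter, hWpre, hVV', inter_assoc, inter_self]
  have hcover : (⋃ x, V x) = univ := by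
    apply preimage_open_injective f hf hq (isOpen_iUnion hVo) isOpen_univ
    rw [preimage_iUnion, preimage_univ]
    apply eq_univ_of_forall
    intro x
    exact mem_iUnion.mpr ⟨x, by rw [hVV']; exact hxV' x⟩
  have hinter : ∀ x x', (W x' ∩ V x') ∩ V x = (W x ∩ V x) ∩ V x' := by
    intro x x'
    apply QC_preimage_injective f hf hq
      ((hZx x').inter (QC.of_isLocallyClosed (hVo x).isLocallyClosed))
      ((hZx x).inter (QC.of_isLocallyClosed (hVo x').isLocallyClosed))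
    rw [preimage_inter (s := W x' ∩ V x'), preimage_inter (s := W x ∩ V x), hZxpre, hZxpre,
      hVV', hVV']
    ext z
    simp only [mem_inter_iff]
    tauto
  refine ⟨⋃ x, W x ∩ V x, ?_, ?_⟩
  · intro y
    have hy : y ∈ ⋃ x, V x := by rw [hcover]; trivial
    obtain ⟨x, hyx⟩ := mem_iUnion.mp hy
    refine ⟨V x, hVo x, hyx, ?_⟩
    have : (⋃ x, W x ∩ V x) ∩ V x = W x ∩ V x := by
      apply Subset.antisymm
      · rintro z ⟨hz, hzV⟩
        obtain ⟨x', hzx'⟩ := mem_iUnion.mp hz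
        have : z ∈ (W x' ∩ V x') ∩ V x := ⟨hzx', hzV⟩
        rw [hinter] at this
        exact this.1
      · intro z hz
        exact ⟨mem_iUnion.mpr ⟨x, hz⟩, hz.2⟩
    rw [this]
    exact hZx x
  · rw [preimage_iUnion]
    simp_rw [hZxpre]
    rw [← inter_iUnion]
    apply inter_eq_left.mpr
    intro z _
    exact mem_iUnion.mpr ⟨z, hxV' z⟩

end qh

end Groth.Agent.Helper18.QHomeo
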