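import Groth.Prelude.Def_QuotSh
import Mathlib

/-!
# Quotient sheaves `U/R` on the big site of a scheme: general lemmas (helper18)
-/

set_option autoImplicit false

universe u

open CategoryTheory CategoryTheory.Limits AlgebraicGeometry Opposite

noncomputable section

namespace Groth.Agent.Helper18.QSh

variable (K : Precoverage Scheme.{u}) {S : Scheme.{u}}

/-- the functor `V ↦ h_V` -/
def repF : Over S ⥤ QuotSh.Sh K S :=
  uliftYoneda.{u + 1} ⋙ presheafToSheaf (QuotSh.J K S) (Type (u + 1))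

theorem repF_obj (V : Over S) : (repF K).obj V = QuotSh.rep K V := rfl

theorem repF_map {V W : Over S} (g : V ⟶ W) : (repF K).map g = QuotSh.repMap K g := rfl

instance : PreservesFiniteLimits (repF K (S := S)) := by
  unfold repF
  infer_instance

theorem repMap_comp {V W Z : Over S} (g : V ⟶ W) (h : W ⟶ Z) :
    QuotSh.repMap K (g ≫ h) = QuotSh.repMap K g ≫ QuotSh.repMap K h := (repF K).map_comp g h

theorem repMap_id (V : Over S) : QuotSh.repMap K (𝟙 V) = 𝟙 _ := (repF K).map_id V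

instance {V W : Over S} (g : V ⟶ W) [IsIso g] : IsIso (QuotSh.repMap K g) :=
  inferInstanceAs (IsIso ((repF K).map g))

/-- the section over `T` of a map `h_T ⟶ F` -/
def sec {T : Over S} {F : QuotSh.Sh K S} (σ : QuotSh.rep K T ⟶ F) : F.obj.obj (op T) :=
  uliftYonedaEquiv.{u + 1} (toSheafify (QuotSh.J K S) (uliftYoneda.{u + 1}.obj T) ≫ σ.hom)

/-- the map `h_T ⟶ F` of a section -/
def ofSec {T : Over S} {F : QuotSh.Sh K S} (x : F.obj.obj (op T)) : QuotSh.rep K T ⟶ F :=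
  ⟨sheafifyLift (QuotSh.J K S) (uliftYonedaEquiv.{u + 1}.symm x) F.property⟩

theorem sec_ofSec {T : Over S} {F : QuotSh.Sh K S} (x : F.obj.obj (op T)) : sec K (ofSec K x) = x := by
  unfold sec ofSec
  have h := toSheafify_sheafifyLift (QuotSh.J K S) (uliftYonedaEquiv.{u + 1}.symm x) F.property
  exact (congrArg uliftYonedaEquiv.{u + 1} h).trans (Equiv.apply_symm_apply _ _)

theorem sec_injective {T : Over S} {F : QuotSh.Sh K S} (σ σ' : QuotSh.rep K T ⟶ F)
    (h : sec K σ = sec K σ') : σ = σ' := by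
  apply Sheaf.hom_ext
  exact sheafify_hom_ext _ _ _ F.property (uliftYonedaEquiv.{u + 1}.injective h)

theorem ofSec_sec {T : Over S} {F : QuotSh.Sh K S} (σ : QuotSh.rep K T ⟶ F) : ofSec K (sec K σ) = σ :=
  sec_injective K _ _ (sec_ofSec K _)

theorem sec_comp {T : Over S} {F G : QuotSh.Sh K S} (σ : QuotSh.rep K T ⟶ F) (φ : F ⟶ G) :
    sec K (σ ≫ φ) = φ.hom.app (op T) (sec K σ) := rfl

theorem sec_repMap {T T' : Over S} {F : QuotSh.Sh K S} (g : T' ⟶ T) (σ : QuotSh.rep K T ⟶ F) :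
    sec K (QuotSh.repMap K g ≫ σ) = F.obj.map g.op (sec K σ) := by
  unfold sec
  have h1 : toSheafify (QuotSh.J K S) (uliftYoneda.{u + 1}.obj T') ≫ (QuotSh.repMap K g ≫ σ).hom =
      uliftYoneda.{u + 1}.map g ≫ toSheafify (QuotSh.J K S) (uliftYoneda.{u + 1}.obj T) ≫ σ.hom := by
    have e := toSheafify_naturality (QuotSh.J K S) (uliftYoneda.{u + 1}.map g)
    change toSheafify _ _ ≫ sheafifyMap _ (uliftYoneda.{u + 1}.map g) ≫ σ.hom = _
    exact (Category.assoc _ _ _).symm.trans ((congrArg (· ≫ σ.hom) e.symm).trans (Category.assoc _ _ _))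
  have h2 := uliftYonedaEquiv_naturality.{u + 1}
    (toSheafify (QuotSh.J K S) (uliftYoneda.{u + 1}.obj T) ≫ σ.hom) g.op
  exact (congrArg uliftYonedaEquiv.{u + 1} h1).trans h2.symm

end Groth.Agent.Helper18.QSh

namespace Groth.Agent.Helper18.QSh

variable (K : Precoverage Scheme.{u}) {S : Scheme.{u}}

instance quotπ_epi {R U : Over S} (s t : R ⟶ U) : Epi (QuotSh.quotπ K s t) :=
  (coequalizer.π_epi : Epi (coequalizer.π (QuotSh.repMap K s) (QuotSh.repMap K t)))

theorem quotπ_quotDesc {R U M : Over S} {s t : R ⟶ U} (q : U ⟶ M) (w : s ≫ q = t ≫ q) :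
    QuotSh.quotπ K s t ≫ QuotSh.quotDesc K q w = QuotSh.repMap K q :=
  coequalizer.π_desc _ _

/-- criterion for a quotient: `h_U ⟶ h_M` epi and `h_R ⟶ h_P` epi for a kernel pair `P` of `q`. -/
theorem isQuotient_of_epi {R U M P : Over S} (s t : R ⟶ U) (q : U ⟶ M) (w : s ≫ q = t ≫ q)
    (p1 p2 : P ⟶ U) (hP : IsPullback p1 p2 q q) (e : R ⟶ P) (he1 : e ≫ p1 = t) (he2 : e ≫ p2 = s)
    (h₂ : Epi (QuotSh.repMap K q)) (h₃ : Epi (QuotSh.repMap K e)) : QuotSh.IsQuotient K s t q := by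
  refine ⟨w, ?_⟩
  have hPF : IsPullback (QuotSh.repMap K p1) (QuotSh.repMap K p2) (QuotSh.repMap K q) (QuotSh.repMap K q) :=
    hP.map (repF K)
  haveI : IsRegularEpi (QuotSh.repMap K q) := IsRegularEpiCategory.regularEpiOfEpi _
  haveI : EffectiveEpi (QuotSh.repMap K q) := (isRegularEpi_iff_effectiveEpi _).mp inferInstance
  have hp : QuotSh.repMap K p1 ≫ QuotSh.quotπ K s t = QuotSh.repMap K p2 ≫ QuotSh.quotπ K s t := by
    rw [← cancel_epi (QuotSh.repMap K e), ← Category.assoc, ← Category.assoc, ← repMap_comp, ← repMap_comp,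
      he1, he2]
    exact (QuotSh.quot_condition K s t).symm
  have hdesc : ∀ {Z : QuotSh.Sh K S} (g₁ g₂ : Z ⟶ QuotSh.rep K U),
      g₁ ≫ QuotSh.repMap K q = g₂ ≫ QuotSh.repMap K q →
      g₁ ≫ QuotSh.quotπ K s t = g₂ ≫ QuotSh.quotπ K s t := by
    intro Z g₁ g₂ hg
    obtain ⟨l, h1, h2⟩ : ∃ l : Z ⟶ QuotSh.rep K P, l ≫ QuotSh.repMap K p1 = g₁ ∧ l ≫ QuotSh.repMap K p2 = g₂ :=
      ⟨hPF.lift g₁ g₂ hg, hPF.lift_fst _ _ _, hPF.lift_snd _ _ _⟩
    rw [← h1, ← h2, Category.assoc, Category.assoc, hp]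
  refine ⟨EffectiveEpi.desc (QuotSh.repMap K q) (QuotSh.quotπ K s t) (fun g₁ g₂ hg => hdesc g₁ g₂ hg), ?_, ?_⟩
  · rw [← cancel_epi (QuotSh.quotπ K s t), ← Category.assoc, quotπ_quotDesc, EffectiveEpi.fac, Category.comp_id]
  · rw [← cancel_epi (QuotSh.repMap K q), ← Category.assoc, EffectiveEpi.fac, quotπ_quotDesc, Category.comp_id]

end Groth.Agent.Helper18.QSh
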