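import Groth.Agent.Lib.Helper18.QuotGen

set_option autoImplicit false
set_option linter.unusedSimpArgs false
set_option backward.isDefEq.respectTransparency false
set_option backward.isDefEq.respectTransparency.types false
universe u
open CategoryTheory CategoryTheory.Limits MonoidalCategory CartesianMonoidalCategory MonObj GrpObj AlgebraicGeometry
open AlgSt FibCat Opposite

/-! Every morphism of `[X/G]` is strongly cartesian. -/

namespace Groth.Agent.Helper18.QuotCart

variable {S : Scheme.{u}} {G : Over S} [GrpObj G] {X : Over S} {aX : AlgGrp.Action G X}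
variable {K : Precoverage Scheme.{u}}

theorem exists_lift {A B C : QuotObj K G aX} (m : B ⟶ A) (h : C ⟶ A) (b : C.base ⟶ B.base)
    (hb : b ≫ m.base = h.base) : ∃ k : C ⟶ B, k.base = b ∧ k ≫ m = h := by
  have hmw : m.top ≫ A.π = B.π ≫ m.base := m.cart.w
  have hhw : h.top ≫ A.π = C.π ≫ h.base := h.cart.w
  have hmeqv : B.act.act ≫ m.top = (G ◁ m.top) ≫ A.act.act := m.eqv
  have hheqv : C.act.act ≫ h.top = (G ◁ h.top) ≫ A.act.act := h.eqv
  have hmφ : m.top ≫ A.φ = B.φ := m.wφ
  have hhφ : h.top ≫ A.φ = C.φ := h.wφ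
  have hcomm : h.top ≫ A.π = (C.π ≫ b) ≫ m.base := by rw [Category.assoc, hb, hhw]
  let top : C.P ⟶ B.P := m.cart.lift h.top (C.π ≫ b) hcomm
  have ht1 : top ≫ m.top = h.top := m.cart.lift_fst _ _ _
  have ht2 : top ≫ B.π = C.π ≫ b := m.cart.lift_snd _ _ _
  have hBw : B.act.act ≫ B.π = snd G B.P ≫ B.π := B.cart.w
  have hCw : C.act.act ≫ C.π = snd G C.P ≫ C.π := C.cart.w
  let k : C ⟶ B :=
    { base := b
      top := top
      eqv := by
        apply m.cart.hom_ext
        · rw [Category.assoc, ht1, hheqv, Category.assoc, hmeqv, ← MonoidalCategory.whiskerLeft_comp_assoc, ht1]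
        · rw [Category.assoc, ht2, Category.assoc, hBw, ← Category.assoc, hCw, whiskerLeft_snd_assoc, ht2,
            Category.assoc]
      cart := by
        refine IsPullback.of_right (h₁₂ := m.top) (h₂₂ := m.base) ?_ ht2 m.cart
        rw [ht1, hb]
        exact h.cart
      wφ := by rw [← hmφ, ← Category.assoc, ht1, hhφ] }
  exact ⟨k, rfl, QuotObj.hom_ext hb ht1⟩

theorem lift_unique {A B C : QuotObj K G aX} (m : B ⟶ A) (k k' : C ⟶ B) (h1 : k.base = k'.base)
    (h2 : k ≫ m = k' ≫ m) : k = k' := by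
  apply QuotObj.hom_ext h1
  have hk : k.top ≫ B.π = C.π ≫ k.base := k.cart.w
  have hk' : k'.top ≫ B.π = C.π ≫ k'.base := k'.cart.w
  apply m.cart.hom_ext
  · exact congrArg QuotObj.Hom.top h2
  · rw [hk, hk', h1]

end Groth.Agent.Helper18.QuotCart
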