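import Groth.Agent.Lib.Helper18.QuotUniv
import Groth.Prelude.Def_StCoarse
import Groth.Prelude.Def_W4bk4git07Quot

set_option autoImplicit false
set_option linter.unusedSimpArgs false
set_option backward.isDefEq.respectTransparency false
set_option backward.isDefEq.respectTransparency.types false
universe u
open CategoryTheory CategoryTheory.Limits MonoidalCategory CartesianMonoidalCategory MonObj GrpObj AlgebraicGeometry
open AlgSt FibCat Opposite

namespace Groth.Agent.Helper18.QuotCatMod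

open Groth.Agent.Helper18.QuotObjLoc Groth.Agent.Helper18.QuotTwoCart Groth.Agent.Helper19.PshLib
  Groth.Agent.Helper18.QuotUniv

variable {S : Scheme.{u}} {G : Over S} [GrpObj G] {X : Over S} (aX : AlgGrp.Action G X)

variable {N : AlgSp.Sp S}

/-- The section attached to a point of `X` by a functor out of `[X/G]`. -/
noncomputable abbrev sQ (φ : QuotSt Scheme.fppfPrecoverage G aX ⥤ᵇ ofSp N) {T : Over S} (x : T ⟶ X) :
    N.obj.obj (op T) := secOf φ ((Q aX).obj (⟨T, ⟨x⟩⟩ : (ofSch X).obj))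

theorem sQ_nat (φ : QuotSt Scheme.fppfPrecoverage G aX ⥤ᵇ ofSp N) {T T' : Over S} (g : T' ⟶ T) (x : T ⟶ X) :
    N.obj.map g.op (sQ aX φ x) = sQ aX φ (g ≫ x) := by
  let ψ : (⟨T', ⟨g ≫ x⟩⟩ : (ofSch X).obj) ⟶ ⟨T, ⟨x⟩⟩ := ⟨g, rfl⟩
  exact secOf_naturality φ ((Q aX).map ψ)

/-- K2: the two composites `G × X ⇉ X ⟶ [X/G]` give the same sections. -/
theorem sQ_inv (φ : QuotSt Scheme.fppfPrecoverage G aX ⥤ᵇ ofSp N) {T : Over S} (s : T ⟶ G ⊗ X) :
    sQ aX φ (s ≫ aX.act) = sQ aX φ (s ≫ snd G X) := by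
  let w : (ofSch (G ⊗ X)).obj := ⟨T, ⟨s⟩⟩
  have h1 := secOf_naturality φ (eApp aX w).hom
  have h2 : (QuotSt Scheme.fppfPrecoverage G aX).p.map (eApp aX w).hom = 𝟙 T := rfl
  rw [h2] at h1
  refine Eq.trans ?_ ((map_id_apply N.obj _).symm.trans h1).symm
  rfl

theorem comp_Q_eq (φ : QuotSt Scheme.fppfPrecoverage G aX ⥤ᵇ ofSp N) :
    BasedFunctor.comp (Q aX) φ = ofSpMap ((AlgSp.J S).uliftYonedaEquiv.symm (sQ aX φ (𝟙 X))) := by
  apply eq_of_secOf_eq
  intro a
  rw [secOf_comp_Q, secOf_ofPshMap]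
  obtain ⟨T, ⟨x⟩⟩ := a
  have := sQ_nat aX φ x (𝟙 X)
  rw [Category.comp_id] at this
  rw [GrothendieckTopology.uliftYonedaEquiv_symm_app_apply]
  exact this.symm

/-- K1: functors out of `[X/G]` into a sheaf are determined by their values on trivial objects. -/
theorem eq_of_sQ_eq (φ1 φ2 : QuotSt Scheme.fppfPrecoverage G aX ⥤ᵇ ofSp N)
    (h : sQ aX φ1 (𝟙 X) = sQ aX φ2 (𝟙 X)) : φ1 = φ2 := by
  have h1 := comp_Q_eq aX φ1
  have h2 := comp_Q_eq aX φ2
  rw [← h] at h2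
  have hf : (AlgSp.yon S).map aX.act ≫ (AlgSp.J S).uliftYonedaEquiv.symm (sQ aX φ1 (𝟙 X)) =
      (AlgSp.yon S).map (snd G X) ≫ (AlgSp.J S).uliftYonedaEquiv.symm (sQ aX φ1 (𝟙 X)) := by
    apply (AlgSp.J S).uliftYonedaEquiv.injective
    rw [GrothendieckTopology.uliftYonedaEquiv_comp, GrothendieckTopology.uliftYonedaEquiv_comp,
      GrothendieckTopology.uliftYonedaEquiv_uliftYoneda_map, GrothendieckTopology.uliftYonedaEquiv_uliftYoneda_map,
      GrothendieckTopology.uliftYonedaEquiv_symm_app_apply, GrothendieckTopology.uliftYonedaEquiv_symm_app_apply,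
      sQ_nat, sQ_nat, Category.comp_id, Category.comp_id]
    have := sQ_inv aX φ1 (𝟙 (G ⊗ X))
    rw [Category.id_comp, Category.id_comp] at this
    exact this
  rw [desc_unique aX hf φ1 h1, desc_unique aX hf φ2 h2]


section Main

variable {Y : Over S} (f : X ⟶ Y) (π : QuotSt Scheme.fppfPrecoverage G aX ⥤ᵇ ofSch Y)

variable {aX f π} in
theorem sQ_π (hπ : Nonempty (BasedFunctor.comp (Q aX) π ≅ ofSpMap ((AlgSp.yon S).map f)))
    {T : Over S} (x : T ⟶ X) : sQ aX π x = ⟨x ≫ f⟩ := by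
  obtain ⟨θ⟩ := hπ
  have := secOf_eq_of_iso θ (⟨T, ⟨x⟩⟩ : (ofSch X).obj)
  rw [secOf_comp_Q, secOf_ofPshMap] at this
  exact this

theorem sQ_comp (g : (AlgSp.yon S).obj Y ⟶ N) {T : Over S} (x : T ⟶ X) :
    sQ aX (BasedFunctor.comp π (ofSpMap g)) x = g.hom.app _ (sQ aX π x) :=
  secOf_comp_ofPshMap π g.hom _

theorem isInvariant_of_hπ (hπ : Nonempty (BasedFunctor.comp (Q aX) π ≅ ofSpMap ((AlgSp.yon S).map f))) :
    GIT.IsInvariant aX f := by
  have := sQ_inv aX π (𝟙 (G ⊗ X))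
  rw [sQ_π hπ, sQ_π hπ, Category.id_comp, Category.id_comp] at this
  exact congrArg ULift.down this

theorem yon_isRepresentable (Z : Over S) : ((AlgSp.yon S).obj Z).obj.IsRepresentable :=
  ⟨Z, ⟨AlgSp.representableByOfIso (Iso.refl _)⟩⟩

theorem main16705 (hπ : Nonempty (BasedFunctor.comp (AlgSt.quotMap Scheme.fppfPrecoverage G aX) π ≅
      AlgSt.ofSpMap ((AlgSp.yon S).map f))) :
    AlgSt.IsCatModuliSch π ↔ GIT.IsCatQuot aX f := by
  constructor
  · rintro ⟨-, H⟩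
    refine ⟨isInvariant_of_hπ aX f π hπ, ?_⟩
    intro Z ψ hψ
    have hfψ : (AlgSp.yon S).map aX.act ≫ (AlgSp.yon S).map ψ =
        (AlgSp.yon S).map (snd G X) ≫ (AlgSp.yon S).map ψ := by
      rw [← Functor.map_comp, ← Functor.map_comp, hψ]
    obtain ⟨g, ⟨θ⟩, huniq⟩ := H _ (yon_isRepresentable Z) (desc aX hfψ)
    have hdesc : ∀ {T : Over S} (x : T ⟶ X), sQ aX (desc aX hfψ) x = ⟨x ≫ ψ⟩ := by
      intro T x
      have := congrArg (fun Φ => secOf Φ (⟨T, ⟨x⟩⟩ : (ofSch X).obj)) (comp_desc aX hfψ)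
      simp only [secOf_comp_Q, secOf_ofPshMap] at this
      exact this
    obtain ⟨χ, rfl⟩ := (AlgSp.yon S).map_surjective g
    refine ⟨χ, ?_, ?_⟩
    · have h1 := secOf_eq_of_iso θ ((Q aX).obj (⟨X, ⟨𝟙 X⟩⟩ : (ofSch X).obj))
      have h2 : sQ aX (BasedFunctor.comp π (ofSpMap ((AlgSp.yon S).map χ))) (𝟙 X) = sQ aX (desc aX hfψ) (𝟙 X) := h1
      rw [sQ_comp, sQ_π hπ, hdesc, Category.id_comp, Category.id_comp] at h2
      exact congrArg ULift.down h2
    · intro χ' hχ'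
      apply (AlgSp.yon S).map_injective
      apply huniq
      have : BasedFunctor.comp π (ofSpMap ((AlgSp.yon S).map χ')) = desc aX hfψ := by
        apply eq_of_sQ_eq
        rw [sQ_comp, sQ_π hπ, hdesc, Category.id_comp, Category.id_comp, ← hχ']
        rfl
      rw [this]
      exact ⟨Iso.refl _⟩
  · rintro ⟨hinv, H⟩
    refine ⟨yon_isRepresentable Y, ?_⟩
    intro N hN φ
    obtain ⟨Z, ⟨r⟩⟩ := hN.has_representation
    let n₀ : N.obj.obj (op X) := sQ aX φ (𝟙 X)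
    let ψ : X ⟶ Z := r.homEquiv.symm n₀
    have hψn : ∀ {T : Over S} (x : T ⟶ X), r.homEquiv (x ≫ ψ) = sQ aX φ x := by
      intro T x
      rw [r.homEquiv_comp, Equiv.apply_symm_apply]
      have := sQ_nat aX φ x (𝟙 X)
      rw [Category.comp_id] at this
      exact this
    have hψ : GIT.IsInvariant aX ψ := by
      apply r.homEquiv.injective
      rw [hψn, hψn]
      have := sQ_inv aX φ (𝟙 (G ⊗ X))
      rw [Category.id_comp, Category.id_comp] at this
      exact this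
    obtain ⟨χ, hχ, hχu⟩ := H Z ψ hψ
    have hχ' : f ≫ χ = ψ := hχ
    let g : (AlgSp.yon S).obj Y ⟶ N := (AlgSp.J S).uliftYonedaEquiv.symm (r.homEquiv χ)
    have hg : ∀ {T : Over S} (y : T ⟶ Y), g.hom.app (op T) ⟨y⟩ = r.homEquiv (y ≫ χ) := by
      intro T y
      rw [GrothendieckTopology.uliftYonedaEquiv_symm_app_apply, r.homEquiv_comp]
    refine ⟨g, ?_, ?_⟩
    · have : BasedFunctor.comp π (ofSpMap g) = φ := by
        apply eq_of_sQ_eq
        rw [sQ_comp, sQ_π hπ, hg, Category.id_comp, hχ', ← hψn, Category.id_comp]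
      show Nonempty (BasedFunctor.comp π (ofSpMap g) ≅ φ)
      rw [this]
      exact ⟨Iso.refl _⟩
    · rintro g' ⟨θ⟩
      apply (AlgSp.J S).uliftYonedaEquiv.injective
      rw [Equiv.apply_symm_apply, GrothendieckTopology.uliftYonedaEquiv_apply]
      let χ' : Y ⟶ Z := r.homEquiv.symm (g'.hom.app (op Y) ⟨𝟙 Y⟩)
      have h1 := secOf_eq_of_iso θ ((Q aX).obj (⟨X, ⟨𝟙 X⟩⟩ : (ofSch X).obj))
      have h2 : sQ aX (BasedFunctor.comp π (ofSpMap g')) (𝟙 X) = sQ aX φ (𝟙 X) := h1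
      rw [sQ_comp, sQ_π hπ, Category.id_comp] at h2
      have h3 : f ≫ χ' = ψ := by
        apply r.homEquiv.injective
        have e0 : r.homEquiv ψ = sQ aX φ (𝟙 X) := Equiv.apply_symm_apply _ _
        rw [r.homEquiv_comp, Equiv.apply_symm_apply, e0, ← h2]
        have := NatTrans.naturality_apply g'.hom f.op (⟨𝟙 Y⟩ : ((AlgSp.yon S).obj Y).obj.obj (op Y))
        rw [← this]
        congr 1
      have h4 : χ' = χ := hχu χ' h3
      rw [← h4, Equiv.apply_symm_apply]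

end Main

end Groth.Agent.Helper18.QuotCatMod
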