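import Groth.Agent.Lib.Helper18.QuotCatMod

set_option autoImplicit false
set_option linter.unusedSimpArgs false
set_option backward.isDefEq.respectTransparency false
set_option backward.isDefEq.respectTransparency.types false
universe u
open CategoryTheory CategoryTheory.Limits MonoidalCategory CartesianMonoidalCategory MonObj GrpObj AlgebraicGeometry
open AlgSt FibCat Opposite

namespace Groth.Agent.Helper18.QuotCoarse

open Groth.Agent.Helper18.QuotObjLoc Groth.Agent.Helper18.QuotTwoCart Groth.Agent.Helper19.PshLib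
  Groth.Agent.Helper18.QuotUniv Groth.Agent.Helper18.QuotCatMod

variable {S : Scheme.{u}} {G : Over S} [GrpObj G] {X : Over S} {aX : AlgGrp.Action G X}
variable {K : Precoverage Scheme.{u}}

/-- A morphism of `[X/G]` over an isomorphism is an isomorphism. -/
theorem isIso_of_isIso_base {A B : QuotObj K G aX} (h : A ⟶ B) [IsIso h.base] : IsIso h := by
  haveI : IsIso h.top := h.cart.isIso_fst_of_isIso
  have hw : h.top ≫ B.π = A.π ≫ h.base := h.cart.w
  have heqv : A.act.act ≫ h.top = (G ◁ h.top) ≫ B.act.act := h.eqv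
  have hφ : h.top ≫ B.φ = A.φ := h.wφ
  let k : B ⟶ A :=
    { base := inv h.base
      top := inv h.top
      eqv := by
        rw [IsIso.comp_inv_eq, Category.assoc, heqv, ← MonoidalCategory.whiskerLeft_comp_assoc, IsIso.inv_hom_id,
          MonoidalCategory.whiskerLeft_id, Category.id_comp]
      cart := IsPullback.of_horiz_isIso ⟨by rw [IsIso.inv_comp_eq, ← Category.assoc, hw, Category.assoc,
        IsIso.hom_inv_id, Category.comp_id]⟩
      wφ := by rw [IsIso.inv_comp_eq, hφ] }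
  exact ⟨k, QuotObj.hom_ext (IsIso.hom_inv_id _) (IsIso.hom_inv_id _),
    QuotObj.hom_ext (IsIso.inv_hom_id _) (IsIso.inv_hom_id _)⟩


/-- Over an algebraically closed point, an fppf-locally trivial object has a section. -/
theorem exists_section_of_algClosed (Ω : Type u) [Field Ω] [IsAlgClosed Ω]
    (t : Spec (CommRingCat.of Ω) ⟶ S) (A : QuotObj Scheme.fppfPrecoverage G aX) (hA : A.base = Over.mk t) :
    ∃ s : Over.mk t ⟶ A.P, s ≫ A.π = eqToHom hA.symm := by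
  obtain ⟨bA, PA, actA, πA, cartA, locA, φA, eqvA⟩ := A
  change bA = Over.mk t at hA
  subst hA
  obtain ⟨R, hR, hsec⟩ := locA
  obtain ⟨Y, b, hb, x, hx⟩ := ((Presieve.mem_comap_jointlySurjectivePrecoverage_iff _).1 hR.1)
    (IsLocalRing.closedPoint Ω : PrimeSpectrum Ω)
  have hP : (@Flat ⊓ @LocallyOfFinitePresentation : MorphismProperty Scheme.{u}) b := hR.2 hb
  haveI : LocallyOfFinitePresentation b := hP.2
  haveI : JacobsonSpace ↥(Spec (CommRingCat.of Ω)) := inferInstanceAs (JacobsonSpace (PrimeSpectrum Ω))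
  haveI : JacobsonSpace ↥(Over.mk t).left := inferInstanceAs (JacobsonSpace (PrimeSpectrum Ω))
  haveI : JacobsonSpace Y := LocallyOfFiniteType.jacobsonSpace b
  obtain ⟨z, -, hz'⟩ := nonempty_inter_closedPoints (X := Y) (Z := Set.univ) ⟨x, trivial⟩
    isOpen_univ.isLocallyClosed
  have hz : IsClosed ({z} : Set Y) := hz'
  obtain ⟨s, hs⟩ := hsec b hb
  have hs' : s ≫ πA.left = b := hs
  have h1 : pointOfClosedPoint b z hz ≫ b = 𝟙 _ := pointOfClosedPoint_comp b z hz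
  have hπ : (pointOfClosedPoint b z hz ≫ s) ≫ πA.left = 𝟙 _ := by
    rw [Category.assoc, hs', h1]
  refine ⟨Over.homMk (pointOfClosedPoint b z hz ≫ s) ?_, ?_⟩
  · change (pointOfClosedPoint b z hz ≫ s) ≫ PA.hom = t
    rw [← Over.w πA, ← Category.assoc, hπ]
    exact Category.id_comp _
  · ext
    exact hπ


/-- An object with a section is isomorphic to a trivial one. -/
theorem isoOfSection (A : QuotObj Scheme.fppfPrecoverage G aX) (s : A.base ⟶ A.P) (hs : s ≫ A.π = 𝟙 _) :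
    ∃ e : (Q aX).obj (⟨A.base, ⟨s ≫ A.φ⟩⟩ : (ofSch X).obj) ≅ A,
      e.hom.base = 𝟙 A.base ∧ e.inv.base = 𝟙 A.base := by
  have hb : (homOfSection aX A s).base = 𝟙 A.base := hs
  haveI : IsIso (homOfSection aX A s).base := by rw [hb]; exact IsIso.id A.base
  haveI := isIso_of_isIso_base (homOfSection aX A s)
  refine ⟨asIso (homOfSection aX A s), hb, ?_⟩
  have h1 : (inv (homOfSection aX A s) ≫ homOfSection aX A s).base = 𝟙 A.base := by
    rw [IsIso.inv_hom_id, QuotObj.id_base]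
  rw [QuotObj.comp_base, hb] at h1
  exact (Category.comp_id _).symm.trans h1

theorem isoOfSection' (B : QuotObj Scheme.fppfPrecoverage G aX) (T : Over S) (hB : B.base = T)
    (s : T ⟶ B.P) (hs : s ≫ B.π = eqToHom hB.symm) :
    ∃ e : (Q aX).obj (⟨T, ⟨s ≫ B.φ⟩⟩ : (ofSch X).obj) ≅ B,
      e.hom.base = eqToHom hB.symm ∧ e.inv.base = eqToHom hB := by
  subst hB
  rw [eqToHom_refl] at hs
  obtain ⟨e, h1, h2⟩ := isoOfSection B s hs
  refine ⟨e, ?_, ?_⟩
  · rw [eqToHom_refl]; exact h1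
  · rw [eqToHom_refl]; exact h2

theorem trivIso_ex (T : Over S) (x x' : T ⟶ X) (g : T ⟶ G) (hg : lift g x' ≫ aX.act = x) :
    ∃ tr : (Q aX).obj (⟨T, ⟨x⟩⟩ : (ofSch X).obj) ≅ (Q aX).obj (⟨T, ⟨x'⟩⟩ : (ofSch X).obj),
      tr.hom.base = 𝟙 T ∧ tr.inv.base = 𝟙 T := by
  have hg' : lift g (eqToHom (rfl : T = T) ≫ x') ≫ aX.act = x := by
    rw [eqToHom_refl, Category.id_comp]; exact hg
  refine ⟨trivIso aX (⟨T, ⟨x⟩⟩ : (ofSch X).obj) (⟨T, ⟨x'⟩⟩ : (ofSch X).obj) rfl g hg', ?_, ?_⟩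
  · exact (trivIso_hom_base aX (⟨T, ⟨x⟩⟩ : (ofSch X).obj) (⟨T, ⟨x'⟩⟩ : (ofSch X).obj) rfl g hg')
  · exact (trivIso_inv_base aX (⟨T, ⟨x⟩⟩ : (ofSch X).obj) (⟨T, ⟨x'⟩⟩ : (ofSch X).obj) rfl g hg')

theorem fiber_iso_aux (T : Over S) (A B : QuotObj Scheme.fppfPrecoverage G aX) (hA : A.base = T) (hB : B.base = T)
    (sA : T ⟶ A.P) (hsA : sA ≫ A.π = eqToHom hA.symm) (sB : T ⟶ B.P) (hsB : sB ≫ B.π = eqToHom hB.symm)
    (g : T ⟶ G) (hg : lift g (sB ≫ B.φ) ≫ aX.act = sA ≫ A.φ) :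
    ∃ e : A ≅ B, e.hom.base = eqToHom hA ≫ eqToHom hB.symm ∧ e.inv.base = eqToHom hB ≫ eqToHom hA.symm := by
  obtain ⟨eA, hA1, hA2⟩ := isoOfSection' A T hA sA hsA
  obtain ⟨eB, hB1, hB2⟩ := isoOfSection' B T hB sB hsB
  obtain ⟨tr, htr, htr'⟩ := trivIso_ex (aX := aX) T (sA ≫ A.φ) (sB ≫ B.φ) g hg
  refine ⟨eA.symm ≪≫ tr ≪≫ eB, ?_, ?_⟩
  · rw [Iso.trans_hom, Iso.trans_hom, Iso.symm_hom, QuotObj.comp_base, QuotObj.comp_base, hA2, htr, hB1]
    exact congrArg (fun k => eqToHom hA ≫ k) (Category.id_comp _)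
  · rw [Iso.trans_inv, Iso.trans_inv, Iso.symm_inv, Category.assoc, QuotObj.comp_base, QuotObj.comp_base, hB2, htr', hA1]
    exact congrArg (fun k => eqToHom hB ≫ k) (Category.id_comp _)

theorem isHomLift_of_base {A B : QuotObj Scheme.fppfPrecoverage G aX} (T : Over S) (hA : A.base = T) (hB : B.base = T)
    (h : A ⟶ B) (hh : h.base = eqToHom hA ≫ eqToHom hB.symm) :
    (QuotSt Scheme.fppfPrecoverage G aX).p.IsHomLift (𝟙 T) h := by
  apply IsHomLift.of_fac _ _ _ hA hB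
  have : (QuotSt Scheme.fppfPrecoverage G aX).p.map h = h.base := rfl
  rw [this, hh]; simp

theorem fiber_iso (T : Over S) (A B : QuotObj Scheme.fppfPrecoverage G aX) (hA : A.base = T) (hB : B.base = T)
    (sA : T ⟶ A.P) (hsA : sA ≫ A.π = eqToHom hA.symm) (sB : T ⟶ B.P) (hsB : sB ≫ B.π = eqToHom hB.symm)
    (g : T ⟶ G) (hg : lift g (sB ≫ B.φ) ≫ aX.act = sA ≫ A.φ) :
    Nonempty ((Functor.Fiber.mk hA : (QuotSt Scheme.fppfPrecoverage G aX).p.Fiber T) ≅ Functor.Fiber.mk hB) := by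
  obtain ⟨e, he, he'⟩ := fiber_iso_aux T A B hA hB sA hsA sB hsB g hg
  have l1 := isHomLift_of_base T hA hB e.hom he
  have l2 := isHomLift_of_base T hB hA e.inv he'
  exact ⟨⟨⟨e.hom, l1⟩, ⟨e.inv, l2⟩, Subtype.ext e.hom_inv_id, Subtype.ext e.inv_hom_id⟩⟩


section Main

variable (aX)
variable {N : AlgSp.Sp S}

theorem yonedaSymm_inv (φ : QuotSt Scheme.fppfPrecoverage G aX ⥤ᵇ ofSp N) :
    (AlgSp.yon S).map aX.act ≫ (AlgSp.J S).uliftYonedaEquiv.symm (sQ aX φ (𝟙 X)) =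
      (AlgSp.yon S).map (snd G X) ≫ (AlgSp.J S).uliftYonedaEquiv.symm (sQ aX φ (𝟙 X)) := by
  apply (AlgSp.J S).uliftYonedaEquiv.injective
  rw [GrothendieckTopology.uliftYonedaEquiv_comp, GrothendieckTopology.uliftYonedaEquiv_comp,
    GrothendieckTopology.uliftYonedaEquiv_uliftYoneda_map, GrothendieckTopology.uliftYonedaEquiv_uliftYoneda_map,
    GrothendieckTopology.uliftYonedaEquiv_symm_app_apply, GrothendieckTopology.uliftYonedaEquiv_symm_app_apply,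
    sQ_nat, sQ_nat, Category.comp_id, Category.comp_id]
  have := sQ_inv aX φ (𝟙 (G ⊗ X))
  rw [Category.id_comp, Category.id_comp] at this
  exact this

variable {Y : Over S} (f : X ⟶ Y) (π : QuotSt Scheme.fppfPrecoverage G aX ⥤ᵇ ofSch Y)

theorem fibSec_eq {T : Over S} (x : (QuotSt Scheme.fppfPrecoverage G aX).p.Fiber T) :
    fibSec π x = ((AlgSp.yon S).obj Y).obj.map (eqToHom x.2.symm).op (secOf π x.1) := by
  unfold fibSec secOf
  rw [map_map_apply, eqToHom_trans]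
  rfl

variable {aX f π} in
theorem fibSec_of_section (hπ : Nonempty (BasedFunctor.comp (Q aX) π ≅ ofSpMap ((AlgSp.yon S).map f)))
    {T : Over S} (x : (QuotSt Scheme.fppfPrecoverage G aX).p.Fiber T) (s : T ⟶ x.1.P)
    (hs : s ≫ x.1.π = eqToHom x.2.symm) : fibSec π x = ⟨(s ≫ x.1.φ) ≫ f⟩ := by
  rw [fibSec_eq, ← sQ_π hπ (s ≫ x.1.φ)]
  have h1 := secOf_naturality π (homOfSection aX x.1 s)
  have h2 : (QuotSt Scheme.fppfPrecoverage G aX).p.map (homOfSection aX x.1 s) = eqToHom x.2.symm := hs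
  rw [h2] at h1
  exact h1

theorem main16721 (horb : ∀ (Ω : Type u) [Field Ω] [IsAlgClosed Ω] (t : Spec (CommRingCat.of Ω) ⟶ S),
      (∀ y : Over.mk t ⟶ Y, ∃ x : Over.mk t ⟶ X, x ≫ f = y) ∧
      (∀ x x' : Over.mk t ⟶ X, x ≫ f = x' ≫ f → ∃ g : Over.mk t ⟶ G, lift g x' ≫ aX.act = x))
    (hcat : ∀ (N : AlgSp.Space S) (ψ : (AlgSp.yon S).obj X ⟶ N.obj),
      (AlgSp.yon S).map aX.act ≫ ψ = (AlgSp.yon S).map (snd G X) ≫ ψ →
        ∃! χ : (AlgSp.yon S).obj Y ⟶ N.obj, (AlgSp.yon S).map f ≫ χ = ψ)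
    (hπ : Nonempty (BasedFunctor.comp (AlgSt.quotMap Scheme.fppfPrecoverage G aX) π ≅
      AlgSt.ofSpMap ((AlgSp.yon S).map f))) :
    AlgSt.IsCoarseModuli π := by
  refine ⟨⟨AlgSp.IsAlgSpace.yon_obj Y, ?_⟩, ?_⟩
  · intro N hN φ
    obtain ⟨χ, hχ, hχu⟩ := hcat ⟨N, hN⟩ _ (yonedaSymm_inv aX φ)
    have hχ' : (AlgSp.yon S).map f ≫ χ = (AlgSp.J S).uliftYonedaEquiv.symm (sQ aX φ (𝟙 X)) := hχ
    have key : ∀ g' : (AlgSp.yon S).obj Y ⟶ N, sQ aX (BasedFunctor.comp π (ofSpMap g')) (𝟙 X) =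
        (AlgSp.J S).uliftYonedaEquiv ((AlgSp.yon S).map f ≫ g') := by
      intro g'
      rw [sQ_comp, sQ_π hπ, GrothendieckTopology.uliftYonedaEquiv_comp,
        GrothendieckTopology.uliftYonedaEquiv_uliftYoneda_map, Category.id_comp]
    refine ⟨χ, ?_, ?_⟩
    · have : BasedFunctor.comp π (ofSpMap χ) = φ := by
        apply eq_of_sQ_eq
        rw [key, hχ', Equiv.apply_symm_apply]
      show Nonempty (BasedFunctor.comp π (ofSpMap χ) ≅ φ)
      rw [this]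
      exact ⟨Iso.refl _⟩
    · rintro g' ⟨θ⟩
      apply hχu
      show (AlgSp.yon S).map f ≫ g' = (AlgSp.J S).uliftYonedaEquiv.symm (sQ aX φ (𝟙 X))
      apply (AlgSp.J S).uliftYonedaEquiv.injective
      rw [Equiv.apply_symm_apply, ← key]
      exact secOf_eq_of_iso θ ((Q aX).obj (⟨X, ⟨𝟙 X⟩⟩ : (ofSch X).obj))
  · intro Ω _ _ t
    constructor
    · intro m
      obtain ⟨x₀, hx₀⟩ := (horb Ω t).1 m.down
      refine ⟨⟨(Q aX).obj (⟨Over.mk t, ⟨x₀⟩⟩ : (ofSch X).obj), rfl⟩, ?_⟩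
      rw [fibSec_eq]
      refine (map_id_apply _ _).trans ?_
      refine (sQ_π hπ x₀).trans ?_
      rw [hx₀]
      rfl
    · intro x y hxy
      obtain ⟨sA, hsA⟩ := exists_section_of_algClosed Ω t x.1 x.2
      obtain ⟨sB, hsB⟩ := exists_section_of_algClosed Ω t y.1 y.2
      rw [fibSec_of_section hπ x sA hsA, fibSec_of_section hπ y sB hsB] at hxy
      obtain ⟨g, hg⟩ := (horb Ω t).2 _ _ (congrArg ULift.down hxy)
      exact fiber_iso (Over.mk t) x.1 y.1 x.2 y.2 sA hsA sB hsB g hg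

end Main

end Groth.Agent.Helper18.QuotCoarse
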