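import Mathlib
import Groth.Prelude
import Groth.Agent.Lib.Helper18.FlatEpi

set_option autoImplicit false
universe u
open CategoryTheory MonoidalCategory CartesianMonoidalCategory MonObj AlgebraicGeometry Limits

namespace Groth.Agent.Helper18.QuotDesc

variable {S : Scheme.{u}}

theorem main {H G Q K : Over S} [GrpObj H] [GrpObj G] [GrpObj Q] [GrpObj K]
    (i : H ⟶ G) [IsMonHom i] (q : G ⟶ Q) [IsMonHom q] (hq : RedSub.IsQuotient i q)
    (f : G ⟶ K) [IsMonHom f] (hf : i ≫ f = 1) :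
    ∃! g : Q ⟶ K, q ≫ g = f ∧ IsMonHom g := by
  obtain ⟨hsurj, hfl, hfp, hpb⟩ := hq
  haveI := hsurj
  haveI := hfl
  haveI := hfp
  haveI : Epi q := FlatEpi.epi_of_flat_surj q
  haveI : EffectiveEpi q.left := inferInstance
  obtain ⟨g, hg⟩ := FlatEpi.exists_desc q f (by
    intro T g₁ g₂ h12
    let l : T ⟶ G ⊗ H := hpb.lift g₁ g₂ h12
    have hl1 : l ≫ fst G H = g₁ := hpb.lift_fst _ _ _
    have hl2 : l ≫ (G ◁ i) ≫ μ[G] = g₂ := hpb.lift_snd _ _ _
    have hl : l = lift g₁ (l ≫ snd G H) := by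
      apply CartesianMonoidalCategory.hom_ext
      · rw [lift_fst, hl1]
      · rw [lift_snd]
    have h3 : g₂ = g₁ * ((l ≫ snd G H) ≫ i) := by
      rw [← hl2]
      conv_lhs => rw [hl]
      rw [lift_whiskerLeft_assoc]
      rfl
    rw [h3, MonObj.mul_comp, Category.assoc, hf, MonObj.comp_one, _root_.mul_one])
  have hmon : IsMonHom g := by
    refine ⟨?_, ?_⟩
    · rw [← IsMonHom.one_hom q, Category.assoc, hg, IsMonHom.one_hom]
    · haveI : Epi (q ⊗ₘ q) := FlatEpi.epi_of_flat_surj _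
      rw [← cancel_epi (q ⊗ₘ q), ← Category.assoc, ← IsMonHom.mul_hom q, Category.assoc, hg,
        IsMonHom.mul_hom f, ← Category.assoc, tensorHom_comp_tensorHom, hg]
  refine ⟨g, ⟨hg, hmon⟩, ?_⟩
  rintro g' ⟨hg', _⟩
  rw [← cancel_epi q, hg, hg']

end Groth.Agent.Helper18.QuotDesc
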