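import Groth.Agent.Lib.Helper18.QuotCoarse

set_option autoImplicit false
set_option linter.unusedSimpArgs false
set_option backward.isDefEq.respectTransparency false
set_option backward.isDefEq.respectTransparency.types false
universe u
open CategoryTheory CategoryTheory.Limits MonoidalCategory CartesianMonoidalCategory MonObj GrpObj AlgebraicGeometry
open AlgSt FibCat Opposite

/-! K-general versions of the trivial-object calculus of `[X/G]`. -/

namespace Groth.Agent.Helper18.QuotGen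

open Groth.Agent.Helper18.QuotObjLoc Groth.Agent.Helper18.QuotCoarse

variable {S : Scheme.{u}} {G : Over S} [GrpObj G] {X : Over S}
variable (K : Precoverage Scheme.{u}) [K.HasIsos] (aX : AlgGrp.Action G X)

/-- The quotient map. -/
noncomputable abbrev QK : ofSch X ⥤ᵇ QuotSt K G aX := quotMap K G aX

/-- The morphism `(h, t) ↦ (h g(t), f t)` between trivial objects. -/
noncomputable def trivHom (a a' : (ofSch X).obj) (f : a.base ⟶ a'.base) (g : a.base ⟶ G)
    (hg : lift g (f ≫ a'.sec.down) ≫ aX.act = a.sec.down) : (QK K aX).obj a ⟶ (QK K aX).obj a' :=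
  ⟨f, lift (fst G a.base * (snd G a.base ≫ g)) (snd G a.base ≫ f),
    (part2_12838 aX f a.sec.down a'.sec.down g hg).1,
    (part2_12838 aX f a.sec.down a'.sec.down g hg).2.1,
    (part2_12838 aX f a.sec.down a'.sec.down g hg).2.2⟩

@[simp] theorem trivHom_base (a a' : (ofSch X).obj) (f : a.base ⟶ a'.base) (g : a.base ⟶ G) (hg) :
    (trivHom K aX a a' f g hg).base = f := rfl

theorem trivHom_top (a a' : (ofSch X).obj) (f : a.base ⟶ a'.base) (g : a.base ⟶ G) (hg) :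
    (trivHom K aX a a' f g hg).top = lift (fst G a.base * (snd G a.base ≫ g)) (snd G a.base ≫ f) := rfl

theorem trivHom_comp (a a' a'' : (ofSch X).obj) (f : a.base ⟶ a'.base) (g : a.base ⟶ G) (hg)
    (f' : a'.base ⟶ a''.base) (g' : a'.base ⟶ G) (hg') (hgg) :
    trivHom K aX a a' f g hg ≫ trivHom K aX a' a'' f' g' hg' = trivHom K aX a a'' (f ≫ f') (g * (f ≫ g')) hgg := by
  apply QuotObj.hom_ext
  · rfl
  · change lift (fst G a.base * (snd G a.base ≫ g)) (snd G a.base ≫ f) ≫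
      lift (fst G a'.base * (snd G a'.base ≫ g')) (snd G a'.base ≫ f') =
      lift (fst G a.base * (snd G a.base ≫ (g * (f ≫ g')))) (snd G a.base ≫ f ≫ f')
    simp only [comp_lift, comp_mul, lift_fst, lift_snd, lift_snd_assoc, Category.assoc, _root_.mul_assoc]

theorem trivHom_one (a : (ofSch X).obj) (hg) :
    trivHom K aX a a (𝟙 _) 1 hg = 𝟙 _ := by
  apply QuotObj.hom_ext
  · rfl
  · change lift (fst G a.base * (snd G a.base ≫ 1)) (snd G a.base ≫ 𝟙 _) = 𝟙 (G ⊗ a.base)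
    rw [comp_one, _root_.mul_one, Category.comp_id, lift_fst_snd]

theorem trivHom_map {a a' : (ofSch X).obj} (ψ : a ⟶ a') (hg) :
    trivHom K aX a a' ψ.hom 1 hg = (QK K aX).map ψ := by
  apply QuotObj.hom_ext
  · rfl
  · change lift (fst G a.base * (snd G a.base ≫ 1)) (snd G a.base ≫ ψ.hom) = G ◁ ψ.hom
    rw [comp_one, _root_.mul_one]
    apply CartesianMonoidalCategory.hom_ext <;> simp

/-- The iso between trivial objects over the identity given by `g`. -/
noncomputable def trivIso (a a' : (ofSch X).obj) (hb : a.base = a'.base) (g : a.base ⟶ G)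
    (hg : lift g (eqToHom hb ≫ a'.sec.down) ≫ aX.act = a.sec.down) : (QK K aX).obj a ≅ (QK K aX).obj a' where
  hom := trivHom K aX a a' (eqToHom hb) g hg
  inv := trivHom K aX a' a (eqToHom hb.symm) (eqToHom hb.symm ≫ g⁻¹) (by
    obtain ⟨T, ⟨x⟩⟩ := a
    obtain ⟨T', ⟨x'⟩⟩ := a'
    obtain rfl : T = T' := hb
    simp only [eqToHom_refl, Category.id_comp] at hg ⊢
    change lift g x' ≫ aX.act = x at hg
    change lift g⁻¹ x ≫ aX.act = x'
    rw [← hg, ← AlgGrp.Action.lift_mul_act, inv_mul_cancel, AlgGrp.Action.lift_one_act])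
  hom_inv_id := by
    rw [trivHom_comp K aX _ _ _ _ _ _ _ _ _ (by
      obtain ⟨T, ⟨x⟩⟩ := a
      obtain ⟨T', ⟨x'⟩⟩ := a'
      obtain rfl : T = T' := hb
      simp only [eqToHom_refl, Category.id_comp, mul_inv_cancel]
      exact AlgGrp.Action.lift_one_act _ _)]
    obtain ⟨T, ⟨x⟩⟩ := a
    obtain ⟨T', ⟨x'⟩⟩ := a'
    obtain rfl : T = T' := hb
    simp only [eqToHom_refl, Category.id_comp, mul_inv_cancel]
    exact trivHom_one K aX _ _
  inv_hom_id := by
    rw [trivHom_comp K aX _ _ _ _ _ _ _ _ _ (by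
      obtain ⟨T, ⟨x⟩⟩ := a
      obtain ⟨T', ⟨x'⟩⟩ := a'
      obtain rfl : T = T' := hb
      simp only [eqToHom_refl, Category.id_comp, inv_mul_cancel]
      exact AlgGrp.Action.lift_one_act _ _)]
    obtain ⟨T, ⟨x⟩⟩ := a
    obtain ⟨T', ⟨x'⟩⟩ := a'
    obtain rfl : T = T' := hb
    simp only [eqToHom_refl, Category.id_comp, inv_mul_cancel]
    exact trivHom_one K aX _ _


theorem trivIso_hom_base (a a' : (ofSch X).obj) (hb : a.base = a'.base) (g : a.base ⟶ G) (hg) :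
    (trivIso K aX a a' hb g hg).hom.base = eqToHom hb := rfl

theorem trivIso_inv_base (a a' : (ofSch X).obj) (hb : a.base = a'.base) (g : a.base ⟶ G) (hg) :
    (trivIso K aX a a' hb g hg).inv.base = eqToHom hb.symm := rfl

/-- The morphism from the trivial object attached to a point of the torsor. -/
noncomputable def homOfSection (A : QuotObj K G aX) {V : Over S} (s : V ⟶ A.P) :
    (QK K aX).obj (⟨V, ⟨s ≫ A.φ⟩⟩ : (ofSch X).obj) ⟶ A :=
  ⟨s ≫ A.π, (G ◁ s) ≫ A.act.act, act_whisker A.act s,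
    (isPullback_whiskerLeft (G := G) s).paste_horiz A.cart, by
      change ((G ◁ s) ≫ A.act.act) ≫ A.φ = (G ◁ (s ≫ A.φ)) ≫ aX.act
      rw [Category.assoc, A.eqv, MonoidalCategory.whiskerLeft_comp, Category.assoc]⟩

@[simp] theorem homOfSection_base (A : QuotObj K G aX) {V : Over S} (s : V ⟶ A.P) :
    (homOfSection K aX A s).base = s ≫ A.π := rfl

/-- An object with a section is isomorphic to a trivial one. -/
theorem isoOfSection (A : QuotObj K G aX) (s : A.base ⟶ A.P) (hs : s ≫ A.π = 𝟙 _) :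
    ∃ e : (QK K aX).obj (⟨A.base, ⟨s ≫ A.φ⟩⟩ : (ofSch X).obj) ≅ A,
      e.hom.base = 𝟙 A.base ∧ e.inv.base = 𝟙 A.base := by
  have hb : (homOfSection K aX A s).base = 𝟙 A.base := hs
  haveI : IsIso (homOfSection K aX A s).base := by rw [hb]; exact IsIso.id A.base
  haveI := isIso_of_isIso_base (homOfSection K aX A s)
  refine ⟨asIso (homOfSection K aX A s), hb, ?_⟩
  have h1 : (inv (homOfSection K aX A s) ≫ homOfSection K aX A s).base = 𝟙 A.base := by
    rw [IsIso.inv_hom_id, QuotObj.id_base]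
  rw [QuotObj.comp_base, hb] at h1
  exact (Category.comp_id _).symm.trans h1

theorem isoOfSection' (B : QuotObj K G aX) (T : Over S) (hB : B.base = T)
    (s : T ⟶ B.P) (hs : s ≫ B.π = eqToHom hB.symm) :
    ∃ e : (QK K aX).obj (⟨T, ⟨s ≫ B.φ⟩⟩ : (ofSch X).obj) ≅ B,
      e.hom.base = eqToHom hB.symm ∧ e.inv.base = eqToHom hB := by
  subst hB
  rw [eqToHom_refl] at hs
  obtain ⟨e, h1, h2⟩ := isoOfSection K aX B s hs
  refine ⟨e, ?_, ?_⟩
  · rw [eqToHom_refl]; exact h1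
  · rw [eqToHom_refl]; exact h2

theorem trivIso_ex (T : Over S) (x x' : T ⟶ X) (g : T ⟶ G) (hg : lift g x' ≫ aX.act = x) :
    ∃ tr : (QK K aX).obj (⟨T, ⟨x⟩⟩ : (ofSch X).obj) ≅ (QK K aX).obj (⟨T, ⟨x'⟩⟩ : (ofSch X).obj),
      tr.hom.base = 𝟙 T ∧ tr.inv.base = 𝟙 T := by
  have hg' : lift g (eqToHom (rfl : T = T) ≫ x') ≫ aX.act = x := by
    rw [eqToHom_refl, Category.id_comp]; exact hg
  refine ⟨trivIso K aX (⟨T, ⟨x⟩⟩ : (ofSch X).obj) (⟨T, ⟨x'⟩⟩ : (ofSch X).obj) rfl g hg', ?_, ?_⟩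
  · exact (trivIso_hom_base K aX (⟨T, ⟨x⟩⟩ : (ofSch X).obj) (⟨T, ⟨x'⟩⟩ : (ofSch X).obj) rfl g hg')
  · exact (trivIso_inv_base K aX (⟨T, ⟨x⟩⟩ : (ofSch X).obj) (⟨T, ⟨x'⟩⟩ : (ofSch X).obj) rfl g hg')

theorem fiber_iso_aux (T : Over S) (A B : QuotObj K G aX) (hA : A.base = T) (hB : B.base = T)
    (sA : T ⟶ A.P) (hsA : sA ≫ A.π = eqToHom hA.symm) (sB : T ⟶ B.P) (hsB : sB ≫ B.π = eqToHom hB.symm)
    (g : T ⟶ G) (hg : lift g (sB ≫ B.φ) ≫ aX.act = sA ≫ A.φ) :
    ∃ e : A ≅ B, e.hom.base = eqToHom hA ≫ eqToHom hB.symm ∧ e.inv.base = eqToHom hB ≫ eqToHom hA.symm := by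
  obtain ⟨eA, hA1, hA2⟩ := isoOfSection' K aX A T hA sA hsA
  obtain ⟨eB, hB1, hB2⟩ := isoOfSection' K aX B T hB sB hsB
  obtain ⟨tr, htr, htr'⟩ := trivIso_ex K aX T (sA ≫ A.φ) (sB ≫ B.φ) g hg
  refine ⟨eA.symm ≪≫ tr ≪≫ eB, ?_, ?_⟩
  · rw [Iso.trans_hom, Iso.trans_hom, Iso.symm_hom, QuotObj.comp_base, QuotObj.comp_base, hA2, htr, hB1]
    exact congrArg (fun k => eqToHom hA ≫ k) (Category.id_comp _)
  · rw [Iso.trans_inv, Iso.trans_inv, Iso.symm_inv, Category.assoc, QuotObj.comp_base, QuotObj.comp_base, hB2, htr', hA1]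
    exact congrArg (fun k => eqToHom hB ≫ k) (Category.id_comp _)

theorem isHomLift_of_base {A B : QuotObj K G aX} (T : Over S) (hA : A.base = T) (hB : B.base = T)
    (h : A ⟶ B) (hh : h.base = eqToHom hA ≫ eqToHom hB.symm) :
    (QuotSt K G aX).p.IsHomLift (𝟙 T) h := by
  apply IsHomLift.of_fac _ _ _ hA hB
  have : (QuotSt K G aX).p.map h = h.base := rfl
  rw [this, hh]; simp

theorem fiber_iso (T : Over S) (A B : QuotObj K G aX) (hA : A.base = T) (hB : B.base = T)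
    (sA : T ⟶ A.P) (hsA : sA ≫ A.π = eqToHom hA.symm) (sB : T ⟶ B.P) (hsB : sB ≫ B.π = eqToHom hB.symm)
    (g : T ⟶ G) (hg : lift g (sB ≫ B.φ) ≫ aX.act = sA ≫ A.φ) :
    Nonempty ((Functor.Fiber.mk hA : (QuotSt K G aX).p.Fiber T) ≅ Functor.Fiber.mk hB) := by
  obtain ⟨e, he, he'⟩ := fiber_iso_aux K aX T A B hA hB sA hsA sB hsB g hg
  have l1 := isHomLift_of_base K aX T hA hB e.hom he
  have l2 := isHomLift_of_base K aX T hB hA e.inv he'
  exact ⟨⟨⟨e.hom, l1⟩, ⟨e.inv, l2⟩, Subtype.ext e.hom_inv_id, Subtype.ext e.inv_hom_id⟩⟩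



/-- Over an algebraically closed point, a `K`-locally trivial object has a section, when the members of `K`-coverings
are locally of finite type. -/
theorem exists_section_of_algClosed
    (hK : ∀ {T : Scheme.{u}} {R : Presieve T}, R ∈ K T → R ∈ Scheme.jointlySurjectivePrecoverage T ∧
      ∀ {Y : Scheme.{u}} (b : Y ⟶ T), R b → LocallyOfFiniteType b)
    (Ω : Type u) [Field Ω] [IsAlgClosed Ω]
    (t : Spec (CommRingCat.of Ω) ⟶ S) (A : QuotObj K G aX) (hA : A.base = Over.mk t) :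
    ∃ s : Over.mk t ⟶ A.P, s ≫ A.π = eqToHom hA.symm := by
  obtain ⟨bA, PA, actA, πA, cartA, locA, φA, eqvA⟩ := A
  change bA = Over.mk t at hA
  subst hA
  obtain ⟨R, hR, hsec⟩ := locA
  obtain ⟨hR1, hR2⟩ := hK hR
  obtain ⟨Y, b, hb, x, hx⟩ := ((Presieve.mem_comap_jointlySurjectivePrecoverage_iff _).1 hR1)
    (IsLocalRing.closedPoint Ω : PrimeSpectrum Ω)
  haveI : LocallyOfFiniteType b := hR2 b hb
  haveI : JacobsonSpace ↥(Spec (CommRingCat.of Ω)) := inferInstanceAs (JacobsonSpace (PrimeSpectrum Ω))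
  haveI : JacobsonSpace ↥(Over.mk t).left := inferInstanceAs (JacobsonSpace (PrimeSpectrum Ω))
  haveI : JacobsonSpace Y := LocallyOfFiniteType.jacobsonSpace b
  obtain ⟨z, -, hz'⟩ := nonempty_inter_closedPoints (X := Y) (Z := Set.univ) ⟨x, trivial⟩
    isOpen_univ.isLocallyClosed
  have hz : IsClosed ({z} : Set Y) := hz'
  obtain ⟨s, hs⟩ := hsec b hb
  have hs' : s ≫ πA.left = b := hs
  have h1 : pointOfClosedPoint b z hz ≫ b = 𝟙 _ := pointOfClosedPoint_comp b z hz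
  have hπ : (pointOfClosedPoint b z hz ≫ s) ≫ πA.left = 𝟙 _ := by
    rw [Category.assoc, hs', h1]
  refine ⟨Over.homMk (pointOfClosedPoint b z hz ≫ s) ?_, ?_⟩
  · change (pointOfClosedPoint b z hz ≫ s) ≫ PA.hom = t
    rw [← Over.w πA, ← Category.assoc, hπ]
    exact Category.id_comp _
  · ext
    exact hπ

theorem etale_hK : ∀ {T : Scheme.{u}} {R : Presieve T}, R ∈ Scheme.etalePrecoverage T →
    R ∈ Scheme.jointlySurjectivePrecoverage T ∧
      ∀ {Y : Scheme.{u}} (b : Y ⟶ T), R b → LocallyOfFiniteType b := by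
  intro T R hR
  refine ⟨hR.1, fun b hb => ?_⟩
  haveI : Etale b := hR.2 hb
  infer_instance

/-- The point of `X` attached to a section determines the isomorphism class: converse direction. -/
theorem exists_translate_of_iso (T : Over S) (A B : QuotObj K G aX) (hA : A.base = T) (hB : B.base = T)
    (sA : T ⟶ A.P) (hsA : sA ≫ A.π = eqToHom hA.symm) (sB : T ⟶ B.P) (hsB : sB ≫ B.π = eqToHom hB.symm)
    (h : A ⟶ B) (hh : h.base = eqToHom hA ≫ eqToHom hB.symm) :
    ∃ g : T ⟶ G, lift g (sA ≫ A.φ) ≫ aX.act = sB ≫ B.φ := by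
  have hw : h.top ≫ B.π = A.π ≫ h.base := h.cart.w
  have h1 : sB ≫ B.π = (sA ≫ h.top) ≫ B.π := by
    rw [Category.assoc, hw, ← Category.assoc, hsA, hh, hsB]
    simp
  obtain ⟨c, hc1, hc2⟩ := B.cart.exists_lift sB (sA ≫ h.top) h1
  refine ⟨c ≫ fst G B.P, ?_⟩
  have e : sB = lift (c ≫ fst G B.P) (sA ≫ h.top) ≫ B.act.act := by
    rw [← hc1, ← hc2, ← comp_lift, lift_fst_snd, Category.comp_id]
  have hφ : h.top ≫ B.φ = A.φ := h.wφ
  conv_rhs => rw [e]
  rw [Category.assoc, B.eqv, lift_whiskerLeft_assoc, Category.assoc, hφ]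

theorem main14196_gen (Ω : Type u) [Field Ω] [IsAlgClosed Ω] (t : Spec (CommRingCat.of Ω) ⟶ S) :
    (∀ A : (AlgSt.QuotObj.forget Scheme.etalePrecoverage G aX).Fiber (Over.mk t),
        ∃ s : Over.mk t ⟶ A.1.P, s ≫ A.1.π = eqToHom A.2.symm) ∧
    (∀ (A B : (AlgSt.QuotObj.forget Scheme.etalePrecoverage G aX).Fiber (Over.mk t))
        (tA : Over.mk t ⟶ A.1.P) (tB : Over.mk t ⟶ B.1.P),
        tA ≫ A.1.π = eqToHom A.2.symm → tB ≫ B.1.π = eqToHom B.2.symm →
        (Nonempty (A ≅ B) ↔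
          ∃ g : Over.mk t ⟶ G, CartesianMonoidalCategory.lift g (tA ≫ A.1.φ) ≫ aX.act = tB ≫ B.1.φ)) ∧
    (∀ x : Over.mk t ⟶ X,
        ∃ (A : (AlgSt.QuotObj.forget Scheme.etalePrecoverage G aX).Fiber (Over.mk t)) (s : Over.mk t ⟶ A.1.P),
          s ≫ A.1.π = eqToHom A.2.symm ∧ s ≫ A.1.φ = x) := by
  refine ⟨?_, ?_, ?_⟩
  · intro A
    exact exists_section_of_algClosed Scheme.etalePrecoverage aX etale_hK Ω t A.1 A.2
  · intro A B tA tB hA hB
    constructor
    · rintro ⟨e⟩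
      have hl : (AlgSt.QuotObj.forget Scheme.etalePrecoverage G aX).IsHomLift (𝟙 (Over.mk t)) e.hom.1 := e.hom.2
      have hb : e.hom.1.base = eqToHom A.2 ≫ eqToHom B.2.symm := by
        have := IsHomLift.fac' (AlgSt.QuotObj.forget Scheme.etalePrecoverage G aX) (𝟙 (Over.mk t)) e.hom.1
        rw [Category.id_comp] at this
        exact this
      exact exists_translate_of_iso Scheme.etalePrecoverage aX (Over.mk t) A.1 B.1 A.2 B.2 tA hA tB hB e.hom.1 hb
    · rintro ⟨g, hg⟩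
      obtain ⟨e⟩ := fiber_iso Scheme.etalePrecoverage aX (Over.mk t) B.1 A.1 B.2 A.2 tB hB tA hA g hg
      exact ⟨e.symm⟩
  · intro x
    refine ⟨⟨(QK Scheme.etalePrecoverage aX).obj (⟨Over.mk t, ⟨x⟩⟩ : (ofSch X).obj), rfl⟩,
      lift (1 : Over.mk t ⟶ G) (𝟙 _), ?_, ?_⟩
    · change lift (1 : Over.mk t ⟶ G) (𝟙 _) ≫ snd G (Over.mk t) = 𝟙 _
      exact lift_snd _ _
    · change lift (1 : Over.mk t ⟶ G) (𝟙 _) ≫ (G ◁ x) ≫ aX.act = x
      rw [lift_whiskerLeft_assoc, Category.id_comp, AlgGrp.Action.lift_one_act]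

end Groth.Agent.Helper18.QuotGen
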