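import Groth.Prelude.Def_AlgSt5
import Groth.Prelude.Def_ChGrp

set_option autoImplicit false
set_option linter.unusedSimpArgs false
set_option backward.isDefEq.respectTransparency false
set_option backward.isDefEq.respectTransparency.types false
universe u
open CategoryTheory CategoryTheory.Limits MonoidalCategory CartesianMonoidalCategory MonObj GrpObj AlgebraicGeometry
open AlgSt

namespace Groth.Agent.Helper18.QuotObjLoc

variable {S : Scheme.{u}} {G : Over S} [GrpObj G] {X : Over S}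

/-- `(g, (h, t)) ↦ (gh, s t)` two ways. -/
theorem leftMul_whisker {T P : Over S} (s : T ⟶ P) :
    (leftMul G T).act ≫ (G ◁ s) = (G ◁ (G ◁ s)) ≫ (α_ G G P).inv ≫ (μ[G] ▷ P) := by
  have hμ : fst (G ⊗ G) P ≫ μ[G] = (fst _ _ ≫ fst G G) * (fst _ _ ≫ snd G G) := by
    rw [Hom.mul_def, ← comp_lift, lift_fst_snd, Category.comp_id]
  apply CartesianMonoidalCategory.hom_ext
  · simp only [leftMul, Category.assoc, lift_fst, lift_snd, lift_fst_assoc, lift_snd_assoc, comp_lift, comp_mul, whiskerLeft_fst, whiskerLeft_snd, whiskerLeft_fst_assoc, whiskerLeft_snd_assoc, whiskerRight_fst, whiskerRight_snd, whiskerRight_fst_assoc, whiskerRight_snd_assoc, associator_hom_fst, associator_hom_snd_fst, associator_hom_snd_snd, associator_hom_snd_fst_assoc, associator_hom_snd_snd_assoc, associator_inv_fst_fst, associator_inv_fst_snd, associator_inv_snd, associator_inv_fst_fst_assoc, associator_inv_fst_snd_assoc, associator_inv_snd_assoc, hμ]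
  · simp only [leftMul, Category.assoc, lift_fst, lift_snd, lift_fst_assoc, lift_snd_assoc, comp_lift, comp_mul, whiskerLeft_fst, whiskerLeft_snd, whiskerLeft_fst_assoc, whiskerLeft_snd_assoc, whiskerRight_fst, whiskerRight_snd, whiskerRight_fst_assoc, whiskerRight_snd_assoc, associator_hom_fst, associator_hom_snd_fst, associator_hom_snd_snd, associator_hom_snd_fst_assoc, associator_hom_snd_snd_assoc, associator_inv_fst_fst, associator_inv_fst_snd, associator_inv_snd, associator_inv_fst_fst_assoc, associator_inv_fst_snd_assoc, associator_inv_snd_assoc]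

theorem act_whisker {P : Over S} (a : AlgGrp.Action G P) {T : Over S} (s : T ⟶ P) :
    (leftMul G T).act ≫ (G ◁ s) ≫ a.act = (G ◁ ((G ◁ s) ≫ a.act)) ≫ a.act := by
  have hm : (G ◁ a.act) ≫ a.act = (α_ G G P).inv ≫ (μ[G] ▷ P) ≫ a.act := by
    rw [a.mul_act, Iso.inv_hom_id_assoc]
  rw [MonoidalCategory.whiskerLeft_comp, Category.assoc, hm, reassoc_of% (leftMul_whisker (G := G) s)]

theorem main12839 (aX : AlgGrp.Action G X) (A : AlgSt.QuotObj Scheme.fppfPrecoverage G aX) :
    ∃ (R : Presieve A.base.left) (_ : R ∈ Scheme.fppfPrecoverage A.base.left),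
      ∀ ⦃T' : Scheme.{u}⦄ (f : T' ⟶ A.base.left), R f →
        ∃ (x : Over.mk (f ≫ A.base.hom) ⟶ X)
          (h : (AlgSt.quotMap Scheme.fppfPrecoverage G aX).obj ((AlgSt.ofOverCat X).obj (Over.mk x)) ⟶ A),
          h.base = Over.homMk f rfl := by
  obtain ⟨R, hR, hsec⟩ := A.loc
  refine ⟨R, hR, ?_⟩
  intro T' f hf
  obtain ⟨s, hs⟩ := hsec f hf
  have hs' : s ≫ A.π.left = f := hs
  have hw : s ≫ A.P.hom = f ≫ A.base.hom := by
    rw [← Over.w A.π, ← Category.assoc, hs']
  let s' : Over.mk (f ≫ A.base.hom) ⟶ A.P := Over.homMk s hw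
  have hsπ : s' ≫ A.π = Over.homMk f rfl := by
    ext
    exact hs'
  refine ⟨s' ≫ A.φ, ⟨Over.homMk f rfl, (G ◁ s') ≫ A.act.act, ?_, ?_, ?_⟩, rfl⟩
  · exact act_whisker A.act s'
  · have := (isPullback_whiskerLeft (G := G) s').paste_horiz A.cart
    rw [hsπ] at this
    exact this
  · change ((G ◁ s') ≫ A.act.act) ≫ A.φ = (G ◁ (s' ≫ A.φ)) ≫ aX.act
    rw [Category.assoc, A.eqv, MonoidalCategory.whiskerLeft_comp, Category.assoc]

end Groth.Agent.Helper18.QuotObjLoc

namespace Groth.Agent.Helper18.QuotObjLoc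

variable {S : Scheme.{u}} {G : Over S} [GrpObj G] {X : Over S}

@[reassoc]
theorem lift_leftMul_act {U T : Over S} (a b : U ⟶ G) (t : U ⟶ T) :
    lift a (lift b t) ≫ (leftMul G T).act = lift (a * b) t := by
  simp only [leftMul, comp_lift, comp_mul, lift_fst, lift_snd, lift_snd_assoc]

theorem part1_12838 (aX : AlgGrp.Action G X) {T T' : Over S} (f : T ⟶ T') (x : T ⟶ X) (x' : T' ⟶ X)
    (top : G ⊗ T ⟶ G ⊗ T') (htop : top ≫ snd G T' = snd G T ≫ f)
    (heqv : (leftMul G T).act ≫ top = (G ◁ top) ≫ (leftMul G T').act)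
    (hφ : top ≫ (G ◁ x') ≫ aX.act = (G ◁ x) ≫ aX.act) :
    ∃ g : T ⟶ G, lift g (f ≫ x') ≫ aX.act = x ∧
          top = lift (fst G T * (snd G T ≫ g)) (snd G T ≫ f) := by
  let e : T ⟶ G ⊗ T := lift (1 : T ⟶ G) (𝟙 T)
  let g : T ⟶ G := e ≫ top ≫ fst G T'
  have he : e ≫ top = lift g f := by
    apply CartesianMonoidalCategory.hom_ext
    · rw [Category.assoc]
      exact (lift_fst _ _).symm
    · rw [Category.assoc, htop]
      refine Eq.trans ?_ (lift_snd _ _).symm
      rw [lift_snd_assoc, Category.id_comp]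
  refine ⟨g, ?_, ?_⟩
  · have := congrArg (fun k => e ≫ k) hφ
    simp only [← Category.assoc] at this
    rw [he] at this
    simp only [e, lift_whiskerLeft, Category.comp_id] at this
    rw [this, AlgGrp.Action.lift_one_act, Category.id_comp]
  · have h1 : lift (fst G T) (snd G T ≫ e) ≫ (leftMul G T).act = 𝟙 (G ⊗ T) := by
      simp only [e, comp_lift, Category.comp_id]
      rw [lift_leftMul_act, comp_one, _root_.mul_one, lift_fst_snd]
    calc top
        = (lift (fst G T) (snd G T ≫ e) ≫ (leftMul G T).act) ≫ top := by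
          rw [h1, Category.id_comp]
      _ = lift (fst G T) (snd G T ≫ e) ≫ (G ◁ top) ≫ (leftMul G T').act := by
          rw [Category.assoc, heqv]
      _ = _ := by
          rw [lift_whiskerLeft_assoc, Category.assoc, he, comp_lift, lift_leftMul_act]

theorem part2_12838 (aX : AlgGrp.Action G X) {T T' : Over S} (f : T ⟶ T') (x : T ⟶ X) (x' : T' ⟶ X)
    (g : T ⟶ G) (hg : lift g (f ≫ x') ≫ aX.act = x) :
    ((leftMul G T).act ≫ lift (fst G T * (snd G T ≫ g)) (snd G T ≫ f) =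
      (G ◁ lift (fst G T * (snd G T ≫ g)) (snd G T ≫ f)) ≫ (leftMul G T').act) ∧
    IsPullback (lift (fst G T * (snd G T ≫ g)) (snd G T ≫ f)) (snd G T) (snd G T') f ∧
    (lift (fst G T * (snd G T ≫ g)) (snd G T ≫ f) ≫ (G ◁ x') ≫ aX.act = (G ◁ x) ≫ aX.act) := by
  have hiso : IsIso (lift (fst G T * (snd G T ≫ g)) (snd G T) : G ⊗ T ⟶ G ⊗ T) := by
    refine ⟨⟨lift (fst G T * (snd G T ≫ g)⁻¹) (snd G T), ?_, ?_⟩⟩
    · simp only [comp_lift, comp_mul, comp_inv, lift_fst, lift_snd, lift_snd_assoc, mul_inv_cancel_right, lift_fst_snd]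
    · simp only [comp_lift, comp_mul, comp_inv, lift_fst, lift_snd, lift_snd_assoc, inv_mul_cancel_right, lift_fst_snd]
  have hfac : lift (fst G T * (snd G T ≫ g)) (snd G T ≫ f) =
      (lift (fst G T * (snd G T ≫ g)) (snd G T) : G ⊗ T ⟶ G ⊗ T) ≫ (G ◁ f) := by
    rw [lift_whiskerLeft]
  refine ⟨?_, ?_, ?_⟩
  · apply AlgGrp.Action.hom_ext_lift₂
    intro U a bt
    obtain ⟨b, t, rfl⟩ : ∃ (b : U ⟶ G) (t : U ⟶ T), bt = lift b t :=
      ⟨bt ≫ fst _ _, bt ≫ snd _ _, by rw [← comp_lift, lift_fst_snd, Category.comp_id]⟩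
    rw [lift_whiskerLeft_assoc, lift_leftMul_act_assoc]
    simp only [comp_lift, comp_mul, lift_fst, lift_snd, lift_snd_assoc, lift_fst_assoc]
    rw [lift_leftMul_act, _root_.mul_assoc]
  · have sq1 : IsPullback (lift (fst G T * (snd G T ≫ g)) (snd G T) : G ⊗ T ⟶ G ⊗ T) (snd G T) (snd G T) (𝟙 T) :=
      IsPullback.of_horiz_isIso ⟨by simp⟩
    have := sq1.paste_horiz (isPullback_whiskerLeft (G := G) f)
    rw [Category.id_comp, ← hfac] at this
    exact this
  · apply AlgGrp.Action.hom_ext_lift₂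
    intro U a t
    simp only [comp_lift, comp_mul, lift_fst, lift_snd, lift_snd_assoc, lift_fst_assoc, lift_whiskerLeft_assoc,
      Category.assoc]
    rw [AlgGrp.Action.lift_mul_act, ← hg]
    simp only [comp_lift_assoc, comp_lift, lift_fst, lift_snd_assoc, Category.assoc]

theorem main12838 (aX : AlgGrp.Action G X) (T T' : Over S) (f : T ⟶ T') (x : T ⟶ X) (x' : T' ⟶ X) :
    (∀ h : (AlgSt.quotMap Scheme.fppfPrecoverage G aX).obj ((AlgSt.ofOverCat X).obj (Over.mk x)) ⟶ (AlgSt.quotMap Scheme.fppfPrecoverage G aX).obj ((AlgSt.ofOverCat X).obj (Over.mk x')),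
        h.base = f → ∃ g : T ⟶ G, lift g (f ≫ x') ≫ aX.act = x ∧
          h.top = lift (fst G T * (snd G T ≫ g)) (snd G T ≫ f)) ∧
    (∀ g : T ⟶ G, lift g (f ≫ x') ≫ aX.act = x →
        ∃ h : (AlgSt.quotMap Scheme.fppfPrecoverage G aX).obj ((AlgSt.ofOverCat X).obj (Over.mk x)) ⟶ (AlgSt.quotMap Scheme.fppfPrecoverage G aX).obj ((AlgSt.ofOverCat X).obj (Over.mk x')),
          h.base = f ∧ h.top = lift (fst G T * (snd G T ≫ g)) (snd G T ≫ f)) := by
  constructor
  · intro h hb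
    exact part1_12838 aX f x x' h.top (by have := h.cart.w; rw [hb] at this; exact this) h.eqv h.wφ
  · intro g hg
    obtain ⟨h1, h2, h3⟩ := part2_12838 aX f x x' g hg
    exact ⟨⟨f, lift (fst G T * (snd G T ≫ g)) (snd G T ≫ f), h1, h2, h3⟩, rfl, rfl⟩

end Groth.Agent.Helper18.QuotObjLoc
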