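import Mathlib
import Groth.Agent.Lib.Helper18.QuotOrbCl3

/-!
# Geometric points lift along surjective morphisms locally of finite type (helper18)
-/

set_option autoImplicit false
set_option linter.style.haveILetI false
set_option linter.unusedSectionVars false
universe u
open CategoryTheory CategoryTheory.Limits MonoidalCategory CartesianMonoidalCategory MonObj GrpObj
  AlgebraicGeometry

noncomputable section

namespace Groth.Agent.Helper18.QuotOrbCl

theorem exists_lift_geomPt {k : Type u} [Field k] {X Y T : Over (Spec (CommRingCat.of k))}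
    [LocallyOfFiniteType X.hom] (π : X ⟶ Y) (hs : Function.Surjective π.left.base)
    (Ω : Type u) [Field Ω] [IsAlgClosed Ω] (e : T.left ≅ Spec (CommRingCat.of Ω)) (g : T ⟶ Y) :
    ∃ f : T ⟶ X, f ≫ π = g := by
  let φ : k →+* Ω := (Spec.preimage (e.inv ≫ T.hom)).hom
  letI : Algebra k Ω := φ.toAlgebra
  have hφ : KPts.cK k Ω = e.inv ≫ T.hom := by
    change Spec.map (CommRingCat.ofHom φ) = _
    rw [CommRingCat.ofHom_hom, Spec.map_preimage]
  let eT : T ≅ KPts.objK k Ω := Over.isoMk e (by
    change e.hom ≫ KPts.cK k Ω = T.hom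
    rw [hφ, e.hom_inv_id_assoc])
  haveI : Surjective π.left := ⟨hs⟩
  obtain ⟨x', hx'⟩ := KPts.exists_kpt_lift (K := Ω) π (eT.inv ≫ g)
  exact ⟨eT.hom ≫ x', by rw [Category.assoc, hx', eT.hom_inv_id_assoc]⟩

end Groth.Agent.Helper18.QuotOrbCl
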