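import Mathlib
import Groth.Agent.Lib.Helper18.QuotOrbCl3

/-!
# Orbits in a quotient by a normal subgroup, with the hypotheses on the quotient separated (helper18)
-/

set_option autoImplicit false
set_option linter.style.haveILetI false
set_option linter.unusedSectionVars false
universe u
open CategoryTheory CategoryTheory.Limits MonoidalCategory CartesianMonoidalCategory MonObj GrpObj
  AlgebraicGeometry

noncomputable section

namespace Groth.Agent.Helper18.QuotOrbCl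

variable {S : Scheme.{u}} {H N Q X Y T : Over S} [GrpObj H] [GrpObj N] [GrpObj Q]

/-- the orbit is saturated for the quotient by `N` -/
theorem mem_range_of_fibre' (i : N ⟶ H) [IsMonHom i] (a : AlgGrp.Action H X)
    (aN : AlgGrp.Action N X) (haN : aN.act = (i ▷ X) ≫ a.act) (π : X ⟶ Y)
    (hinv : GIT.IsInvariant aN π)
    (horb : Function.Surjective (GIT.PsiY aN π hinv).base) (x : T ⟶ X)
    (z : (X ⊗ T).left) (w' : (H ⊗ T).left)
    (hz : (π ▷ T).left.base z = (π ▷ T).left.base ((GIT.psi a x).left.base w')) :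
    z ∈ Set.range (GIT.psi a x).left.base := by
  set πT := (π ▷ T).left with hπT
  set ψ := (GIT.psi a x).left with hψ
  have hπfst : πT ≫ (fst Y T).left = (fst X T).left ≫ π.left := whiskerRight_left_fst π
  have hπsnd : πT ≫ (snd Y T).left = (snd X T).left := whiskerRight_left_snd π
  have hψsnd : ψ ≫ (snd X T).left = (snd H T).left := by
    rw [hψ, ← Over.comp_left]
    unfold GIT.psi
    rw [lift_snd]
  have hwπ : πT ≫ (Y ⊗ T).hom = (X ⊗ T).hom := Over.w (π ▷ T)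
  have hwψ : ψ ≫ (X ⊗ T).hom = (H ⊗ T).hom := Over.w (GIT.psi a x)
  -- first fibre product
  obtain ⟨r₁, hr₁a, hr₁b⟩ := Scheme.Pullback.exists_preimage_pullback (f := πT) (g := ψ ≫ πT) z w'
    (by rw [Scheme.Hom.comp_apply]; exact hz)
  let u₁ := pullback.fst πT (ψ ≫ πT)
  let v₁ := pullback.snd πT (ψ ≫ πT)
  have hc₁ : u₁ ≫ πT = v₁ ≫ ψ ≫ πT := pullback.condition
  let ξ := u₁ ≫ (fst X T).left
  let ξ' := v₁ ≫ ψ ≫ (fst X T).left
  have hξ : ξ ≫ π.left = ξ' ≫ π.left := by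
    simp only [ξ, ξ', Category.assoc]
    rw [← hπfst, ← Category.assoc u₁, hc₁]
    simp only [Category.assoc]
  let c : pullback πT (ψ ≫ πT) ⟶ pullback π.left π.left := pullback.lift ξ ξ' hξ
  obtain ⟨ν₀', hν₀'⟩ := horb (c.base r₁)
  obtain ⟨r₂, hr₂a, -⟩ := Scheme.Pullback.exists_preimage_pullback (f := c)
    (g := GIT.PsiY aN π hinv) r₁ ν₀' hν₀'.symm
  let ρ := pullback.fst c (GIT.PsiY aN π hinv)
  let ν₀ := pullback.snd c (GIT.PsiY aN π hinv)
  have hc₂ : ρ ≫ c = ν₀ ≫ GIT.PsiY aN π hinv := pullback.condition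
  have hc₂a : ρ ≫ ξ = ν₀ ≫ aN.act.left := by
    have := congrArg (· ≫ pullback.fst π.left π.left) hc₂
    simpa only [Category.assoc, c, GIT.PsiY, pullback.lift_fst] using this
  have hc₂b : ρ ≫ ξ' = ν₀ ≫ (snd N X).left := by
    have := congrArg (· ≫ pullback.snd π.left π.left) hc₂
    simpa only [Category.assoc, c, GIT.PsiY, pullback.lift_snd] using this
  -- the test object
  let R : Over S := Over.mk (ρ ≫ u₁ ≫ (X ⊗ T).hom)
  let zR : R ⟶ X ⊗ T := Over.homMk (ρ ≫ u₁) (Category.assoc _ _ _)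
  have hHT : v₁ ≫ (H ⊗ T).hom = u₁ ≫ (X ⊗ T).hom := by
    rw [← hwπ, ← Category.assoc u₁, hc₁, ← hwψ, ← hwπ]
    simp only [Category.assoc]
  let wR : R ⟶ H ⊗ T := Over.homMk (ρ ≫ v₁) (by
    change (ρ ≫ v₁) ≫ (H ⊗ T).hom = ρ ≫ u₁ ≫ (X ⊗ T).hom
    rw [Category.assoc, hHT])
  have hNX : ν₀ ≫ (N ⊗ X).hom = ρ ≫ u₁ ≫ (X ⊗ T).hom := by
    rw [← Over.w (snd N X), ← Category.assoc, ← hc₂b, ← hHT, ← hwψ, ← Over.w (fst X T)]
    simp only [ξ', Category.assoc]
  let νR : R ⟶ N ⊗ X := Over.homMk ν₀ hNX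
  have f1 : νR ≫ aN.act = zR ≫ fst X T := by
    apply Over.OverMorphism.ext
    simp only [Over.comp_left, νR, zR, Over.homMk_left, Category.assoc]
    exact hc₂a.symm
  have f2 : νR ≫ snd N X = wR ≫ GIT.psi a x ≫ fst X T := by
    apply Over.OverMorphism.ext
    simp only [Over.comp_left, νR, wR, Over.homMk_left, Category.assoc]
    exact hc₂b.symm
  have f3 : zR ≫ snd X T = wR ≫ snd H T := by
    apply Over.OverMorphism.ext
    simp only [Over.comp_left, zR, wR, Over.homMk_left, Category.assoc]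
    rw [← hψsnd, ← hπsnd, ← Category.assoc u₁, hc₁]
    simp only [Category.assoc]
  have key := pts_key i a aN haN x zR wR νR f1 f2 f3
  refine ⟨(lift ((νR ≫ fst N X ≫ i) * (wR ≫ fst H T)) (wR ≫ snd H T)).left.base r₂, ?_⟩
  rw [hψ, ← Scheme.Hom.comp_apply, ← Over.comp_left, ← key]
  change u₁.base (ρ.base r₂) = z
  rw [hr₂a, hr₁a]

theorem range_psi_eq' (i : N ⟶ H) [IsMonHom i] (a : AlgGrp.Action H X)
    (aN : AlgGrp.Action N X) (haN : aN.act = (i ▷ X) ≫ a.act) (π : X ⟶ Y)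
    (hinv : GIT.IsInvariant aN π)
    (horb : Function.Surjective (GIT.PsiY aN π hinv).base) (q : H ⟶ Q) [Surjective q.left] (aQ : AlgGrp.Action Q Y)
    (hequiv : (q ⊗ₘ π) ≫ aQ.act = a.act ≫ π) (x : T ⟶ X) :
    Set.range (GIT.psi a x).left.base =
      (π ▷ T).left.base ⁻¹' Set.range (GIT.psi aQ (x ≫ π)).left.base := by
  have he : (GIT.psi a x).left ≫ (π ▷ T).left = (q ▷ T).left ≫ (GIT.psi aQ (x ≫ π)).left := by
    rw [← Over.comp_left, ← Over.comp_left, psi_equiv q a π aQ hequiv x]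
  ext z
  constructor
  · rintro ⟨w, rfl⟩
    refine ⟨(q ▷ T).left.base w, ?_⟩
    rw [← Scheme.Hom.comp_apply, ← he, Scheme.Hom.comp_apply]
  · rintro ⟨w, hw⟩
    haveI := surjective_whiskerRight (T := T) q
    obtain ⟨w', rfl⟩ := (q ▷ T).left.surjective w
    apply mem_range_of_fibre' i a aN haN π hinv horb x z w'
    rw [← hw, ← Scheme.Hom.comp_apply, ← he, Scheme.Hom.comp_apply]

theorem isClosed_range_psi_iff' (i : N ⟶ H) [IsMonHom i] (a : AlgGrp.Action H X)
    (aN : AlgGrp.Action N X) (haN : aN.act = (i ▷ X) ≫ a.act) (π : X ⟶ Y)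
    (hinv : GIT.IsInvariant aN π)
    (horb : Function.Surjective (GIT.PsiY aN π hinv).base) (q : H ⟶ Q) [Surjective q.left] (aQ : AlgGrp.Action Q Y)
    (hequiv : (q ⊗ₘ π) ≫ aQ.act = a.act ≫ π) (hsubm : GIT.IsUnivSubmersive π.left) (x : T ⟶ X) :
    IsClosed (Set.range (GIT.psi a x).left.base) ↔
      IsClosed (Set.range (GIT.psi aQ (x ≫ π)).left.base) := by
  rw [range_psi_eq' i a aN haN π hinv horb q aQ hequiv x]
  have hq : Topology.IsQuotientMap (π ▷ T).left.base :=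
    hsubm _ _ _ (isPullback_whiskerRight_left (T := T) π)
  exact hq.isClosed_preimage

end Groth.Agent.Helper18.QuotOrbCl
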