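import Groth.Agent.Lib.Helper18.QuotCart

set_option autoImplicit false
set_option linter.unusedSimpArgs false
set_option linter.unusedSectionVars false
set_option backward.isDefEq.respectTransparency false
set_option backward.isDefEq.respectTransparency.types false
universe u
open CategoryTheory CategoryTheory.Limits MonoidalCategory CartesianMonoidalCategory MonObj GrpObj AlgebraicGeometry
open AlgSt FibCat Opposite

/-! The fibre product `(Sch/U) ×_{[X/G]} X` is the torsor. -/

namespace Groth.Agent.Helper18.QuotRep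

open Groth.Agent.Helper18.QuotObjLoc Groth.Agent.Helper18.QuotCoarse Groth.Agent.Helper18.QuotGen
  Groth.Agent.Helper18.QuotCart

variable {S : Scheme.{u}} {G : Over S} [GrpObj G] {X : Over S}
variable (K : Precoverage Scheme.{u}) [K.HasIsos] (aX : AlgGrp.Action G X)
variable {U : Over S} (y : overCat U ⥤ᵇ QuotSt K G aX)

/-- The base of `y v` is the source of `v`. -/
theorem hB (v : Over U) : (y.obj v).base = v.left := y.w_obj v

theorem map_base {v v' : Over U} (g : v ⟶ v') :
    (y.map g).base = eqToHom (hB K aX y v) ≫ g.left ≫ eqToHom (hB K aX y v').symm := by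
  have : (QuotSt K G aX).p.IsHomLift ((overCat U).p.map g) (y.map g) :=
    BasedFunctor.preserves_isHomLift y ((overCat U).p.map g) g
  exact IsHomLift.fac' (QuotSt K G aX).p ((overCat U).p.map g) (y.map g)

/-- The object over `U` itself. -/
noncomputable abbrev A₀ : QuotObj K G aX := y.obj (Over.mk (𝟙 U))

theorem hA₀ : (A₀ K aX y).base = U := hB K aX y (Over.mk (𝟙 U))

/-- The torsor as a scheme over `U`. -/
noncomputable abbrev pi' : (A₀ K aX y).P ⟶ U := (A₀ K aX y).π ≫ eqToHom (hA₀ K aX y)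

/-- The canonical morphism `y v ⟶ A₀`. -/
noncomputable abbrev mm (v : Over U) : y.obj v ⟶ A₀ K aX y :=
  y.map (Over.homMk v.hom : v ⟶ Over.mk (𝟙 U))

theorem mm_base (v : Over U) :
    (mm K aX y v).base = eqToHom (hB K aX y v) ≫ v.hom ≫ eqToHom (hA₀ K aX y).symm := by
  rw [map_base]
  rfl

theorem map_mm {v v' : Over U} (g : v ⟶ v') : y.map g ≫ mm K aX y v' = mm K aX y v := by
  rw [← y.map_comp]
  congr 1
  apply Over.OverMorphism.ext
  change g.left ≫ v'.hom = v.hom
  exact Over.w g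

/-- The object of `Over U` attached to a point of the torsor. -/
noncomputable abbrev vs {T : Over S} (s : T ⟶ (A₀ K aX y).P) : Over U := Over.mk (s ≫ pi' K aX y)

/-- The point of `X` attached to a point of the torsor. -/
noncomputable abbrev as {T : Over S} (s : T ⟶ (A₀ K aX y).P) : (ofSch X).obj := ⟨T, ⟨s ≫ (A₀ K aX y).φ⟩⟩

theorem exists_j {T : Over S} (s : T ⟶ (A₀ K aX y).P) :
    ∃ k : (QK K aX).obj (as K aX y s) ⟶ y.obj (vs K aX y s),
      k.base = eqToHom (hB K aX y (vs K aX y s)).symm ∧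
        k ≫ mm K aX y (vs K aX y s) = homOfSection K aX (A₀ K aX y) s := by
  apply exists_lift
  rw [mm_base]
  change _ = s ≫ (A₀ K aX y).π
  simp

/-- The comparison morphism. -/
noncomputable def jj {T : Over S} (s : T ⟶ (A₀ K aX y).P) :
    (QK K aX).obj (as K aX y s) ⟶ y.obj (vs K aX y s) := (exists_j K aX y s).choose

theorem jj_base {T : Over S} (s : T ⟶ (A₀ K aX y).P) :
    (jj K aX y s).base = eqToHom (hB K aX y (vs K aX y s)).symm := (exists_j K aX y s).choose_spec.1

theorem jj_mm {T : Over S} (s : T ⟶ (A₀ K aX y).P) :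
    jj K aX y s ≫ mm K aX y (vs K aX y s) = homOfSection K aX (A₀ K aX y) s :=
  (exists_j K aX y s).choose_spec.2

instance {T : Over S} (s : T ⟶ (A₀ K aX y).P) : IsIso (jj K aX y s) := by
  haveI : IsIso (jj K aX y s).base := by rw [jj_base]; infer_instance
  exact isIso_of_isIso_base _


theorem homOfSection_nat {T T' : Over S} (r : T' ⟶ T) (s : T ⟶ (A₀ K aX y).P) (s' : T' ⟶ (A₀ K aX y).P)
    (hr : r ≫ s = s') (ψ : as K aX y s' ⟶ as K aX y s) (hψ : ψ.hom = r) :
    (QK K aX).map ψ ≫ homOfSection K aX (A₀ K aX y) s = homOfSection K aX (A₀ K aX y) s' := by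
  subst hr
  apply QuotObj.hom_ext
  · change ψ.hom ≫ s ≫ (A₀ K aX y).π = (r ≫ s) ≫ (A₀ K aX y).π
    rw [hψ, Category.assoc]
  · change (G ◁ ψ.hom) ≫ (G ◁ s) ≫ (A₀ K aX y).act.act = (G ◁ (r ≫ s)) ≫ (A₀ K aX y).act.act
    rw [hψ, MonoidalCategory.whiskerLeft_comp, Category.assoc]

/-- Naturality of the comparison morphism. -/
theorem jj_nat {T T' : Over S} (r : T' ⟶ T) (s : T ⟶ (A₀ K aX y).P) (s' : T' ⟶ (A₀ K aX y).P)
    (hr : r ≫ s = s') (α : vs K aX y s' ⟶ vs K aX y s) (hα : α.left = r)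
    (ψ : as K aX y s' ⟶ as K aX y s) (hψ : ψ.hom = r) :
    jj K aX y s' ≫ y.map α = (QK K aX).map ψ ≫ jj K aX y s := by
  apply lift_unique (mm K aX y (vs K aX y s))
  · rw [QuotObj.comp_base, QuotObj.comp_base, jj_base, jj_base, map_base, hα]
    change _ = ψ.hom ≫ _
    rw [hψ]
    simp
  · rw [Category.assoc, map_mm, jj_mm, Category.assoc, jj_mm, homOfSection_nat K aX y r s s' hr ψ hψ]

theorem comp_inv_eq_inv_comp {C : Type*} [Category C] {A B A' B' : C} {f : A ⟶ B} {g : A' ⟶ B'} [IsIso f] [IsIso g]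
    {a : A ⟶ A'} {b : B ⟶ B'} (h : f ≫ b = a ≫ g) : b ≫ inv g = inv f ≫ a := by
  rw [IsIso.eq_inv_comp, ← Category.assoc, h, Category.assoc, IsIso.hom_inv_id, Category.comp_id]

/-- The comparison functor `ofSch P ⟶ (Sch/U) ×_{[X/G]} X`. -/
noncomputable def EE : ofSch (A₀ K aX y).P ⥤ᵇ fp y (QK K aX) where
  toFunctor :=
    { obj := fun a =>
        ⟨{ fst := vs K aX y a.sec.down
           snd := as K aX y a.sec.down
           iso := (asIso (jj K aX y a.sec.down)).symm },
          by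
            change (QuotSt K G aX).p.IsHomLift (𝟙 a.base) (inv (jj K aX y a.sec.down))
            apply IsHomLift.of_fac _ _ _ (hB K aX y (vs K aX y a.sec.down)) rfl
            have h1 : (inv (jj K aX y a.sec.down) ≫ jj K aX y a.sec.down).base = 𝟙 _ := by
              rw [IsIso.inv_hom_id]; rfl
            rw [QuotObj.comp_base, jj_base] at h1
            have h2 : (QuotSt K G aX).p.map (inv (jj K aX y a.sec.down)) =
                (inv (jj K aX y a.sec.down)).base := rfl
            rw [h2]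
            have h3 : (inv (jj K aX y a.sec.down)).base =
                eqToHom (hB K aX y (vs K aX y a.sec.down)) := by
              have := congrArg (fun k => k ≫ eqToHom (hB K aX y (vs K aX y a.sec.down))) h1
              simpa using this
            rw [h3]
            simp⟩
      map := fun {a' a} r =>
        ObjectProperty.homMk
          { fst := Over.homMk r.hom (by
              have hr : r.hom ≫ a.sec.down = a'.sec.down := congrArg ULift.down r.map_sec
              change r.hom ≫ a.sec.down ≫ pi' K aX y = a'.sec.down ≫ pi' K aX y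
              rw [← Category.assoc, hr])
            snd := ⟨r.hom, by
              have hr : r.hom ≫ a.sec.down = a'.sec.down := congrArg ULift.down r.map_sec
              apply congrArg ULift.up
              change r.hom ≫ a.sec.down ≫ (A₀ K aX y).φ = a'.sec.down ≫ (A₀ K aX y).φ
              rw [← Category.assoc, hr]⟩
            w := by
              have hr : r.hom ≫ a.sec.down = a'.sec.down := congrArg ULift.down r.map_sec
              change y.map _ ≫ inv (jj K aX y a.sec.down) = inv (jj K aX y a'.sec.down) ≫ (QK K aX).map _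
              exact comp_inv_eq_inv_comp (jj_nat K aX y r.hom a.sec.down a'.sec.down hr _ rfl _ rfl) }
      map_id := fun a => by
        apply ObjectProperty.hom_ext; apply CategoricalPullback.hom_ext
        · apply Over.OverMorphism.ext; rfl
        · exact Stk.EltObj.hom_ext rfl
      map_comp := fun r r' => by
        apply ObjectProperty.hom_ext; apply CategoricalPullback.hom_ext
        · apply Over.OverMorphism.ext; rfl
        · exact Stk.EltObj.hom_ext rfl }
  w := rfl


theorem EE_obj_iso_hom (a : (ofSch (A₀ K aX y).P).obj) :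
    ((EE K aX y).obj a).obj.iso.hom = inv (jj K aX y a.sec.down) := rfl

instance : (EE K aX y).toFunctor.Faithful where
  map_injective {a' a} r r' h := by
    have h1 : ((EE K aX y).map r).hom.snd = ((EE K aX y).map r').hom.snd := by rw [h]
    have h2 : (((EE K aX y).map r).hom.snd).hom = (((EE K aX y).map r').hom.snd).hom := by rw [h1]
    exact Stk.EltObj.hom_ext h2

/-- The unit section of the trivial torsor. -/
noncomputable abbrev u₀ (T : Over S) : T ⟶ G ⊗ T := lift (1 : T ⟶ G) (𝟙 T)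

theorem full_aux {T T' : Over S} (s : T ⟶ (A₀ K aX y).P) (s' : T' ⟶ (A₀ K aX y).P)
    (α : vs K aX y s' ⟶ vs K aX y s) (ψ : as K aX y s' ⟶ as K aX y s)
    (hw : y.map α ≫ inv (jj K aX y s) = inv (jj K aX y s') ≫ (QK K aX).map ψ) :
    α.left = ψ.hom ∧ ψ.hom ≫ s = s' := by
  have h1 : jj K aX y s' ≫ y.map α = (QK K aX).map ψ ≫ jj K aX y s := by
    have := congrArg (fun k => jj K aX y s' ≫ k ≫ jj K aX y s) hw
    simpa using this
  constructor
  · have hb := congrArg QuotObj.Hom.base h1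
    rw [QuotObj.comp_base, QuotObj.comp_base, jj_base, jj_base, map_base] at hb
    have hb' : eqToHom (hB K aX y (vs K aX y s')).symm ≫ eqToHom (hB K aX y (vs K aX y s')) ≫ α.left ≫
        eqToHom (hB K aX y (vs K aX y s)).symm = ψ.hom ≫ eqToHom (hB K aX y (vs K aX y s)).symm := hb
    have := congrArg (fun k => k ≫ eqToHom (hB K aX y (vs K aX y s))) hb'
    simpa using this
  · have h2 : homOfSection K aX (A₀ K aX y) s' = (QK K aX).map ψ ≫ homOfSection K aX (A₀ K aX y) s := by
      rw [← jj_mm K aX y s', ← map_mm K aX y α, ← Category.assoc, h1, Category.assoc, jj_mm]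
    have h3 := congrArg QuotObj.Hom.top h2
    have h4 : (G ◁ s') ≫ (A₀ K aX y).act.act = (G ◁ ψ.hom) ≫ (G ◁ s) ≫ (A₀ K aX y).act.act := h3
    have h5 := congrArg (fun k => u₀ T' ≫ k) h4
    simp only [lift_whiskerLeft_assoc, Category.id_comp, AlgGrp.Action.lift_one_act] at h5
    exact h5.symm

instance : (EE K aX y).toFunctor.Full where
  map_surjective {a' a} M := by
    obtain ⟨h1, h2⟩ := full_aux K aX y a.sec.down a'.sec.down M.hom.fst M.hom.snd M.hom.w
    refine ⟨⟨M.hom.snd.hom, congrArg ULift.up h2⟩, ?_⟩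
    apply ObjectProperty.hom_ext
    apply CategoricalPullback.hom_ext
    · apply Over.OverMorphism.ext
      exact h1.symm
    · exact Stk.EltObj.hom_ext rfl


omit y in
/-- A morphism out of a trivial object is determined by its value on the unit section. -/
theorem top_eq_of_trivial (a : (ofSch X).obj) {A : QuotObj K G aX} (h : (QK K aX).obj a ⟶ A) :
    h.top = (G ◁ (u₀ a.base ≫ h.top)) ≫ A.act.act := by
  have heqv : (leftMul G a.base).act ≫ h.top = (G ◁ h.top) ≫ A.act.act := h.eqv
  have h1 : (G ◁ u₀ a.base) ≫ (leftMul G a.base).act = 𝟙 (G ⊗ a.base) := by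
    apply AlgGrp.Action.hom_ext_lift₂
    intro T g t
    rw [lift_whiskerLeft_assoc, Category.comp_id, comp_lift, lift_leftMul_act, comp_one, _root_.mul_one,
      Category.comp_id]
  calc h.top = ((G ◁ u₀ a.base) ≫ (leftMul G a.base).act) ≫ h.top := by rw [h1, Category.id_comp]
    _ = _ := by rw [Category.assoc, heqv, ← MonoidalCategory.whiskerLeft_comp_assoc]

theorem essSurj_aux (v : Over U) (x : v.left ⟶ X)
    (i : y.obj v ≅ (QK K aX).obj (⟨v.left, ⟨x⟩⟩ : (ofSch X).obj))
    (hi : i.inv.base = eqToHom (hB K aX y v).symm) :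
    ∃ (s : v.left ⟶ (A₀ K aX y).P) (hs1 : s ≫ pi' K aX y = v.hom) (hs2 : s ≫ (A₀ K aX y).φ = x)
      (ψ : as K aX y s ⟶ (⟨v.left, ⟨x⟩⟩ : (ofSch X).obj)) (α : vs K aX y s ⟶ v),
      ψ.hom = 𝟙 _ ∧ α.left = 𝟙 _ ∧ jj K aX y s ≫ y.map α = (QK K aX).map ψ ≫ i.inv := by
  let a : (ofSch X).obj := ⟨v.left, ⟨x⟩⟩
  let h : (QK K aX).obj a ⟶ A₀ K aX y := i.inv ≫ mm K aX y v
  have hbase : h.base = v.hom ≫ eqToHom (hA₀ K aX y).symm := by
    change i.inv.base ≫ (mm K aX y v).base = _
    rw [hi, mm_base]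
    simp
  have hw : h.top ≫ (A₀ K aX y).π = snd G v.left ≫ h.base := h.cart.w
  have hφ : h.top ≫ (A₀ K aX y).φ = (G ◁ x) ≫ aX.act := h.wφ
  let s : v.left ⟶ (A₀ K aX y).P := u₀ v.left ≫ h.top
  have hs1 : s ≫ pi' K aX y = v.hom := by
    change (u₀ v.left ≫ h.top) ≫ (A₀ K aX y).π ≫ eqToHom (hA₀ K aX y) = v.hom
    rw [Category.assoc, ← Category.assoc h.top, hw, hbase]
    simp
  have hs2 : s ≫ (A₀ K aX y).φ = x := by
    change (u₀ v.left ≫ h.top) ≫ (A₀ K aX y).φ = x
    rw [Category.assoc, hφ, lift_whiskerLeft_assoc, Category.id_comp, AlgGrp.Action.lift_one_act]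
  let ψ : as K aX y s ⟶ a := ⟨𝟙 _, congrArg ULift.up (by
    change 𝟙 _ ≫ x = s ≫ (A₀ K aX y).φ
    rw [Category.id_comp, hs2])⟩
  let α : vs K aX y s ⟶ v := Over.homMk (𝟙 _) (by
    change 𝟙 _ ≫ v.hom = s ≫ pi' K aX y
    rw [Category.id_comp, hs1])
  refine ⟨s, hs1, hs2, ψ, α, rfl, rfl, ?_⟩
  apply lift_unique (mm K aX y v)
  · rw [QuotObj.comp_base, QuotObj.comp_base, jj_base, map_base, hi]
    change _ = 𝟙 _ ≫ _
    simp
    rfl
  · rw [Category.assoc, map_mm, jj_mm, Category.assoc]
    change _ = (QK K aX).map ψ ≫ h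
    apply QuotObj.hom_ext
    · change s ≫ (A₀ K aX y).π = 𝟙 _ ≫ h.base
      rw [Category.id_comp, hbase, ← hs1]
      simp
    · change (G ◁ s) ≫ (A₀ K aX y).act.act = (G ◁ 𝟙 _) ≫ h.top
      rw [MonoidalCategory.whiskerLeft_id, Category.id_comp]
      exact (top_eq_of_trivial K aX a h).symm


theorem isEquivOver_EE : IsEquivOver (EE K aX y) := by
  apply Groth.Agent.Helper19.FibLib.isEquivOver_of_fullyFaithful
  intro z
  obtain ⟨⟨v, ⟨T₂, ⟨x⟩⟩, i⟩, hz⟩ := z
  have hz' : (QuotSt K G aX).p.IsHomLift (𝟙 v.left) i.hom := hz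
  obtain rfl : T₂ = v.left := IsHomLift.codomain_eq (QuotSt K G aX).p (𝟙 v.left) i.hom
  have hib : i.hom.base = eqToHom (hB K aX y v) := by
    have := IsHomLift.fac' (QuotSt K G aX).p (𝟙 v.left) i.hom
    simp only [eqToHom_refl, Category.id_comp, Category.comp_id] at this
    exact this
  have hi : i.inv.base = eqToHom (hB K aX y v).symm := by
    have h1 : (i.inv ≫ i.hom).base = 𝟙 _ := by rw [Iso.inv_hom_id]; rfl
    rw [QuotObj.comp_base, hib] at h1
    have := congrArg (fun k => k ≫ eqToHom (hB K aX y v).symm) h1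
    simpa using this
  obtain ⟨s, hs1, hs2, ψ, α, hψ, hα, hcomp⟩ := essSurj_aux K aX y v x i hi
  let w : (ofSch (A₀ K aX y).P).obj := ⟨v.left, ⟨s⟩⟩
  let e1 : vs K aX y s ≅ v := Over.isoMk (Iso.refl _) (by
    change 𝟙 _ ≫ v.hom = s ≫ pi' K aX y
    rw [Category.id_comp, hs1])
  have he1 : e1.hom = α := by
    apply Over.OverMorphism.ext
    exact hα.symm
  let e2 : as K aX y s ≅ (⟨v.left, ⟨x⟩⟩ : (ofSch X).obj) :=
    { hom := ψ
      inv := ⟨𝟙 _, congrArg ULift.up (by
        change 𝟙 _ ≫ s ≫ (A₀ K aX y).φ = x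
        rw [Category.id_comp, hs2])⟩
      hom_inv_id := Stk.EltObj.hom_ext (by
        change ψ.hom ≫ 𝟙 _ = 𝟙 _
        rw [hψ, Category.id_comp])
      inv_hom_id := Stk.EltObj.hom_ext (by
        change 𝟙 _ ≫ ψ.hom = 𝟙 _
        rw [hψ, Category.id_comp]) }
  have hc : y.map e1.hom ≫ i.hom = ((EE K aX y).obj w).obj.iso.hom ≫ (QK K aX).map e2.hom := by
    rw [EE_obj_iso_hom, he1]
    change y.map α ≫ i.hom = inv (jj K aX y s) ≫ (QK K aX).map ψ
    rw [IsIso.eq_inv_comp, ← Category.assoc, hcomp, Category.assoc, Iso.inv_hom_id, Category.comp_id]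
  let E : (EE K aX y).obj w ≅ ⟨_, hz⟩ := ObjectProperty.isoMk _ (CategoricalPullback.mkIso e1 e2 hc)
  refine ⟨w, E, ?_⟩
  show (fp y (QK K aX)).p.IsHomLift ((fp y (QK K aX)).p.map E.hom) E.hom
  exact IsHomLift.map _ _

end Groth.Agent.Helper18.QuotRep
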