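import Groth.Agent.Lib.Helper18.QuotObjLoc
import Groth.Agent.Lib.Helper19.FibLib

set_option autoImplicit false
set_option linter.unusedSimpArgs false
set_option backward.isDefEq.respectTransparency false
set_option backward.isDefEq.respectTransparency.types false
universe u
open CategoryTheory CategoryTheory.Limits MonoidalCategory CartesianMonoidalCategory MonObj GrpObj AlgebraicGeometry
open AlgSt FibCat

namespace Groth.Agent.Helper18.QuotTwoCart

open Groth.Agent.Helper18.QuotObjLoc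

variable {S : Scheme.{u}} {G : Over S} [GrpObj G] {X : Over S} (aX : AlgGrp.Action G X)

/-- The quotient map. -/
noncomputable abbrev Q : ofSch X ⥤ᵇ QuotSt Scheme.fppfPrecoverage G aX := quotMap Scheme.fppfPrecoverage G aX

/-- The morphism `(h, t) ↦ (h g(t), f t)` between trivial objects. -/
noncomputable def trivHom (a a' : (ofSch X).obj) (f : a.base ⟶ a'.base) (g : a.base ⟶ G)
    (hg : lift g (f ≫ a'.sec.down) ≫ aX.act = a.sec.down) : (Q aX).obj a ⟶ (Q aX).obj a' :=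
  ⟨f, lift (fst G a.base * (snd G a.base ≫ g)) (snd G a.base ≫ f),
    (part2_12838 aX f a.sec.down a'.sec.down g hg).1,
    (part2_12838 aX f a.sec.down a'.sec.down g hg).2.1,
    (part2_12838 aX f a.sec.down a'.sec.down g hg).2.2⟩

@[simp] theorem trivHom_base (a a' : (ofSch X).obj) (f : a.base ⟶ a'.base) (g : a.base ⟶ G) (hg) :
    (trivHom aX a a' f g hg).base = f := rfl

theorem trivHom_top (a a' : (ofSch X).obj) (f : a.base ⟶ a'.base) (g : a.base ⟶ G) (hg) :
    (trivHom aX a a' f g hg).top = lift (fst G a.base * (snd G a.base ≫ g)) (snd G a.base ≫ f) := rfl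

theorem trivHom_comp (a a' a'' : (ofSch X).obj) (f : a.base ⟶ a'.base) (g : a.base ⟶ G) (hg)
    (f' : a'.base ⟶ a''.base) (g' : a'.base ⟶ G) (hg') (hgg) :
    trivHom aX a a' f g hg ≫ trivHom aX a' a'' f' g' hg' = trivHom aX a a'' (f ≫ f') (g * (f ≫ g')) hgg := by
  apply QuotObj.hom_ext
  · rfl
  · change lift (fst G a.base * (snd G a.base ≫ g)) (snd G a.base ≫ f) ≫
      lift (fst G a'.base * (snd G a'.base ≫ g')) (snd G a'.base ≫ f') =
      lift (fst G a.base * (snd G a.base ≫ (g * (f ≫ g')))) (snd G a.base ≫ f ≫ f')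
    simp only [comp_lift, comp_mul, lift_fst, lift_snd, lift_snd_assoc, Category.assoc, _root_.mul_assoc]

theorem trivHom_one (a : (ofSch X).obj) (hg) :
    trivHom aX a a (𝟙 _) 1 hg = 𝟙 _ := by
  apply QuotObj.hom_ext
  · rfl
  · change lift (fst G a.base * (snd G a.base ≫ 1)) (snd G a.base ≫ 𝟙 _) = 𝟙 (G ⊗ a.base)
    rw [comp_one, _root_.mul_one, Category.comp_id, lift_fst_snd]

theorem trivHom_map {a a' : (ofSch X).obj} (ψ : a ⟶ a') (hg) :
    trivHom aX a a' ψ.hom 1 hg = (Q aX).map ψ := by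
  apply QuotObj.hom_ext
  · rfl
  · change lift (fst G a.base * (snd G a.base ≫ 1)) (snd G a.base ≫ ψ.hom) = G ◁ ψ.hom
    rw [comp_one, _root_.mul_one]
    apply CartesianMonoidalCategory.hom_ext <;> simp

/-- The iso between trivial objects over the identity given by `g`. -/
noncomputable def trivIso (a a' : (ofSch X).obj) (hb : a.base = a'.base) (g : a.base ⟶ G)
    (hg : lift g (eqToHom hb ≫ a'.sec.down) ≫ aX.act = a.sec.down) : (Q aX).obj a ≅ (Q aX).obj a' where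
  hom := trivHom aX a a' (eqToHom hb) g hg
  inv := trivHom aX a' a (eqToHom hb.symm) (eqToHom hb.symm ≫ g⁻¹) (by
    obtain ⟨T, ⟨x⟩⟩ := a
    obtain ⟨T', ⟨x'⟩⟩ := a'
    obtain rfl : T = T' := hb
    simp only [eqToHom_refl, Category.id_comp] at hg ⊢
    change lift g x' ≫ aX.act = x at hg
    change lift g⁻¹ x ≫ aX.act = x'
    rw [← hg, ← AlgGrp.Action.lift_mul_act, inv_mul_cancel, AlgGrp.Action.lift_one_act])
  hom_inv_id := by
    rw [trivHom_comp aX _ _ _ _ _ _ _ _ _ (by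
      obtain ⟨T, ⟨x⟩⟩ := a
      obtain ⟨T', ⟨x'⟩⟩ := a'
      obtain rfl : T = T' := hb
      simp only [eqToHom_refl, Category.id_comp, mul_inv_cancel]
      exact AlgGrp.Action.lift_one_act _ _)]
    obtain ⟨T, ⟨x⟩⟩ := a
    obtain ⟨T', ⟨x'⟩⟩ := a'
    obtain rfl : T = T' := hb
    simp only [eqToHom_refl, Category.id_comp, mul_inv_cancel]
    exact trivHom_one aX _ _
  inv_hom_id := by
    rw [trivHom_comp aX _ _ _ _ _ _ _ _ _ (by
      obtain ⟨T, ⟨x⟩⟩ := a
      obtain ⟨T', ⟨x'⟩⟩ := a'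
      obtain rfl : T = T' := hb
      simp only [eqToHom_refl, Category.id_comp, inv_mul_cancel]
      exact AlgGrp.Action.lift_one_act _ _)]
    obtain ⟨T, ⟨x⟩⟩ := a
    obtain ⟨T', ⟨x'⟩⟩ := a'
    obtain rfl : T = T' := hb
    simp only [eqToHom_refl, Category.id_comp, inv_mul_cancel]
    exact trivHom_one aX _ _


theorem trivIso_hom_base (a a' : (ofSch X).obj) (hb : a.base = a'.base) (g : a.base ⟶ G) (hg) :
    (trivIso aX a a' hb g hg).hom.base = eqToHom hb := rfl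

theorem trivIso_inv_base (a a' : (ofSch X).obj) (hb : a.base = a'.base) (g : a.base ⟶ G) (hg) :
    (trivIso aX a a' hb g hg).inv.base = eqToHom hb.symm := rfl

/-- `ofSch (G ⊗ X) ⟶ ofSch X` by the action. -/
noncomputable abbrev Fa : ofSch (G ⊗ X) ⥤ᵇ ofSch X := AlgSt.ofSpMap ((AlgSp.yon S).map aX.act)

variable (G X) in
/-- `ofSch (G ⊗ X) ⟶ ofSch X` by the projection. -/
noncomputable abbrev Fb : ofSch (G ⊗ X) ⥤ᵇ ofSch X :=
  AlgSt.ofSpMap ((AlgSp.yon S).map (CartesianMonoidalCategory.snd G X))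

theorem Fa_sec (w : (ofSch (G ⊗ X)).obj) : ((Fa aX).obj w).sec.down = w.sec.down ≫ aX.act := rfl
theorem Fb_sec (w : (ofSch (G ⊗ X)).obj) : ((Fb G X).obj w).sec.down = w.sec.down ≫ snd G X := rfl

/-- Component of the 2-isomorphism. -/
noncomputable def eApp (w : (ofSch (G ⊗ X)).obj) :
    (Q aX).obj ((Fa aX).obj w) ≅ (Q aX).obj ((Fb G X).obj w) :=
  trivIso aX ((Fa aX).obj w) ((Fb G X).obj w) rfl (w.sec.down ≫ fst G X) (by
    rw [eqToHom_refl, Category.id_comp, Fa_sec, Fb_sec, ← comp_lift, lift_fst_snd, Category.comp_id])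

theorem eApp_hom_top (w : (ofSch (G ⊗ X)).obj) :
    (eApp aX w).hom.top = lift (fst G w.base * (snd G w.base ≫ w.sec.down ≫ fst G X)) (snd G w.base ≫ 𝟙 _) := rfl

theorem eApp_hom_base (w : (ofSch (G ⊗ X)).obj) : (eApp aX w).hom.base = 𝟙 w.base := rfl

/-- The 2-isomorphism. -/
noncomputable def eIso : BasedFunctor.comp (Fa aX) (Q aX) ≅ BasedFunctor.comp (Fb G X) (Q aX) :=
  BasedNatIso.mkNatIso
    (NatIso.ofComponents (fun w => eApp aX w) (by
      intro w w' ψ
      apply QuotObj.hom_ext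
      · change ψ.hom ≫ 𝟙 _ = 𝟙 _ ≫ ψ.hom
        rw [Category.comp_id, Category.id_comp]
      · have hψ : ψ.hom ≫ w'.sec.down = w.sec.down := congrArg ULift.down ψ.map_sec
        change (G ◁ ψ.hom) ≫ lift (fst G w'.base * (snd G w'.base ≫ w'.sec.down ≫ fst G X)) (snd G w'.base ≫ 𝟙 _) =
          lift (fst G w.base * (snd G w.base ≫ w.sec.down ≫ fst G X)) (snd G w.base ≫ 𝟙 _) ≫ (G ◁ ψ.hom)
        rw [← hψ]
        apply CartesianMonoidalCategory.hom_ext <;>
          simp only [comp_lift, comp_mul, lift_fst, lift_snd, lift_snd_assoc, Category.assoc, whiskerLeft_fst,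
            whiskerLeft_snd, whiskerLeft_snd_assoc, whiskerLeft_fst_assoc, Category.comp_id, lift_fst_assoc]))
    (fun w => by
      change (QuotObj.forget _ G aX).IsHomLift (𝟙 w.base) (eApp aX w).hom
      have : (QuotObj.forget Scheme.fppfPrecoverage G aX).map (eApp aX w).hom = 𝟙 w.base := rfl
      rw [← this]
      exact IsHomLift.map _ _)


/-- The comparison functor. -/
noncomputable abbrev Φ : ofSch (G ⊗ X) ⥤ᵇ fp (Q aX) (Q aX) := fpLift (Fa aX) (Fb G X) (eIso aX)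

theorem Φ_obj_iso_hom (w : (ofSch (G ⊗ X)).obj) : ((Φ aX).obj w).obj.iso.hom = (eApp aX w).hom := rfl

instance : (Φ aX).toFunctor.Faithful where
  map_injective {w w'} ψ ψ' h := by
    have h1 : ((Φ aX).map ψ).hom.fst = ((Φ aX).map ψ').hom.fst := by rw [h]
    have h2 : (((Φ aX).map ψ).hom.fst).hom = (((Φ aX).map ψ').hom.fst).hom := by rw [h1]
    exact Stk.EltObj.hom_ext h2

omit aX in
theorem full_aux {T T' : Over S} (α β : T ⟶ T') (g : T ⟶ G) (g' : T' ⟶ G)
    (h : (G ◁ α) ≫ lift (fst G T' * (snd G T' ≫ g')) (snd G T' ≫ 𝟙 _) =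
      lift (fst G T * (snd G T ≫ g)) (snd G T ≫ 𝟙 _) ≫ (G ◁ β)) : α ≫ g' = g ∧ α = β := by
  have h3 := congrArg (fun k => lift (1 : T ⟶ G) (𝟙 T) ≫ k) h
  simp only [comp_lift, comp_mul, lift_fst, lift_snd, lift_snd_assoc, Category.assoc, whiskerLeft_fst,
    whiskerLeft_snd, whiskerLeft_snd_assoc, whiskerLeft_fst_assoc, Category.comp_id, lift_fst_assoc,
    lift_whiskerLeft, lift_whiskerLeft_assoc, Category.id_comp, _root_.one_mul, comp_lift_assoc] at h3
  have h4 := congrArg (fun k => k ≫ fst G T') h3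
  have h5 := congrArg (fun k => k ≫ snd G T') h3
  simp only [lift_fst, lift_snd] at h4 h5
  exact ⟨h4, h5⟩

instance : (Φ aX).toFunctor.Full where
  map_surjective {w w'} m := by
    have hw := m.hom.w
    have htop := congrArg QuotObj.Hom.top hw
    have hsnd : m.hom.snd.hom ≫ w'.sec.down ≫ snd G X = w.sec.down ≫ snd G X :=
      congrArg ULift.down m.hom.snd.map_sec
    change (G ◁ m.hom.fst.hom) ≫ (eApp aX w').hom.top = (eApp aX w).hom.top ≫ (G ◁ m.hom.snd.hom) at htop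
    rw [eApp_hom_top, eApp_hom_top] at htop
    obtain ⟨h4, h5⟩ := full_aux (T := w.base) (T' := w'.base) m.hom.fst.hom m.hom.snd.hom _ _ htop
    have hsec : (m.hom.fst.hom : w.base ⟶ w'.base) ≫ w'.sec.down = w.sec.down := by
      apply CartesianMonoidalCategory.hom_ext
      · rw [Category.assoc]; exact h4
      · rw [Category.assoc, h5]; exact hsnd
    refine ⟨⟨m.hom.fst.hom, congrArg ULift.up hsec⟩, ?_⟩
    apply ObjectProperty.hom_ext
    apply CategoricalPullback.hom_ext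
    · exact Stk.EltObj.hom_ext rfl
    · exact Stk.EltObj.hom_ext h5

theorem isEquivOver_Φ : IsEquivOver (Φ aX) := by
  apply Groth.Agent.Helper19.FibLib.isEquivOver_of_fullyFaithful
  intro y
  obtain ⟨⟨⟨T1, ⟨x1⟩⟩, ⟨T2, ⟨x2⟩⟩, i⟩, hy⟩ := y
  have hy' : (QuotObj.forget Scheme.fppfPrecoverage G aX).IsHomLift (𝟙 T1) i.hom := hy
  obtain rfl : T2 = T1 := IsHomLift.codomain_eq (QuotObj.forget Scheme.fppfPrecoverage G aX) (𝟙 T1) i.hom
  have hbase : i.hom.base = 𝟙 T2 := by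
    have := IsHomLift.fac' (QuotObj.forget Scheme.fppfPrecoverage G aX) (𝟙 T2) i.hom
    simp only [eqToHom_refl, Category.id_comp, Category.comp_id] at this
    exact this
  obtain ⟨g, hg, htop⟩ := part1_12838 aX (𝟙 T2) x1 x2 i.hom.top
    (by have := i.hom.cart.w; rw [hbase] at this; exact this) i.hom.eqv i.hom.wφ
  rw [Category.id_comp] at hg
  let w : (ofSch (G ⊗ X)).obj := ⟨T2, ⟨lift g x2⟩⟩
  let e1 : ((Φ aX).obj w).obj.fst ≅ (⟨T2, ⟨x1⟩⟩ : (ofSch X).obj) :=
    { hom := ⟨𝟙 T2, congrArg ULift.up (by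
        change 𝟙 T2 ≫ x1 = lift g x2 ≫ aX.act
        rw [Category.id_comp, hg])⟩
      inv := ⟨𝟙 T2, congrArg ULift.up (by
        change 𝟙 T2 ≫ lift g x2 ≫ aX.act = x1
        rw [Category.id_comp, hg])⟩
      hom_inv_id := Stk.EltObj.hom_ext (Category.id_comp _)
      inv_hom_id := Stk.EltObj.hom_ext (Category.id_comp _) }
  let e2 : ((Φ aX).obj w).obj.snd ≅ (⟨T2, ⟨x2⟩⟩ : (ofSch X).obj) :=
    { hom := ⟨𝟙 T2, congrArg ULift.up (by
        change 𝟙 T2 ≫ x2 = lift g x2 ≫ snd G X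
        rw [Category.id_comp, lift_snd])⟩
      inv := ⟨𝟙 T2, congrArg ULift.up (by
        change 𝟙 T2 ≫ lift g x2 ≫ snd G X = x2
        rw [Category.id_comp, lift_snd])⟩
      hom_inv_id := Stk.EltObj.hom_ext (Category.id_comp _)
      inv_hom_id := Stk.EltObj.hom_ext (Category.id_comp _) }
  have hcomp : (Q aX).map e1.hom ≫ i.hom = ((Φ aX).obj w).obj.iso.hom ≫ (Q aX).map e2.hom := by
    apply QuotObj.hom_ext
    · change 𝟙 T2 ≫ i.hom.base = 𝟙 T2 ≫ 𝟙 T2
      rw [hbase]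
    · change (G ◁ 𝟙 T2) ≫ i.hom.top = (eApp aX w).hom.top ≫ (G ◁ 𝟙 T2)
      rw [eApp_hom_top, htop]
      change (G ◁ 𝟙 T2) ≫ lift (fst G T2 * snd G T2 ≫ g) (snd G T2 ≫ 𝟙 T2) =
        lift (fst G T2 * snd G T2 ≫ lift g x2 ≫ fst G X) (snd G T2 ≫ 𝟙 T2) ≫ G ◁ 𝟙 T2
      simp only [MonoidalCategory.whiskerLeft_id, Category.id_comp, Category.comp_id, lift_fst]
  let E : (Φ aX).obj w ≅ ⟨_, hy⟩ := ObjectProperty.isoMk _ (CategoricalPullback.mkIso e1 e2 hcomp)
  refine ⟨w, E, ?_⟩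
  show (fp (Q aX) (Q aX)).p.IsHomLift ((fp (Q aX) (Q aX)).p.map E.hom) E.hom
  exact IsHomLift.map _ _

theorem main13575 :
    ∃ e : BasedFunctor.comp (AlgSt.ofSpMap ((AlgSp.yon S).map aX.act)) (AlgSt.quotMap Scheme.fppfPrecoverage G aX) ≅
        BasedFunctor.comp (AlgSt.ofSpMap ((AlgSp.yon S).map (CartesianMonoidalCategory.snd G X)))
          (AlgSt.quotMap Scheme.fppfPrecoverage G aX),
      FibCat.IsTwoCartOver (AlgSt.ofSpMap ((AlgSp.yon S).map aX.act))
        (AlgSt.ofSpMap ((AlgSp.yon S).map (CartesianMonoidalCategory.snd G X))) e :=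
  ⟨eIso aX, isEquivOver_Φ aX⟩

end Groth.Agent.Helper18.QuotTwoCart
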