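import Groth.Agent.Lib.Helper18.QuotRep
import Groth.Agent.Lib.Helper18.QuotTwoCart
import Groth.Agent.Lib.Helper18.FpqcTorsor
import Groth.Agent.Lib.Helper19.StLib
import Groth.Agent.Lib.Helper19.PshSt
import Groth.Agent.Lib.Helper19.LocQNoeth
import Groth.Agent.Lib.Helper19.FlatLocQ2
import Groth.Agent.Lib.Helper16.AlgSp.FlatSp
import Groth.Agent.Lib.Helper16.AlgSp.LfpSp
import Groth.Agent.Lib.Helper16.AlgSp.SmSp
import Groth.Agent.Lib.Helper15.AlgSpLocPRep

/-!
# The canonical map `X ⟶ [X/G]` is representable by algebraic spaces (helper18)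

For `y : (Sch/U) ⟶ [X/G]` the 2-fibre product `(Sch/U) ×_{[X/G]} X` is (equivalent to) the total space `P` of the torsor
`y(id_U)`, and the projection to `U` is `π`.  Properties of `π` descend from those of `G ⟶ S`.
-/

set_option autoImplicit false
set_option linter.unusedSectionVars false

universe u

open CategoryTheory CategoryTheory.Limits MonoidalCategory CartesianMonoidalCategory MonObj GrpObj AlgebraicGeometry
open AlgSt FibCat Opposite MorphismProperty

namespace Groth.Agent.Helper18.QuotRep2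

open Groth.Agent.Helper18.FpqcDesc Groth.Agent.Helper18.QuotGen Groth.Agent.Helper18.QuotRep

variable {S : Scheme.{u}} {G : Over S} [GrpObj G] {X : Over S}

section A
variable (K : Precoverage Scheme.{u}) [K.HasIsos] (aX : AlgGrp.Action G X)
variable {U : Over S} (y : overCat U ⥤ᵇ QuotSt K G aX)

set_option backward.isDefEq.respectTransparency false in
theorem spMap_EE :
    spMapOfOver (BasedFunctor.comp (EE K aX y) (fpFst y (QK K aX))) = (AlgSp.yon S).map (pi' K aX y) := by
  apply ObjectProperty.hom_ext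
  ext T x
  apply ULift.ext
  show secHom _ _ = _
  unfold secHom
  simp
  rfl

set_option backward.isDefEq.respectTransparency false in
theorem repOver_of (P : MorphismProperty (AlgSp.Sp S)) (hP : P ((AlgSp.yon S).map (pi' K aX y))) :
    Groth.Agent.Helper19.StLib.RepOver P (fpFst y (QK K aX)) := by
  refine ⟨⟨(AlgSp.yon S).obj (A₀ K aX y).P, AlgSp.IsAlgSpace.yon_obj _⟩, EE K aX y, isEquivOver_EE K aX y, ?_⟩
  rw [spMap_EE]
  exact hP

end A

section B
variable (K : Precoverage Scheme.{u}) (aX : AlgGrp.Action G X)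

/-- base change of a self-pullback projection along a section -/
theorem prop_pullback_of_sq (P : MorphismProperty Scheme.{u}) [P.IsStableUnderBaseChange]
    {E B Z S' : Scheme.{u}} {π : E ⟶ B} {a b : Z ⟶ E} (sq : IsPullback a b π π) (hb : P b)
    (g : S' ⟶ B) (s : S' ⟶ E) (hs : s ≫ π = g) : P (pullback.snd π g) := by
  subst hs
  have big := IsPullback.of_hasPullback π (s ≫ π)
  have left := IsPullback.of_right' big sq
  exact P.of_isPullback left hb

set_option backward.isDefEq.respectTransparency.types false in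
/-- fpqc-local properties of `G ⟶ S` pass to the structure map `π : P ⟶ T` of every object of `[X/G]`. -/
theorem prop_π (P : MorphismProperty Scheme.{u}) [P.IsStableUnderBaseChange]
    [IsZariskiLocalAtTarget P] [P.DescendsAlong (@Surjective ⊓ @Flat ⊓ @QuasiCompact)]
    (hK : K ≤ Scheme.fpqcPrecoverage) (A : QuotObj K G aX) (hG : P G.hom) : P A.π.left := by
  obtain ⟨R, hR, hsec⟩ := A.loc
  haveI := isLocalAtTarget_fpqc P
  refine IsLocalAtTarget.of_forall_pullbackSnd (P := P) (K := Scheme.fpqcPrecoverage) (hK _ hR) ?_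
  intro U g _ hg
  obtain ⟨s, hs⟩ := hsec g hg
  have h1 : P (snd G A.P).left := by
    show P (pullback.snd G.hom A.P.hom)
    exact P.pullback_snd _ _ hG
  have sq : IsPullback A.act.act.left (snd G A.P).left A.π.left A.π.left :=
    A.cart.map (Over.forget S)
  exact prop_pullback_of_sq P sq h1 g s hs

end B

section C
variable (K : Precoverage Scheme.{u}) [K.HasIsos] (aX : AlgGrp.Action G X)
variable {U : Over S} (y : overCat U ⥤ᵇ QuotSt K G aX)

theorem prop_pi' (P : MorphismProperty Scheme.{u}) [P.IsStableUnderBaseChange]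
    [IsZariskiLocalAtTarget P] [P.DescendsAlong (@Surjective ⊓ @Flat ⊓ @QuasiCompact)]
    (hK : K ≤ Scheme.fpqcPrecoverage) (hG : P G.hom) : P (pi' K aX y).left := by
  have h := prop_π K aX P hK (A₀ K aX y) hG
  have e : (pi' K aX y).left = (A₀ K aX y).π.left ≫ (eqToHom (hA₀ K aX y)).left := rfl
  rw [e]
  haveI : IsIso (eqToHom (hA₀ K aX y)).left :=
    inferInstanceAs (IsIso ((CategoryTheory.Over.forget _).map (eqToHom (hA₀ K aX y))))
  exact (P.cancel_right_of_respectsIso _ _).2 h

end C

section D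
variable (aX : AlgGrp.Action G X)

open Groth.Agent.Helper19.LocQGen Groth.Agent.Helper16.AS Groth.Agent.Helper15

set_option backward.isDefEq.respectTransparency false in
/-- reduction of the statement to the 2-fibre products `(Sch/U) ×_{[X/G]} X`. -/
theorem repByAlgSpWith_of (K : Precoverage Scheme.{u}) [K.HasIsos] (Q : MorphismProperty (AlgSp.Sp S))
    (hQ : ∀ (U : Over S) (y : overCat U ⥤ᵇ QuotSt K G aX), Q ((AlgSp.yon S).map (pi' K aX y))) :
    RepByAlgSpWith Q (BasedFunctor.comp (AlgSt.ofOverCat X) (AlgSt.quotMap K G aX)) := by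
  rw [Groth.Agent.Helper19.StLib.repByAlgSpWith_equiv_comp (ofOverCat X)
    (Groth.Agent.Helper19.PshSt.isEquivOver_ofOverCat X) (QK K aX)]
  intro U y
  exact repOver_of K aX y Q (hQ U y)

theorem locP_of (K : Precoverage Scheme.{u}) [K.HasIsos] (hK : K ≤ Scheme.fpqcPrecoverage)
    (P : MorphismProperty Scheme.{u}) [P.IsStableUnderBaseChange]
    [IsZariskiLocalAtTarget P] [P.DescendsAlong (@Surjective ⊓ @Flat ⊓ @QuasiCompact)]
    (hP : GoodP P) (hsrc : SrcEtLoc P) (hG : P G.hom) :
    RepByAlgSpWith (AlgSp.LocP P) (BasedFunctor.comp (AlgSt.ofOverCat X) (AlgSt.quotMap K G aX)) :=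
  repByAlgSpWith_of aX K _ fun U y =>
    locP_yon_map_of hP hsrc (pi' K aX y) (prop_pi' K aX y P hK hG)

set_option backward.isDefEq.respectTransparency.types false in
theorem surj_of (K : Precoverage Scheme.{u}) [K.HasIsos] (hK : K ≤ Scheme.fpqcPrecoverage) :
    RepByAlgSpWith AlgSp.IsSurjectiveMor
      (BasedFunctor.comp (AlgSt.ofOverCat X) (AlgSt.quotMap K G aX)) :=
  repByAlgSpWith_of aX K _ fun U y =>
    isSurjectiveMor_yon_map_of_surjective (pi' K aX y)
      (prop_pi' K aX y @Surjective hK
        (Groth.Agent.Helper18.FpqcTorsor.surjective_hom_of_monObj G)).surj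

set_option backward.isDefEq.respectTransparency.types false in
theorem main13572 [Flat G.hom] [LocallyOfFinitePresentation G.hom] :
    AlgSt.RepByAlgSpWith (AlgSp.LocP @Flat)
        (BasedFunctor.comp (AlgSt.ofOverCat X) (AlgSt.quotMap Scheme.fppfPrecoverage G aX)) ∧
      AlgSt.RepByAlgSpWith (AlgSp.LocP @LocallyOfFinitePresentation)
        (BasedFunctor.comp (AlgSt.ofOverCat X) (AlgSt.quotMap Scheme.fppfPrecoverage G aX)) ∧
      AlgSt.RepByAlgSpWith AlgSp.IsSurjectiveMor
        (BasedFunctor.comp (AlgSt.ofOverCat X) (AlgSt.quotMap Scheme.fppfPrecoverage G aX)) :=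
  ⟨locP_of aX _ Scheme.fppfPrecoverage_le_fpqcPrecoverage @Flat goodP_flat srcEtLoc_flat inferInstance,
    locP_of aX _ Scheme.fppfPrecoverage_le_fpqcPrecoverage @LocallyOfFinitePresentation goodP_lfp
      srcEtLoc_lfp inferInstance,
    surj_of aX _ Scheme.fppfPrecoverage_le_fpqcPrecoverage⟩

set_option backward.isDefEq.respectTransparency.types false in
theorem main13573 [Smooth G.hom] :
    AlgSt.RepByAlgSpWith (AlgSp.LocP @Smooth)
        (BasedFunctor.comp (AlgSt.ofOverCat X) (AlgSt.quotMap Scheme.fppfPrecoverage G aX)) ∧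
      AlgSt.RepByAlgSpWith AlgSp.IsSurjectiveMor
        (BasedFunctor.comp (AlgSt.ofOverCat X) (AlgSt.quotMap Scheme.fppfPrecoverage G aX)) :=
  ⟨locP_of aX _ Scheme.fppfPrecoverage_le_fpqcPrecoverage @Smooth goodP_smooth srcEtLoc_smooth inferInstance,
    surj_of aX _ Scheme.fppfPrecoverage_le_fpqcPrecoverage⟩

end D

end Groth.Agent.Helper18.QuotRep2
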