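import Groth.Agent.Lib.Helper18.QuotTwoCart
import Groth.Agent.Lib.Helper19.PshLib

set_option autoImplicit false
set_option linter.unusedSimpArgs false
set_option backward.isDefEq.respectTransparency false
set_option backward.isDefEq.respectTransparency.types false
universe u
open CategoryTheory CategoryTheory.Limits MonoidalCategory CartesianMonoidalCategory MonObj GrpObj AlgebraicGeometry
open AlgSt FibCat Opposite

namespace Groth.Agent.Helper18.QuotUniv

open Groth.Agent.Helper18.QuotObjLoc Groth.Agent.Helper18.QuotTwoCart Groth.Agent.Helper19.PshLib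

variable {S : Scheme.{u}} {G : Over S} [GrpObj G] {X : Over S} (aX : AlgGrp.Action G X)

/-- The morphism from the trivial object attached to a point of the torsor. -/
noncomputable def homOfSection (A : QuotObj Scheme.fppfPrecoverage G aX) {V : Over S} (s : V ⟶ A.P) :
    (Q aX).obj (⟨V, ⟨s ≫ A.φ⟩⟩ : (ofSch X).obj) ⟶ A :=
  ⟨s ≫ A.π, (G ◁ s) ≫ A.act.act, act_whisker A.act s,
    (isPullback_whiskerLeft (G := G) s).paste_horiz A.cart, by
      change ((G ◁ s) ≫ A.act.act) ≫ A.φ = (G ◁ (s ≫ A.φ)) ≫ aX.act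
      rw [Category.assoc, A.eqv, MonoidalCategory.whiskerLeft_comp, Category.assoc]⟩

@[simp] theorem homOfSection_base (A : QuotObj Scheme.fppfPrecoverage G aX) {V : Over S} (s : V ⟶ A.P) :
    (homOfSection aX A s).base = s ≫ A.π := rfl

section Ext

variable {C : Type*} [Category C] {𝒲 : BasedCategory C} {P : Cᵒᵖ ⥤ Type*}

theorem basedFunctor_ext {𝒴 : BasedCategory C} {Φ Φ' : 𝒲 ⥤ᵇ 𝒴} (h : Φ.toFunctor = Φ'.toFunctor) : Φ = Φ' := by
  cases Φ; cases Φ'; cases h; rfl

theorem eltObj_ext {a b : Stk.EltObj P} (h : a.base = b.base)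
    (hs : P.map (eqToHom h).op b.sec = a.sec) : a = b := by
  obtain ⟨a1, a2⟩ := a
  obtain ⟨b1, b2⟩ := b
  obtain rfl : a1 = b1 := h
  rw [eqToHom_refl, map_id_apply] at hs
  change b2 = a2 at hs
  rw [hs]

theorem eqToHom_hom {a b : Stk.EltObj P} (h : a = b) :
    (eqToHom h).hom = eqToHom (congrArg Stk.EltObj.base h) := by
  subst h; rfl

/-- Functors into the category of a presheaf with the same sections are equal. -/
theorem eq_of_secOf_eq (Φ Φ' : 𝒲 ⥤ᵇ Stk.ofPsh P) (h : ∀ w, secOf Φ w = secOf Φ' w) : Φ = Φ' := by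
  apply basedFunctor_ext
  have hobj : ∀ w, Φ.obj w = Φ'.obj w := fun w =>
    eltObj_ext ((base_eq Φ w).trans (base_eq Φ' w).symm) (by
      rw [sec_eq_secOf Φ w, sec_eq_secOf Φ' w, h w, map_map_apply, eqToHom_trans])
  refine CategoryTheory.Functor.ext hobj ?_
  intro w w' g
  apply Stk.EltObj.hom_ext
  rw [Stk.EltObj.comp_hom, Stk.EltObj.comp_hom, eqToHom_hom, eqToHom_hom, map_hom_eq Φ g, map_hom_eq Φ' g]
  simp

theorem secOf_comp {𝒱 : BasedCategory C} (Ψ : 𝒱 ⥤ᵇ 𝒲) (Φ : 𝒲 ⥤ᵇ Stk.ofPsh P) (v : 𝒱.obj) :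
    secOf (BasedFunctor.comp Ψ Φ) v = P.map (eqToHom (Ψ.w_obj v).symm).op (secOf Φ (Ψ.obj v)) := by
  unfold secOf
  rw [map_map_apply, eqToHom_trans]
  rfl

end Ext

section Sheaf

variable (N : AlgSp.Sp S) (f : (AlgSp.yon S).obj X ⟶ N)

/-- The value of `f` on a point. -/
def F {T : Over S} (x : T ⟶ X) : N.obj.obj (op T) := f.hom.app (op T) ⟨x⟩

variable {N} in
theorem F_nat {T T' : Over S} (g : T' ⟶ T) (x : T ⟶ X) : N.obj.map g.op (F N f x) = F N f (g ≫ x) := by
  have := NatTrans.naturality_apply f.hom g.op (⟨x⟩ : ((AlgSp.yon S).obj X).obj.obj (op T))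
  exact this.symm

variable {N f} in
theorem F_inv (hf : (AlgSp.yon S).map aX.act ≫ f = (AlgSp.yon S).map (snd G X) ≫ f) {T : Over S}
    (g : T ⟶ G) (x : T ⟶ X) : F N f (lift g x ≫ aX.act) = F N f x := by
  have h1 := congrArg (fun k => k.hom.app (op T) ⟨lift g x⟩) hf
  have h2 : F N f (lift g x ≫ aX.act) = F N f (lift g x ≫ snd G X) := h1
  rw [h2, lift_snd]

variable {N f} in
/-- Independence of the section. -/
theorem F_indep (hf : (AlgSp.yon S).map aX.act ≫ f = (AlgSp.yon S).map (snd G X) ≫ f)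
    (A : QuotObj Scheme.fppfPrecoverage G aX) {V : Over S} (s s' : V ⟶ A.P) (h : s ≫ A.π = s' ≫ A.π) :
    F N f (s ≫ A.φ) = F N f (s' ≫ A.φ) := by
  obtain ⟨c, hc1, hc2⟩ := A.cart.exists_lift s s' h
  have e : s = lift (c ≫ fst G A.P) s' ≫ A.act.act := by
    rw [← hc1, ← hc2, ← comp_lift, lift_fst_snd, Category.comp_id]
  have e2 : s ≫ A.φ = lift (c ≫ fst G A.P) (s' ≫ A.φ) ≫ aX.act := by
    conv_lhs => rw [e]
    rw [Category.assoc, A.eqv, lift_whiskerLeft_assoc]
  rw [e2, F_inv aX hf]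


/-- The sieve of morphisms to the base over which the torsor has a section. -/
def secSieve (A : QuotObj Scheme.fppfPrecoverage G aX) : Sieve A.base where
  arrows V g := ∃ s : V ⟶ A.P, s ≫ A.π = g
  downward_closed := by
    rintro V W g ⟨s, hs⟩ k
    exact ⟨k ≫ s, by rw [Category.assoc, hs]⟩

theorem secSieve_mem (A : QuotObj Scheme.fppfPrecoverage G aX) : secSieve aX A ∈ AlgSp.J S A.base := by
  obtain ⟨R, hR, hsec⟩ := A.loc
  rw [AlgSp.J_eq, GrothendieckTopology.mem_over_iff]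
  refine (Scheme.fppfTopology).superset_covering ?_ (Precoverage.generate_mem_toGrothendieck hR)
  rintro Z c ⟨Y, a, b, hb, rfl⟩
  rw [Sieve.overEquiv_iff]
  obtain ⟨s, hs⟩ := hsec b hb
  have hs' : s ≫ A.π.left = b := hs
  have hw : s ≫ A.P.hom = b ≫ A.base.hom := by
    rw [← Over.w A.π, ← Category.assoc, hs']
  refine ⟨Over.homMk (a ≫ s) (by simp [hw]), ?_⟩
  ext
  simp [hs']

variable {N f} in
/-- The family of local values. -/
noncomputable def fam (A : QuotObj Scheme.fppfPrecoverage G aX) :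
    Presieve.FamilyOfElements N.obj (secSieve aX A).arrows :=
  fun _ _ hg => F N f (hg.choose ≫ A.φ)

variable {N f} in
theorem fam_eq (hf : (AlgSp.yon S).map aX.act ≫ f = (AlgSp.yon S).map (snd G X) ≫ f)
    (A : QuotObj Scheme.fppfPrecoverage G aX) {V : Over S} (g : V ⟶ A.base) (hg : (secSieve aX A).arrows g)
    (s : V ⟶ A.P) (hs : s ≫ A.π = g) : fam (N := N) (f := f) aX A g hg = F N f (s ≫ A.φ) :=
  F_indep aX hf A _ _ (hg.choose_spec.trans hs.symm)

variable {N f} in
theorem fam_compatible (hf : (AlgSp.yon S).map aX.act ≫ f = (AlgSp.yon S).map (snd G X) ≫ f)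
    (A : QuotObj Scheme.fppfPrecoverage G aX) : (fam (N := N) (f := f) aX A).Compatible := by
  intro Y1 Y2 Z g1 g2 f1 f2 h1 h2 hcomm
  obtain ⟨s1, hs1⟩ := h1
  obtain ⟨s2, hs2⟩ := h2
  rw [fam_eq aX hf A f1 _ s1 hs1, fam_eq aX hf A f2 _ s2 hs2, F_nat, F_nat, ← Category.assoc, ← Category.assoc]
  apply F_indep aX hf
  rw [Category.assoc, Category.assoc, hs1, hs2, hcomm]

theorem isSheafFor_secSieve (A : QuotObj Scheme.fppfPrecoverage G aX) :
    Presieve.IsSheafFor N.obj (secSieve aX A).arrows :=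
  ((isSheaf_iff_isSheaf_of_type _ _).1 N.property) _ (secSieve_mem aX A)

variable {N f} in
/-- The glued section. -/
noncomputable def glue (hf : (AlgSp.yon S).map aX.act ≫ f = (AlgSp.yon S).map (snd G X) ≫ f)
    (A : QuotObj Scheme.fppfPrecoverage G aX) : N.obj.obj (op A.base) :=
  (isSheafFor_secSieve aX N A).amalgamate _ (fam_compatible aX hf A)

variable {N f} in
theorem glue_spec (hf : (AlgSp.yon S).map aX.act ≫ f = (AlgSp.yon S).map (snd G X) ≫ f)
    (A : QuotObj Scheme.fppfPrecoverage G aX) {V : Over S} (s : V ⟶ A.P) :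
    N.obj.map (s ≫ A.π).op (glue aX hf A) = F N f (s ≫ A.φ) := by
  have := (isSheafFor_secSieve aX N A).valid_glue (fam_compatible aX hf A) (s ≫ A.π) ⟨s, rfl⟩
  rw [fam_eq aX hf A _ _ s rfl] at this
  exact this

variable {N f} in
theorem eq_glue (hf : (AlgSp.yon S).map aX.act ≫ f = (AlgSp.yon S).map (snd G X) ≫ f)
    (A : QuotObj Scheme.fppfPrecoverage G aX) (m : N.obj.obj (op A.base))
    (hm : ∀ {V : Over S} (s : V ⟶ A.P), N.obj.map (s ≫ A.π).op m = F N f (s ≫ A.φ)) :
    m = glue aX hf A := by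
  apply (isSheafFor_secSieve aX N A).isSeparatedFor.ext
  rintro V g ⟨s, rfl⟩
  rw [hm s, glue_spec]


variable {N f} in
/-- The induced functor `[X/G] ⟶ N`. -/
noncomputable def desc (hf : (AlgSp.yon S).map aX.act ≫ f = (AlgSp.yon S).map (snd G X) ≫ f) :
    QuotSt Scheme.fppfPrecoverage G aX ⥤ᵇ ofSp N where
  toFunctor :=
    { obj := fun A => ⟨A.base, glue aX hf A⟩
      map := fun {A B} h => ⟨h.base, by
        apply eq_glue aX hf A
        intro V s
        change N.obj.map (s ≫ A.π).op (N.obj.map h.base.op (glue aX hf B)) = _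
        rw [map_map_apply, Category.assoc, ← h.cart.w, ← Category.assoc, glue_spec, Category.assoc, h.wφ]⟩
      map_id := fun A => Stk.EltObj.hom_ext rfl
      map_comp := fun h k => Stk.EltObj.hom_ext rfl }
  w := rfl

variable {N f} in
theorem secOf_desc (hf : (AlgSp.yon S).map aX.act ≫ f = (AlgSp.yon S).map (snd G X) ≫ f)
    (A : QuotObj Scheme.fppfPrecoverage G aX) : secOf (desc aX hf) A = glue aX hf A := by
  unfold secOf
  exact map_id_apply _ _


variable {N f} in
theorem secOf_ofSpMap (a : (ofSch X).obj) : secOf (ofSpMap f) a = F N f a.sec.down := by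
  unfold secOf
  exact map_id_apply _ _

variable {N} in
theorem secOf_comp_Q (φ : QuotSt Scheme.fppfPrecoverage G aX ⥤ᵇ ofSp N) (a : (ofSch X).obj) :
    secOf (BasedFunctor.comp (Q aX) φ) a = secOf φ ((Q aX).obj a) := by
  rw [secOf_comp]
  exact map_id_apply _ _

variable {N f} in
theorem glue_Q (hf : (AlgSp.yon S).map aX.act ≫ f = (AlgSp.yon S).map (snd G X) ≫ f) (a : (ofSch X).obj) :
    glue aX hf ((Q aX).obj a) = F N f a.sec.down := by
  symm
  apply eq_glue aX hf ((Q aX).obj a)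
  intro V s
  change N.obj.map (s ≫ snd G a.base).op (F N f a.sec.down) = F N f (s ≫ (G ◁ a.sec.down) ≫ aX.act)
  have e : s ≫ (G ◁ a.sec.down) = lift (s ≫ fst G a.base) ((s ≫ snd G a.base) ≫ a.sec.down) := by
    apply CartesianMonoidalCategory.hom_ext <;> simp
  rw [F_nat, ← Category.assoc, e, F_inv aX hf]

variable {N f} in
theorem comp_desc (hf : (AlgSp.yon S).map aX.act ≫ f = (AlgSp.yon S).map (snd G X) ≫ f) :
    BasedFunctor.comp (Q aX) (desc aX hf) = ofSpMap f := by
  apply eq_of_secOf_eq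
  intro a
  rw [secOf_comp_Q, secOf_desc, glue_Q, secOf_ofSpMap]

variable {N f} in
theorem desc_unique (hf : (AlgSp.yon S).map aX.act ≫ f = (AlgSp.yon S).map (snd G X) ≫ f)
    (φ : QuotSt Scheme.fppfPrecoverage G aX ⥤ᵇ ofSp N) (hφ : BasedFunctor.comp (Q aX) φ = ofSpMap f) :
    φ = desc aX hf := by
  apply eq_of_secOf_eq
  intro A
  rw [secOf_desc]
  apply eq_glue aX hf A
  intro V s
  have h1 := secOf_naturality φ (homOfSection aX A s)
  have h2 : (QuotSt Scheme.fppfPrecoverage G aX).p.map (homOfSection aX A s) = s ≫ A.π := rfl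
  rw [h2] at h1
  refine h1.trans ?_
  rw [← secOf_comp_Q, hφ, secOf_ofSpMap]

theorem main14978 (M : AlgSp.Space S) (f : (AlgSp.yon S).obj X ⟶ M.obj)
    (hf : (AlgSp.yon S).map aX.act ≫ f = (AlgSp.yon S).map (snd G X) ≫ f) :
    ∃! φ : AlgSt.QuotSt Scheme.fppfPrecoverage G aX ⥤ᵇ AlgSt.ofSp M.obj,
      BasedFunctor.comp (AlgSt.quotMap Scheme.fppfPrecoverage G aX) φ = AlgSt.ofSpMap f :=
  ⟨desc aX hf, comp_desc aX hf, fun φ hφ => desc_unique aX hf φ hφ⟩

end Sheaf

end Groth.Agent.Helper18.QuotUniv
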