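import Mathlib

set_option autoImplicit false
universe w v u
open CategoryTheory CategoryTheory.Limits Pretriangulated

namespace Groth.Agent.Helper18.RDerLES

variable {D : Type u} [Category.{v} D] [Abelian D] [HasDerivedCategory.{w} D]

open DerivedCategory

theorem exact_kernel_eq_image {A : Type*} [Category A] [Abelian A] (S : ShortComplex A)
    (h : S.Exact) : kernelSubobject S.g = imageSubobject S.f :=
  ((ShortComplex.exact_iff_image_eq_kernel S).mp h).symm

theorem map_sq {A B : Type*} [Category A] [Category B] (F : A ⥤ B) {X Y X' Y' : A} {p : X ⟶ Y}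
    {b' : Y ⟶ Y'} {b : X ⟶ X'} {t : X' ⟶ Y'} (h : p ≫ b' = b ≫ t) :
    F.map p ≫ F.map b' = F.map b ≫ F.map t := by
  rw [← F.map_comp, h, F.map_comp]

/-- Long exact sequence for a diagram isomorphic to the first maps of a distinguished triangle. -/
theorem les_of_iso (T : Triangle (DerivedCategory D)) (hT : T ∈ distTriang _)
    {P₁ P₂ P₃ : DerivedCategory D} (p₁ : P₁ ⟶ P₂) (p₂ : P₂ ⟶ P₃)
    (b₁ : P₁ ≅ T.obj₁) (b₂ : P₂ ≅ T.obj₂) (b₃ : P₃ ≅ T.obj₃)
    (c₁ : p₁ ≫ b₂.hom = b₁.hom ≫ T.mor₁) (c₂ : p₂ ≫ b₃.hom = b₂.hom ≫ T.mor₂) (i : ℤ) :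
    kernelSubobject ((homologyFunctor D i).map p₂) = imageSubobject ((homologyFunctor D i).map p₁) ∧
      ∃ δ : (homologyFunctor D i).obj P₃ ⟶ (homologyFunctor D (i + 1)).obj P₁,
        kernelSubobject δ = imageSubobject ((homologyFunctor D i).map p₂) ∧
        kernelSubobject ((homologyFunctor D (i + 1)).map p₁) = imageSubobject δ := by
  have hp₁ : p₁ = b₁.hom ≫ T.mor₁ ≫ b₂.inv := by
    rw [← Category.assoc, ← c₁, Category.assoc, Iso.hom_inv_id, Category.comp_id]
  have hp₂ : p₂ = b₂.hom ≫ T.mor₂ ≫ b₃.inv := by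
    rw [← Category.assoc, ← c₂, Category.assoc, Iso.hom_inv_id, Category.comp_id]
  let H := homologyFunctor D i
  let H' := homologyFunctor D (i + 1)
  let δ : H.obj P₃ ⟶ H'.obj P₁ :=
    H.map b₃.hom ≫ HomologySequence.δ T i (i + 1) rfl ≫ H'.map b₁.inv
  have z₁₂ : H.map p₁ ≫ H.map p₂ = 0 := by
    rw [← H.map_comp, hp₁, hp₂]
    simp only [Category.assoc, Iso.inv_hom_id_assoc]
    rw [comp_distTriang_mor_zero₁₂_assoc _ hT]
    simp
  have z₂₃ : H.map p₂ ≫ δ = 0 := by
    simp only [δ, hp₂, Functor.map_comp, Category.assoc]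
    rw [← H.map_comp_assoc b₃.inv, Iso.inv_hom_id, H.map_id, Category.id_comp,
      HomologySequence.comp_δ_assoc T hT i (i + 1) rfl]
    simp
  have z₃₁ : δ ≫ H'.map p₁ = 0 := by
    simp only [δ, hp₁, Functor.map_comp, Category.assoc]
    rw [← H'.map_comp_assoc b₁.inv, Iso.inv_hom_id, H'.map_id, Category.id_comp,
      HomologySequence.δ_comp_assoc T hT i (i + 1) rfl]
    simp
  have e₂ : (ShortComplex.mk _ _ z₁₂).Exact := by
    refine (ShortComplex.exact_iff_of_iso (ShortComplex.isoMk (H.mapIso b₁) (H.mapIso b₂)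
      (H.mapIso b₃) ?_ ?_)).mpr (HomologySequence.exact₂ T hT i)
    · exact map_sq H c₁.symm
    · exact map_sq H c₂.symm
  have e₃ : (ShortComplex.mk _ _ z₂₃).Exact := by
    refine (ShortComplex.exact_iff_of_iso (ShortComplex.isoMk (H.mapIso b₂) (H.mapIso b₃)
      (H'.mapIso b₁) ?_ ?_)).mpr (HomologySequence.exact₃ T hT i (i + 1) rfl)
    · exact map_sq H c₂.symm
    · change H.map b₃.hom ≫ HomologySequence.δ T i (i + 1) rfl =
        (H.map b₃.hom ≫ HomologySequence.δ T i (i + 1) rfl ≫ H'.map b₁.inv) ≫ H'.map b₁.hom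
      rw [Category.assoc, Category.assoc, ← H'.map_comp, Iso.inv_hom_id, H'.map_id,
        Category.comp_id]
  have e₁ : (ShortComplex.mk _ _ z₃₁).Exact := by
    refine (ShortComplex.exact_iff_of_iso (ShortComplex.isoMk (H.mapIso b₃) (H'.mapIso b₁)
      (H'.mapIso b₂) ?_ ?_)).mpr (HomologySequence.exact₁ T hT i (i + 1) rfl)
    · change H.map b₃.hom ≫ HomologySequence.δ T i (i + 1) rfl =
        (H.map b₃.hom ≫ HomologySequence.δ T i (i + 1) rfl ≫ H'.map b₁.inv) ≫ H'.map b₁.hom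
      rw [Category.assoc, Category.assoc, ← H'.map_comp, Iso.inv_hom_id, H'.map_id,
        Category.comp_id]
    · exact map_sq H' c₁.symm
  exact ⟨exact_kernel_eq_image _ e₂, δ, exact_kernel_eq_image _ e₃, exact_kernel_eq_image _ e₁⟩

end Groth.Agent.Helper18.RDerLES
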