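import Mathlib
import Groth.Agent.Lib.Helper18.RDerLES

set_option autoImplicit false
universe w w' v v' u u'
open CategoryTheory CategoryTheory.Limits Pretriangulated

namespace Groth.Agent.Helper18.RDerLES

section


variable {C : Type u} [Category.{v} C] [Abelian C] [HasDerivedCategory.{w} C]

omit [HasDerivedCategory.{w} C] in
/-- the short complex of cochain complexes attached to `f, g` -/
theorem shortExact_of {X₁ X₂ X₃ : CochainComplex.Plus C} (f : X₁ ⟶ X₂) (g : X₂ ⟶ X₃)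
    (hf : Mono ((CochainComplex.Plus.ι C).map f)) (hg : Epi ((CochainComplex.Plus.ι C).map g))
    (hex : kernelSubobject ((CochainComplex.Plus.ι C).map g) =
      imageSubobject ((CochainComplex.Plus.ι C).map f)) :
    ∃ (z : (CochainComplex.Plus.ι C).map f ≫ (CochainComplex.Plus.ι C).map g = 0),
      (ShortComplex.mk _ _ z).ShortExact := by
  have z : (CochainComplex.Plus.ι C).map f ≫ (CochainComplex.Plus.ι C).map g = 0 := by
    have h1 : imageSubobject ((CochainComplex.Plus.ι C).map f) ≤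
        kernelSubobject ((CochainComplex.Plus.ι C).map g) := hex.ge
    rw [← imageSubobject_arrow_comp ((CochainComplex.Plus.ι C).map f), Category.assoc,
      ← Subobject.ofLE_arrow h1, Category.assoc, kernelSubobject_arrow_comp]
    simp
  refine ⟨z, ?_⟩
  have hE : (ShortComplex.mk _ _ z).Exact :=
    (ShortComplex.exact_iff_image_eq_kernel _).mpr hex.symm
  exact { exact := hE, mono_f := hf, epi_g := hg }


end

section


variable {C : Type u} [Category.{v} C] [Abelian C] [HasDerivedCategory.{w} C]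

theorem aux_comm {A : Type*} [Category A] (F : A ⥤ A) {X Y Z W : A} (a : X ⟶ Y) (b : Y ⟶ F.obj Z)
    (x : Z ⟶ W) (y : W ⟶ Z) (h : x ≫ y = 𝟙 _) :
    (a ≫ b ≫ F.map x) ≫ F.map y = a ≫ b := by
  rw [Category.assoc, Category.assoc, ← F.map_comp, h, F.map_id, Category.comp_id]

/-- the distinguished triangle of a short exact sequence of bounded below complexes -/
theorem exists_triangle_of_ses {X₁ X₂ X₃ : CochainComplex.Plus C} (f : X₁ ⟶ X₂) (g : X₂ ⟶ X₃)
    (z : (CochainComplex.Plus.ι C).map f ≫ (CochainComplex.Plus.ι C).map g = 0)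
    (hS : (ShortComplex.mk _ _ z).ShortExact) :
    ∃ c : DerivedCategory.Plus.ι.obj (DerivedCategory.Plus.Qh.obj
          ((HomotopyCategory.Plus.quotient C).obj X₃)) ⟶
        (DerivedCategory.Plus.ι.obj (DerivedCategory.Plus.Qh.obj
          ((HomotopyCategory.Plus.quotient C).obj X₁)))⟦(1 : ℤ)⟧,
      Triangle.mk
        (DerivedCategory.Plus.ι.map (DerivedCategory.Plus.Qh.map
          ((HomotopyCategory.Plus.quotient C).map f)))
        (DerivedCategory.Plus.ι.map (DerivedCategory.Plus.Qh.map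
          ((HomotopyCategory.Plus.quotient C).map g))) c ∈ distTriang (DerivedCategory C) := by
  let TD := DerivedCategory.triangleOfSES hS
  have hTD : TD ∈ distTriang _ := DerivedCategory.triangleOfSES_distinguished hS
  let q := DerivedCategory.quotientCompQhIso C
  refine ⟨q.hom.app X₃.obj ≫ TD.mor₃ ≫ (q.inv.app X₁.obj)⟦(1 : ℤ)⟧', ?_⟩
  refine isomorphic_distinguished _ hTD _ (Triangle.isoMk _ _ (q.app X₁.obj) (q.app X₂.obj)
    (q.app X₃.obj) ?_ ?_ ?_)
  · exact q.hom.naturality ((CochainComplex.Plus.ι C).map f)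
  · exact q.hom.naturality ((CochainComplex.Plus.ι C).map g)
  · exact aux_comm _ _ _ _ _ (q.inv_hom_id_app X₁.obj)


end

section


variable {C : Type u} [Category.{v} C] [Abelian C] [HasDerivedCategory.{w} C]

/-- the inclusion `K⁺(Inj) ⥤ K⁺(C)` -/
noncomputable abbrev ιI : HomotopyCategory.Plus (InjectiveObject C) ⥤ HomotopyCategory.Plus C :=
  (InjectiveObject.ι C).mapHomotopyCategoryPlus

/-- `K⁺(Inj) ⥤ D⁺(C)` -/
noncomputable abbrev G : HomotopyCategory.Plus (InjectiveObject C) ⥤ DerivedCategory.Plus C :=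
  ιI ⋙ DerivedCategory.Plus.Qh

instance : (G (C := C)).IsTriangulated := by
  dsimp only [G]
  infer_instance

theorem G_map_surjective (I₁ I₂ : HomotopyCategory.Plus (InjectiveObject C))
    (m : (G (C := C)).obj I₁ ⟶ G.obj I₂) : ∃ φ : I₁ ⟶ I₂, G.map φ = m := by
  have hK : CochainComplex.IsKInjective (ιI.obj I₂).1.as := by
    obtain ⟨⟨K⟩, hK⟩ := I₂
    have hK' : CochainComplex.plus (InjectiveObject C) K := by
      rwa [← HomotopyCategory.plus_quotient_obj_iff]
    have key : ∀ K' : CochainComplex.Plus (InjectiveObject C), CochainComplex.IsKInjective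
        (((InjectiveObject.ι C).mapHomologicalComplex (.up ℤ)).obj K'.obj) :=
      fun K' => inferInstance
    exact key ⟨K, hK'⟩
  obtain ⟨m', hm'⟩ := (DerivedCategory.Plus.Qh_map_bijective_of_isKInjective
    (ιI.obj I₁) (ιI.obj I₂) hK).2 m
  obtain ⟨φ, hφ⟩ := (ιI (C := C)).map_surjective m'
  exact ⟨φ, by rw [Functor.comp_map, hφ, hm']⟩


variable [EnoughInjectives C]

/-- Resolution of a distinguished triangle by a distinguished triangle of injectives. -/
theorem exists_resolution {A₁ A₂ A₃ : DerivedCategory.Plus C} (a : A₁ ⟶ A₂) (b : A₂ ⟶ A₃)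
    (c : DerivedCategory.Plus.ι.obj A₃ ⟶ (DerivedCategory.Plus.ι.obj A₁)⟦(1 : ℤ)⟧)
    (hT : Triangle.mk (DerivedCategory.Plus.ι.map a) (DerivedCategory.Plus.ι.map b) c ∈
      distTriang (DerivedCategory C)) :
    ∃ (T' : Triangle (HomotopyCategory.Plus (InjectiveObject C))) (_ : T' ∈ distTriang _)
      (e₁ : A₁ ≅ G.obj T'.obj₁) (e₂ : A₂ ≅ G.obj T'.obj₂) (e₃ : A₃ ≅ G.obj T'.obj₃),
      a ≫ e₂.hom = e₁.hom ≫ G.map T'.mor₁ ∧ b ≫ e₃.hom = e₂.hom ≫ G.map T'.mor₂ := by
  let I₁ := (G (C := C)).objPreimage A₁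
  let I₂ := (G (C := C)).objPreimage A₂
  let e₁ : G.obj I₁ ≅ A₁ := G.objObjPreimageIso A₁
  let e₂ : G.obj I₂ ≅ A₂ := G.objObjPreimageIso A₂
  obtain ⟨φ, hφ⟩ := G_map_surjective I₁ I₂ (e₁.hom ≫ a ≫ e₂.inv)
  obtain ⟨I₃, ψ, χ, hT'⟩ := distinguished_cocone_triangle φ
  let T' := Triangle.mk φ ψ χ
  have hGT' : (G (C := C)).mapTriangle.obj T' ∈ distTriang _ := G.map_distinguished T' hT'
  have hιGT' : DerivedCategory.Plus.ι.mapTriangle.obj ((G (C := C)).mapTriangle.obj T') ∈
      distTriang (DerivedCategory C) := DerivedCategory.Plus.ι.map_distinguished _ hGT'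
  let E := isoTriangleOfIso₁₂ _ _ hT hιGT' (DerivedCategory.Plus.ι.mapIso e₁.symm)
    (DerivedCategory.Plus.ι.mapIso e₂.symm) (by
      change DerivedCategory.Plus.ι.map a ≫ DerivedCategory.Plus.ι.map e₂.inv =
        DerivedCategory.Plus.ι.map e₁.inv ≫ DerivedCategory.Plus.ι.map (G.map φ)
      rw [hφ, ← Functor.map_comp, ← Functor.map_comp, Iso.inv_hom_id_assoc])
  let e₃' : DerivedCategory.Plus.ι.obj A₃ ≅ DerivedCategory.Plus.ι.obj (G.obj I₃) :=
    Triangle.π₃.mapIso E
  let e₃ : A₃ ≅ G.obj I₃ := DerivedCategory.Plus.ι.preimageIso e₃'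
  refine ⟨T', hT', e₁.symm, e₂.symm, e₃, ?_, ?_⟩
  · change a ≫ e₂.inv = e₁.inv ≫ G.map φ
    rw [hφ, Iso.inv_hom_id_assoc]
  · apply DerivedCategory.Plus.ι.map_injective
    have h2 := E.hom.comm₂
    have h3 : E.hom.hom₂ = DerivedCategory.Plus.ι.map e₂.inv := rfl
    rw [Functor.map_comp, Functor.map_comp]
    change _ ≫ DerivedCategory.Plus.ι.map (DerivedCategory.Plus.ι.preimage e₃'.hom) = _
    rw [Functor.map_preimage]
    exact h2


variable
  {D : Type u'} [Category.{v'} D] [Abelian D] [HasDerivedCategory.{w'} D]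
  (F : C ⥤ D) [F.Additive]

/-- The functor `K⁺(Inj) ⥤ D(D)` computing `RF` on injective complexes. -/
noncomputable abbrev FI : HomotopyCategory.Plus (InjectiveObject C) ⥤ DerivedCategory D :=
  ιI ⋙ F.mapHomotopyCategoryPlus ⋙ DerivedCategory.Plus.Qh ⋙ DerivedCategory.Plus.ι

instance : (FI F).IsTriangulated := by
  dsimp only [FI]
  infer_instance

theorem unit_sq {X Y : HomotopyCategory.Plus C} (m : X ⟶ Y)
    [IsIso (F.rightDerivedFunctorPlusUnit.app X)] [IsIso (F.rightDerivedFunctorPlusUnit.app Y)] :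
    F.rightDerivedFunctorPlus.map (DerivedCategory.Plus.Qh.map m) ≫
      inv (F.rightDerivedFunctorPlusUnit.app Y) =
    inv (F.rightDerivedFunctorPlusUnit.app X) ≫
      DerivedCategory.Plus.Qh.map (F.mapHomotopyCategoryPlus.map m) := by
  rw [IsIso.comp_inv_eq, Category.assoc, IsIso.eq_inv_comp]
  exact (F.rightDerivedFunctorPlusUnit.naturality m).symm

theorem les_RF {A₁ A₂ A₃ : DerivedCategory.Plus C} (a : A₁ ⟶ A₂) (b : A₂ ⟶ A₃)
    (c : DerivedCategory.Plus.ι.obj A₃ ⟶ (DerivedCategory.Plus.ι.obj A₁)⟦(1 : ℤ)⟧)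
    (hT : Triangle.mk (DerivedCategory.Plus.ι.map a) (DerivedCategory.Plus.ι.map b) c ∈
      distTriang (DerivedCategory C)) (i : ℤ) :
    kernelSubobject ((DerivedCategory.homologyFunctor D i).map
        (DerivedCategory.Plus.ι.map (F.rightDerivedFunctorPlus.map b))) =
      imageSubobject ((DerivedCategory.homologyFunctor D i).map
        (DerivedCategory.Plus.ι.map (F.rightDerivedFunctorPlus.map a))) ∧
    ∃ δ : (DerivedCategory.homologyFunctor D i).obj
          (DerivedCategory.Plus.ι.obj (F.rightDerivedFunctorPlus.obj A₃)) ⟶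
        (DerivedCategory.homologyFunctor D (i + 1)).obj
          (DerivedCategory.Plus.ι.obj (F.rightDerivedFunctorPlus.obj A₁)),
      kernelSubobject δ = imageSubobject ((DerivedCategory.homologyFunctor D i).map
        (DerivedCategory.Plus.ι.map (F.rightDerivedFunctorPlus.map b))) ∧
      kernelSubobject ((DerivedCategory.homologyFunctor D (i + 1)).map
        (DerivedCategory.Plus.ι.map (F.rightDerivedFunctorPlus.map a))) = imageSubobject δ := by
  obtain ⟨T', hT', e₁, e₂, e₃, h₁, h₂⟩ := exists_resolution a b c hT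
  let RF := F.rightDerivedFunctorPlus
  let α := F.rightDerivedFunctorPlusUnit
  have i₁ : IsIso (α.app (ιI.obj T'.obj₁)) := inferInstance
  have i₂ : IsIso (α.app (ιI.obj T'.obj₂)) := inferInstance
  have i₃ : IsIso (α.app (ιI.obj T'.obj₃)) := inferInstance
  let a₁ : RF.obj A₁ ≅ DerivedCategory.Plus.Qh.obj (F.mapHomotopyCategoryPlus.obj (ιI.obj T'.obj₁)) :=
    RF.mapIso e₁ ≪≫ (asIso (α.app (ιI.obj T'.obj₁))).symm
  let a₂ : RF.obj A₂ ≅ DerivedCategory.Plus.Qh.obj (F.mapHomotopyCategoryPlus.obj (ιI.obj T'.obj₂)) :=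
    RF.mapIso e₂ ≪≫ (asIso (α.app (ιI.obj T'.obj₂))).symm
  let a₃ : RF.obj A₃ ≅ DerivedCategory.Plus.Qh.obj (F.mapHomotopyCategoryPlus.obj (ιI.obj T'.obj₃)) :=
    RF.mapIso e₃ ≪≫ (asIso (α.app (ιI.obj T'.obj₃))).symm
  have c₁ : RF.map a ≫ a₂.hom = a₁.hom ≫
      DerivedCategory.Plus.Qh.map (F.mapHomotopyCategoryPlus.map (ιI.map T'.mor₁)) := by
    change RF.map a ≫ RF.map e₂.hom ≫ inv (α.app (ιI.obj T'.obj₂)) =
      (RF.map e₁.hom ≫ inv (α.app (ιI.obj T'.obj₁))) ≫ _
    rw [← RF.map_comp_assoc, h₁, RF.map_comp, Category.assoc, Category.assoc]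
    congr 1
    exact unit_sq F (ιI.map T'.mor₁)
  have c₂ : RF.map b ≫ a₃.hom = a₂.hom ≫
      DerivedCategory.Plus.Qh.map (F.mapHomotopyCategoryPlus.map (ιI.map T'.mor₂)) := by
    change RF.map b ≫ RF.map e₃.hom ≫ inv (α.app (ιI.obj T'.obj₃)) =
      (RF.map e₂.hom ≫ inv (α.app (ιI.obj T'.obj₂))) ≫ _
    rw [← RF.map_comp_assoc, h₂, RF.map_comp, Category.assoc, Category.assoc]
    congr 1
    exact unit_sq F (ιI.map T'.mor₂)
  have hT2 : (FI F).mapTriangle.obj T' ∈ distTriang _ := (FI F).map_distinguished T' hT'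
  exact les_of_iso _ hT2 (DerivedCategory.Plus.ι.map (RF.map a)) (DerivedCategory.Plus.ι.map (RF.map b))
    (DerivedCategory.Plus.ι.mapIso a₁) (DerivedCategory.Plus.ι.mapIso a₂)
    (DerivedCategory.Plus.ι.mapIso a₃)
    (map_sq DerivedCategory.Plus.ι c₁) (map_sq DerivedCategory.Plus.ι c₂) i


end

end Groth.Agent.Helper18.RDerLES
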