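import Mathlib
import Groth.Agent.Lib.Helper18.RecBC

set_option autoImplicit false
set_option linter.style.haveILetI false
set_option linter.unusedSectionVars false
set_option maxRecDepth 8000
universe u
open CategoryTheory CategoryTheory.Limits AlgebraicGeometry TopologicalSpace Opposite TensorProduct

namespace Groth.Agent.Helper18.RecSq

open OmegaSh Groth.Agent.Helper18.DerLib Groth.Agent.Helper18.OmegaSec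
  Groth.Agent.Helper18.Rec Groth.Agent.Helper13.Pullback Groth.Agent.Helper18.RecCS

section Alg

variable (A₁ A₂ B₁ B₂ : Type u) [CommRing A₁] [CommRing A₂] [CommRing B₁] [CommRing B₂]
  [Algebra A₁ A₂] [Algebra A₁ B₁] [Algebra A₂ B₂] [Algebra B₁ B₂] [Algebra A₁ B₂]
  [IsScalarTower A₁ B₁ B₂] [IsScalarTower A₁ A₂ B₂]

/-- the comparison map for an étale square of rings -/
noncomputable def kEt : B₂ ⊗[B₁] Ω[B₁⁄A₁] →ₗ[B₂] Ω[B₂⁄A₂] :=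
  (KaehlerDifferential.map A₁ A₂ B₂ B₂) ∘ₗ (KaehlerDifferential.mapBaseChange A₁ B₁ B₂)

theorem kEt_tmul (b' : B₂) (b : B₁) :
    kEt A₁ A₂ B₁ B₂ (b' ⊗ₜ[B₁] KaehlerDifferential.D A₁ B₁ b) =
      b' • KaehlerDifferential.D A₂ B₂ (algebraMap B₁ B₂ b) := by
  unfold kEt
  rw [LinearMap.comp_apply, KaehlerDifferential.mapBaseChange_tmul, map_smul,
    KaehlerDifferential.map_D, KaehlerDifferential.map_D]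
  rfl

theorem bijective_kEt [Algebra.FormallyEtale B₁ B₂] [Algebra.FormallyUnramified A₁ A₂] :
    Function.Bijective (kEt A₁ A₂ B₁ B₂) := by
  unfold kEt
  have h1 : Function.Bijective (KaehlerDifferential.mapBaseChange A₁ B₁ B₂) :=
    (KaehlerDifferential.tensorKaehlerEquivOfFormallyEtale A₁ B₁ B₂).bijective
  have h2 : Function.Bijective (KaehlerDifferential.map A₁ A₂ B₂ B₂) := by
    refine ⟨?_, KaehlerDifferential.map_surjective A₁ A₂ B₂⟩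
    rw [injective_iff_map_eq_zero]
    intro x hx
    obtain ⟨y, rfl⟩ := (KaehlerDifferential.exact_mapBaseChange_map A₁ A₂ B₂ x).1 hx
    haveI : Subsingleton (B₂ ⊗[A₂] Ω[A₂⁄A₁]) := by
      refine ⟨fun a b => ?_⟩
      have h0 : ∀ t : B₂ ⊗[A₂] Ω[A₂⁄A₁], t = 0 := by
        intro t
        induction t using TensorProduct.induction_on with
        | zero => rfl
        | tmul b ω => rw [Subsingleton.elim ω 0, TensorProduct.tmul_zero]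
        | add a b ha hb => rw [ha, hb, add_zero]
      rw [h0 a, h0 b]
    rw [Subsingleton.elim y 0, map_zero]
  exact h2.comp h1

end Alg

section Et

variable {X₁ S₁ X₂ S₂ : Scheme.{u}} (p₁ : X₁ ⟶ S₁) (p₂ : X₂ ⟶ S₂) (f : X₂ ⟶ X₁) (g : S₂ ⟶ S₁)
    [Etale f] [Etale g] (hsq : f ≫ p₁ = p₂ ≫ g)
    (Ω₁ : X₁.Modules) (d₁ : Der p₁ Ω₁) (hd₁ : IsUniversal d₁)
    (Ω₂ : X₂.Modules) (d₂ : Der p₂ Ω₂) (hd₂ : IsUniversal d₂)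
    (c : (Scheme.Modules.pullback f).obj Ω₁ ⟶ Ω₂) (hc : IsDiffCompat f d₁ d₂ c)

include hsq hd₁ hd₂ hc in
theorem bijective_app_etale {W₁ : S₁.Opens} {W₂ : S₂.Opens} {U₁ : X₁.Opens} {U₂ : X₂.Opens}
    (hW₁ : IsAffineOpen W₁) (hW₂ : IsAffineOpen W₂) (hU₁ : IsAffineOpen U₁)
    (hU₂ : IsAffineOpen U₂) (eW : W₂ ≤ g ⁻¹ᵁ W₁) (eU₁ : U₁ ≤ p₁ ⁻¹ᵁ W₁) (eU₂ : U₂ ≤ p₂ ⁻¹ᵁ W₂)
    (ef : U₂ ≤ f ⁻¹ᵁ U₁) : Function.Bijective (c.app U₂) := by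
  letI i1 : Algebra Γ(S₁, W₁) Γ(X₁, U₁) := algUV p₁ eU₁
  letI i2 : Algebra Γ(S₂, W₂) Γ(X₂, U₂) := algUV p₂ eU₂
  letI i3 : Algebra Γ(X₁, U₁) Γ(X₂, U₂) := (f.appLE U₁ U₂ ef).hom.toAlgebra
  letI i4 : Algebra Γ(S₁, W₁) Γ(S₂, W₂) := (g.appLE W₁ W₂ eW).hom.toAlgebra
  letI i5 : Algebra Γ(S₁, W₁) Γ(X₂, U₂) :=
    ((algebraMap Γ(X₁, U₁) Γ(X₂, U₂)).comp (algebraMap Γ(S₁, W₁) Γ(X₁, U₁))).toAlgebra
  haveI : IsScalarTower Γ(S₁, W₁) Γ(X₁, U₁) Γ(X₂, U₂) :=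
    IsScalarTower.of_algebraMap_eq (fun _ => rfl)
  haveI : IsScalarTower Γ(S₁, W₁) Γ(S₂, W₂) Γ(X₂, U₂) := by
    refine IsScalarTower.of_algebraMap_eq (fun a => ?_)
    change f.appLE U₁ U₂ ef (p₁.appLE W₁ U₁ eU₁ a) = p₂.appLE W₂ U₂ eU₂ (g.appLE W₁ W₂ eW a)
    have h1 := Scheme.Hom.appLE_comp_appLE f p₁ W₁ U₁ U₂ eU₁ ef
    have h2 := Scheme.Hom.appLE_comp_appLE p₂ g W₁ W₂ U₂ eW eU₂
    have h3 : (f ≫ p₁).appLE W₁ U₂ (ef.trans ((Opens.map f.base).map (homOfLE eU₁)).le) =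
        (p₂ ≫ g).appLE W₁ U₂ (eU₂.trans ((Opens.map p₂.base).map (homOfLE eW)).le) :=
      Groth.Agent.Helper18.DerLib.appLE_congr_hom hsq _ _
    exact (congr($h1 a)).trans ((congr($h3 a)).trans (congr($h2 a)).symm)
  haveI : Algebra.FormallyEtale Γ(X₁, U₁) Γ(X₂, U₂) := by
    have : (f.appLE U₁ U₂ ef).hom.Etale := Scheme.Hom.etale_appLE f hU₁ hU₂ ef
    have : Algebra.Etale Γ(X₁, U₁) Γ(X₂, U₂) := this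
    infer_instance
  haveI : Algebra.FormallyUnramified Γ(S₁, W₁) Γ(S₂, W₂) := by
    have : (g.appLE W₁ W₂ eW).hom.Etale := Scheme.Hom.etale_appLE g hW₁ hW₂ eW
    have : Algebra.Etale Γ(S₁, W₁) Γ(S₂, W₂) := this
    infer_instance
  exact bijective_app_of_bijective f d₁ hd₁ d₂ hd₂ c hc hW₁ hW₂ hU₁ hU₂ eU₁ eU₂ ef
    (kEt Γ(S₁, W₁) Γ(S₂, W₂) Γ(X₁, U₁) Γ(X₂, U₂)).toAddMonoidHom
    (fun b' b => kEt_tmul _ _ _ _ b' b) (bijective_kEt _ _ _ _)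

include hsq hd₁ hd₂ hc in
theorem isIso_etale : IsIso c := by
  haveI := isQuasicoherent_of_isUniversal d₁ hd₁
  haveI := isQuasicoherent_of_isUniversal d₂ hd₂
  haveI : ((Scheme.Modules.pullback f).obj Ω₁).IsQuasicoherent := isQuasicoherent_pullback f Ω₁
  apply Groth.Agent.Helper18.QCBasic.isIso_of_cover c
    {U₂ | IsAffineOpen U₂ ∧ ∃ (W₁ : S₁.Opens) (W₂ : S₂.Opens) (U₁ : X₁.Opens), IsAffineOpen W₁ ∧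
      IsAffineOpen W₂ ∧ IsAffineOpen U₁ ∧ W₂ ≤ g ⁻¹ᵁ W₁ ∧ U₁ ≤ p₁ ⁻¹ᵁ W₁ ∧ U₂ ≤ p₂ ⁻¹ᵁ W₂ ∧
      U₂ ≤ f ⁻¹ᵁ U₁}
  · rintro _ ⟨hU₂, -⟩
    exact hU₂
  · intro x
    obtain ⟨W₁, hW₁, hxW₁⟩ : ∃ W : S₁.Opens, IsAffineOpen W ∧ p₁ (f x) ∈ W := by
      obtain ⟨_, ⟨W, hW, rfl⟩, hxW, -⟩ :=
        S₁.isBasis_affineOpens.exists_subset_of_mem_open (Set.mem_univ (p₁ (f x))) isOpen_univ
      exact ⟨W, hW, hxW⟩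
    have hx' : g (p₂ x) ∈ W₁ := by
      have : g (p₂ x) = p₁ (f x) := by
        have := congrArg (fun φ : X₂ ⟶ S₁ => φ x) hsq
        exact this.symm
      rw [this]; exact hxW₁
    obtain ⟨W₂, hW₂, hxW₂, eW⟩ : ∃ W : S₂.Opens, IsAffineOpen W ∧ p₂ x ∈ W ∧ W ≤ g ⁻¹ᵁ W₁ := by
      obtain ⟨_, ⟨W, hW, rfl⟩, hxW, hle⟩ :=
        S₂.isBasis_affineOpens.exists_subset_of_mem_open
          (show p₂ x ∈ ((g ⁻¹ᵁ W₁ : S₂.Opens) : Set S₂) from hx') (g ⁻¹ᵁ W₁).2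
      exact ⟨W, hW, hxW, hle⟩
    obtain ⟨U₁, hU₁, hxU₁, eU₁⟩ : ∃ U : X₁.Opens, IsAffineOpen U ∧ f x ∈ U ∧ U ≤ p₁ ⁻¹ᵁ W₁ := by
      obtain ⟨_, ⟨U, hU, rfl⟩, hxU, hle⟩ :=
        X₁.isBasis_affineOpens.exists_subset_of_mem_open
          (show f x ∈ ((p₁ ⁻¹ᵁ W₁ : X₁.Opens) : Set X₁) from hxW₁) (p₁ ⁻¹ᵁ W₁).2
      exact ⟨U, hU, hxU, hle⟩
    obtain ⟨U₂, hU₂, hxU₂, eU₂⟩ : ∃ U : X₂.Opens, IsAffineOpen U ∧ x ∈ U ∧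
        U ≤ p₂ ⁻¹ᵁ W₂ ⊓ f ⁻¹ᵁ U₁ := by
      obtain ⟨_, ⟨U, hU, rfl⟩, hxU, hle⟩ :=
        X₂.isBasis_affineOpens.exists_subset_of_mem_open
          (show x ∈ ((p₂ ⁻¹ᵁ W₂ ⊓ f ⁻¹ᵁ U₁ : X₂.Opens) : Set X₂) from ⟨hxW₂, hxU₁⟩)
          (p₂ ⁻¹ᵁ W₂ ⊓ f ⁻¹ᵁ U₁).2
      exact ⟨U, hU, hxU, hle⟩
    exact ⟨U₂, ⟨hU₂, W₁, W₂, U₁, hW₁, hW₂, hU₁, eW, eU₁, fun y hy => (eU₂ hy).1,
      fun y hy => (eU₂ hy).2⟩, hxU₂⟩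
  · rintro U₂ ⟨hU₂, W₁, W₂, U₁, hW₁, hW₂, hU₁, eW, eU₁, eU₂, ef⟩
    exact bijective_app_etale p₁ p₂ f g hsq Ω₁ d₁ hd₁ Ω₂ d₂ hd₂ c hc hW₁ hW₂ hU₁ hU₂ eW eU₁ eU₂ ef

end Et

end Groth.Agent.Helper18.RecSq
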