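import Mathlib
import Groth.Prelude
import Groth.Agent.Lib.Helper18.TorsorMap0
import Groth.Agent.Lib.Helper18.FpqcTorsor

set_option autoImplicit false
universe u
open CategoryTheory MonoidalCategory CartesianMonoidalCategory MonObj GrpObj AlgebraicGeometry Limits
open Groth.Agent.Helper28.AlgGrpShear

namespace Groth.Agent.Helper18.TorsorTriv

open Groth.Agent.Helper18.TorsorMap AlgGrp.Action

theorem isIso_of_points {C : Type*} [Category C] {A B : C} (h : A ⟶ B)
    (hinj : ∀ (T : C) (x y : T ⟶ A), x ≫ h = y ≫ h → x = y)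
    (hsurj : ∀ (T : C) (b : T ⟶ B), ∃ x : T ⟶ A, x ≫ h = b) : IsIso h := by
  rw [isIso_iff_yoneda_map_bijective]
  intro T
  exact ⟨fun x y hxy => hinj T x y hxy, fun b => hsurj T b⟩

variable {S : Scheme.{u}}

theorem isIso_triv {G X T : Over S} [GrpObj G] (a : AlgGrp.Action G X)
    (hps : IsIso (lift a.act (snd G X))) (s : T ⟶ X) :
    IsIso (lift ((G ◁ s) ≫ a.act) (snd G T)) := by
  have hψ : ∀ {T' : Over S} (g : T' ⟶ G) (t : T' ⟶ T),
      lift g t ≫ lift ((G ◁ s) ≫ a.act) (snd G T) = lift (lift g (t ≫ s) ≫ a.act) t := by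
    intro T' g t
    rw [comp_lift, lift_snd, lift_whiskerLeft_assoc]
  apply isIso_of_points
  · intro T' x y hxy
    have ex : x = lift (x ≫ fst G T) (x ≫ snd G T) := by
      apply CartesianMonoidalCategory.hom_ext <;> simp
    have ey : y = lift (y ≫ fst G T) (y ≫ snd G T) := by
      apply CartesianMonoidalCategory.hom_ext <;> simp
    generalize x ≫ fst G T = g₁ at ex
    generalize x ≫ snd G T = t₁ at ex
    generalize y ≫ fst G T = g₂ at ey
    generalize y ≫ snd G T = t₂ at ey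
    subst ex ey
    rw [hψ, hψ] at hxy
    have h2 : t₁ = t₂ := by
      have := congrArg (· ≫ snd X T) hxy
      simpa using this
    subst h2
    have h1 : lift g₁ (t₁ ≫ s) ≫ a.act = lift g₂ (t₁ ≫ s) ≫ a.act := by
      have := congrArg (· ≫ fst X T) hxy
      simpa using this
    rw [act_cancel a hps _ _ _ h1]
  · intro T' b
    obtain ⟨g, hg⟩ := exists_act_eq a hps (b ≫ snd X T ≫ s) (b ≫ fst X T)
    refine ⟨lift g (b ≫ snd X T), ?_⟩
    rw [hψ, Category.assoc, hg]
    apply CartesianMonoidalCategory.hom_ext <;> simp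

theorem isIso_whiskerLeft_shear {G X T : Over S} [GrpObj G] (a : AlgGrp.Action G X) (s : T ⟶ X)
    (hψ : IsIso (lift ((G ◁ s) ≫ a.act) (snd G T))) :
    IsIso (T ◁ lift a.act (snd G X)) := by
  haveI := hψ
  have hψpt : ∀ {T' : Over S} (g : T' ⟶ G) (t : T' ⟶ T),
      lift g t ≫ lift ((G ◁ s) ≫ a.act) (snd G T) = lift (lift g (t ≫ s) ≫ a.act) t := by
    intro T' g t
    rw [comp_lift, lift_snd, lift_whiskerLeft_assoc]
  have hE : ∀ {T' : Over S} (t : T' ⟶ T) (x : T' ⟶ X),
      ∃ g : T' ⟶ G, lift g (t ≫ s) ≫ a.act = x := by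
    intro T' t x
    let w : T' ⟶ G ⊗ T := lift x t ≫ inv (lift ((G ◁ s) ≫ a.act) (snd G T))
    have hw : w ≫ lift ((G ◁ s) ≫ a.act) (snd G T) = lift x t := by
      show (lift x t ≫ inv _) ≫ _ = _
      rw [Category.assoc, IsIso.inv_hom_id, Category.comp_id]
    have ew : w = lift (w ≫ fst G T) (w ≫ snd G T) := by
      apply CartesianMonoidalCategory.hom_ext <;> simp
    rw [ew, hψpt] at hw
    have h2 : w ≫ snd G T = t := by
      have := congrArg (· ≫ snd X T) hw
      simpa using this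
    have h1 := congrArg (· ≫ fst X T) hw
    simp only [lift_fst] at h1
    rw [h2] at h1
    exact ⟨_, h1⟩
  have hU : ∀ {T' : Over S} (t : T' ⟶ T) (g g' : T' ⟶ G),
      lift g (t ≫ s) ≫ a.act = lift g' (t ≫ s) ≫ a.act → g = g' := by
    intro T' t g g' hgg
    have e : lift g t ≫ lift ((G ◁ s) ≫ a.act) (snd G T)
        = lift g' t ≫ lift ((G ◁ s) ≫ a.act) (snd G T) := by
      rw [hψpt, hψpt, hgg]
    have e2 : lift g t = lift g' t := (cancel_mono _).1 e
    have := congrArg (· ≫ fst G T) e2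
    simpa using this
  have hE' : ∀ {T' : Over S} (t : T' ⟶ T) (x y : T' ⟶ X),
      ∃ g : T' ⟶ G, lift g x ≫ a.act = y := by
    intro T' t x y
    obtain ⟨γx, hx⟩ := hE t x
    obtain ⟨γy, hy⟩ := hE t y
    refine ⟨γy * γx⁻¹, ?_⟩
    rw [← hx, ← lift_mul_act, inv_mul_cancel_right, hy]
  have hU' : ∀ {T' : Over S} (t : T' ⟶ T) (x : T' ⟶ X) (g g' : T' ⟶ G),
      lift g x ≫ a.act = lift g' x ≫ a.act → g = g' := by
    intro T' t x g g' hgg
    obtain ⟨γx, hx⟩ := hE t x
    rw [← hx, ← lift_mul_act, ← lift_mul_act] at hgg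
    exact mul_right_cancel (hU t _ _ hgg)
  have hφpt : ∀ {T' : Over S} (t : T' ⟶ T) (g : T' ⟶ G) (x : T' ⟶ X),
      lift t (lift g x) ≫ (T ◁ lift a.act (snd G X)) = lift t (lift (lift g x ≫ a.act) x) := by
    intro T' t g x
    rw [lift_whiskerLeft, comp_lift, lift_snd]
  have hdec : ∀ {T' : Over S} (w : T' ⟶ T ⊗ (G ⊗ X)),
      w = lift (w ≫ fst _ _) (lift (w ≫ snd _ _ ≫ fst G X) (w ≫ snd _ _ ≫ snd G X)) := by
    intro T' w
    apply CartesianMonoidalCategory.hom_ext
    · simp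
    · apply CartesianMonoidalCategory.hom_ext <;> simp
  apply isIso_of_points
  · intro T' w w' hww
    rw [hdec w, hdec w', hφpt, hφpt] at hww
    rw [hdec w, hdec w']
    generalize w ≫ fst _ _ = t at hww ⊢
    generalize w ≫ snd _ _ ≫ fst G X = g at hww ⊢
    generalize w ≫ snd _ _ ≫ snd G X = x at hww ⊢
    generalize w' ≫ fst _ _ = t' at hww ⊢
    generalize w' ≫ snd _ _ ≫ fst G X = g' at hww ⊢
    generalize w' ≫ snd _ _ ≫ snd G X = x' at hww ⊢
    have h1 : t = t' := by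
      have := congrArg (· ≫ fst _ _) hww
      simpa using this
    have h2 : x = x' := by
      have := congrArg (· ≫ snd _ _ ≫ snd X X) hww
      simpa using this
    have h3 : lift g x ≫ a.act = lift g' x' ≫ a.act := by
      have := congrArg (· ≫ snd _ _ ≫ fst X X) hww
      simpa using this
    subst h1 h2
    rw [hU' t x g g' h3]
  · intro T' b
    obtain ⟨g, hg⟩ := hE' (b ≫ fst _ _) (b ≫ snd _ _ ≫ snd X X) (b ≫ snd _ _ ≫ fst X X)
    refine ⟨lift (b ≫ fst _ _) (lift g (b ≫ snd _ _ ≫ snd X X)), ?_⟩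
    rw [hφpt, hg]
    apply CartesianMonoidalCategory.hom_ext
    · simp
    · apply CartesianMonoidalCategory.hom_ext <;> simp

end Groth.Agent.Helper18.TorsorTriv

namespace Groth.Agent.Helper18.TorsorTriv

open Groth.Agent.Helper18.TorsorMap AlgGrp.Action Groth.Agent.Helper18.FpqcDesc MorphismProperty

variable {S : Scheme.{u}}

set_option backward.isDefEq.respectTransparency.types false in
theorem isIso_shear_of_local {G X : Over S} [GrpObj G] (a : AlgGrp.Action G X)
    (R : Presieve S) (hR : R ∈ Scheme.fpqcPrecoverage S)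
    (h : ∀ ⦃S' : Scheme.{u}⦄ (f : S' ⟶ S), R f →
        ∃ s : Over.mk f ⟶ X, IsIso (lift ((G ◁ s) ≫ a.act) (snd G (Over.mk f)))) :
    IsIso (lift a.act (snd G X)) := by
  set φ := lift a.act (snd G X) with hφ
  haveI := isLocalAtTarget_fpqc (isomorphisms Scheme.{u})
  have hφl : isomorphisms Scheme.{u} φ.left := by
    have hR' : R.pullbackArrows (X ⊗ X).hom ∈ Scheme.fpqcPrecoverage (X ⊗ X).left :=
      Precoverage.pullbackArrows_mem _ hR
    refine IsLocalAtTarget.of_forall_pullbackSnd (P := isomorphisms Scheme.{u})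
      (K := Scheme.fpqcPrecoverage) hR' ?_
    rintro U g _ ⟨Z, f, hf⟩
    obtain ⟨s, hs⟩ := h f hf
    have hiso := isIso_whiskerLeft_shear a s hs
    have sq := (isPullback_snd (Over.mk f) φ).map (CategoryTheory.Over.forget _)
    have sq' : IsPullback (snd (Over.mk f) (G ⊗ X)).left ((Over.mk f) ◁ φ).left φ.left
        (pullback.snd f (X ⊗ X).hom) := sq
    have e : pullback.snd φ.left (pullback.snd f (X ⊗ X).hom)
        = sq'.isoPullback.inv ≫ ((Over.mk f) ◁ φ).left := by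
      rw [Iso.eq_inv_comp, sq'.isoPullback_hom_snd]
    rw [e]
    haveI : IsIso ((Over.mk f) ◁ φ).left :=
      inferInstanceAs (IsIso ((CategoryTheory.Over.forget _).map ((Over.mk f) ◁ φ)))
    exact (inferInstance : IsIso (sq'.isoPullback.inv ≫ ((Over.mk f) ◁ φ).left))
  haveI : IsIso ((CategoryTheory.Over.forget S).map φ) := hφl
  exact isIso_of_reflects_iso φ (CategoryTheory.Over.forget S)

theorem main14445 {S : Scheme.{u}} {G X : Over S} [GrpObj G]
    (a : AlgGrp.Action G X) :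
    NonAbH1.IsTorsorFor Scheme.fpqcPrecoverage a ↔
      ∃ R ∈ Scheme.fpqcPrecoverage S, ∀ ⦃S' : Scheme.{u}⦄ (f : S' ⟶ S), R f →
        ∃ s : Over.mk f ⟶ X, IsIso (lift ((G ◁ s) ≫ a.act) (snd G (Over.mk f))) := by
  constructor
  · rintro ⟨hps, R, hR, hsec⟩
    refine ⟨R, hR, fun S' f hf => ?_⟩
    obtain ⟨s₀, hs₀⟩ := hsec f hf
    exact ⟨Over.homMk s₀ hs₀, isIso_triv a hps _⟩
  · rintro ⟨R, hR, h⟩
    refine ⟨isIso_shear_of_local a R hR h, R, hR, fun S' f hf => ?_⟩
    obtain ⟨s, -⟩ := h f hf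
    exact ⟨s.left, Over.w s⟩

end Groth.Agent.Helper18.TorsorTriv
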