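import Mathlib
import Groth.Prelude
import Groth.Agent.Lib.Helper18.TorsorTriv

set_option autoImplicit false
universe u
open CategoryTheory MonoidalCategory CartesianMonoidalCategory MonObj GrpObj AlgebraicGeometry Limits

namespace Groth.Agent.Helper18.RedStruct

open Groth.Agent.Helper18.TorsorTriv AlgGrp.Action

variable {S : Scheme.{u}}

section
variable {G F Q : Over S} [GrpObj G] (b : AlgGrp.Action G F) (π : F ⟶ Q)
  (hw : b.act ≫ π = snd G F ≫ π) (σ : 𝟙_ (Over S) ⟶ Q)

/-- the induced action on the fibre of `π` over a section -/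
noncomputable def fibAct : AlgGrp.Action G (pullback π σ) where
  act := pullback.lift ((G ◁ pullback.fst π σ) ≫ b.act) (toUnit _) (by
    rw [Category.assoc, hw, ← Category.assoc, whiskerLeft_snd, Category.assoc, pullback.condition,
      ← Category.assoc]
    congr 1
    exact toUnit_unique _ _)
  one_act := by
    apply pullback.hom_ext
    · rw [Category.assoc, pullback.lift_fst, ← Category.assoc, ← whisker_exchange, Category.assoc,
        b.one_act]
      simp
    · exact toUnit_unique _ _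
  mul_act := by
    apply pullback.hom_ext
    · rw [Category.assoc, pullback.lift_fst, ← Category.assoc, ← whisker_exchange, Category.assoc,
        b.mul_act]
      simp only [Category.assoc, pullback.lift_fst]
      rw [← MonoidalCategory.whiskerLeft_comp_assoc, pullback.lift_fst,
        MonoidalCategory.whiskerLeft_comp_assoc]
      simp
    · exact toUnit_unique _ _

theorem fibAct_act_fst :
    (fibAct b π hw σ).act ≫ pullback.fst π σ = (G ◁ pullback.fst π σ) ≫ b.act :=
  pullback.lift_fst _ _ _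

end


section
variable {G F Q : Over S} [GrpObj G] (b : AlgGrp.Action G F) (π : F ⟶ Q)
  (hsq : IsPullback b.act (snd G F) π π) (σ : 𝟙_ (Over S) ⟶ Q)

theorem lift_fibAct {T : Over S} (g : T ⟶ G) (e : T ⟶ pullback π σ) :
    (lift g e ≫ (fibAct b π hsq.w σ).act) ≫ pullback.fst π σ
      = lift g (e ≫ pullback.fst π σ) ≫ b.act := by
  rw [Category.assoc, fibAct_act_fst, lift_whiskerLeft_assoc]

theorem isPseudo_fibAct : IsIso (lift (fibAct b π hsq.w σ).act (snd G (pullback π σ))) := by
  have hpt : ∀ {T : Over S} (g : T ⟶ G) (e : T ⟶ pullback π σ),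
      lift g e ≫ lift (fibAct b π hsq.w σ).act (snd G (pullback π σ))
        = lift (lift g e ≫ (fibAct b π hsq.w σ).act) e := by
    intro T g e
    rw [comp_lift, lift_snd]
  have hπ : ∀ {T : Over S} (e : T ⟶ pullback π σ),
      (e ≫ pullback.fst π σ) ≫ π = toUnit T ≫ σ := by
    intro T e
    rw [Category.assoc, pullback.condition, ← Category.assoc]
    congr 1
    exact toUnit_unique _ _
  apply isIso_of_points
  · intro T x y hxy
    have ex : x = lift (x ≫ fst _ _) (x ≫ snd _ _) := by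
      apply CartesianMonoidalCategory.hom_ext <;> simp
    have ey : y = lift (y ≫ fst _ _) (y ≫ snd _ _) := by
      apply CartesianMonoidalCategory.hom_ext <;> simp
    generalize x ≫ fst _ _ = g₁ at ex
    generalize x ≫ snd _ _ = e₁ at ex
    generalize y ≫ fst _ _ = g₂ at ey
    generalize y ≫ snd _ _ = e₂ at ey
    subst ex ey
    rw [hpt, hpt] at hxy
    have h2 : e₁ = e₂ := by
      have := congrArg (· ≫ snd _ _) hxy
      simpa using this
    subst h2
    have h1 : lift g₁ e₁ ≫ (fibAct b π hsq.w σ).act = lift g₂ e₁ ≫ (fibAct b π hsq.w σ).act := by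
      have := congrArg (· ≫ fst _ _) hxy
      simpa using this
    have h3 : lift g₁ (e₁ ≫ pullback.fst π σ) ≫ b.act = lift g₂ (e₁ ≫ pullback.fst π σ) ≫ b.act := by
      rw [← lift_fibAct b π hsq σ, ← lift_fibAct b π hsq σ, h1]
    have h4 : lift g₁ (e₁ ≫ pullback.fst π σ) = lift g₂ (e₁ ≫ pullback.fst π σ) := by
      apply hsq.hom_ext
      · exact h3
      · rw [lift_snd, lift_snd]
    have h5 : g₁ = g₂ := by
      have := congrArg (· ≫ fst G F) h4
      simpa using this
    rw [h5]
  · intro T y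
    let e₂ := y ≫ fst _ _
    let e₁ := y ≫ snd _ _
    let w := hsq.lift (e₂ ≫ pullback.fst π σ) (e₁ ≫ pullback.fst π σ)
      (by rw [hπ, hπ])
    have hw1 : w ≫ b.act = e₂ ≫ pullback.fst π σ := hsq.lift_fst _ _ _
    have hw2 : w ≫ snd G F = e₁ ≫ pullback.fst π σ := hsq.lift_snd _ _ _
    have ew : w = lift (w ≫ fst G F) (e₁ ≫ pullback.fst π σ) := by
      apply CartesianMonoidalCategory.hom_ext
      · simp
      · simp [hw2]
    refine ⟨lift (w ≫ fst G F) e₁, ?_⟩
    rw [hpt]
    apply CartesianMonoidalCategory.hom_ext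
    · rw [lift_fst]
      apply pullback.hom_ext
      · rw [lift_fibAct b π hsq σ, ← ew, hw1]
      · exact toUnit_unique _ _
    · rw [lift_snd]

end

theorem isLocallyTrivial_fib {F Q : Over S} (π : F ⟶ Q) (σ : 𝟙_ (Over S) ⟶ Q)
    (K : Precoverage Scheme.{u}) [K.IsStableUnderBaseChange]
    (hloc : NonAbH1.IsLocallyTrivialFor K (Over.mk π.left : Over Q.left)) :
    NonAbH1.IsLocallyTrivialFor K (pullback π σ) := by
  obtain ⟨R, hR, hsec⟩ := hloc
  refine ⟨R.pullbackArrows σ.left, Precoverage.pullbackArrows_mem σ.left hR, ?_⟩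
  rintro T g ⟨Z, u, hu⟩
  obtain ⟨s, hs⟩ := hsec u hu
  have hs' : s ≫ π.left = u := hs
  have h1 : (𝟙_ (Over S)).hom = 𝟙 S := rfl
  have hσ : σ.left ≫ Q.hom = 𝟙 S := Over.w σ
  let T' : Over S := Over.mk (pullback.snd u σ.left)
  let a : T' ⟶ F := Over.homMk (pullback.fst u σ.left ≫ s) (by
    show (pullback.fst u σ.left ≫ s) ≫ F.hom = pullback.snd u σ.left
    rw [← Over.w π, ← Category.assoc, Category.assoc _ s, hs', pullback.condition, Category.assoc,
      hσ]
    exact Category.comp_id _)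
  have hcond : a ≫ π = toUnit T' ≫ σ := by
    ext
    show (pullback.fst u σ.left ≫ s) ≫ π.left = (toUnit T').left ≫ σ.left
    rw [Category.assoc, hs', pullback.condition]
    congr 1
  let l : T' ⟶ pullback π σ := pullback.lift a (toUnit T') hcond
  exact ⟨l.left, Over.w l⟩


theorem main16226
    {G H F Q : Over S} [GrpObj G] [GrpObj H]
    (i : G ⟶ H) [IsMonHom i]
    (aF : AlgGrp.Action H F)
    (π : F ⟶ Q)
    (hsq : IsPullback (aF.restrict i).act (snd G F) π π)
    (hloc : NonAbH1.IsLocallyTrivialFor Scheme.etalePrecoverage (Over.mk π.left : Over Q.left))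
    (σ : 𝟙_ (Over S) ⟶ Q) :
    ∃ (E : Over S) (aE : AlgGrp.Action G E) (φ : E ⟶ F),
      NonAbH1.IsTorsorFor Scheme.etalePrecoverage aE ∧
      AlgGrp.Action.IsEquivariant aE (aF.restrict i) φ ∧
      IsPullback φ (toUnit E) π σ := by
  refine ⟨pullback π σ, fibAct (aF.restrict i) π hsq.w σ, pullback.fst π σ, ⟨?_, ?_⟩, ?_, ?_⟩
  · exact isPseudo_fibAct (aF.restrict i) π hsq σ
  · exact isLocallyTrivial_fib π σ _ hloc
  · exact fibAct_act_fst (aF.restrict i) π hsq.w σ
  · have := IsPullback.of_hasPullback π σ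
    rwa [toUnit_unique (pullback.snd π σ) (toUnit _)] at this


theorem isLocallyTrivialFor_fpqc_of_etale {X : Over S}
    (h : NonAbH1.IsLocallyTrivialFor Scheme.etalePrecoverage X) :
    NonAbH1.IsLocallyTrivialFor Scheme.fpqcPrecoverage X := by
  obtain ⟨R, hR, hsec⟩ := h
  exact ⟨R, Scheme.proetalePrecoverage_le_fpqcPrecoverage _
    (Scheme.etalePrecoverage_le_proetalePrecoverage _ hR), hsec⟩

open Groth.Agent.Helper18.TorsorMap Groth.Agent.Helper18.FpqcCov in
theorem main16227
    {G H F Q : Over S} [GrpObj G] [GrpObj H]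
    (i : G ⟶ H) [IsMonHom i]
    (aF : AlgGrp.Action H F)
    (π : F ⟶ Q)
    (hsq : IsPullback (aF.restrict i).act (snd G F) π π)
    (hloc : NonAbH1.IsLocallyTrivialFor Scheme.etalePrecoverage (Over.mk π.left : Over Q.left))
    {E : Over S} (aE : AlgGrp.Action G E) (hE : NonAbH1.IsTorsorFor Scheme.etalePrecoverage aE)
    (φ : E ⟶ F) (hφ : AlgGrp.Action.IsEquivariant aE (aF.restrict i) φ) :
    (∃! σ : 𝟙_ (Over S) ⟶ Q, toUnit E ≫ σ = φ ≫ π) ∧
      ∀ σ : 𝟙_ (Over S) ⟶ Q, toUnit E ≫ σ = φ ≫ π → IsPullback φ (toUnit E) π σ := by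
  have hEfpqc : NonAbH1.IsTorsorFor Scheme.fpqcPrecoverage aE :=
    ⟨hE.1, isLocallyTrivialFor_fpqc_of_etale hE.2⟩
  have hcov : IsFpqcCov (toUnit E).left := by
    have h1 := isFpqcCov_hom hEfpqc.2
    have h2 : (toUnit E).left = E.hom := by
      have := Over.w (toUnit E)
      have h3 : (𝟙_ (Over S)).hom = 𝟙 S := rfl
      rw [h3] at this
      exact (Category.comp_id _).symm.trans this
    rw [h2]
    exact h1
  haveI := hcov.effectiveEpi
  haveI : Epi (toUnit E) := hcov.epi
  have hφpt : ∀ {T : Over S} (g : T ⟶ G) (e : T ⟶ E),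
      (lift g e ≫ aE.act) ≫ φ = lift g (e ≫ φ) ≫ (aF.restrict i).act := by
    intro T g e
    rw [Category.assoc, hφ, lift_whiskerLeft_assoc]
  constructor
  · obtain ⟨σ, hσ⟩ := Groth.Agent.Helper18.FlatEpi.exists_desc (toUnit E) (φ ≫ π) (by
      intro T e₁ e₂ _
      obtain ⟨g, hg⟩ := exists_act_eq aE hE.1 e₁ e₂
      rw [← hg, ← Category.assoc, ← Category.assoc, hφpt, Category.assoc (lift g (e₁ ≫ φ)), hsq.w,
        ← Category.assoc, lift_snd, Category.assoc])
    refine ⟨σ, hσ, ?_⟩
    intro σ' hσ'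
    rw [← cancel_epi (toUnit E), hσ, hσ']
  · intro σ hσ
    let ψ : E ⟶ pullback π σ := pullback.lift φ (toUnit E) hσ.symm
    have hψ1 : ψ ≫ pullback.fst π σ = φ := pullback.lift_fst _ _ _
    have hequiv : AlgGrp.Action.IsEquivariant aE (fibAct (aF.restrict i) π hsq.w σ) ψ := by
      show aE.act ≫ ψ = (G ◁ ψ) ≫ (fibAct (aF.restrict i) π hsq.w σ).act
      apply pullback.hom_ext
      · rw [Category.assoc, hψ1, Category.assoc, fibAct_act_fst, ← Category.assoc,
          ← MonoidalCategory.whiskerLeft_comp, hψ1]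
        exact hφ
      · exact toUnit_unique _ _
    have hP : NonAbH1.IsTorsorFor Scheme.fpqcPrecoverage (fibAct (aF.restrict i) π hsq.w σ) :=
      ⟨isPseudo_fibAct (aF.restrict i) π hsq σ,
        isLocallyTrivialFor_fpqc_of_etale (isLocallyTrivial_fib π σ _ hloc)⟩
    haveI : IsIso ψ := main18858 aE _ hEfpqc hP ψ hequiv
    refine IsPullback.of_iso_pullback ⟨hσ.symm⟩ (asIso ψ) hψ1 ?_
    exact toUnit_unique _ _

end Groth.Agent.Helper18.RedStruct
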