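import Mathlib.CategoryTheory.Adjunction.Limits
import Mathlib.CategoryTheory.Limits.Preserves.Basic

/-! If `L ⊣ i` with invertible counit and `L ⋙ G` preserves colimits of shape `K`, then so does `G`. -/

namespace Groth.Agent.Helper18

open CategoryTheory CategoryTheory.Limits

universe v₁ v₂ v₃ u₁ u₂ u₃ w w'

theorem preservesColimitsOfShape_of_reflective {A : Type u₁} [Category.{v₁} A] {B : Type u₂} [Category.{v₂} B]
    {D : Type u₃} [Category.{v₃} D] {L : A ⥤ B} {i : B ⥤ A} (adj : L ⊣ i) [IsIso adj.counit] (G : B ⥤ D)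
    {K : Type w} [Category.{w'} K] [HasColimitsOfShape K A] [PreservesColimitsOfShape K (L ⋙ G)] :
    PreservesColimitsOfShape K G := by
  constructor
  intro F
  let e : (F ⋙ i) ⋙ L ≅ F :=
    Functor.associator _ _ _ ≪≫ Functor.isoWhiskerLeft F (asIso adj.counit) ≪≫ F.rightUnitor
  have : L.IsLeftAdjoint := adj.isLeftAdjoint
  have h1 : PreservesColimit ((F ⋙ i) ⋙ L) G := by
    apply preservesColimit_of_preserves_colimit_cocone
      (isColimitOfPreserves L (colimit.isColimit (F ⋙ i)))
    exact isColimitOfPreserves (L ⋙ G) (colimit.isColimit (F ⋙ i))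
  exact preservesColimit_of_iso_diagram G e

end Groth.Agent.Helper18
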