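import Mathlib
import Groth.Agent.Lib.Helper18.RelBase5

/-!
# Fixed points of `a : Y ⊗ X ⟶ X` when all opens are stable, general base (helper18)
-/

set_option autoImplicit false
set_option linter.unusedSectionVars false
set_option linter.style.haveILetI false
universe u

open CategoryTheory AlgebraicGeometry TopologicalSpace Opposite TensorProduct
open MonoidalCategory CartesianMonoidalCategory CategoryTheory.Limits

noncomputable section

namespace Groth.Agent.Helper18.RelBase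

open Groth.Agent.Helper18.WeilRes

variable {S : Scheme.{u}} {X Y : Over S}

/-- the predicate "`f` equalizes `a` and the projection" -/
def fixPred (a : Y ⊗ X ⟶ X) : LPred X Y where
  P f := f ≫ a = f ≫ snd Y X
  comp t f h := by
    rw [Category.assoc, h, Category.assoc]
  loc {W'} f I Wi ι _ hcov h := by
    let 𝒱 : Scheme.OpenCover.{u} W'.left :=
      Scheme.Cover.mkOfCovers I (fun i => (Wi i).left) (fun i => (ι i).left) hcov
    ext1
    refine 𝒱.hom_ext _ _ ?_
    intro i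
    have := congrArg (fun g => g.left) (h i)
    simp only [Over.comp_left] at this
    exact this

theorem q_fixPred (a : Y ⊗ X ⟶ X) {T : Over S} (x : T ⟶ X) :
    Q (fixPred a) x ↔ (Y ◁ x) ≫ a = snd Y T ≫ x := by
  change (Y ◁ x) ≫ a = (Y ◁ x) ≫ snd Y X ↔ _
  rw [whiskerLeft_snd]

section Stable

variable {R : Type u} [CommRing R] (ι : Spec (CommRingCat.of R) ⟶ S) [Mono ι]
  {B A : Type u} [CommRing B] [Algebra R B] [CommRing A] [Algebra R A]

theorem hI_stable (aB : TS ι B ⊗ X ⟶ X) (u : TS ι A ⟶ X) [IsOpenImmersion u.left]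
    (hst : Set.range ((TS ι B ◁ u) ≫ aB).left.base ⊆ Set.range u.left.base) :
    ∃ I : Set (B ⊗[R] A), ∀ (R' : Type u) [CommRing R'] [Algebra R R'] (θ : B ⊗[R] A →ₐ[R] R'),
      sp ι θ ≫ (prodIso ι B A).hom ≫ (TS ι B ◁ u) ≫ aB =
        sp ι θ ≫ (prodIso ι B A).hom ≫ snd _ _ ≫ u ↔ ∀ f ∈ I, θ f = 0 := by
  let l : (TS ι B ⊗ TS ι A).left ⟶ (TS ι A).left :=
    IsOpenImmersion.lift u.left ((TS ι B ◁ u) ≫ aB).left hst
  have hl : l ≫ u.left = ((TS ι B ◁ u) ≫ aB).left := IsOpenImmersion.lift_fac _ _ _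
  let aU : TS ι B ⊗ TS ι A ⟶ TS ι A := Over.homMk l (by
    rw [← Over.w u, ← Category.assoc, hl, Over.w])
  have haU : aU ≫ u = (TS ι B ◁ u) ≫ aB := by
    ext1
    exact hl
  haveI : Mono u := by
    haveI : Mono u.left := inferInstance
    exact Over.mono_of_mono_left u
  obtain ⟨c₁, hc₁⟩ := sp_surjective ι ((prodIso ι B A).hom ≫ aU)
  refine ⟨Set.range (fun s => c₁ s - Algebra.TensorProduct.includeRight s), ?_⟩
  intro R' _ _ θ
  rw [← haU, ← Category.assoc (prodIso ι B A).hom, ← hc₁, ← Category.assoc (prodIso ι B A).hom,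
    prodIso_hom_snd, ← Category.assoc, ← Category.assoc, sp_comp, sp_comp, cancel_mono]
  constructor
  · intro h
    rintro _ ⟨s, rfl⟩
    have := DFunLike.congr_fun (sp_injective ι h) s
    simp only [AlgHom.comp_apply] at this
    rw [map_sub, this, sub_self]
  · intro h
    congr 1
    ext s
    have := h _ ⟨s, rfl⟩
    rw [map_sub, sub_eq_zero] at this
    exact this

end Stable

/-- if `a` and the projection agree on points, the fixed locus of `a` is closed (for `Y` locally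
free) -/
theorem hypI_fixPred_of_pointwise (a : Y ⊗ X ⟶ X)
    (hpt : ∀ p : (Y ⊗ X).left, a.left.base p = (snd Y X).left.base p) : HypI (fixPred a) := by
  intro R _ ι _ B _ _ ιB A _ _ u _
  have hst : Set.range ((TS ι B ◁ u) ≫ (ιB ▷ X) ≫ a).left.base ⊆ Set.range u.left.base := by
    rintro _ ⟨p, rfl⟩
    let p' : (Y ⊗ X).left := ((TS ι B ◁ u) ≫ (ιB ▷ X)).left.base p
    have e2 : ((TS ι B ◁ u) ≫ (ιB ▷ X) ≫ a).left.base p = a.left.base p' := by
      simp [p']
    rw [e2, hpt]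
    refine ⟨(snd (TS ι B) (TS ι A)).left.base p, ?_⟩
    have e : (snd (TS ι B) (TS ι A)) ≫ u = ((TS ι B ◁ u) ≫ (ιB ▷ X)) ≫ snd Y X := by
      rw [Category.assoc, whiskerRight_snd, whiskerLeft_snd]
    have e' := congrArg (fun f => f.left.base p) e
    exact e'
  obtain ⟨I, hI⟩ := hI_stable ι ((ιB ▷ X) ≫ a) u hst
  refine ⟨I, ?_⟩
  intro R' _ _ θ
  rw [← hI R' θ]
  change (sp ι θ ≫ (prodIso ι B A).hom ≫ (TS ι B ◁ u) ≫ (ιB ▷ X)) ≫ a =
    (sp ι θ ≫ (prodIso ι B A).hom ≫ (TS ι B ◁ u) ≫ (ιB ▷ X)) ≫ snd Y X ↔ _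
  simp only [Category.assoc, whiskerRight_snd, whiskerLeft_snd]

theorem fixed_closed_of_pointwise (hY : LocFree Y) (a : Y ⊗ X ⟶ X)
    (hpt : ∀ p : (Y ⊗ X).left, a.left.base p = (snd Y X).left.base p) :
    ∃ (Z : Over S) (j : Z ⟶ X), IsClosedImmersion j.left ∧
      ∀ (T : Over S) (x : T ⟶ X), (∃ z : T ⟶ Z, z ≫ j = x) ↔
        ∀ (T' : Over S) (t : T' ⟶ T) (g : T' ⟶ Y), lift g (t ≫ x) ≫ a = t ≫ x := by
  obtain ⟨Z, j, hj, h⟩ := closed_of_HypI (fixPred a) hY (hypI_fixPred_of_pointwise a hpt)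
  refine ⟨Z, j, hj, ?_⟩
  intro T x
  rw [h, q_fixPred]
  constructor
  · intro hx T' t g
    have := congrArg (fun q => lift g t ≫ q) hx
    simp only [lift_snd_assoc] at this
    have e : lift g (t ≫ x) = lift g t ≫ (Y ◁ x) := by
      apply CartesianMonoidalCategory.hom_ext <;> simp
    rw [e, Category.assoc]
    exact this
  · intro hx
    have := hx (Y ⊗ T) (snd Y T) (fst Y T)
    rw [← this]
    congr 1

end Groth.Agent.Helper18.RelBase
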