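import Mathlib
import Groth.Prelude.Def_RelProj
import Groth.Agent.Lib.Helper18.AwayBC
import Groth.Agent.Lib.Helper12.RelProjGlue

set_option autoImplicit false
set_option linter.style.haveILetI false
universe u
open CategoryTheory CategoryTheory.Limits AlgebraicGeometry TopologicalSpace Opposite
open scoped HomogeneousIdeal
open HomogeneousLocalization

/-!
# Existence of the relative homogeneous spectrum
-/

noncomputable section

namespace Groth.Agent.Helper18.RelProjEx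

section Ring

open Groth.Agent.Helper18.AwayBC

/-- the structure map into degree zero, as a morphism of `CommRingCat`. -/
def zeroHom {R S : CommRingCat.{u}} (σ : R ⟶ S) {σ₁ : Type u}
    [SetLike σ₁ S] [AddSubgroupClass σ₁ S] (𝒜 : ℕ → σ₁) [GradedRing 𝒜]
    (h0 : ∀ a, σ.hom a ∈ 𝒜 0) : R ⟶ CommRingCat.of (𝒜 0) :=
  CommRingCat.ofHom
    { toFun := fun r => ⟨σ.hom r, h0 r⟩
      map_one' := Subtype.ext (map_one _)
      map_mul' := fun a b => Subtype.ext (map_mul _ a b)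
      map_zero' := Subtype.ext (map_zero _)
      map_add' := fun a b => Subtype.ext (map_add _ a b) }

/-- Base change for `Proj`, in `CommRingCat` form with arbitrary `SetLike` gradings. -/
theorem isPullback_proj {R R' S S' : CommRingCat.{u}} (φ : R ⟶ R') (σ : R ⟶ S) (σ' : R' ⟶ S')
    (υ : S ⟶ S') (hpo : IsPushout φ σ σ' υ) {σ₁ σ₂ : Type u}
    [SetLike σ₁ S] [AddSubgroupClass σ₁ S] [SetLike σ₂ S'] [AddSubgroupClass σ₂ S']
    (𝒜 : ℕ → σ₁) [GradedRing 𝒜] (𝒜' : ℕ → σ₂) [GradedRing 𝒜']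
    (ψ : 𝒜 →+*ᵍ 𝒜') (hψ : ∀ s, ψ s = υ.hom s)
    (h0 : ∀ a, σ.hom a ∈ 𝒜 0) (h0' : ∀ a', σ'.hom a' ∈ 𝒜' 0)
    (hirr : 𝒜'₊ ≤ 𝒜₊.map ψ) :
    IsPullback (Proj.map ψ hirr)
      (Proj.toSpecZero 𝒜' ≫ Spec.map (zeroHom σ' 𝒜' h0'))
      (Proj.toSpecZero 𝒜 ≫ Spec.map (zeroHom σ 𝒜 h0))
      (Spec.map φ) := by
  classical
  refine Scheme.isPullback_of_openCover _ _ _ _ (Proj.affineOpenCover 𝒜).openCover ?_
  rintro ⟨d, f⟩
  have hpo2 := isPushout_away φ σ σ' υ hpo 𝒜 𝒜' ψ hψ h0 h0' f.2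
  have hpb2 := isPullback_SpecMap_of_isPushout _ _ _ _ hpo2
  have hpb1 : IsPullback (Spec.map (CommRingCat.ofHom (HomogeneousLocalization.Away.map ψ (f : S))))
      (Proj.awayι 𝒜' (ψ f) (ψ.map_mem f.2) d.pos) (Proj.awayι 𝒜 (f : S) f.2 d.pos) (Proj.map ψ hirr) := by
    refine IsOpenImmersion.isPullback _ _ _ _ (Proj.awayι_comp_map ψ hirr d.pos _ f.2) ?_
    rw [Proj.opensRange_awayι, Proj.opensRange_awayι, Proj.map_preimage_basicOpen]
  let e := hpb1.flip.isoPullback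
  refine hpb2.of_iso e (Iso.refl _) (Iso.refl _) (Iso.refl _) ?_ ?_ ?_ ?_
  · exact (Category.comp_id _).trans (hpb1.flip.isoPullback_hom_snd).symm
  · refine (Category.comp_id _).trans ?_
    change _ = e.hom ≫ pullback.fst _ _ ≫ _
    rw [hpb1.flip.isoPullback_hom_fst_assoc, Proj.awayι_toSpecZero_assoc, ← Spec.map_comp]
    rfl
  · refine (Category.comp_id _).trans (Eq.trans ?_ (Category.id_comp _).symm)
    change _ = Proj.awayι 𝒜 (f : S) f.2 d.pos ≫ _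
    rw [Proj.awayι_toSpecZero_assoc, ← Spec.map_comp]
    rfl
  · exact (Category.comp_id _).trans (Category.id_comp _).symm

end Ring

section Glue

variable {Y : Scheme.{u}} (𝒮 : RelProj.QCGrAlg Y)

theorem irr_le {U V : Y.AffineZariskiSite} (i : V ⟶ U) :
    (𝒮.deg V.1 V.2)₊ ≤ ((𝒮.deg U.1 U.2)₊).map
      (𝒮.res U.2 V.2 (Scheme.AffineZariskiSite.toOpens_mono i.le)) := by
  obtain ⟨U, hU⟩ := U
  obtain ⟨V, hV⟩ := V
  obtain ⟨f, hf⟩ := i.le
  change Y.basicOpen f = V at hf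
  subst hf
  exact 𝒮.irrelevant_le_map U hU f

/-- the functor of charts -/
def functor : Y.AffineZariskiSite ⥤ Scheme.{u} where
  obj U := Proj (𝒮.deg U.1 U.2)
  map {V U} i := Proj.map (𝒮.res U.2 V.2 (Scheme.AffineZariskiSite.toOpens_mono i.le)) (irr_le 𝒮 i)
  map_id U := by
    have h : 𝒮.res U.2 U.2 (Scheme.AffineZariskiSite.toOpens_mono (𝟙 U : U ⟶ U).le) =
        GradedRingHom.id (𝒮.deg U.1 U.2) := by
      apply GradedRingHom.ext
      intro x
      rw [RelProj.QCGrAlg.res_apply]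
      have : (homOfLE (Scheme.AffineZariskiSite.toOpens_mono (𝟙 U : U ⟶ U).le)).op = 𝟙 (op U.1) :=
        Subsingleton.elim _ _
      rw [this, 𝒮.presheaf.map_id]
      rfl
    rw [Groth.Agent.Helper12.RelProjGlue.projMap_congr h _ (by simp)]
    exact Proj.map_id
  map_comp {W V U} i j := by
    have h : 𝒮.res U.2 W.2 (Scheme.AffineZariskiSite.toOpens_mono (i ≫ j).le) =
        (𝒮.res V.2 W.2 (Scheme.AffineZariskiSite.toOpens_mono i.le)).comp
          (𝒮.res U.2 V.2 (Scheme.AffineZariskiSite.toOpens_mono j.le)) := by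
      apply GradedRingHom.ext
      intro x
      rw [RelProj.QCGrAlg.res_apply]
      change _ = (𝒮.presheaf.map _).hom ((𝒮.presheaf.map _).hom x)
      rw [← CommRingCat.comp_apply, ← 𝒮.presheaf.map_comp]
      rfl
    rw [Groth.Agent.Helper12.RelProjGlue.projMap_congr h _
      (HomogeneousIdeal.irrelevant_le_map_comp (irr_le 𝒮 j) (irr_le 𝒮 i))]
    exact Proj.map_comp _ _ _ _

/-- structure morphism of a chart -/
def pU (U : Y.AffineZariskiSite) : Proj (𝒮.deg U.1 U.2) ⟶ (U.1 : Scheme.{u}) :=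
  (Proj.toSpecZero (𝒮.deg U.1 U.2) ≫ Spec.map (𝒮.strZero U.1 U.2)) ≫ U.2.isoSpec.inv

theorem isPullback_pU {U V : Y.AffineZariskiSite} (i : V ⟶ U) :
    IsPullback
      (Proj.map (𝒮.res U.2 V.2 (Scheme.AffineZariskiSite.toOpens_mono i.le)) (irr_le 𝒮 i))
      (pU 𝒮 V) (pU 𝒮 U)
      ((Scheme.AffineZariskiSite.directedCover Y).functorOfLocallyDirected.map i) := by
  have hpo : IsPushout (Y.presheaf.map (homOfLE (Scheme.AffineZariskiSite.toOpens_mono i.le)).op)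
      (𝒮.str.app (op U.1)) (𝒮.str.app (op V.1))
      (𝒮.presheaf.map (homOfLE (Scheme.AffineZariskiSite.toOpens_mono i.le)).op) :=
    𝒮.toQCAlg.coequifibered i.op
  have H1 := isPullback_proj
    (Y.presheaf.map (homOfLE (Scheme.AffineZariskiSite.toOpens_mono i.le)).op)
      (𝒮.str.app (op U.1)) (𝒮.str.app (op V.1))
      (𝒮.presheaf.map (homOfLE (Scheme.AffineZariskiSite.toOpens_mono i.le)).op) hpo
    (𝒮.deg U.1 U.2) (𝒮.deg V.1 V.2)
    (𝒮.res U.2 V.2 (Scheme.AffineZariskiSite.toOpens_mono i.le)) (fun s => rfl)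
    (fun a => 𝒮.str_mem U.1 U.2 a) (fun a => 𝒮.str_mem V.1 V.2 a) (irr_le 𝒮 i)
  have H2 : IsPullback (Spec.map (Y.presheaf.map
        (homOfLE (Scheme.AffineZariskiSite.toOpens_mono i.le)).op))
      V.2.isoSpec.inv U.2.isoSpec.inv
      ((Scheme.AffineZariskiSite.directedCover Y).functorOfLocallyDirected.map i) :=
    IsPullback.of_vert_isIso ⟨(Scheme.AffineZariskiSite.restrictIsoSpec Y).inv.naturality i⟩
  exact H1.paste_vert H2

/-- the structure morphisms, as a natural transformation -/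
def natTrans : functor 𝒮 ⟶ (Scheme.AffineZariskiSite.directedCover Y).functorOfLocallyDirected where
  app U := pU 𝒮 U
  naturality _ _ i := (isPullback_pU 𝒮 i).w

/-- the relative gluing datum of the charts `Proj 𝒮(U)` -/
def glueData : (Scheme.AffineZariskiSite.directedCover Y).RelativeGluingData where
  functor := functor 𝒮
  natTrans := natTrans 𝒮
  equifibered _ _ i := isPullback_pU 𝒮 i

instance : ((glueData 𝒮).functor ⋙ Scheme.forget).IsLocallyDirected :=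
  Scheme.Cover.RelativeGluingData.instIsLocallyDirectedI₀CompFunctorForgetOfIsThin ..

/-- the relative homogeneous spectrum -/
def P : Scheme.{u} := (glueData 𝒮).glued

/-- its structure morphism -/
def p : P 𝒮 ⟶ Y := (glueData 𝒮).toBase

/-- the chart over an affine open -/
def ι (U : Y.Opens) (hU : IsAffineOpen U) : Proj (𝒮.deg U hU) ⟶ P 𝒮 :=
  (glueData 𝒮).cover.f ⟨U, hU⟩

variable (U : Y.Opens) (hU : IsAffineOpen U)

instance : IsOpenImmersion (ι 𝒮 U hU) := (glueData 𝒮).cover.map_prop _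

theorem ι_p : ι 𝒮 U hU ≫ p 𝒮 = pU 𝒮 ⟨U, hU⟩ ≫ U.ι :=
  colimit.ι_desc _ _

theorem p_preimage : p 𝒮 ⁻¹ᵁ U = (ι 𝒮 U hU).opensRange := by
  simpa using! (glueData 𝒮).toBase_preimage_eq_opensRange_ι ⟨U, hU⟩

theorem ι_res {U V : Y.AffineZariskiSite} (i : V ⟶ U) :
    Proj.map (𝒮.res U.2 V.2 (Scheme.AffineZariskiSite.toOpens_mono i.le)) (irr_le 𝒮 i) ≫
      ι 𝒮 U.1 U.2 = ι 𝒮 V.1 V.2 :=
  colimit.w (glueData 𝒮).functor i

/-- the chart isomorphism -/
def chart : ((p 𝒮 ⁻¹ᵁ U : (P 𝒮).Opens) : Scheme.{u}) ≅ Proj (𝒮.deg U hU) :=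
  IsOpenImmersion.isoOfRangeEq (p 𝒮 ⁻¹ᵁ U).ι (ι 𝒮 U hU) (by
    rw [Scheme.Opens.range_ι, p_preimage 𝒮 U hU]
    rfl)

theorem chart_hom_ι : (chart 𝒮 U hU).hom ≫ ι 𝒮 U hU = (p 𝒮 ⁻¹ᵁ U).ι :=
  IsOpenImmersion.isoOfRangeEq_hom_fac _ _ _

theorem chart_inv_ι : (chart 𝒮 U hU).inv ≫ (p 𝒮 ⁻¹ᵁ U).ι = ι 𝒮 U hU :=
  IsOpenImmersion.isoOfRangeEq_inv_fac _ _ _

theorem isRelProj : RelProj.IsRelProj 𝒮 (p 𝒮) (chart 𝒮) where
  chart_over U hU := by
    rw [← cancel_epi (chart 𝒮 U hU).inv, Iso.inv_hom_id_assoc, reassoc_of% (chart_inv_ι 𝒮 U hU),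
      ι_p]
    unfold pU
    rw [Category.assoc, Category.assoc, IsAffineOpen.isoSpec_inv_ι]
  chart_res U hU r := by
    rw [← cancel_mono (ι 𝒮 U hU), Category.assoc, chart_hom_ι, Scheme.homOfLE_ι, Category.assoc]
    have := ι_res 𝒮 (U := ⟨U, hU⟩) (V := ⟨Y.basicOpen r, hU.basicOpen r⟩)
      (homOfLE (Scheme.AffineZariskiSite.basicOpen_le ⟨U, hU⟩ r))
    rw [this, chart_hom_ι]

end Glue

end Groth.Agent.Helper18.RelProjEx
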