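import Mathlib
import Groth.Prelude.Def_QuotSh

/-!
# Epimorphisms of representable sheaves via local lifting (helper18)
-/

set_option autoImplicit false
universe u
open CategoryTheory MonoidalCategory CartesianMonoidalCategory MonObj AlgebraicGeometry Opposite

namespace Groth.Agent.Helper18.RepEpi

variable {S : Scheme.{u}} (K : Precoverage Scheme.{u})


/-- `repMap` is an epimorphism iff points lift locally -/
theorem epi_repMap_iff {V W : Over S} (g : V ⟶ W) :
    Epi (QuotSh.repMap K g) ↔ ∀ (T : Over S) (x : T ⟶ W),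
      ∃ R : Sieve T.left, R ∈ K.toGrothendieck T.left ∧
        ∀ {Z : Scheme.{u}} (c : Z ⟶ T.left), R.arrows c →
          ∃ y : Over.mk (c ≫ T.hom) ⟶ V, y ≫ g = (Over.homMk c rfl : Over.mk (c ≫ T.hom) ⟶ T) ≫ x := by
  rw [← Sheaf.isLocallySurjective_iff_epi, QuotSh.repMap,
    Presheaf.isLocallySurjective_presheafToSheaf_map_iff]
  constructor
  · intro h T x
    let x' : ToType ((yoneda.obj W ⋙ uliftFunctor.{u + 1, u}).obj (op T)) := ULift.up x
    have hmem := Presheaf.imageSieve_mem (QuotSh.J K S)
      (Functor.whiskerRight (yoneda.map g) uliftFunctor.{u + 1, u}) (U := op T) x'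
    rw [GrothendieckTopology.mem_over_iff] at hmem
    refine ⟨_, hmem, ?_⟩
    intro Z c hc
    rw [Sieve.overEquiv_iff] at hc
    have hc' := (Presheaf.imageSieve_apply
      (Functor.whiskerRight (yoneda.map g) uliftFunctor.{u + 1, u}) x' _ _).mp hc
    obtain ⟨t, ht⟩ := hc'
    exact ⟨t.down, congrArg ULift.down ht⟩
  · intro h
    constructor
    intro T x
    obtain ⟨R, hR, hl⟩ := h T x.down
    rw [GrothendieckTopology.mem_over_iff]
    refine (K.toGrothendieck).superset_covering ?_ hR
    intro Z c hc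
    rw [Sieve.overEquiv_iff, Presheaf.imageSieve_apply]
    obtain ⟨y, hy⟩ := hl c hc
    exact ⟨ULift.up y, ULift.ext _ _ hy⟩

end Groth.Agent.Helper18.RepEpi
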