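import Mathlib
import Groth.Agent.Lib.Helper18.CnMap
import Groth.Agent.Lib.Helper18.CnSeq
import Groth.Agent.Lib.Helper18.DerSeq

set_option autoImplicit false
set_option linter.style.haveILetI false
set_option linter.unusedSectionVars false
set_option maxRecDepth 8000
universe u
open CategoryTheory CategoryTheory.Limits AlgebraicGeometry TopologicalSpace Opposite

namespace Groth.Agent.Helper18.RibExt

open OmegaSh Groth.Agent.Helper18.DerLib Groth.Agent.Helper18.CnDiff Groth.Agent.Helper18.AffHom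
  Groth.Agent.Helper18.CnMap Groth.Agent.Helper18.CnSeq

variable {D C C' B : Scheme.{u}} (i : D ⟶ C) (g : C ⟶ C') [IsImmersion i] [IsImmersion (i ≫ g)]
  [QuasiCompact i] [QuasiCompact (i ≫ g)]
  {pC : C ⟶ B} {pC' : C' ⟶ B} {pD : D ⟶ B}
  {Ω₁ : C.Modules} (d₁ : Der pC Ω₁) {Ω₁' : C'.Modules} (d₁' : Der pC' Ω₁')
  {Ω₂ : D.Modules} (d₂ : Der pD Ω₂)
  (cg : (Scheme.Modules.pullback g).obj Ω₁' ⟶ Ω₁) (hcg : IsDiffCompat g d₁' d₁ cg)
  (φ : Omega.conormal i ⟶ (Scheme.Modules.pullback i).obj Ω₁) (hφ : IsConormalDiff i d₁ φ)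
  (φ' : Omega.conormal (i ≫ g) ⟶ (Scheme.Modules.pullback (i ≫ g)).obj Ω₁')
  (hφ' : IsConormalDiff (i ≫ g) d₁' φ')
  (α : (Scheme.Modules.pullback (𝟙 D)).obj (Omega.conormal (i ≫ g)) ⟶ Omega.conormal i)
  (hα : IsConormalMap i (i ≫ g) g (𝟙 D) α)

/-- the restriction to `D` of the differential of `g`. -/
noncomputable def beta : (Scheme.Modules.pullback (i ≫ g)).obj Ω₁' ⟶ (Scheme.Modules.pullback i).obj Ω₁ :=
  (Scheme.Modules.pullbackComp i g).inv.app Ω₁' ≫ (Scheme.Modules.pullback i).map cg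

theorem beta_app (U : C'.Opens) (m : Γ(Ω₁', U)) :
    (beta i g cg).app ((i ≫ g) ⁻¹ᵁ U) (pullSect (i ≫ g) Ω₁' U m) =
      pullSect i Ω₁ (g ⁻¹ᵁ U) (cg.app (g ⁻¹ᵁ U) (pullSect g Ω₁' U m)) := by
  have e3 := Groth.Agent.Helper18.PbCompat.pullbackComp_inv_app i g Ω₁' U m
  have e4 := Groth.Agent.Helper18.PbCompat.pullback_map_app i cg (g ⁻¹ᵁ U) (pullSect g Ω₁' U m)
  change ((Scheme.Modules.pullback i).map cg).app _
    (((Scheme.Modules.pullbackComp i g).inv.app Ω₁').app _ (pullSect (i ≫ g) Ω₁' U m)) = _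
  exact (congrArg _ e3).trans e4

include hcg in
theorem isDiffCompat_beta_comp (c : (Scheme.Modules.pullback i).obj Ω₁ ⟶ Ω₂)
    (hc : IsDiffCompat i d₁ d₂ c) : IsDiffCompat (i ≫ g) d₁' d₂ (beta i g cg ≫ c) := by
  intro U s
  change c.app _ ((beta i g cg).app ((i ≫ g) ⁻¹ᵁ U) (pullSect (i ≫ g) Ω₁' U (d₁'.app U s))) = _
  rw [beta_app, hcg U s]
  exact hc (g ⁻¹ᵁ U) (g.app U s)

include hcg hφ hφ' hα in
theorem sq1 : φ' ≫ beta i g cg =
    ((Scheme.Modules.pullbackId D).inv.app (Omega.conormal (i ≫ g)) ≫ α) ≫ φ := by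
  apply hom_ext_pullSect
  intro U s'
  obtain ⟨s, hs⟩ := exists_lift g i U s'
  -- left side
  have hL : (φ' ≫ beta i g cg).app ((i ≫ g) ⁻¹ᵁ U)
      (pullSect (i ≫ g) (ClSub.idealMod (i ≫ g).ker) U s') =
      pullSect i Ω₁ (g ⁻¹ᵁ U) (d₁.app (g ⁻¹ᵁ U) (g.app U (idealSect (i ≫ g).ker U s'))) := by
    change (beta i g cg).app _ (φ'.app _ (conormalSect (i ≫ g) U s')) = _
    rw [hφ' U s', beta_app, hcg U _]
  -- right side
  have hR : (((Scheme.Modules.pullbackId D).inv.app (Omega.conormal (i ≫ g)) ≫ α) ≫ φ).app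
      ((i ≫ g) ⁻¹ᵁ U) (pullSect (i ≫ g) (ClSub.idealMod (i ≫ g).ker) U s') =
      pullSect i Ω₁ (g ⁻¹ᵁ U) (d₁.app (g ⁻¹ᵁ U) (idealSect i.ker (g ⁻¹ᵁ U) s)) := by
    change φ.app _ (α.app _ (((Scheme.Modules.pullbackId D).inv.app (Omega.conormal (i ≫ g))).app
      ((i ≫ g) ⁻¹ᵁ U) (conormalSect (i ≫ g) U s'))) = _
    rw [pullbackId_inv_app]
    have h3 := psi_spec g i α hα U s' s hs ((i ≫ g) ⁻¹ᵁ U) le_rfl
    have h4 : (Omega.conormal (i ≫ g)).presheaf.map (homOfLE (le_refl ((i ≫ g) ⁻¹ᵁ U))).op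
        (conormalSect (i ≫ g) U s') = conormalSect (i ≫ g) U s' :=
      congr($((Omega.conormal (i ≫ g)).presheaf.map_id _) (conormalSect (i ≫ g) U s'))
    rw [h4] at h3
    have h5 : (Omega.conormal i).presheaf.map
        (homOfLE (show (i ≫ g) ⁻¹ᵁ U ≤ i ⁻¹ᵁ (g ⁻¹ᵁ U) from le_rfl)).op
        (conormalSect i (g ⁻¹ᵁ U) s) = conormalSect i (g ⁻¹ᵁ U) s :=
      congr($((Omega.conormal i).presheaf.map_id _) (conormalSect i (g ⁻¹ᵁ U) s))
    rw [h5] at h3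
    refine (congrArg (φ.app _) h3).trans ?_
    exact hφ (g ⁻¹ᵁ U) s
  refine hL.trans (Eq.trans ?_ hR.symm)
  rw [hs]

end Groth.Agent.Helper18.RibExt
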