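import Mathlib
import Groth.Prelude.Def_MoreMor
import Groth.Prelude.Def_Omega3
import Groth.Agent.Lib.Helper6.IdealComap
import Groth.Agent.Lib.Helper3.FormEt

set_option autoImplicit false

namespace Groth.Agent.Helper18.Thick
open AlgebraicGeometry CategoryTheory Limits

universe u

/-- The base change of a first order thickening is a first order thickening. -/
theorem fst_isFirstOrderThickening {X Y Z : Scheme.{u}} (f : X ⟶ Y) (i : Z ⟶ Y)
    (hi : MoreMor.IsFirstOrderThickening i) :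
    MoreMor.IsFirstOrderThickening (pullback.fst f i) := by
  obtain ⟨⟨hcl, hsurj⟩, hker⟩ := hi
  refine ⟨⟨inferInstance, inferInstance⟩, ?_⟩
  rw [Scheme.IdealSheafData.ker_fst_of_isClosedImmersion,
    ← Groth.Agent.Helper6.IdealComap.comap_mul, hker, Scheme.IdealSheafData.comap_bot]

theorem of_isPullback {P X Y Z : Scheme.{u}} {p : P ⟶ X} {q : P ⟶ Z} {f : X ⟶ Y} {i : Z ⟶ Y}
    (H : IsPullback p q f i) (hi : MoreMor.IsFirstOrderThickening i) :
    MoreMor.IsFirstOrderThickening p := by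
  have h0 := fst_isFirstOrderThickening f i hi
  obtain ⟨⟨hcl, hsurj⟩, hker⟩ := h0
  have e : p = H.isoPullback.hom ≫ pullback.fst f i := by simp
  refine ⟨⟨?_, ?_⟩, ?_⟩
  · rw [e]; infer_instance
  · rw [e]; infer_instance
  · rw [e, Scheme.Hom.ker_comp_of_isIso]; exact hker

/-- For a closed immersion `ι`, an ideal sheaf on the source is contained in the pullback of its
pushforward. -/
theorem le_comap_map {P Q : Scheme.{u}} (ι : P ⟶ Q) [IsClosedImmersion ι]
    (J : P.IdealSheafData) : J ≤ (J.map ι).comap ι := by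
  refine Scheme.IdealSheafData.le_of_iSup_eq_top
    (ι := Q.affineOpens) (fun U => ⟨ι ⁻¹ᵁ U.1, U.2.preimage ι⟩) ?_ ?_
  · rw [eq_top_iff]
    rintro x -
    obtain ⟨V, hV, hxV, -⟩ := (TopologicalSpace.Opens.isBasis_iff_nbhd.mp Q.isBasis_affineOpens)
      (show ι x ∈ (⊤ : Q.Opens) from trivial)
    exact TopologicalSpace.Opens.mem_iSup.mpr ⟨⟨V, hV⟩, hxV⟩
  · intro U
    rw [Groth.Agent.Helper6.IdealComap.ideal_comap ι (J.map ι) ⟨ι ⁻¹ᵁ U.1, U.2.preimage ι⟩ U le_rfl,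
      Scheme.IdealSheafData.ideal_map_of_isAffineHom]
    have h1 : (ι.appLE U.1 (ι ⁻¹ᵁ U.1) le_rfl) = ι.app U.1 := Scheme.Hom.appLE_eq_app ι
    rw [h1, Ideal.map_comap_of_surjective _ (ι.app_surjective U.1 U.2)]

theorem ker_sq_of_comp {Z P Q : Scheme.{u}} (f : Z ⟶ P) (ι : P ⟶ Q) [IsClosedImmersion ι]
    (h : (f ≫ ι).ker * (f ≫ ι).ker ≤ ι.ker) : f.ker * f.ker = ⊥ := by
  have h1 : f.ker ≤ ((f ≫ ι).ker).comap ι := by
    rw [Scheme.Hom.ker_comp]; exact le_comap_map ι _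
  have h2 : f.ker * f.ker ≤ ((f ≫ ι).ker).comap ι * ((f ≫ ι).ker).comap ι := mul_le_mul' h1 h1
  rw [← Groth.Agent.Helper6.IdealComap.comap_mul] at h2
  have h3 : ((f ≫ ι).ker * (f ≫ ι).ker).comap ι ≤ ⊥ := by
    rw [← Scheme.IdealSheafData.le_map_iff_comap_le, Scheme.IdealSheafData.map_bot]
    exact h
  exact le_bot_iff.mp (h2.trans h3)

open Groth.Agent.Helper3.FormEt

/-- `Spec (B ⧸ I) ⟶ Spec B` is a first order thickening when `I ^ 2 = ⊥`. -/
theorem specMap_mk_isFirstOrderThickening (B : Type u) [CommRing B] (I : Ideal B) (hI : I ^ 2 = ⊥) :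
    MoreMor.IsFirstOrderThickening (Spec.map (CommRingCat.ofHom (Ideal.Quotient.mk I))) := by
  have hsurjmk : Function.Surjective (CommRingCat.ofHom (Ideal.Quotient.mk I)).hom :=
    Ideal.Quotient.mk_surjective
  have hkermk : RingHom.ker (CommRingCat.ofHom (Ideal.Quotient.mk I)).hom ^ 2 = ⊥ := by
    simpa using hI
  have : IsClosedImmersion (Spec.map (CommRingCat.ofHom (Ideal.Quotient.mk I))) :=
    IsClosedImmersion.spec_of_surjective _ hsurjmk
  exact ⟨⟨this, ⟨specMap_surjective_of_ker_sq _ hsurjmk hkermk⟩⟩, ker_sq_specMap _ hkermk⟩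

/-- A morphism with at most one lift against first order thickenings of affine schemes
`Spec (B ⧸ I) ⟶ Spec B` is formally unramified. -/
theorem formallyUnramified_of_unique_lift {X Y : Scheme.{u}} (f : X ⟶ Y)
    (H : ∀ (B : Type u) [CommRing B] (I : Ideal B), I ^ 2 = ⊥ →
      ∀ (a₁ a₂ : Spec (CommRingCat.of B) ⟶ X),
        Spec.map (CommRingCat.ofHom (Ideal.Quotient.mk I)) ≫ a₁ =
          Spec.map (CommRingCat.ofHom (Ideal.Quotient.mk I)) ≫ a₂ →
        a₁ ≫ f = a₂ ≫ f → a₁ = a₂) : FormallyUnramified f := by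
  refine ⟨fun {V} hV {U} hU hUV => ?_⟩
  letI := (f.appLE V U hUV).hom.toAlgebra
  show Algebra.FormallyUnramified Γ(Y, V) Γ(X, U)
  have key : ∀ (B' : Type u) [CommRing B'] [Algebra Γ(Y, V) B'] (g : Γ(X, U) →ₐ[Γ(Y, V)] B'),
      (Spec.map (CommRingCat.ofHom g.toRingHom) ≫ hU.fromSpec) ≫ f =
        Spec.map (CommRingCat.ofHom (algebraMap Γ(Y, V) B')) ≫ hV.fromSpec := by
    intro B' _ _ g
    rw [Category.assoc, ← hV.SpecMap_appLE_fromSpec f hU hUV, ← Category.assoc, ← Spec.map_comp]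
    congr 2
    ext y
    exact g.commutes y
  rw [Algebra.FormallyUnramified.iff_comp_injective]
  intro B _ _ I hI g₁ g₂ e
  have h1 := H B I hI (Spec.map (CommRingCat.ofHom g₁.toRingHom) ≫ hU.fromSpec)
    (Spec.map (CommRingCat.ofHom g₂.toRingHom) ≫ hU.fromSpec) ?_ ?_
  · rw [cancel_mono] at h1
    have h2 := Spec.map_injective h1
    ext x
    exact congr($h2 x)
  · rw [← Category.assoc, ← Category.assoc, ← Spec.map_comp, ← Spec.map_comp]
    congr 2
    ext x
    exact congr($e x)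
  · rw [key B g₁, key B g₂]

/-- Two morphisms from a first order thickening `T'` of `T` into a universal first order thickening
`Z'` which agree on `T` and after composing to the base are equal. -/
theorem unique_of_isUnivThickening {Z Z' X : Scheme.{u}} (h : Z ⟶ X) (i : Z ⟶ Z') (h' : Z' ⟶ X)
    (hu : OmegaSh.IsUnivThickening h i h') {T T' : Scheme.{u}} (t : T ⟶ T')
    (ht : MoreMor.IsFirstOrderThickening t) (a₁ a₂ : T' ⟶ Z') (e1 : t ≫ a₁ = t ≫ a₂)
    (e2 : a₁ ≫ h' = a₂ ≫ h') : a₁ = a₂ := by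
  obtain ⟨hi, hic, huniv⟩ := hu
  -- `s : T'_a ⟶ T'`, the preimage of `Z` under `a₁`
  have hs : MoreMor.IsFirstOrderThickening (pullback.fst a₁ i) := fst_isFirstOrderThickening a₁ i hi
  have hu' : MoreMor.IsFirstOrderThickening (pullback.fst (pullback.fst a₁ i) t) :=
    fst_isFirstOrderThickening _ t ht
  have hc : pullback.fst a₁ i ≫ a₁ = pullback.snd a₁ i ≫ i := pullback.condition
  have hc' : pullback.fst (pullback.fst a₁ i) t ≫ pullback.fst a₁ i =
      pullback.snd (pullback.fst a₁ i) t ≫ t := pullback.condition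
  -- first step : `s ≫ a₁ = s ≫ a₂`
  have step1 : pullback.fst a₁ i ≫ a₁ = pullback.fst a₁ i ≫ a₂ := by
    obtain ⟨c, -, hc3⟩ := huniv _ _ (pullback.fst (pullback.fst a₁ i) t)
      (pullback.fst a₁ i ≫ a₁ ≫ h') (pullback.fst (pullback.fst a₁ i) t ≫ pullback.snd a₁ i) hu'
      (by rw [Category.assoc, ← hic, ← Category.assoc (pullback.snd a₁ i), ← hc, Category.assoc])
    have r1 : pullback.fst a₁ i ≫ a₁ = c := by
      apply hc3
      exact ⟨by rw [Category.assoc, hc], by rw [Category.assoc]⟩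
    have r2 : pullback.fst a₁ i ≫ a₂ = c := by
      apply hc3
      refine ⟨?_, by rw [Category.assoc, e2]⟩
      rw [← Category.assoc, hc', Category.assoc, ← e1, ← Category.assoc, ← hc', Category.assoc, hc,
        Category.assoc]
    rw [r1, r2]
  obtain ⟨c, -, hc3⟩ := huniv _ _ (pullback.fst a₁ i) (a₁ ≫ h') (pullback.snd a₁ i) hs
    (by rw [← hic, ← Category.assoc, hc, Category.assoc])
  have r1 : a₁ = c := hc3 _ ⟨hc, rfl⟩
  have r2 : a₂ = c := hc3 _ ⟨by rw [← step1, hc], e2.symm⟩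
  rw [r1, r2]

/-- The core of the transitivity statement for universal first order thickenings, with the morphism
of thickenings `m` given. -/
theorem isUnivThickening_pullback {Z Y X Z' Y' : Scheme.{u}} (a : Z ⟶ Y) (b : Y ⟶ X)
    (i : Z ⟶ Z') (c : Z' ⟶ X) (hZ : OmegaSh.IsUnivThickening (a ≫ b) i c)
    (j : Y ⟶ Y') (d : Y' ⟶ X) (hY : OmegaSh.IsUnivThickening b j d)
    (m : Z' ⟶ Y') (hm1 : i ≫ m = a ≫ j) (hm2 : m ≫ d = c) :
    OmegaSh.IsUnivThickening a (pullback.lift a i hm1.symm) (pullback.fst j m) := by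
  obtain ⟨hi, hic, hunivZ⟩ := hZ
  obtain ⟨hj, hjd, hunivY⟩ := hY
  have hl1 : pullback.lift a i hm1.symm ≫ pullback.fst j m = a := pullback.lift_fst _ _ _
  have hl2 : pullback.lift a i hm1.symm ≫ pullback.snd j m = i := pullback.lift_snd _ _ _
  obtain ⟨l, hl⟩ : ∃ l, l = pullback.lift a i hm1.symm := ⟨_, rfl⟩
  rw [← hl] at hl1 hl2 ⊢
  obtain ⟨⟨hjcl, hjsurj⟩, hjker⟩ := hj
  obtain ⟨⟨hicl, hisurj⟩, hiker⟩ := id hi
  have hsndcl : IsClosedImmersion (pullback.snd j m) := inferInstance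
  have hlcl : IsClosedImmersion l := by
    have : IsClosedImmersion (l ≫ pullback.snd j m) := by rw [hl2]; exact hicl
    exact IsClosedImmersion.of_comp l (pullback.snd j m)
  refine ⟨⟨⟨hlcl, ⟨fun p => ?_⟩⟩, ?_⟩, hl1, ?_⟩
  · obtain ⟨z, hz⟩ := hisurj.surj (pullback.snd j m p)
    refine ⟨z, ?_⟩
    apply (pullback.snd j m).isClosedEmbedding.injective
    rw [← hz, ← hl2]
    rfl
  · apply ker_sq_of_comp l (pullback.snd j m)
    rw [hl2, hiker]
    exact bot_le
  · intro T T' t β α ht w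
    obtain ⟨γ, ⟨hγ1, hγ2⟩, hγ3⟩ := hunivZ T T' t (β ≫ b) α ht (by
      rw [← Category.assoc, w, Category.assoc])
    obtain ⟨δ, -, hδ⟩ := hunivY T T' t (β ≫ b) (α ≫ a) ht (by
      rw [← Category.assoc, w, Category.assoc])
    have e1 : β ≫ j = δ := by
      apply hδ
      refine ⟨?_, ?_⟩
      · rw [← Category.assoc, w, Category.assoc]
      · rw [Category.assoc, hjd]
    have e2 : γ ≫ m = δ := by
      apply hδ
      refine ⟨?_, ?_⟩
      · rw [← Category.assoc, hγ1, Category.assoc, hm1, Category.assoc]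
      · rw [Category.assoc, hm2, hγ2]
    refine ⟨pullback.lift β γ (e1.trans e2.symm), ⟨?_, pullback.lift_fst _ _ _⟩, ?_⟩
    · apply pullback.hom_ext
      · rw [Category.assoc, pullback.lift_fst, Category.assoc, hl1, w]
      · rw [Category.assoc, pullback.lift_snd, Category.assoc, hl2, hγ1]
    · rintro a'' ⟨h1, h2⟩
      apply pullback.hom_ext
      · rw [pullback.lift_fst, h2]
      · rw [pullback.lift_snd]
        apply hγ3
        refine ⟨?_, ?_⟩
        · rw [← Category.assoc, h1, Category.assoc, hl2]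
        · rw [← hm2, Category.assoc, ← Category.assoc (pullback.snd j m), ← pullback.condition,
            Category.assoc, hjd, ← Category.assoc, h2]

/-- Two universal first order thickenings of the same morphism are isomorphic. -/
theorem exists_iso_of_isUnivThickening {Z X Z₁ Z₂ : Scheme.{u}} (h : Z ⟶ X)
    (i₁ : Z ⟶ Z₁) (h₁ : Z₁ ⟶ X) (hu₁ : OmegaSh.IsUnivThickening h i₁ h₁)
    (i₂ : Z ⟶ Z₂) (h₂ : Z₂ ⟶ X) (hu₂ : OmegaSh.IsUnivThickening h i₂ h₂) :
    ∃ θ : Z₁ ≅ Z₂, i₁ ≫ θ.hom = i₂ ∧ θ.hom ≫ h₂ = h₁ := by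
  obtain ⟨α, ⟨hα1, hα2⟩, -⟩ := hu₂.2.2 Z Z₁ i₁ h₁ (𝟙 Z) hu₁.1 (by rw [hu₁.2.1, Category.id_comp])
  obtain ⟨β, ⟨hβ1, hβ2⟩, -⟩ := hu₁.2.2 Z Z₂ i₂ h₂ (𝟙 Z) hu₂.1 (by rw [hu₂.2.1, Category.id_comp])
  rw [Category.id_comp] at hα1 hβ1
  refine ⟨⟨α, β, ?_, ?_⟩, hα1, hα2⟩
  · exact unique_of_isUnivThickening h i₁ h₁ hu₁ i₁ hu₁.1 (α ≫ β) (𝟙 Z₁)
      (by rw [← Category.assoc, hα1, hβ1, Category.comp_id])
      (by rw [Category.assoc, hβ2, hα2, Category.id_comp])
  · exact unique_of_isUnivThickening h i₂ h₂ hu₂ i₂ hu₂.1 (β ≫ α) (𝟙 Z₂)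
      (by rw [← Category.assoc, hβ1, hα1, Category.comp_id])
      (by rw [Category.assoc, hα2, hβ2, Category.id_comp])

/-- In the transitivity situation for universal first order thickenings, the morphism `n : Z'' ⟶ Z'`
is a closed immersion whose ideal is the pullback of the ideal of `Y ⊆ Y'`. -/
theorem transitivity_props {Z Y X Z' Y' Z'' : Scheme.{u}} (i : Z ⟶ Y) (b : Y ⟶ X)
    (i' : Z ⟶ Z') (c : Z' ⟶ X) (hZ' : OmegaSh.IsUnivThickening (i ≫ b) i' c)
    (j : Y ⟶ Y') (d : Y' ⟶ X) (hY' : OmegaSh.IsUnivThickening b j d)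
    (m : Z' ⟶ Y') (hm₁ : i' ≫ m = i ≫ j) (hm₂ : m ≫ d = c)
    (i'' : Z ⟶ Z'') (e : Z'' ⟶ Y) (hZ'' : OmegaSh.IsUnivThickening i i'' e)
    (n : Z'' ⟶ Z') (hn₁ : i'' ≫ n = i') (hn₂ : n ≫ c = e ≫ b) :
    IsClosedImmersion n ∧ n.ker = j.ker.comap m ∧ n ≫ m = e ≫ j := by
  have hP := isUnivThickening_pullback i b i' c hZ' j d hY' m hm₁ hm₂
  obtain ⟨θ, hθ1, hθ2⟩ := exists_iso_of_isUnivThickening i i'' e hZ'' _ _ hP
  have hjcl : IsClosedImmersion j := hY'.1.1.1
  have hn : n = θ.hom ≫ pullback.snd j m := by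
    apply unique_of_isUnivThickening (i ≫ b) i' c hZ' i'' hZ''.1
    · rw [hn₁, ← Category.assoc, hθ1, pullback.lift_snd]
    · rw [hn₂, Category.assoc, ← hm₂, ← Category.assoc (pullback.snd j m), ← pullback.condition,
        Category.assoc, hY'.2.1, ← Category.assoc, hθ2]
  refine ⟨?_, ?_, ?_⟩
  · rw [hn]; infer_instance
  · rw [hn, Scheme.Hom.ker_comp_of_isIso]
    have h1 : pullback.snd j m = (pullbackSymmetry j m).hom ≫ pullback.fst m j := by simp
    rw [h1, Scheme.Hom.ker_comp_of_isIso, Scheme.IdealSheafData.ker_fst_of_isClosedImmersion]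
  · rw [hn, Category.assoc, ← pullback.condition, ← Category.assoc, hθ2]

end Groth.Agent.Helper18.Thick
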