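import Mathlib
import Groth.Agent.Lib.Helper18.NrmSeq
import Groth.Agent.Lib.Helper18.PbCompat
import Groth.Agent.Lib.Helper18.Thick

set_option autoImplicit false
set_option linter.style.haveILetI false
set_option linter.unusedSectionVars false
set_option maxRecDepth 8000
universe u
open CategoryTheory CategoryTheory.Limits AlgebraicGeometry TopologicalSpace Opposite TensorProduct

namespace Groth.Agent.Helper18.UTSeq

open OmegaSh Groth.Agent.Helper18.DerLib Groth.Agent.Helper18.OmegaSec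
  Groth.Agent.Helper18.Rec Groth.Agent.Helper18.ConormalImm
  Groth.Agent.Helper13.EffCartier Groth.Agent.Helper13.Pullback Groth.Agent.Helper18.CnSeq
  Groth.Agent.Helper18.NrmSeq

theorem le_coborderRange {P Q : Scheme.{u}} (k : P ⟶ Q) [IsClosedImmersion k] (V : Q.Opens) :
    V ≤ k.coborderRange := by
  intro y _
  change y ∈ coborder (Set.range k)
  rw [k.isClosedEmbedding.isClosed_range.coborder_eq]
  trivial

variable {Z Y Y' Z' Z'' : Scheme.{u}}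
  (i : Z ⟶ Y) (j : Y ⟶ Y') [IsClosedImmersion j]
  (i'' : Z ⟶ Z'') [IsClosedImmersion i''] (n : Z'' ⟶ Z') [IsClosedImmersion n]
  (m : Z' ⟶ Y') (hsq : (i'' ≫ n) ≫ m = i ≫ j)
  (hker : n.ker = j.ker.comap m)
  (ψ₁ : (Scheme.Modules.pullback i).obj (Omega.conormal j) ⟶ Omega.conormal (i'' ≫ n))
  (hψ₁ : OmegaSh.IsConormalMap (i'' ≫ n) j m i ψ₁)
  (ψ₂ : (Scheme.Modules.pullback (𝟙 Z)).obj (Omega.conormal (i'' ≫ n)) ⟶ Omega.conormal i'')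
  (hψ₂ : OmegaSh.IsConormalMap i'' (i'' ≫ n) n (𝟙 Z) ψ₂)

include hψ₂ in
/-- a class killed by `ψ₂` is the class of a section of the ideal of `Z'' ⊆ Z'`. -/
theorem exists_decomp {V : Z'.Opens} (hV : IsAffineOpen V)
    (mm : Γ(Omega.conormal (i'' ≫ n), i'' ⁻¹ᵁ (n ⁻¹ᵁ V)))
    (hm : (φ₂' n i'' ψ₂).app (i'' ⁻¹ᵁ (n ⁻¹ᵁ V)) mm = 0) :
    ∃ (sz : Γ(ClSub.idealMod (i'' ≫ n).ker, V)) (t : Γ(ClSub.idealMod n.ker, V)),
      idealSect (i'' ≫ n).ker V sz = idealSect n.ker V t ∧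
        conormalSect (i'' ≫ n) V sz = mm := by
  have hVf : V ≤ n.coborderRange := le_coborderRange n V
  have hVjf : V ≤ (i'' ≫ n).coborderRange := le_coborderRange (i'' ≫ n) V
  have hUj : n ⁻¹ᵁ V ≤ i''.coborderRange := le_coborderRange i'' _
  have hU : IsAffineOpen (n ⁻¹ᵁ V) := isAffineOpen_preimage n hV hVf
  obtain ⟨s, rfl⟩ := exists_conormalSect_eq (i'' ≫ n) hV hVjf mm
  obtain ⟨s'', hs''⟩ := exists_lift n i'' V s
  rw [phi2_spec n i'' ψ₂ hψ₂ V s s'' hs''] at hm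
  have h2 := ιlin_mem_sq i'' hU hUj s'' hm
  have hx : n.app V (ιlin (i'' ≫ n) V s) ∈ (RingHom.ker (i''.app (n ⁻¹ᵁ V)).hom) ^ 2 := by
    have : ιlin i'' (n ⁻¹ᵁ V) s'' = n.app V (ιlin (i'' ≫ n) V s) := hs''
    rw [← this]
    exact h2
  have hmap : (RingHom.ker (i''.app (n ⁻¹ᵁ V)).hom) ^ 2 =
      ((RingHom.ker ((i'' ≫ n).app V).hom) ^ 2).map (n.app V).hom := by
    rw [Ideal.map_pow]
    congr 1
    apply le_antisymm
    · intro b hb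
      obtain ⟨a, rfl⟩ := app_surjective n hV hVf b
      exact Ideal.mem_map_of_mem _ hb
    · rw [Ideal.map_le_iff_le_comap]
      intro a ha
      exact ha
  rw [hmap] at hx
  obtain ⟨y, hy, hxy⟩ := (Ideal.mem_map_iff_of_surjective (n.app V).hom
    (app_surjective n hV hVf)).1 hx
  have hyI : (i'' ≫ n).app V y = 0 := Ideal.pow_le_self two_ne_zero hy
  obtain ⟨sy, hsy⟩ := Groth.Agent.Helper18.RecCS.exists_idealSect_eq (i'' ≫ n) hV y hyI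
  have hz : n.app V (ιlin (i'' ≫ n) V s - y) = 0 := by
    rw [map_sub, sub_eq_zero]
    exact hxy.symm
  obtain ⟨t, ht⟩ := Groth.Agent.Helper18.RecCS.exists_idealSect_eq n hV _ hz
  obtain ⟨sz, hsz⟩ := exists_lift_f n i'' V t
  have hs_eq : s = sy + sz := by
    apply ιlin_injective (i'' ≫ n) V
    rw [map_add]
    change _ = idealSect (i'' ≫ n).ker V sy + idealSect (i'' ≫ n).ker V sz
    rw [hsy, hsz, ht]
    ring
  have hsy0 : conormalSect (i'' ≫ n) V sy = 0 := by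
    apply conormalSect_eq_zero_of_sq (i'' ≫ n) hV
    change idealSect (i'' ≫ n).ker V sy ∈ _
    rw [hsy]
    exact hy
  refine ⟨sz, t, hsz, ?_⟩
  rw [hs_eq, map_add, hsy0, zero_add]

/-- sections of the ideal of `Z ⊆ Z'` over `V` whose class lies in the range of `ψ₁`. -/
def goodIdeal (V : Z'.Opens) : Ideal Γ(Z', V) where
  carrier := {y | ∃ sy : Γ(ClSub.idealMod (i'' ≫ n).ker, V),
    idealSect (i'' ≫ n).ker V sy = y ∧
      ∃ x, ψ₁.app ((i'' ≫ n) ⁻¹ᵁ V) x = conormalSect (i'' ≫ n) V sy}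
  add_mem' := by
    rintro a b ⟨sa, hsa, xa, hxa⟩ ⟨sb, hsb, xb, hxb⟩
    refine ⟨sa + sb, by rw [map_add, hsa, hsb], xa + xb, ?_⟩
    have e1 : ψ₁.app ((i'' ≫ n) ⁻¹ᵁ V) (xa + xb) =
        ψ₁.app ((i'' ≫ n) ⁻¹ᵁ V) xa + ψ₁.app ((i'' ≫ n) ⁻¹ᵁ V) xb := map_add _ _ _
    have e2 : conormalSect (i'' ≫ n) V (sa + sb) =
        conormalSect (i'' ≫ n) V sa + conormalSect (i'' ≫ n) V sb := map_add _ _ _
    rw [e1, hxa, hxb]
    exact e2.symm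
  zero_mem' := ⟨0, map_zero _, 0, (map_zero _).trans (map_zero _).symm⟩
  smul_mem' := by
    rintro a b ⟨sb, hsb, xb, hxb⟩
    refine ⟨a • sb, ?_, (i'' ≫ n).app V a • xb, ?_⟩
    · have := (ιlin (i'' ≫ n) V).map_smul a sb
      change idealSect (i'' ≫ n).ker V (a • sb) = a • b
      rw [← hsb]
      exact this
    · have h1 : conormalSect (i'' ≫ n) V (a • sb) =
          (i'' ≫ n).app V a • conormalSect (i'' ≫ n) V sb :=
        pullSect_smul (i'' ≫ n) _ V a sb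
      rw [h1, ← hxb]
      exact Scheme.Modules.Hom.app_smul ψ₁ _ xb

include hsq hψ₁ in
theorem appLE_mem_goodIdeal {V : Z'.Opens} {W : Y'.Opens} (hW : IsAffineOpen W)
    (hVW : V ≤ m ⁻¹ᵁ W) (x : Γ(Y', W)) (hx : j.app W x = 0) :
    m.appLE W V hVW x ∈ goodIdeal i j i'' n ψ₁ V := by
  obtain ⟨t', ht'⟩ := Groth.Agent.Helper18.RecCS.exists_idealSect_eq j hW x hx
  have h0 : (i'' ≫ n).app (m ⁻¹ᵁ W) (m.app W x) = 0 := by
    have h1 := Scheme.Hom.congr_app hsq W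
    have h2 : ((i'' ≫ n) ≫ m).app W x = 0 := by
      rw [h1]
      change Z.presheaf.map _ (i.app (j ⁻¹ᵁ W) (j.app W x)) = 0
      rw [hx, map_zero, map_zero]
    exact h2
  obtain ⟨s₀, hs₀⟩ := Groth.Agent.Helper18.RecCS.exists_idealSect_eq' (i'' ≫ n) (m ⁻¹ᵁ W)
    (m.app W x) h0
  have hT1 : (i'' ≫ n) ⁻¹ᵁ V ≤ i ⁻¹ᵁ (j ⁻¹ᵁ W) := by
    intro z hz
    have h3 : m ((i'' ≫ n) z) ∈ W := hVW hz
    have h4 : m ((i'' ≫ n) z) = j (i z) := by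
      have := congr($hsq z)
      exact this
    rw [h4] at h3
    exact h3
  have hT2 : (i'' ≫ n) ⁻¹ᵁ V ≤ (i'' ≫ n) ⁻¹ᵁ (m ⁻¹ᵁ W) := fun z hz => hVW hz
  refine ⟨(ClSub.idealMod (i'' ≫ n).ker).presheaf.map (homOfLE hVW).op s₀, ?_, ?_⟩
  · rw [idealSect_apply, idealModι_app_map]
    change Z'.presheaf.map (homOfLE hVW).op (idealSect (i'' ≫ n).ker (m ⁻¹ᵁ W) s₀) = _
    rw [hs₀]
    rfl
  · have h5 := hψ₁.2 W t' s₀ (by rw [hs₀, ht']) ((i'' ≫ n) ⁻¹ᵁ V) hT1 hT2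
    refine ⟨((Scheme.Modules.pullback i).obj (Omega.conormal j)).presheaf.map (homOfLE hT1).op
      (pullSect i (Omega.conormal j) (j ⁻¹ᵁ W) (conormalSect j W t')), ?_⟩
    rw [Groth.Agent.Helper18.PbCompat.hom_naturality]
    refine h5.trans ?_
    exact (pullSect_map (i'' ≫ n) (ClSub.idealMod (i'' ≫ n).ker) hVW s₀).symm

include hsq hker hψ₁ hψ₂ in
theorem exact_app_chart {V : Z'.Opens} (hV : IsAffineOpen V) {W : Y'.Opens} (hW : IsAffineOpen W)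
    (hVW : V ≤ m ⁻¹ᵁ W)
    (mm : Γ(Omega.conormal (i'' ≫ n), i'' ⁻¹ᵁ (n ⁻¹ᵁ V)))
    (hm : (φ₂' n i'' ψ₂).app (i'' ⁻¹ᵁ (n ⁻¹ᵁ V)) mm = 0) :
    ∃ x : Γ((Scheme.Modules.pullback i).obj (Omega.conormal j), i'' ⁻¹ᵁ (n ⁻¹ᵁ V)),
      ψ₁.app (i'' ⁻¹ᵁ (n ⁻¹ᵁ V)) x = mm := by
  obtain ⟨sz, t, hszt, rfl⟩ := exists_decomp i'' n ψ₂ hψ₂ hV mm hm
  have h1 : idealSect n.ker V t ∈ (j.ker.comap m).ideal ⟨V, hV⟩ := by
    rw [← hker, Scheme.Hom.ker_apply, RingHom.mem_ker]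
    exact Groth.Agent.Helper18.RecCS.app_idealSect n V t
  rw [Groth.Agent.Helper6.IdealComap.ideal_comap m j.ker ⟨V, hV⟩ ⟨W, hW⟩ hVW] at h1
  have h2 : Ideal.map (m.appLE W V hVW).hom (j.ker.ideal ⟨W, hW⟩) ≤
      goodIdeal i j i'' n ψ₁ V := by
    rw [Ideal.map_le_iff_le_comap]
    intro x hx
    rw [Scheme.Hom.ker_apply, RingHom.mem_ker] at hx
    exact appLE_mem_goodIdeal i j i'' n m hsq ψ₁ hψ₁ hW hVW x hx
  obtain ⟨sy, hsy, x, hx⟩ := h2 h1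
  have : sy = sz := ιlin_injective (i'' ≫ n) V (hsy.trans hszt.symm)
  subst this
  exact ⟨x, hx⟩

include hsq hψ₁ hψ₂ in
theorem psi1_psi2 (e : Z'' ⟶ Y) (he : n ≫ m = e ≫ j) : ψ₁ ≫ φ₂' n i'' ψ₂ = 0 := by
  apply ((Scheme.Modules.pullbackPushforwardAdjunction i).homEquiv _ _).injective
  apply ((Scheme.Modules.pullbackPushforwardAdjunction j).homEquiv _ _).injective
  ext W t
  have h1 := homEquiv_app j
    (((Scheme.Modules.pullbackPushforwardAdjunction i).homEquiv _ _) (ψ₁ ≫ φ₂' n i'' ψ₂)) W t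
  have h2 := homEquiv_app i (ψ₁ ≫ φ₂' n i'' ψ₂) (j ⁻¹ᵁ W) (pullSect j (ClSub.idealMod j.ker) W t)
  have h1' := homEquiv_app j
    (((Scheme.Modules.pullbackPushforwardAdjunction i).homEquiv _ _)
      (0 : (Scheme.Modules.pullback i).obj (Omega.conormal j) ⟶ Omega.conormal i'')) W t
  have h2' := homEquiv_app i
    (0 : (Scheme.Modules.pullback i).obj (Omega.conormal j) ⟶ Omega.conormal i'') (j ⁻¹ᵁ W)
    (pullSect j (ClSub.idealMod j.ker) W t)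
  refine h1.trans (h2.trans (Eq.trans ?_ (h1'.trans h2').symm))
  change (φ₂' n i'' ψ₂).app (i ⁻¹ᵁ (j ⁻¹ᵁ W)) (ψ₁.app (i ⁻¹ᵁ (j ⁻¹ᵁ W))
    (pullSect i (Omega.conormal j) (j ⁻¹ᵁ W) (conormalSect j W t))) = 0
  have hx : j.app W (idealSect j.ker W t) = 0 := Groth.Agent.Helper18.RecCS.app_idealSect j W t
  have h0 : (i'' ≫ n).app (m ⁻¹ᵁ W) (m.app W (idealSect j.ker W t)) = 0 := by
    have h1 := Scheme.Hom.congr_app hsq W
    have h2 : ((i'' ≫ n) ≫ m).app W (idealSect j.ker W t) = 0 := by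
      rw [h1]
      change Z.presheaf.map _ (i.app (j ⁻¹ᵁ W) (j.app W (idealSect j.ker W t))) = 0
      rw [hx, map_zero, map_zero]
    exact h2
  obtain ⟨s₀, hs₀⟩ := Groth.Agent.Helper18.RecCS.exists_idealSect_eq' (i'' ≫ n) (m ⁻¹ᵁ W)
    (m.app W (idealSect j.ker W t)) h0
  have hT2 : i ⁻¹ᵁ (j ⁻¹ᵁ W) ≤ (i'' ≫ n) ⁻¹ᵁ (m ⁻¹ᵁ W) := by
    intro z hz
    have h4 : m ((i'' ≫ n) z) = j (i z) := by
      have := congr($hsq z)
      exact this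
    change m ((i'' ≫ n) z) ∈ W
    rw [h4]
    exact hz
  have h5 := hψ₁.2 W t s₀ hs₀ (i ⁻¹ᵁ (j ⁻¹ᵁ W)) le_rfl hT2
  have h6 : (Omega.conormal (i'' ≫ n)).presheaf.map (homOfLE (le_refl (i ⁻¹ᵁ (j ⁻¹ᵁ W)))).op
      (ψ₁.app (i ⁻¹ᵁ (j ⁻¹ᵁ W)) (pullSect i (Omega.conormal j) (j ⁻¹ᵁ W) (conormalSect j W t))) =
      ψ₁.app (i ⁻¹ᵁ (j ⁻¹ᵁ W)) (pullSect i (Omega.conormal j) (j ⁻¹ᵁ W) (conormalSect j W t)) :=
    congr($((Omega.conormal (i'' ≫ n)).presheaf.map_id _) _)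
  rw [h6] at h5
  rw [h5, Groth.Agent.Helper18.PbCompat.hom_naturality]
  have h7 : idealSect i''.ker (n ⁻¹ᵁ (m ⁻¹ᵁ W)) 0 =
      n.app (m ⁻¹ᵁ W) (idealSect (i'' ≫ n).ker (m ⁻¹ᵁ W) s₀) := by
    rw [hs₀, map_zero]
    have h8 := Scheme.Hom.congr_app he W
    have h9 : (n ≫ m).app W (idealSect j.ker W t) = 0 := by
      rw [h8]
      change Z''.presheaf.map _ (e.app (j ⁻¹ᵁ W) (j.app W (idealSect j.ker W t))) = 0
      rw [hx, map_zero, map_zero]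
    exact h9.symm
  have h10 := phi2_spec n i'' ψ₂ hψ₂ (m ⁻¹ᵁ W) s₀ 0 h7
  change (Omega.conormal i'').presheaf.map (homOfLE hT2).op
    ((φ₂' n i'' ψ₂).app (i'' ⁻¹ᵁ (n ⁻¹ᵁ (m ⁻¹ᵁ W))) (conormalSect (i'' ≫ n) (m ⁻¹ᵁ W) s₀)) = 0
  rw [h10, map_zero]
  exact map_zero _

include hsq hker hψ₁ hψ₂ in
theorem ut_seq (e : Z'' ⟶ Y) (he : n ≫ m = e ≫ j) :
    ∃ w : (Scheme.Modules.pullback (𝟙 Z)).map ψ₁ ≫ ψ₂ = 0,
      (ShortComplex.mk _ _ w).Exact ∧ Epi ψ₂ := by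
  haveI q1 : ((Scheme.Modules.pullback i).obj (Omega.conormal j)).IsQuasicoherent :=
    isQuasicoherent_pullback i (Omega.conormal j)
  let 𝒰 : Set Z.Opens := {T | ∃ (V : Z'.Opens) (W : Y'.Opens), IsAffineOpen V ∧ IsAffineOpen W ∧
    V ≤ m ⁻¹ᵁ W ∧ T = i'' ⁻¹ᵁ (n ⁻¹ᵁ V)}
  have hA : ∀ T ∈ 𝒰, IsAffineOpen T := by
    rintro T ⟨V, W, hV, hW, hVW, rfl⟩
    exact isAffineOpen_preimage i'' (isAffineOpen_preimage n hV (le_coborderRange n V))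
      (le_coborderRange i'' _)
  have hcov : ∀ z : Z, ∃ T ∈ 𝒰, z ∈ T := by
    intro z
    obtain ⟨W, hW, hzW⟩ : ∃ W : Y'.Opens, IsAffineOpen W ∧ m (n (i'' z)) ∈ W := by
      obtain ⟨_, ⟨W, hW, rfl⟩, hzW, -⟩ :=
        Y'.isBasis_affineOpens.exists_subset_of_mem_open (Set.mem_univ (m (n (i'' z)))) isOpen_univ
      exact ⟨W, hW, hzW⟩
    obtain ⟨V, hV, hzV, hVW⟩ : ∃ V : Z'.Opens, IsAffineOpen V ∧ n (i'' z) ∈ V ∧ V ≤ m ⁻¹ᵁ W := by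
      obtain ⟨_, ⟨V, hV, rfl⟩, hzV, hVW⟩ :=
        Z'.isBasis_affineOpens.exists_subset_of_mem_open (show n (i'' z) ∈ m ⁻¹ᵁ W from hzW)
          (m ⁻¹ᵁ W).2
      exact ⟨V, hV, hzV, hVW⟩
    exact ⟨i'' ⁻¹ᵁ (n ⁻¹ᵁ V), ⟨V, W, hV, hW, hVW, rfl⟩, hzV⟩
  have w' := psi1_psi2 i j i'' n m hsq ψ₁ hψ₁ ψ₂ hψ₂ e he
  have hex : (ShortComplex.mk ψ₁ (φ₂' n i'' ψ₂) w').Exact := by
    haveI : (ShortComplex.mk ψ₁ (φ₂' n i'' ψ₂) w').X₁.IsQuasicoherent := q1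
    haveI : (ShortComplex.mk ψ₁ (φ₂' n i'' ψ₂) w').X₂.IsQuasicoherent :=
      (inferInstance : (Omega.conormal (i'' ≫ n)).IsQuasicoherent)
    haveI : (ShortComplex.mk ψ₁ (φ₂' n i'' ψ₂) w').X₃.IsQuasicoherent :=
      (inferInstance : (Omega.conormal i'').IsQuasicoherent)
    apply Groth.Agent.Helper18.QCBasic.exact_of_cover (ShortComplex.mk ψ₁ (φ₂' n i'' ψ₂) w') 𝒰 hA
      hcov
    rintro T ⟨V, W, hV, hW, hVW, rfl⟩ mm hm
    exact exact_app_chart i j i'' n m hsq hker ψ₁ hψ₁ ψ₂ hψ₂ hV hW hVW mm hm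
  have hepi' : Epi (φ₂' n i'' ψ₂) := by
    apply Groth.Agent.Helper18.QCBasic.epi_of_cover (φ₂' n i'' ψ₂) 𝒰 hA hcov
    rintro T ⟨V, W, hV, hW, hVW, rfl⟩
    exact surjective_phi2_app n i'' ψ₂ hψ₂ hV (le_coborderRange n V) (le_coborderRange i'' _)
  have hepi : Epi ψ₂ := by
    have : ψ₂ = (Scheme.Modules.pullbackId Z).hom.app (Omega.conormal (i'' ≫ n)) ≫
        φ₂' n i'' ψ₂ := by
      unfold φ₂'
      rw [Iso.hom_inv_id_app_assoc]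
    rw [this]
    exact epi_comp _ _
  have hnat : ψ₁ ≫ (Scheme.Modules.pullbackId Z).inv.app (Omega.conormal (i'' ≫ n)) =
      (Scheme.Modules.pullbackId Z).inv.app ((Scheme.Modules.pullback i).obj (Omega.conormal j)) ≫
        (Scheme.Modules.pullback (𝟙 Z)).map ψ₁ :=
    (Scheme.Modules.pullbackId Z).inv.naturality ψ₁
  have w : (Scheme.Modules.pullback (𝟙 Z)).map ψ₁ ≫ ψ₂ = 0 := by
    rw [← cancel_epi ((Scheme.Modules.pullbackId Z).inv.app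
      ((Scheme.Modules.pullback i).obj (Omega.conormal j))), comp_zero, ← Category.assoc, ← hnat,
      Category.assoc]
    exact w'
  refine ⟨w, ?_, hepi⟩
  have eiso : ShortComplex.mk ψ₁ (φ₂' n i'' ψ₂) w' ≅
      ShortComplex.mk ((Scheme.Modules.pullback (𝟙 Z)).map ψ₁) ψ₂ w :=
    ShortComplex.isoMk
      ((Scheme.Modules.pullbackId Z).symm.app ((Scheme.Modules.pullback i).obj (Omega.conormal j)))
      ((Scheme.Modules.pullbackId Z).symm.app (Omega.conormal (i'' ≫ n))) (Iso.refl _) hnat.symm (by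
        change _ = φ₂' n i'' ψ₂ ≫ 𝟙 _
        rw [Category.comp_id]
        rfl)
  exact ShortComplex.exact_of_iso eiso hex

end Groth.Agent.Helper18.UTSeq
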