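import Mathlib
import Groth.Agent.Lib.Helper18.NrmSeq
import Groth.Agent.Lib.Helper18.UTSeq
import Groth.Agent.Lib.Helper13.LocFree
import Groth.Prelude.Def_MultCurve

set_option autoImplicit false
set_option linter.style.haveILetI false
set_option linter.unusedSectionVars false
set_option maxRecDepth 8000
universe u
open CategoryTheory CategoryTheory.Limits AlgebraicGeometry TopologicalSpace Opposite

namespace Groth.Agent.Helper18.RibInv

open OmegaSh Groth.Agent.Helper18.DerLib
  Groth.Agent.Helper18.ConormalImm Groth.Agent.Helper18.CnSeq Groth.Agent.Helper18.NrmSeq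
  Groth.Agent.Helper18.UTSeq

variable {D C : Scheme.{u}} (i : D ⟶ C) [IsClosedImmersion i]

section Chart

variable {U : C.Opens} (hU : IsAffineOpen U) (hsq : (RingHom.ker (i.app U).hom) ^ 2 = ⊥)

include hU hsq in
theorem conormalSect_injective : Function.Injective (conormalSect i U) := by
  rw [injective_iff_map_eq_zero]
  intro s hs
  have h := ιlin_mem_sq i hU (le_coborderRange i U) s hs
  rw [hsq] at h
  apply ιlin_injective i U
  rw [map_zero]
  exact h

include hU hsq in
/-- `z` generates the ideal with annihilator inside the ideal iff its class freely generates the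
conormal sections. -/
theorem gen_iff (s : Γ(ClSub.idealMod i.ker, U)) :
    (RingHom.ker (i.app U).hom = Ideal.span {ιlin i U s} ∧
      ∀ a : Γ(C, U), a * ιlin i U s = 0 → a ∈ RingHom.ker (i.app U).hom) ↔
    Function.Bijective (fun b : Γ(D, i ⁻¹ᵁ U) => b • conormalSect i U s) := by
  have hinj := conormalSect_injective i hU hsq
  have hsurj := app_surjective i hU (le_coborderRange i U)
  have hsm : ∀ (a : Γ(C, U)) (t : Γ(ClSub.idealMod i.ker, U)),
      conormalSect i U (a • t) = (i.app U).hom a • conormalSect i U t :=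
    fun a t => OmegaSh.pullSect_smul i _ U a t
  constructor
  · rintro ⟨h1, h2⟩
    constructor
    · intro b b' hbb'
      obtain ⟨a, rfl⟩ := hsurj b
      obtain ⟨a', rfl⟩ := hsurj b'
      have h3 : conormalSect i U ((a - a') • s) = 0 := by
        rw [hsm, map_sub, sub_smul]
        exact sub_eq_zero.2 hbb'
      have h4 : (a - a') • s = 0 := hinj (h3.trans (map_zero _).symm)
      have h5 : (a - a') * ιlin i U s = 0 := by
        rw [← smul_eq_mul, ← map_smul, h4, map_zero]
      have h6 := h2 _ h5
      rw [RingHom.mem_ker, map_sub, sub_eq_zero] at h6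
      exact h6
    · intro n
      obtain ⟨t, rfl⟩ := exists_conormalSect_eq i hU (le_coborderRange i U) n
      have ht : ιlin i U t ∈ RingHom.ker (i.app U).hom := by
        rw [← map_ιlin_top i hU]
        exact ⟨t, trivial, rfl⟩
      rw [h1, Ideal.mem_span_singleton'] at ht
      obtain ⟨a, ha⟩ := ht
      refine ⟨(i.app U).hom a, ?_⟩
      change (i.app U).hom a • conormalSect i U s = _
      rw [← hsm]
      congr 1
      apply ιlin_injective i U
      rw [map_smul, smul_eq_mul, ha]
  · rintro ⟨h1, h2⟩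
    have hs : ιlin i U s ∈ RingHom.ker (i.app U).hom := by
      rw [← map_ιlin_top i hU]
      exact ⟨s, trivial, rfl⟩
    constructor
    · apply le_antisymm
      · intro x hx
        rw [← map_ιlin_top i hU] at hx
        obtain ⟨t, -, rfl⟩ := hx
        obtain ⟨b, hb⟩ := h2 (conormalSect i U t)
        obtain ⟨a, rfl⟩ := hsurj b
        have h3 : conormalSect i U (a • s) = conormalSect i U t := by
          rw [hsm]; exact hb
        have h4 := hinj h3
        rw [← h4, map_smul, smul_eq_mul]
        exact Ideal.mem_span_singleton'.2 ⟨a, rfl⟩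
      · rw [Ideal.span_le]
        intro x hx
        rw [Set.mem_singleton_iff] at hx
        rw [hx]
        exact hs
    · intro a ha
      have h3 : a • s = 0 := by
        apply ιlin_injective i U
        rw [map_smul, smul_eq_mul, ha, map_zero]
      have h4 : (i.app U).hom a • conormalSect i U s = (0 : Γ(D, i ⁻¹ᵁ U)) • conormalSect i U s := by
        rw [← hsm, h3, map_zero, zero_smul]
      exact h1 h4

end Chart

section Basis

variable {R N : Type u} [CommRing R] [AddCommGroup N] [Module R N]

/-- a free generator gives a basis indexed by `Fin 1`. -/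
noncomputable def basisOfGen (t : N) (h : Function.Bijective (fun b : R => b • t)) :
    Module.Basis (Fin 1) R N :=
  Module.Basis.ofEquivFun
    ((LinearEquiv.ofBijective (LinearMap.toSpanSingleton R N t) h).symm.trans
      (LinearEquiv.funUnique (Fin 1) R R).symm)

theorem bijective_of_basis (b : Module.Basis (Fin 1) R N) :
    Function.Bijective (fun c : R => c • b 0) := by
  have h : (fun c : R => c • b 0) =
      b.equivFun.symm ∘ (LinearEquiv.funUnique (Fin 1) R R).symm := by
    funext c
    simp [Module.Basis.equivFun_symm_apply]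
  rw [h]
  exact b.equivFun.symm.bijective.comp (LinearEquiv.funUnique (Fin 1) R R).symm.bijective

end Basis

section Main

variable {C : Scheme.{u}} (I : C.IdealSheafData)

theorem ker_sq (hI : I ^ 2 = ⊥) {U : C.Opens} (hU : IsAffineOpen U) :
    (RingHom.ker (I.subschemeι.app U).hom) ^ 2 = ⊥ := by
  have h1 := I.ker_subschemeι_app ⟨U, hU⟩
  rw [h1]
  have h2 : (I ^ 2).ideal ⟨U, hU⟩ = (I.ideal ⟨U, hU⟩) ^ 2 := by
    rw [Scheme.IdealSheafData.ideal_pow]; rfl
  rw [← h2, hI]
  rfl

theorem surjective_subschemeι (hI : I ^ 2 = ⊥) : Function.Surjective I.subschemeι := by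
  intro x
  have h1 : I.support = ⊤ := by
    rw [← Scheme.IdealSheafData.support_pow I 2 two_ne_zero, hI]
    rfl
  have h2 : x ∈ Set.range I.subschemeι := by
    rw [I.range_subschemeι, h1]
    trivial
  exact h2

theorem isInvertible_of_principal (hI : I ^ 2 = ⊥) (h : MultCurve.IsPrincipalOfOrder I 2) :
    PicF.IsInvertible (Omega.conormal I.subschemeι) := by
  intro y
  obtain ⟨U, hxU, z, hz1, hz2⟩ := h (I.subschemeι y)
  have hU : IsAffineOpen (U : C.Opens) := U.2
  have hker := I.ker_subschemeι_app U
  have hzmem : I.subschemeι.app U z = 0 := by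
    have : z ∈ RingHom.ker (I.subschemeι.app U).hom := by
      rw [hker, hz1]; exact Ideal.mem_span_singleton_self z
    exact this
  obtain ⟨s, hs⟩ := Groth.Agent.Helper18.RecCS.exists_idealSect_eq I.subschemeι hU z hzmem
  have hs' : ιlin I.subschemeι U s = z := hs
  have hbij := (gen_iff I.subschemeι hU (ker_sq I hI hU) s).1 ⟨by rw [hs', hker, hz1], by
    intro a ha
    rw [hs'] at ha
    rw [hker]
    exact hz2 a (by simpa using ha)⟩
  have hV : IsAffineOpen (I.subschemeι ⁻¹ᵁ (U : C.Opens)) :=
    isAffineOpen_preimage I.subschemeι hU (le_coborderRange I.subschemeι U)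
  obtain ⟨e⟩ := Groth.Agent.Helper13.LocFree.restrict_iso_freeMod_of_basis
    (Omega.conormal I.subschemeι) hV (basisOfGen _ hbij)
  exact ⟨I.subschemeι ⁻¹ᵁ (U : C.Opens), hxU,
    ⟨e ≪≫ coproductUniqueIso (fun _ : Fin 1 => Coh.structureModule _)⟩⟩

theorem principal_of_isInvertible (hI : I ^ 2 = ⊥)
    (h : PicF.IsInvertible (Omega.conormal I.subschemeι)) : MultCurve.IsPrincipalOfOrder I 2 := by
  intro x
  obtain ⟨y, rfl⟩ := surjective_subschemeι I hI x
  obtain ⟨UD, hyUD, ⟨e⟩⟩ := h y
  have e' : (Omega.conormal I.subschemeι).restrict UD.ι ≅ FlatMod.freeMod (↑UD) 1 :=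
    e ≪≫ (coproductUniqueIso (fun _ : Fin 1 => Coh.structureModule _)).symm
  obtain ⟨W, hW⟩ : ∃ W : C.Opens, I.subschemeι ⁻¹ᵁ W = UD := by
    obtain ⟨w, hw, hw'⟩ := I.subschemeι.isEmbedding.isInducing.isOpen_iff.1 UD.2
    exact ⟨⟨w, hw⟩, Opens.ext hw'⟩
  have hxW : I.subschemeι y ∈ W := by
    have : y ∈ I.subschemeι ⁻¹ᵁ W := by rw [hW]; exact hyUD
    exact this
  obtain ⟨_, ⟨U, hU, rfl⟩, hxU, hUW⟩ := C.isBasis_affineOpens.exists_subset_of_mem_open hxW W.2
  have hVle : I.subschemeι ⁻¹ᵁ U ≤ UD := by
    rw [← hW]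
    intro p hp
    exact hUW hp
  obtain ⟨b⟩ := Groth.Agent.Helper13.LocFree.nonempty_basis_of_restrict_iso
    (Omega.conormal I.subschemeι) e' hVle
  have hbij := bijective_of_basis b
  obtain ⟨s, hs⟩ := exists_conormalSect_eq I.subschemeι hU (le_coborderRange I.subschemeι U) (b 0)
  rw [← hs] at hbij
  obtain ⟨h1, h2⟩ := (gen_iff I.subschemeι hU (ker_sq I hI hU) s).2 hbij
  have hker := I.ker_subschemeι_app ⟨U, hU⟩
  refine ⟨⟨U, hU⟩, hxU, ιlin I.subschemeι U s, ?_, ?_⟩
  · rw [← hker]; exact h1
  · intro a ha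
    rw [← hker]
    exact h2 a (by simpa using ha)

end Main

end Groth.Agent.Helper18.RibInv
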