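import Mathlib
import Groth.Agent.Lib.Helper18.Rigid4

set_option autoImplicit false
set_option linter.style.haveILetI false
set_option linter.unusedSectionVars false
universe u
open CategoryTheory AlgebraicGeometry Limits Opposite TopologicalSpace

namespace Groth.Agent.Helper18.Rigid

/-- finitely many sections with vanishing germ at `x` vanish on a common neighbourhood -/
theorem exists_open_res_eq_zero {X : Scheme.{u}} {U : X.Opens} (x : X) (hxU : x ∈ U)
    (s : Finset Γ(X, U)) (hs : ∀ d ∈ s, (X.presheaf.germ U x hxU).hom d = 0) :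
    ∃ (W : X.Opens) (hWU : W ≤ U), x ∈ W ∧ ∀ d ∈ s, (X.presheaf.map (homOfLE hWU).op).hom d = 0 := by
  classical
  induction s using Finset.induction_on with
  | empty => exact ⟨U, le_refl U, hxU, fun d hd => absurd hd (Finset.notMem_empty d)⟩
  | insert d s' hd ih =>
    obtain ⟨W, hWU, hxW, hW⟩ := ih (fun d' hd' => hs d' (Finset.mem_insert_of_mem hd'))
    have h0 := hs d (Finset.mem_insert_self d s')
    have h1 : (X.presheaf.germ U x hxU).hom d = (X.presheaf.germ U x hxU).hom 0 := by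
      rw [h0, map_zero]
    obtain ⟨W', hxW', iU, iV, hW'⟩ := TopCat.Presheaf.germ_eq X.presheaf x hxU hxU d 0 h1
    refine ⟨W ⊓ W', inf_le_left.trans hWU, ⟨hxW, hxW'⟩, ?_⟩
    intro d' hd'
    rcases Finset.mem_insert.mp hd' with rfl | hd'
    · have e : (homOfLE (inf_le_left.trans hWU : W ⊓ W' ≤ U)).op =
          iU.op ≫ (homOfLE (inf_le_right : W ⊓ W' ≤ W')).op := Subsingleton.elim _ _
      rw [e, Functor.map_comp, CommRingCat.comp_apply]
      have hW'' : (X.presheaf.map iU.op).hom d' = 0 := by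
        have := hW'
        rw [map_zero] at this
        exact this
      rw [hW'', map_zero]
    · have e : (homOfLE (inf_le_left.trans hWU : W ⊓ W' ≤ U)).op =
          (homOfLE hWU).op ≫ (homOfLE (inf_le_left : W ⊓ W' ≤ W)).op := Subsingleton.elim _ _
      rw [e, Functor.map_comp, CommRingCat.comp_apply, hW d' hd', map_zero]

/-- two morphisms which agree on `Spec 𝒪_{X,x}` agree on a neighbourhood of `x`, for `X` locally
Noetherian -/
theorem agree_near_of_stalk {X Y : Scheme.{u}} [IsLocallyNoetherian X] (f g : X ⟶ Y) (x : X)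
    (h : X.fromSpecStalk x ≫ f = X.fromSpecStalk x ≫ g) :
    ∃ W : X.Opens, x ∈ W ∧ W.ι ≫ f = W.ι ≫ g := by
  have hfx : f.base x = g.base x := by
    have := congrArg (fun k => k.base (IsLocalRing.closedPoint (X.presheaf.stalk x))) h
    simpa only [Scheme.Hom.comp_base, TopCat.comp_app, Scheme.fromSpecStalk_closedPoint] using this
  obtain ⟨_, ⟨V, hV, rfl⟩, hyV, -⟩ :=
    Y.isBasis_affineOpens.exists_subset_of_mem_open (Set.mem_univ (f.base x)) isOpen_univ
  obtain ⟨V, rfl⟩ : ∃ V' : Y.Opens, V' = V := ⟨V, rfl⟩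
  have hx' : x ∈ ((f ⁻¹ᵁ V ⊓ g ⁻¹ᵁ V : X.Opens) : Set X) := ⟨hyV, by
    change g.base x ∈ V
    rw [← hfx]; exact hyV⟩
  obtain ⟨_, ⟨U, hU, rfl⟩, hxU, hUfg⟩ :=
    X.isBasis_affineOpens.exists_subset_of_mem_open hx' (f ⁻¹ᵁ V ⊓ g ⁻¹ᵁ V).2
  obtain ⟨U, rfl⟩ : ∃ U' : X.Opens, U' = U := ⟨U, rfl⟩
  have eUf : U ≤ f ⁻¹ᵁ V := fun a ha => (hUfg ha).1
  have eUg : U ≤ g ⁻¹ᵁ V := fun a ha => (hUfg ha).2
  -- germs agree
  have hgerm : ∀ c : Γ(Y, V), (X.presheaf.germ U x hxU).hom ((f.appLE V U eUf).hom c) =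
      (X.presheaf.germ U x hxU).hom ((g.appLE V U eUg).hom c) := by
    intro c
    have e1 : (⊤ : (Spec (X.presheaf.stalk x)).Opens) ≤ (X.fromSpecStalk x) ⁻¹ᵁ U := by
      intro t _
      exact (Scheme.range_fromSpecStalk (x := x)).subset ⟨t, rfl⟩ |> fun ht => by
        exact (ht : _ ⤳ x).mem_open U.2 hxU
    have h1 : (X.fromSpecStalk x ≫ f).appLE V ⊤ (e1.trans ((X.fromSpecStalk x).preimage_mono eUf)) =
        f.appLE V U eUf ≫ (X.fromSpecStalk x).appLE U ⊤ e1 :=
      (Scheme.Hom.appLE_comp_appLE _ _ V U ⊤ eUf e1).symm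
    have h2 : (X.fromSpecStalk x ≫ g).appLE V ⊤ (e1.trans ((X.fromSpecStalk x).preimage_mono eUg)) =
        g.appLE V U eUg ≫ (X.fromSpecStalk x).appLE U ⊤ e1 :=
      (Scheme.Hom.appLE_comp_appLE _ _ V U ⊤ eUg e1).symm
    have h3 := appLE_congr_hom h V ⊤ (e1.trans ((X.fromSpecStalk x).preimage_mono eUf))
    have h4 : (X.fromSpecStalk x).appLE U ⊤ e1 =
        X.presheaf.germ U x hxU ≫ (Scheme.ΓSpecIso (X.presheaf.stalk x)).inv := by
      rw [Scheme.Hom.appLE, Scheme.fromSpecStalk_app hxU, Category.assoc, Category.assoc,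
        ← Functor.map_comp]
      have : ((homOfLE le_top).op ≫ (homOfLE e1).op :
          op (⊤ : (Spec (X.presheaf.stalk x)).Opens) ⟶ op ⊤) = 𝟙 _ := Subsingleton.elim _ _
      rw [this, CategoryTheory.Functor.map_id, Category.comp_id]
    have h5 : f.appLE V U eUf ≫ X.presheaf.germ U x hxU ≫
        (Scheme.ΓSpecIso (X.presheaf.stalk x)).inv =
        g.appLE V U eUg ≫ X.presheaf.germ U x hxU ≫
        (Scheme.ΓSpecIso (X.presheaf.stalk x)).inv := by
      rw [← h4, ← h1, ← h2, h3]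
    have h6 := congrArg (fun k => k ≫ (Scheme.ΓSpecIso (X.presheaf.stalk x)).hom) h5
    simp only [Category.assoc, Iso.inv_hom_id, Category.comp_id] at h6
    exact congrArg (fun k => k.hom c) h6
  haveI : IsNoetherianRing Γ(X, U) := IsLocallyNoetherian.component_noetherian ⟨U, hU⟩
  set I : Ideal Γ(X, U) :=
    Ideal.span (Set.range fun c : Γ(Y, V) => (f.appLE V U eUf).hom c - (g.appLE V U eUg).hom c)
    with hI
  have hfg : I.FG := IsNoetherian.noetherian I
  obtain ⟨s', hs'sub, hs'span⟩ := (Submodule.fg_span_iff_fg_span_finset_subset _).mp hfg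
  have hs'germ : ∀ d ∈ s', (X.presheaf.germ U x hxU).hom d = 0 := by
    intro d hd
    obtain ⟨c, rfl⟩ := hs'sub hd
    rw [map_sub, hgerm c, sub_self]
  obtain ⟨W', hW'U, hxW', hW'⟩ := exists_open_res_eq_zero x hxU s' hs'germ
  obtain ⟨_, ⟨W, hW, rfl⟩, hxW, hWW'⟩ :=
    X.isBasis_affineOpens.exists_subset_of_mem_open hxW' W'.2
  obtain ⟨W, rfl⟩ : ∃ W'' : X.Opens, W'' = W := ⟨W, rfl⟩
  have hWU : W ≤ U := (show W ≤ W' from hWW').trans hW'U
  have hIW : ∀ d ∈ I, (X.presheaf.map (homOfLE hWU).op).hom d = 0 := by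
    have hle : I ≤ RingHom.ker (X.presheaf.map (homOfLE hWU).op).hom := by
      have hI2 : I = Ideal.span (s' : Set Γ(X, U)) := hs'span
      rw [hI2]
      refine Ideal.span_le.mpr (fun d hd => ?_)
      rw [SetLike.mem_coe, RingHom.mem_ker]
      have e : (homOfLE hWU).op = (homOfLE hW'U).op ≫ (homOfLE (show W ≤ W' from hWW')).op :=
        Subsingleton.elim _ _
      rw [e, Functor.map_comp, CommRingCat.comp_apply, hW' d hd, map_zero]
    exact fun d hd => hle hd
  have happ : f.appLE V W (hWU.trans eUf) = g.appLE V W (hWU.trans eUg) := by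
    rw [← Scheme.Hom.appLE_map f eUf (homOfLE hWU).op, ← Scheme.Hom.appLE_map g eUg (homOfLE hWU).op]
    ext c
    have := hIW _ (Ideal.subset_span ⟨c, rfl⟩)
    rw [map_sub, sub_eq_zero] at this
    exact this
  refine ⟨W, hxW, ?_⟩
  have h1 := IsAffineOpen.SpecMap_appLE_fromSpec f hV hW (hWU.trans eUf)
  have h2 := IsAffineOpen.SpecMap_appLE_fromSpec g hV hW (hWU.trans eUg)
  rw [happ, h2] at h1
  have h3 : hW.fromSpec = hW.isoSpec.inv ≫ W.ι := rfl
  rw [h3, Category.assoc, Category.assoc] at h1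
  exact ((Iso.cancel_iso_inv_left _ _ _).mp h1).symm

end Groth.Agent.Helper18.Rigid
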