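import Mathlib

set_option autoImplicit false
set_option linter.style.haveILetI false
universe u

namespace Groth.Agent.Helper18.Rigid

variable (R : Type u) [CommRing R] [IsLocalRing R] [IsNoetherianRing R] (n : ℕ)

theorem pow_ne_top (hn : 0 < n) : (IsLocalRing.maximalIdeal R) ^ n ≠ ⊤ := by
  intro h
  have h1 : (IsLocalRing.maximalIdeal R) ^ n ≤ IsLocalRing.maximalIdeal R :=
    Ideal.pow_le_self hn.ne'
  rw [h] at h1
  exact (IsLocalRing.maximalIdeal.isMaximal R).ne_top (top_le_iff.mp h1)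

theorem quot_nontrivial (hn : 0 < n) : Nontrivial (R ⧸ (IsLocalRing.maximalIdeal R) ^ n) :=
  Ideal.Quotient.nontrivial_iff.mpr (pow_ne_top R n hn)

theorem quot_isLocalRing (hn : 0 < n) : IsLocalRing (R ⧸ (IsLocalRing.maximalIdeal R) ^ n) := by
  haveI := quot_nontrivial R n hn
  exact IsLocalRing.of_surjective' (Ideal.Quotient.mk _) Ideal.Quotient.mk_surjective

theorem quot_isArtinianRing (hn : 0 < n) :
    IsArtinianRing (R ⧸ (IsLocalRing.maximalIdeal R) ^ n) := by
  haveI := quot_isLocalRing R n hn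
  rw [isArtinianRing_iff_isNilpotent_maximalIdeal]
  refine ⟨n, ?_⟩
  rw [Ideal.zero_eq_bot, eq_bot_iff]
  have h1 : IsLocalRing.maximalIdeal (R ⧸ (IsLocalRing.maximalIdeal R) ^ n) ≤
      (IsLocalRing.maximalIdeal R).map (Ideal.Quotient.mk ((IsLocalRing.maximalIdeal R) ^ n)) := by
    intro a ha
    obtain ⟨r, rfl⟩ := Ideal.Quotient.mk_surjective a
    refine Ideal.mem_map_of_mem _ ?_
    rw [IsLocalRing.mem_maximalIdeal] at ha ⊢
    intro hr
    exact ha (hr.map _)
  calc IsLocalRing.maximalIdeal (R ⧸ (IsLocalRing.maximalIdeal R) ^ n) ^ n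
      ≤ ((IsLocalRing.maximalIdeal R).map
          (Ideal.Quotient.mk ((IsLocalRing.maximalIdeal R) ^ n))) ^ n := Ideal.pow_right_mono h1 n
    _ = ((IsLocalRing.maximalIdeal R) ^ n).map
          (Ideal.Quotient.mk ((IsLocalRing.maximalIdeal R) ^ n)) := (Ideal.map_pow _ _ _).symm
    _ = ⊥ := Ideal.map_quotient_self _

theorem quot_spec_subsingleton (hn : 0 < n) :
    Subsingleton (PrimeSpectrum (R ⧸ (IsLocalRing.maximalIdeal R) ^ n)) := by
  haveI := quot_isLocalRing R n hn
  haveI := quot_isArtinianRing R n hn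
  refine ⟨fun P Q => ?_⟩
  have hP : P.asIdeal = IsLocalRing.maximalIdeal _ :=
    IsLocalRing.eq_maximalIdeal (IsArtinianRing.isMaximal_of_isPrime P.asIdeal)
  have hQ : Q.asIdeal = IsLocalRing.maximalIdeal _ :=
    IsLocalRing.eq_maximalIdeal (IsArtinianRing.isMaximal_of_isPrime Q.asIdeal)
  exact PrimeSpectrum.ext (hP.trans hQ.symm)

end Groth.Agent.Helper18.Rigid
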