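import Mathlib
import Groth.Agent.Lib.Helper18.Rigid4

set_option autoImplicit false
set_option linter.style.haveILetI false
set_option linter.unusedSectionVars false
universe u
open CategoryTheory AlgebraicGeometry Limits Opposite TopologicalSpace TensorProduct

namespace Groth.Agent.Helper18.Rigid

/-- Pure algebra: if `L ⊗_F Ω` is a domain integral over the algebraically closed field `Ω`,
then `F → L` is bijective. -/
theorem bijective_of_isPushout_domain {F L O D : Type u} [Field F] [CommRing L] [Nontrivial L]
    [Field O] [IsAlgClosed O] [CommRing D] [IsDomain D]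
    [Algebra F L] [Algebra F O] [Algebra L D] [Algebra O D] [Algebra F D] [IsScalarTower F L D]
    [IsScalarTower F O D] [Algebra.IsIntegral O D] (h : Algebra.IsPushout F O L D) :
    Function.Bijective (algebraMap F L) := by
  have hOD : Function.Bijective (algebraMap O D) :=
    IsAlgClosed.algebraMap_bijective_of_isIntegral
  have h1 : Module.finrank O D = 1 := by
    rw [← (LinearEquiv.ofBijective (Algebra.linearMap O D) hOD).finrank_eq, Module.finrank_self]
  have h2 : Module.finrank O (O ⊗[F] L) = 1 := by
    rw [(Algebra.IsPushout.equiv F O L D).toLinearEquiv.finrank_eq, h1]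
  rw [Module.finrank_baseChange] at h2
  have h3 := Subalgebra.bot_eq_top_of_finrank_eq_one h2
  refine ⟨(algebraMap F L).injective, fun a => ?_⟩
  have : a ∈ (⊤ : Subalgebra F L) := Algebra.mem_top
  rw [← h3] at this
  exact Algebra.mem_bot.mp this

end Groth.Agent.Helper18.Rigid
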