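import Mathlib
import Groth.Agent.Lib.Helper18.Rigid23

set_option autoImplicit false
set_option linter.style.haveILetI false
set_option linter.unusedSectionVars false
universe u
open CategoryTheory AlgebraicGeometry Limits Opposite TopologicalSpace TensorProduct

namespace Groth.Agent.Helper18.Rigid

/-- A proper geometrically integral scheme over a field has only constant global functions. -/
theorem bijective_appTop_of_geometricallyIntegral {Z : Scheme.{u}} (K : Type u) [Field K]
    (z : Z ⟶ Spec (CommRingCat.of K)) [IsProper z] [GeometricallyIntegral z] :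
    Function.Bijective z.appTop.hom := by
  haveI : IsIntegral Z := GeometricallyIntegral.isIntegral_of_subsingleton z
  obtain ⟨b, hb⟩ : ∃ b : Spec (CommRingCat.of (AlgebraicClosure K)) ⟶ Spec (CommRingCat.of K),
      b = Spec.map (CommRingCat.ofHom (algebraMap K (AlgebraicClosure K))) := ⟨_, rfl⟩
  have H : IsPullback (pullback.fst z b) (pullback.snd z b) z b := .of_hasPullback _ _
  haveI : IsIntegral (pullback z b) :=
    GeometricallyIntegral.geometrically_isIntegral (f := z) b _ _ H
  haveI : Flat b := by
    rw [hb, Flat.SpecMap_iff, CommRingCat.hom_ofHom, RingHom.flat_algebraMap_iff]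
    infer_instance
  haveI : CompactSpace ↥Z := QuasiCompact.compactSpace_of_compactSpace z
  haveI : QuasiSeparatedSpace ↥Z := quasiSeparatedSpace_of_quasiSeparated z
  have hiso := isIso_pushoutSection_of_isQuasiSeparated_of_flat_right H
    (US := ⊤) (UT := ⊤) (UX := ⊤) (UY := ⊤) (by simp) (by simp) (by simp)
    (isAffineOpen_top _) (isAffineOpen_top _) (by simpa using isCompact_univ)
    (by simpa using isQuasiSeparated_univ)
  have hpo := (isIso_pushoutSection_iff H (US := ⊤) (UT := ⊤) (UX := ⊤) (UY := ⊤)
    (by simp) (by simp) (by simp)).mp hiso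
  rw [appLE_top_top, appLE_top_top, appLE_top_top, appLE_top_top] at hpo
  -- transport the corners to `K` and its algebraic closure
  have hnat : CommRingCat.ofHom (algebraMap K (AlgebraicClosure K)) ≫
      (Scheme.ΓSpecIso (CommRingCat.of (AlgebraicClosure K))).inv =
      (Scheme.ΓSpecIso (CommRingCat.of K)).inv ≫ b.appTop := by
    rw [hb]
    exact Scheme.ΓSpecIso_inv_naturality _
  have hpo' : IsPushout (CommRingCat.ofHom (algebraMap K (AlgebraicClosure K)))
      ((Scheme.ΓSpecIso (CommRingCat.of K)).inv ≫ z.appTop)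
      ((Scheme.ΓSpecIso (CommRingCat.of (AlgebraicClosure K))).inv ≫ (pullback.snd z b).appTop)
      (pullback.fst z b).appTop := by
    refine IsPushout.of_iso hpo.flip (Scheme.ΓSpecIso (CommRingCat.of K))
      (Scheme.ΓSpecIso (CommRingCat.of (AlgebraicClosure K))) (Iso.refl _) (Iso.refl _)
      ?_ ?_ ?_ ?_
    · rw [← cancel_epi (Scheme.ΓSpecIso (CommRingCat.of K)).inv, Iso.inv_hom_id_assoc,
        ← Category.assoc, ← hnat, Category.assoc, Iso.inv_hom_id, Category.comp_id]
    · rw [Iso.refl_hom, Category.comp_id, Iso.hom_inv_id_assoc]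
    · rw [Iso.refl_hom, Category.comp_id, Iso.hom_inv_id_assoc]
    · rw [Iso.refl_hom, Iso.refl_hom, Category.comp_id, Category.id_comp]
  -- algebra structures
  letI : Algebra K Γ(Z, ⊤) := ((Scheme.ΓSpecIso (CommRingCat.of K)).inv ≫ z.appTop).hom.toAlgebra
  letI : Algebra Γ(Z, ⊤) Γ(pullback z b, ⊤) := (pullback.fst z b).appTop.hom.toAlgebra
  letI : Algebra (AlgebraicClosure K) Γ(pullback z b, ⊤) :=
    ((Scheme.ΓSpecIso (CommRingCat.of (AlgebraicClosure K))).inv ≫
      (pullback.snd z b).appTop).hom.toAlgebra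
  letI : Algebra K Γ(pullback z b, ⊤) :=
    (((Scheme.ΓSpecIso (CommRingCat.of K)).inv ≫ z.appTop) ≫ (pullback.fst z b).appTop).hom.toAlgebra
  haveI : IsScalarTower K Γ(Z, ⊤) Γ(pullback z b, ⊤) := IsScalarTower.of_algebraMap_eq' rfl
  haveI : IsScalarTower K (AlgebraicClosure K) Γ(pullback z b, ⊤) := by
    refine IsScalarTower.of_algebraMap_eq' ?_
    have := congrArg (fun k => k.hom) hpo'.w
    exact this.symm
  haveI : Algebra.IsIntegral (AlgebraicClosure K) Γ(pullback z b, ⊤) := by
    have h1 : (pullback.snd z b).appTop.hom.IsIntegral :=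
      isIntegral_appTop_of_universallyClosed (pullback.snd z b)
    have h2 : (Scheme.ΓSpecIso (CommRingCat.of (AlgebraicClosure K))).inv.hom.IsIntegral :=
      RingHom.isIntegral_of_surjective _
        ((ConcreteCategory.isIso_iff_bijective
          (Scheme.ΓSpecIso (CommRingCat.of (AlgebraicClosure K))).inv).mp inferInstance).surjective
    exact ⟨RingHom.IsIntegral.trans _ _ h2 h1⟩
  have hAP : Algebra.IsPushout K (AlgebraicClosure K) Γ(Z, ⊤) Γ(pullback z b, ⊤) :=
    CommRingCat.isPushout_iff_isPushout.mp hpo'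
  have hbij := bijective_of_isPushout_domain hAP
  have h2 : Function.Bijective (Scheme.ΓSpecIso (CommRingCat.of K)).inv.hom :=
    (ConcreteCategory.isIso_iff_bijective (Scheme.ΓSpecIso (CommRingCat.of K)).inv).mp
      inferInstance
  have h3 : (algebraMap K Γ(Z, ⊤) : _ → _) =
      z.appTop.hom ∘ (Scheme.ΓSpecIso (CommRingCat.of K)).inv.hom := rfl
  rw [h3] at hbij
  exact (Function.Bijective.of_comp_iff _ h2).mp hbij

end Groth.Agent.Helper18.Rigid
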