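import Mathlib
import Groth.Agent.Lib.Helper18.Rigid18
import Groth.Agent.Lib.Helper18.Rigid24

set_option autoImplicit false
set_option linter.style.haveILetI false
set_option linter.unusedSectionVars false
universe u
open CategoryTheory AlgebraicGeometry Limits Opposite TopologicalSpace

namespace Groth.Agent.Helper18.Rigid

/-- The collapse locus of a proper flat morphism with constant fibrewise functions is open and
closed. -/
theorem collapse_isClopen_proper {S X Y B : Scheme.{u}} [IsLocallyNoetherian S]
    (p : X ⟶ S) [Flat p] [IsProper p] (q : Y ⟶ B) [IsSeparated q] (b : S ⟶ B) (f : X ⟶ Y)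
    (hf : f ≫ q = p ≫ b)
    (h0 : ∀ s : S, Function.Bijective (pullback.snd p (S.fromSpecResidueField s)).appTop.hom)
    :
    IsClopen {s : S | ∀ x x' : X, p.base x = s → p.base x' = s → f.base x = f.base x'} := by
  haveI : IsLocallyNoetherian X := LocallyOfFiniteType.isLocallyNoetherian p
  haveI : IsLocallyNoetherian (pullback p p) :=
    LocallyOfFiniteType.isLocallyNoetherian (pullback.snd p p)
  have hsurj : ∀ s : S, ∃ x : X, p.base x = s :=
    surjective_of_h0 p (fun s => (h0 s).injective)
  have hf' : (pullback.fst p p ≫ f) ≫ q = pullback.snd p p ≫ (p ≫ b) := by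
    rw [Category.assoc, hf, ← Category.assoc, pullback.condition, Category.assoc]
  have he : pullback.diagonal p ≫ pullback.snd p p = 𝟙 X := pullback.diagonal_snd p
  have h0' : ∀ x : X, Function.Surjective
      (pullback.snd (pullback.snd p p) (X.fromSpecResidueField x)).appTop.hom :=
    fun x => (h0_baseChange p p h0 x).surjective
  have hclopen' := collapse_isClopen (pullback.snd p p) q (p ≫ b) (pullback.fst p p ≫ f) hf'
    (pullback.diagonal p) he (pullback.snd p p).isClosedMap h0'
  -- compare with the collapse locus downstairs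
  have hcomp : ∀ x : X, x ∈ {x : X | ∀ z z' : ↥(pullback p p), (pullback.snd p p).base z = x →
      (pullback.snd p p).base z' = x →
      (pullback.fst p p ≫ f).base z = (pullback.fst p p ≫ f).base z'} ↔
      p.base x ∈ {s : S | ∀ x x' : X, p.base x = s → p.base x' = s → f.base x = f.base x'} := by
    intro x
    have hcond : ∀ z : ↥(pullback p p), p.base ((pullback.fst p p).base z) =
        p.base ((pullback.snd p p).base z) := by
      intro z
      rw [← TopCat.comp_app, ← TopCat.comp_app, ← Scheme.Hom.comp_base, ← Scheme.Hom.comp_base,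
        pullback.condition]
    constructor
    · intro hx x₁ x₂ hx₁ hx₂
      obtain ⟨z₁, hz₁, hz₁'⟩ := Scheme.Pullback.exists_preimage_pullback x₁ x hx₁
      obtain ⟨z₂, hz₂, hz₂'⟩ := Scheme.Pullback.exists_preimage_pullback x₂ x hx₂
      have := hx z₁ z₂ hz₁' hz₂'
      simp only [Scheme.Hom.comp_base, TopCat.comp_app] at this
      rw [hz₁, hz₂] at this
      exact this
    · intro hx z z' hz hz'
      simp only [Scheme.Hom.comp_base, TopCat.comp_app]
      apply hx
      · rw [hcond, hz]
      · rw [hcond, hz']
  obtain ⟨T', hT'⟩ : ∃ T' : Set X, T' = {x : X | ∀ z z' : ↥(pullback p p),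
      (pullback.snd p p).base z = x → (pullback.snd p p).base z' = x →
      (pullback.fst p p ≫ f).base z = (pullback.fst p p ≫ f).base z'} := ⟨_, rfl⟩
  obtain ⟨T, hT⟩ : ∃ T : Set S, T = {s : S | ∀ x x' : X, p.base x = s → p.base x' = s →
      f.base x = f.base x'} := ⟨_, rfl⟩
  rw [← hT'] at hclopen' hcomp
  rw [← hT] at hcomp
  have hTimg : T = p.base '' T' := by
    ext s'
    constructor
    · intro hs'
      obtain ⟨x, hx⟩ := hsurj s'
      exact ⟨x, (hcomp x).mpr (hx ▸ hs'), hx⟩
    · rintro ⟨x, hx, rfl⟩
      exact (hcomp x).mp hx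
  have hTcimg : Tᶜ = p.base '' T'ᶜ := by
    ext s'
    constructor
    · intro hs'
      obtain ⟨x, hx⟩ := hsurj s'
      exact ⟨x, fun hxT => hs' (hx ▸ (hcomp x).mp hxT), hx⟩
    · rintro ⟨x, hx, rfl⟩ hpx
      exact hx ((hcomp x).mpr hpx)
  have hTclopen : IsClopen T := by
    constructor
    · rw [hTimg]
      exact p.isClosedMap _ hclopen'.1
    · rw [← isClosed_compl_iff, hTcimg]
      exact p.isClosedMap _ hclopen'.2.isClosed_compl
  rw [hT] at hTclopen
  exact hTclopen

/-- Fibres of a proper geometrically integral morphism have only constant functions. -/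
theorem h0_of_geometricallyIntegral {S X : Scheme.{u}} (p : X ⟶ S) [IsProper p]
    [GeometricallyIntegral p] (s : S) :
    Function.Bijective (pullback.snd p (S.fromSpecResidueField s)).appTop.hom :=
  bijective_appTop_of_geometricallyIntegral (S.residueField s)
    (pullback.snd p (S.fromSpecResidueField s))

end Groth.Agent.Helper18.Rigid
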