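import Mathlib
import Groth.Agent.Lib.Helper18.Rigid5

set_option autoImplicit false
set_option linter.style.haveILetI false
set_option linter.unusedSectionVars false
universe u
open CategoryTheory AlgebraicGeometry Limits Opposite TopologicalSpace

namespace Groth.Agent.Helper18.Rigid

variable {A : Type u} [CommRing A] {X : Scheme.{u}}
  (p : X ⟶ Spec (CommRingCat.of A))
  {K : Type u} [CommRing K] (κ : A →+* K) (hκ : Function.Surjective κ)
  {Z : Scheme.{u}} (pr : Z ⟶ X) (z : Z ⟶ Spec (CommRingCat.of K))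
  (sq : IsPullback pr z p (Spec.map (CommRingCat.ofHom κ)))

include sq in
theorem prTop_psi' (a : A) : pr.appTop.hom (psiOf p a) = psiOf z (κ a) := by
  have h1 : p.appTop ≫ pr.appTop = (Spec.map (CommRingCat.ofHom κ)).appTop ≫ z.appTop := by
    rw [← Scheme.Hom.comp_appTop, ← Scheme.Hom.comp_appTop, sq.w]
  have h2 := Scheme.ΓSpecIso_inv_naturality (CommRingCat.ofHom κ)
  have h3 : (Scheme.ΓSpecIso (CommRingCat.of A)).inv ≫ p.appTop ≫ pr.appTop =
      CommRingCat.ofHom κ ≫ (Scheme.ΓSpecIso (CommRingCat.of K)).inv ≫ z.appTop := by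
    rw [h1, ← Category.assoc, ← h2, Category.assoc]
  exact congrArg (fun k => k.hom a) h3

include sq hκ in
theorem mem_of_app_eq_zero' (U : X.Opens) (hU : IsAffineOpen U) (b : Γ(X, U))
    (hb : (pr.app U).hom b = 0) : b ∈ (RingHom.ker κ).map (phiU (psiOf p) U) := by
  set J := (RingHom.ker κ).map (phiU (psiOf p) U) with hJ
  let q : Γ(X, U) ⟶ CommRingCat.of (Γ(X, U) ⧸ J) := CommRingCat.ofHom (Ideal.Quotient.mk J)
  let g : A →+* Γ(X, U) ⧸ J := (Ideal.Quotient.mk J).comp (phiU (psiOf p) U)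
  have hg : RingHom.ker κ ≤ RingHom.ker g := by
    intro a ha
    rw [RingHom.mem_ker]
    change Ideal.Quotient.mk J (phiU (psiOf p) U a) = 0
    rw [Ideal.Quotient.eq_zero_iff_mem]
    exact Ideal.mem_map_of_mem _ ha
  let κ' : K →+* Γ(X, U) ⧸ J := RingHom.liftOfSurjective κ hκ ⟨g, hg⟩
  have hκ' : κ'.comp κ = g := RingHom.liftOfRightInverse_comp _ _ _ ⟨g, hg⟩
  have compat : (Spec.map q ≫ hU.fromSpec) ≫ p =
      Spec.map (CommRingCat.ofHom κ') ≫ Spec.map (CommRingCat.ofHom κ) := by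
    rw [Category.assoc, fromSpec_comp, ← Spec.map_comp, ← Spec.map_comp]
    congr 1
    ext a
    exact (congrArg (fun k => k a) hκ').symm
  let w : Spec (CommRingCat.of (Γ(X, U) ⧸ J)) ⟶ Z := sq.lift _ _ compat
  have hw : w ≫ pr = Spec.map q ≫ hU.fromSpec := sq.lift_fst _ _ compat
  have e : (⊤ : (Spec (CommRingCat.of (Γ(X, U) ⧸ J))).Opens) ≤
      (Spec.map q ≫ hU.fromSpec) ⁻¹ᵁ U := by
    intro t _
    change (Spec.map q ≫ hU.fromSpec).base t ∈ U
    rw [Scheme.Hom.comp_base, TopCat.comp_app]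
    have : hU.fromSpec.base ((Spec.map q).base t) ∈ Set.range hU.fromSpec.base := ⟨_, rfl⟩
    rw [hU.range_fromSpec] at this
    exact this
  have h1 := specMap_fromSpec_appLE hU q e
  have e' : (⊤ : (Spec (CommRingCat.of (Γ(X, U) ⧸ J))).Opens) ≤ (w ≫ pr) ⁻¹ᵁ U := hw ▸ e
  have h2 : (w ≫ pr).appLE U ⊤ e' = (Spec.map q ≫ hU.fromSpec).appLE U ⊤ e :=
    appLE_congr_hom hw U ⊤ e'
  have e₂ : (⊤ : (Spec (CommRingCat.of (Γ(X, U) ⧸ J))).Opens) ≤ w ⁻¹ᵁ (pr ⁻¹ᵁ U) := e'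
  have h3 : (w ≫ pr).appLE U ⊤ e' = pr.app U ≫ w.appLE (pr ⁻¹ᵁ U) ⊤ e₂ := by
    rw [Scheme.Hom.app_eq_appLE, Scheme.Hom.appLE_comp_appLE]
  have h4 : (q ≫ (Scheme.ΓSpecIso _).inv).hom b = 0 := by
    rw [← h1, ← h2, h3, CommRingCat.comp_apply, hb, map_zero]
  rw [CommRingCat.comp_apply] at h4
  have h5 : q.hom b = 0 := by
    have hinj : Function.Injective (Scheme.ΓSpecIso (CommRingCat.of (Γ(X, U) ⧸ J))).inv.hom :=
      (ConcreteCategory.bijective_of_isIso _).1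
    exact hinj (by rw [h4, map_zero])
  exact (Ideal.Quotient.eq_zero_iff_mem).mp h5

end Groth.Agent.Helper18.Rigid
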