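import Mathlib
import Groth.Agent.Lib.Helper18.Rigid26
import Groth.Agent.Lib.Helper18.Rigid7
import Groth.Agent.Lib.Helper18.Rigid9

set_option autoImplicit false
set_option linter.style.haveILetI false
set_option linter.unusedSectionVars false
universe u
open CategoryTheory AlgebraicGeometry Limits Opposite TopologicalSpace

namespace Groth.Agent.Helper18.Rigid

section
variable (R : Type u) [CommRing R] [IsLocalRing R] [IsNoetherianRing R]
  {X X₀ : Scheme.{u}} (g : X ⟶ Spec (CommRingCat.of R)) [Flat g]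
  (i : X₀ ⟶ X) (f₀ : X₀ ⟶ Spec (CommRingCat.of (R ⧸ IsLocalRing.maximalIdeal R)))
  (hsq : IsPullback i f₀ g
    (Spec.map (CommRingCat.ofHom (Ideal.Quotient.mk (IsLocalRing.maximalIdeal R)))))
  (h0 : Function.Surjective f₀.appTop.hom) [Nonempty X₀]

/-- the `n`-th infinitesimal neighbourhood of the closed fibre -/
noncomputable abbrev kn (n : ℕ) : CommRingCat.of R ⟶ CommRingCat.of (R ⧸ (IsLocalRing.maximalIdeal R) ^ n) :=
  CommRingCat.ofHom (Ideal.Quotient.mk ((IsLocalRing.maximalIdeal R) ^ n))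

include hsq h0 in
theorem psiOf_thick_bijective (n : ℕ) (hn : 0 < n) :
    Function.Bijective (psiOf (pullback.snd g (Spec.map (kn R n)))) := by
  haveI : IsLocalRing (R ⧸ (IsLocalRing.maximalIdeal R) ^ n) := quot_isLocalRing R n hn
  haveI : IsArtinianRing (R ⧸ (IsLocalRing.maximalIdeal R) ^ n) := quot_isArtinianRing R n hn
  have hle0 : (IsLocalRing.maximalIdeal R) ^ n ≤ IsLocalRing.maximalIdeal R :=
    Ideal.pow_le_self hn.ne'
  let κc : CommRingCat.of (R ⧸ (IsLocalRing.maximalIdeal R) ^ n) ⟶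
      CommRingCat.of (R ⧸ IsLocalRing.maximalIdeal R) :=
    CommRingCat.ofHom (Ideal.Quotient.factor hle0)
  have hκn : Function.Surjective κc.hom := Ideal.Quotient.factor_surjective hle0
  have hkern : RingHom.ker κc.hom =
      IsLocalRing.maximalIdeal (R ⧸ (IsLocalRing.maximalIdeal R) ^ n) := by
    letI : Field (R ⧸ IsLocalRing.maximalIdeal R) := Ideal.Quotient.field _
    haveI : (RingHom.ker (Ideal.Quotient.factor hle0)).IsMaximal :=
      RingHom.ker_isMaximal_of_surjective (Ideal.Quotient.factor hle0)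
        (Ideal.Quotient.factor_surjective hle0)
    exact IsLocalRing.eq_maximalIdeal (inferInstanceAs (RingHom.ker (Ideal.Quotient.factor hle0)).IsMaximal)
  have hres : Spec.map (CommRingCat.ofHom (Ideal.Quotient.mk (IsLocalRing.maximalIdeal R))) =
      Spec.map κc ≫ Spec.map (kn R n) := by
    rw [← Spec.map_comp]
    rfl
  have hbig : IsPullback i f₀ g (Spec.map κc ≫ Spec.map (kn R n)) := by
    rw [← hres]; exact hsq
  have hright : IsPullback (pullback.fst g (Spec.map (kn R n))) (pullback.snd g (Spec.map (kn R n)))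
      g (Spec.map (kn R n)) := IsPullback.of_hasPullback _ _
  have sq := IsPullback.of_right' hbig hright
  haveI : Flat (pullback.snd g (Spec.map (kn R n))) :=
    MorphismProperty.pullback_snd (P := @Flat) _ _ inferInstance
  exact psiOf_bijective (pullback.snd g (Spec.map (kn R n))) κc.hom hκn hkern _ _ sq h0

/-- vanishing on the `n`-th thickening -/
def InK (n : ℕ) (b : Γ(X, ⊤)) : Prop :=
  (pullback.fst g (Spec.map (kn R n))).appTop.hom b = 0

theorem inK_sub (n : ℕ) {b c : Γ(X, ⊤)} (hb : InK R g n b) (hc : InK R g n c) :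
    InK R g n (b - c) := by
  unfold InK at *
  rw [map_sub, hb, hc, sub_zero]

theorem inK_add (n : ℕ) {b c : Γ(X, ⊤)} (hb : InK R g n b) (hc : InK R g n c) :
    InK R g n (b + c) := by
  unfold InK at *
  rw [map_add, hb, hc, add_zero]

theorem inK_mono {m n : ℕ} (hmn : m ≤ n) {b : Γ(X, ⊤)} (hb : InK R g n b) : InK R g m b := by
  unfold InK at *
  have hle : (IsLocalRing.maximalIdeal R) ^ n ≤ (IsLocalRing.maximalIdeal R) ^ m :=
    Ideal.pow_le_pow_right hmn
  let fac : CommRingCat.of (R ⧸ (IsLocalRing.maximalIdeal R) ^ n) ⟶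
      CommRingCat.of (R ⧸ (IsLocalRing.maximalIdeal R) ^ m) :=
    CommRingCat.ofHom (Ideal.Quotient.factor hle)
  have hfac : Spec.map (kn R m) = Spec.map fac ≫ Spec.map (kn R n) := by
    rw [← Spec.map_comp]
    rfl
  let t : pullback g (Spec.map (kn R m)) ⟶ pullback g (Spec.map (kn R n)) :=
    pullback.lift (pullback.fst _ _) (pullback.snd _ _ ≫ Spec.map fac)
      (by rw [pullback.condition, Category.assoc, hfac])
  have ht : t ≫ pullback.fst g (Spec.map (kn R n)) = pullback.fst g (Spec.map (kn R m)) :=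
    pullback.lift_fst _ _ _
  rw [← ht, Scheme.Hom.comp_appTop, CommRingCat.comp_apply, hb, map_zero]

include hsq h0 in
theorem inK_psi_iff (n : ℕ) (hn : 0 < n) (r : R) :
    InK R g n (psiOf g r) ↔ r ∈ (IsLocalRing.maximalIdeal R) ^ n := by
  unfold InK
  have sq : IsPullback (pullback.fst g (Spec.map (kn R n))) (pullback.snd g (Spec.map (kn R n)))
      g (Spec.map (CommRingCat.ofHom (Ideal.Quotient.mk ((IsLocalRing.maximalIdeal R) ^ n)))) :=
    IsPullback.of_hasPullback _ _
  rw [prTop_psi' g _ _ _ sq r]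
  have hinj := (psiOf_thick_bijective R g i f₀ hsq h0 n hn).1
  constructor
  · intro h
    have h1 : Ideal.Quotient.mk ((IsLocalRing.maximalIdeal R) ^ n) r = 0 :=
      hinj (by rw [h, map_zero])
    exact Ideal.Quotient.eq_zero_iff_mem.mp h1
  · intro h
    rw [Ideal.Quotient.eq_zero_iff_mem.mpr h, map_zero]

include hsq h0 in
theorem exists_inK (a : Γ(X, ⊤)) (n : ℕ) (hn : 0 < n) : ∃ s : R, InK R g n (a - psiOf g s) := by
  obtain ⟨rn, hrn⟩ := (psiOf_thick_bijective R g i f₀ hsq h0 n hn).2
    ((pullback.fst g (Spec.map (kn R n))).appTop.hom a)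
  obtain ⟨s, rfl⟩ := Ideal.Quotient.mk_surjective rn
  refine ⟨s, ?_⟩
  unfold InK
  have sq : IsPullback (pullback.fst g (Spec.map (kn R n))) (pullback.snd g (Spec.map (kn R n)))
      g (Spec.map (CommRingCat.ofHom (Ideal.Quotient.mk ((IsLocalRing.maximalIdeal R) ^ n)))) :=
    IsPullback.of_hasPullback _ _
  rw [map_sub, prTop_psi' g _ _ _ sq s, ← hrn, sub_self]

include hsq h0 in
theorem exists_limit [IsAdicComplete (IsLocalRing.maximalIdeal R) R] (a : Γ(X, ⊤)) :
    ∃ r : R, ∀ n, 0 < n → InK R g n (a - psiOf g r) := by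
  classical
  have hex : ∀ n : ℕ, ∃ s : R, 0 < n → InK R g n (a - psiOf g s) := by
    intro n
    by_cases hn : 0 < n
    · obtain ⟨s, hs⟩ := exists_inK R g i f₀ hsq h0 a n hn
      exact ⟨s, fun _ => hs⟩
    · exact ⟨0, fun h => absurd h hn⟩
  choose s hs using hex
  have hcauchy : ∀ {m n : ℕ}, m ≤ n →
      s m ≡ s n [SMOD ((IsLocalRing.maximalIdeal R) ^ m • ⊤ : Submodule R R)] := by
    intro m n hmn
    rw [SModEq.sub_mem, smul_eq_mul, Ideal.mul_top]
    by_cases hm : 0 < m
    · have h1 := hs m hm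
      have h2 := inK_mono R g hmn (hs n (hm.trans_le hmn))
      have h3 : InK R g m (psiOf g (s m - s n)) := by
        have := inK_sub R g m h2 h1
        rw [map_sub]
        convert this using 1
        ring
      exact (inK_psi_iff R g i f₀ hsq h0 m hm _).mp h3
    · have : m = 0 := by omega
      subst this
      rw [pow_zero, Ideal.one_eq_top]
      exact Submodule.mem_top
  obtain ⟨r, hr⟩ := IsPrecomplete.prec IsAdicComplete.toIsPrecomplete hcauchy
  refine ⟨r, fun n hn => ?_⟩
  have h1 := hs n hn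
  have h2 : s n - r ∈ (IsLocalRing.maximalIdeal R) ^ n := by
    have := hr n
    rw [SModEq.sub_mem, smul_eq_mul, Ideal.mul_top] at this
    exact this
  have h3 : InK R g n (psiOf g (s n - r)) := (inK_psi_iff R g i f₀ hsq h0 n hn _).mpr h2
  have := inK_add R g n h1 h3
  rw [map_sub] at this
  convert this using 1
  ring


/-- a global section lying in `𝔪ⁿ 𝒪_X` for all `n` has vanishing germs along the closed fibre -/
theorem germ_eq_zero_of_forall_mem [LocallyOfFiniteType g] (b : Γ(X, ⊤))
    (hb : ∀ n, 0 < n → ∀ U : X.Opens, IsAffineOpen U →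
      res (le_top : U ≤ ⊤) b ∈ ((IsLocalRing.maximalIdeal R) ^ n).map (phiU (psiOf g) U))
    (x : X) (hx : g.base x = IsLocalRing.closedPoint R) :
    (X.presheaf.germ ⊤ x trivial).hom b = 0 := by
  haveI : IsLocallyNoetherian X := LocallyOfFiniteType.isLocallyNoetherian g
  obtain ⟨_, ⟨U, hU, rfl⟩, hxU, -⟩ :=
    X.isBasis_affineOpens.exists_subset_of_mem_open (Set.mem_univ x) isOpen_univ
  have hgerm : ∀ c : Γ(X, ⊤), (X.presheaf.germ ⊤ x trivial).hom c =
      (X.presheaf.germ U x hxU).hom (res (le_top : U ≤ ⊤) c) := by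
    intro c
    unfold res
    exact (TopCat.Presheaf.germ_res_apply X.presheaf (homOfLE le_top) x hxU c).symm
  rw [hgerm]
  set φ : R →+* X.presheaf.stalk x := (X.presheaf.germ U x hxU).hom.comp (phiU (psiOf g) U) with hφ
  have hloc : (IsLocalRing.maximalIdeal R).map φ ≤ IsLocalRing.maximalIdeal (X.presheaf.stalk x) := by
    rw [Ideal.map_le_iff_le_comap]
    intro r hr
    rw [Ideal.mem_comap, IsLocalRing.mem_maximalIdeal, mem_nonunits_iff]
    intro hunit
    have h1 : φ r = (X.presheaf.germ ⊤ x trivial).hom (psiOf g r) := (hgerm _).symm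
    rw [h1] at hunit
    have h2 : x ∈ X.basicOpen (psiOf g r) := (Scheme.mem_basicOpen_top X (psiOf g r) x).mpr hunit
    have h3 : psiOf g r = g.appTop.hom ((Scheme.ΓSpecIso (CommRingCat.of R)).inv.hom r) := rfl
    rw [h3, ← Scheme.preimage_basicOpen_top, basicOpen_eq_of_affine] at h2
    have h4 : g.base x ∈ PrimeSpectrum.basicOpen r := h2
    rw [hx] at h4
    exact h4 hr
  have hmem : ∀ n, (X.presheaf.germ U x hxU).hom (res (le_top : U ≤ ⊤) b) ∈
      (IsLocalRing.maximalIdeal (X.presheaf.stalk x)) ^ n := by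
    intro n
    rcases Nat.eq_zero_or_pos n with rfl | hn
    · rw [pow_zero, Ideal.one_eq_top]; trivial
    · have h2 := hb n hn U hU
      rw [Ideal.map_pow] at h2
      have h3 := Ideal.mem_map_of_mem (X.presheaf.germ U x hxU).hom h2
      rw [Ideal.map_pow, Ideal.map_map] at h3
      exact Ideal.pow_right_mono hloc n h3
  have hkrull : (⨅ n, (IsLocalRing.maximalIdeal (X.presheaf.stalk x)) ^ n) = ⊥ :=
    Ideal.iInf_pow_eq_bot_of_isLocalRing _ (IsLocalRing.maximalIdeal.isMaximal _).ne_top
  have : (X.presheaf.germ U x hxU).hom (res (le_top : U ≤ ⊤) b) ∈ (⊥ : Ideal (X.presheaf.stalk x)) := by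
    rw [← hkrull]; exact Ideal.mem_iInf.mpr hmem
  exact this

theorem eq_zero_of_forall_inK [IsProper g] (b : Γ(X, ⊤)) (hb : ∀ n, 0 < n → InK R g n b) :
    b = 0 := by
  have hb' : ∀ n, 0 < n → ∀ U : X.Opens, IsAffineOpen U →
      res (le_top : U ≤ ⊤) b ∈ ((IsLocalRing.maximalIdeal R) ^ n).map (phiU (psiOf g) U) := by
    intro n hn U hU
    have sq : IsPullback (pullback.fst g (Spec.map (kn R n))) (pullback.snd g (Spec.map (kn R n)))
        g (Spec.map (CommRingCat.ofHom (Ideal.Quotient.mk ((IsLocalRing.maximalIdeal R) ^ n)))) :=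
      IsPullback.of_hasPullback _ _
    have h1 : ((pullback.fst g (Spec.map (kn R n))).app U).hom (res le_top b) = 0 := by
      rw [← pr_res (pullback.fst g (Spec.map (kn R n))) (le_top : U ≤ ⊤) b]
      have := hb n hn
      unfold InK at this
      rw [show ((pullback.fst g (Spec.map (kn R n))).app ⊤).hom b = 0 from this, map_zero]
    have h2 := mem_of_app_eq_zero' g (Ideal.Quotient.mk _) Ideal.Quotient.mk_surjective _ _ sq U hU _ h1
    rwa [Ideal.mk_ker] at h2
  have key := germ_eq_zero_of_forall_mem R g b hb'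
  let C : Set X := {x | (X.presheaf.germ ⊤ x trivial).hom b ≠ 0}
  have hC : IsClosed C := by
    rw [← isOpen_compl_iff, isOpen_iff_forall_mem_open]
    intro x hx
    have hx0 : (X.presheaf.germ ⊤ x trivial).hom b = 0 := by
      by_contra h; exact hx h
    obtain ⟨W, hWU, hxW, hW⟩ := exists_open_res_eq_zero (U := (⊤ : X.Opens)) x trivial {b}
      (by intro d hd; rw [Finset.mem_singleton] at hd; rw [hd]; exact hx0)
    refine ⟨W, ?_, W.isOpen, hxW⟩
    intro y hy hyC
    apply hyC
    have := TopCat.Presheaf.germ_res_apply X.presheaf (homOfLE hWU) y hy b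
    rw [← this, hW b (Finset.mem_singleton_self b), map_zero]
  have himg : IsClosed (g.base '' C) := g.isClosedMap _ hC
  have hempty : C = ∅ := by
    by_contra hne
    obtain ⟨x, hx⟩ := Set.nonempty_iff_ne_empty.mpr hne
    have h1 : IsLocalRing.closedPoint R ∈ g.base '' C :=
      (IsLocalRing.specializes_closedPoint (g.base x)).mem_closed himg ⟨x, hx, rfl⟩
    obtain ⟨x', hx', hx'c⟩ := h1
    exact hx' (key x' hx'c)
  refine TopCat.Presheaf.section_ext X.sheaf ⊤ b 0 (fun x hx => ?_)
  rw [map_zero]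
  by_contra h
  have : x ∈ C := h
  rw [hempty] at this
  exact this

include hsq h0 in
/-- `R → Γ(X, 𝒪_X)` is bijective for `X` proper flat over a complete Noetherian local ring with
`Γ(X₀, 𝒪) = k` on the closed fibre. -/
theorem psiOf_bijective_of_complete [IsProper g] [IsAdicComplete (IsLocalRing.maximalIdeal R) R] :
    Function.Bijective (psiOf g) := by
  constructor
  · rw [injective_iff_map_eq_zero]
    intro r hr
    have h1 : ∀ n, r ∈ (IsLocalRing.maximalIdeal R) ^ n := by
      intro n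
      rcases Nat.eq_zero_or_pos n with rfl | hn
      · rw [pow_zero, Ideal.one_eq_top]; trivial
      · refine (inK_psi_iff R g i f₀ hsq h0 n hn r).mp ?_
        rw [hr]
        unfold InK
        rw [map_zero]
    have hkrull : (⨅ n, (IsLocalRing.maximalIdeal R) ^ n) = ⊥ :=
      Ideal.iInf_pow_eq_bot_of_isLocalRing _ (IsLocalRing.maximalIdeal.isMaximal _).ne_top
    have : r ∈ (⊥ : Ideal R) := by
      rw [← hkrull]; exact Ideal.mem_iInf.mpr h1
    exact this
  · intro a
    obtain ⟨r, hr⟩ := exists_limit R g i f₀ hsq h0 a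
    refine ⟨r, ?_⟩
    have := eq_zero_of_forall_inK R g _ hr
    exact (sub_eq_zero.mp this).symm

end

end Groth.Agent.Helper18.Rigid
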