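import Mathlib
import Groth.Prelude.Def_TwC
import Groth.Prelude.Def_NonAbH2
import Groth.Agent.Lib.Helper18.ConstPts

/-!
# Rigidity of extensions by a torsion-free constant group (helper18)
-/

set_option autoImplicit false
universe u

open CategoryTheory CategoryTheory.Limits AlgebraicGeometry MonoidalCategory CartesianMonoidalCategory MonObj

namespace Groth.Agent.Helper18.RigidConst

open Groth.Agent.Helper18.ConstPts

variable {S : Scheme.{u}} {P E G : Over S} [GrpObj P] [GrpObj E] [GrpObj G]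
  (u : G ⟶ E) (v : E ⟶ P)

section PartA

variable (hpb : IsPullback (fst E G) ((E ◁ u) ≫ μ[E]) v v)

include hpb in
theorem exists_translate {T : Over S} (a b : T ⟶ E) (h : a ≫ v = b ≫ v) :
    ∃ g : T ⟶ G, b = a * (g ≫ u) := by
  refine ⟨hpb.lift a b h ≫ snd E G, ?_⟩
  have h1 : hpb.lift a b h = lift a (hpb.lift a b h ≫ snd E G) := by
    apply CartesianMonoidalCategory.hom_ext
    · rw [lift_fst, hpb.lift_fst]
    · rw [lift_snd]
  have h2 := hpb.lift_snd a b h
  rw [h1, lift_whiskerLeft_assoc, ← Hom.mul_def] at h2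
  exact h2.symm

include hpb in
theorem mono_u : Mono u := by
  refine ⟨fun {T} g₁ g₂ h => ?_⟩
  have h1 : lift (1 : T ⟶ E) g₁ = lift (1 : T ⟶ E) g₂ := by
    apply hpb.hom_ext
    · rw [lift_fst, lift_fst]
    · rw [lift_whiskerLeft_assoc, lift_whiskerLeft_assoc, h]
  have := congrArg (fun t => t ≫ snd E G) h1
  simpa only [lift_snd] using this

end PartA

/-- the difference `f · id⁻¹` -/
noncomputable def delta (f : E ⟶ E) : E ⟶ E := f * (𝟙 E)⁻¹

section PartB0

variable (f : E ⟶ E)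

theorem comp_delta {T : Over S} (e : T ⟶ E) : e ≫ delta f = (e ≫ f) * e⁻¹ := by
  rw [delta, MonObj.comp_mul, GrpObj.comp_inv, Category.comp_id]

theorem delta_comp_v [IsMonHom v] (hv : f ≫ v = v) : delta f ≫ v = 1 := by
  rw [delta, MonObj.mul_comp, GrpObj.inv_comp, hv, Category.id_comp, mul_inv_cancel]

theorem u_comp_delta (hu : u ≫ f = u) : u ≫ delta f = 1 := by
  rw [comp_delta, hu, mul_inv_cancel]

end PartB0

section PartB

variable [IsCommMonObj E] (f : E ⟶ E) [IsMonHom f]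

theorem mul_comp_delta {T : Over S} (a b : T ⟶ E) : (a * b) ≫ delta f = (a ≫ delta f) * (b ≫ delta f) := by
  rw [comp_delta, comp_delta, comp_delta, MonObj.mul_comp, mul_inv_rev]
  rw [mul_comm b⁻¹ a⁻¹, _root_.mul_mul_mul_comm]

theorem pow_comp_delta {T : Over S} (a : T ⟶ E) (n : ℕ) : (a ^ n) ≫ delta f = (a ≫ delta f) ^ n := by
  induction n with
  | zero =>
    rw [pow_zero, pow_zero, comp_delta, MonObj.one_comp, inv_one, _root_.mul_one]
  | succ n ih => rw [pow_succ, pow_succ, mul_comp_delta, ih]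

end PartB

section PartC

variable [IsCommMonObj E] (f : E ⟶ E) [IsMonHom f] [IsMonHom u] [IsMonHom v]
  (hpb : IsPullback (fst E G) ((E ◁ u) ≫ μ[E]) v v) (hfu : u ≫ f = u) (hfv : f ≫ v = v)

include hpb hfv in
omit [IsCommMonObj E] [IsMonHom f] [IsMonHom u] in
theorem exists_delta₁ : ∃ d₁ : E ⟶ G, d₁ ≫ u = delta f := by
  have h : (1 : E ⟶ E) ≫ v = delta f ≫ v := by
    rw [MonObj.one_comp, delta_comp_v v f hfv]
  obtain ⟨g, hg⟩ := exists_translate u v hpb (1 : E ⟶ E) (delta f) h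
  exact ⟨g, by rw [hg, _root_.one_mul]⟩

variable (d₁ : E ⟶ G) (hd : d₁ ≫ u = delta f)

include hpb hd in
omit [IsMonHom v] in
theorem mul_comp_d₁ {T : Over S} (a b : T ⟶ E) : (a * b) ≫ d₁ = (a ≫ d₁) * (b ≫ d₁) := by
  haveI := mono_u u v hpb
  rw [← cancel_mono u, Category.assoc, hd, mul_comp_delta, MonObj.mul_comp, Category.assoc, Category.assoc, hd]

include hpb hd in
omit [IsMonHom v] in
theorem pow_comp_d₁ {T : Over S} (a : T ⟶ E) (n : ℕ) : (a ^ n) ≫ d₁ = (a ≫ d₁) ^ n := by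
  haveI := mono_u u v hpb
  rw [← cancel_mono u, Category.assoc, hd, pow_comp_delta, MonObj.pow_comp, Category.assoc, hd]

include hpb hd hfu in
omit [IsMonHom v] [IsCommMonObj E] [IsMonHom f] in
theorem u_comp_d₁ : u ≫ d₁ = 1 := by
  haveI := mono_u u v hpb
  rw [← cancel_mono u, Category.assoc, hd, u_comp_delta u f hfu, MonObj.one_comp]

include hpb hd hfu in
omit [IsMonHom v] in
theorem d₁_invariant {T : Over S} (a b : T ⟶ E) (h : a ≫ v = b ≫ v) : a ≫ d₁ = b ≫ d₁ := by
  obtain ⟨g, hg⟩ := exists_translate u v hpb a b h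
  have h1 : (g ≫ u) ≫ d₁ = 1 := by
    rw [Category.assoc, u_comp_d₁ u v f hpb hfu d₁ hd, MonObj.comp_one]
  rw [hg, mul_comp_d₁ u v f hpb d₁ hd, h1, _root_.mul_one]

include hpb hd hfu in
omit [IsMonHom v] in
/-- `d₁` is constant on the fibres of `v` -/
theorem d₁_left_eq (y y' : E.left) (h : v.left y = v.left y') : d₁.left y = d₁.left y' := by
  obtain ⟨z, hz1, hz2⟩ := Scheme.Pullback.exists_preimage_pullback (f := v.left) (g := v.left) y y' h
  let t := (pullback v.left v.left).fromSpecResidueField z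
  let a := t ≫ pullback.fst v.left v.left
  let b := t ≫ pullback.snd v.left v.left
  have hab : a ≫ v.left = b ≫ v.left := by
    rw [Category.assoc, Category.assoc, pullback.condition]
  let T : Over S := Over.mk (a ≫ E.hom)
  let ea : T ⟶ E := Over.homMk a rfl
  let eb : T ⟶ E := Over.homMk b (by
    change b ≫ E.hom = a ≫ E.hom
    rw [← Over.w v, ← Category.assoc, ← Category.assoc, hab])
  have hv : ea ≫ v = eb ≫ v := by
    apply Over.OverMorphism.ext
    exact hab
  have h1 := d₁_invariant u v f hpb hfu d₁ hd ea eb hv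
  have h2 : a ≫ d₁.left = b ≫ d₁.left := congrArg (fun t => t.left) h1
  let pt : ↥(Spec ((pullback v.left v.left).residueField z)) := IsLocalRing.closedPoint _
  have h3 : (a ≫ d₁.left) pt = (b ≫ d₁.left) pt := by rw [h2]
  have ha : a pt = y := by
    change (pullback.fst v.left v.left) (t pt) = y
    rw [Scheme.fromSpecResidueField_apply, hz1]
  have hb : b pt = y' := by
    change (pullback.snd v.left v.left) (t pt) = y'
    rw [Scheme.fromSpecResidueField_apply, hz2]
  change d₁.left (a pt) = d₁.left (b pt) at h3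
  rw [ha, hb] at h3
  exact h3

end PartC

section PartD

variable [IsCommMonObj E] (f : E ⟶ E) [IsMonHom f] [IsMonHom u] [IsMonHom v]
  (hpb : IsPullback (fst E G) ((E ◁ u) ≫ μ[E]) v v) (hfu : u ≫ f = u) (hfv : f ≫ v = v)
  (d₁ : E ⟶ G) (hd : d₁ ≫ u = delta f)
  {Z : Type u} [Group Z] (eG : G ≅ TwC.const S Z) (hG : TwC.IsConstGrp Z G eG)

include hpb hd hG in
omit [IsMonHom v] in
theorem exists_pow_idx (y : E.left) (n : ℕ) :
    ∃ y' : E.left, idx Z ((d₁ ≫ eG.hom).left y') = (idx Z ((d₁ ≫ eG.hom).left y)) ^ n := by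
  let t := E.left.fromSpecResidueField y
  let T : Over S := Over.mk (t ≫ E.hom)
  let ey : T ⟶ E := Over.homMk t rfl
  set m := idx Z ((d₁ ≫ eG.hom).left y) with hm
  have hc : ey ≫ d₁ ≫ eG.hom = toUnit T ≫ TwC.pt S Z m := by
    apply eq_pt_of_idx Z _ m
    intro y0
    change idx Z ((d₁ ≫ eG.hom).left (t y0)) = m
    rw [Scheme.fromSpecResidueField_apply]
  have h1 : ey ≫ d₁ = toUnit T ≫ TwC.pt S Z m ≫ eG.inv := by
    have := congrArg (fun c => c ≫ eG.inv) hc
    simpa only [Category.assoc, Iso.hom_inv_id, Category.comp_id] using this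
  have h2 : (ey ^ n) ≫ d₁ ≫ eG.hom = toUnit T ≫ TwC.pt S Z (m ^ n) := by
    rw [← Category.assoc, pow_comp_d₁ u v f hpb d₁ hd, h1, pt_pow eG hG]
    simp only [Category.assoc, Iso.inv_hom_id, Category.comp_id]
  let pt0 : T.left := (IsLocalRing.closedPoint _ : ↥(Spec (E.left.residueField y)))
  refine ⟨(ey ^ n).left pt0, ?_⟩
  change idx Z (((ey ^ n) ≫ d₁ ≫ eG.hom).left pt0) = m ^ n
  rw [h2]
  exact idx_pt Z (m ^ n) pt0

end PartD

section PartE

variable [IsCommMonObj E] (f : E ⟶ E) [IsMonHom f] [IsMonHom u] [IsMonHom v]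
  (hpb : IsPullback (fst E G) ((E ◁ u) ≫ μ[E]) v v) (hfu : u ≫ f = u)
  (d₁ : E ⟶ G) (hd : d₁ ≫ u = delta f)
  {Z : Type u} (eG : G ≅ TwC.const S Z)

include hpb hd hfu in
omit [IsMonHom v] in
/-- over a quasi-compact base, the locally constant function `d₁` takes finitely many values -/
theorem finite_idx_range [CompactSpace P.left]
    (hloc : NonAbH1.IsLocallyTrivialFor Scheme.fppfPrecoverage (Over.mk v.left : Over P.left)) :
    (Set.range fun y : E.left => idx Z ((d₁ ≫ eG.hom).left y)).Finite := by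
  obtain ⟨R, hR, hsec⟩ := hloc
  have key : ∀ p : P.left, ∃ (W : Set P.left) (I : Set Z), IsOpen W ∧ p ∈ W ∧ I.Finite ∧
      ∀ y : E.left, v.left y ∈ W → idx Z ((d₁ ≫ eG.hom).left y) ∈ I := by
    intro p
    obtain ⟨Y, b, hb, q, hq⟩ := ((Presieve.mem_comap_jointlySurjectivePrecoverage_iff _).1 hR.1) p
    have hP : (@Flat ⊓ @LocallyOfFinitePresentation : MorphismProperty Scheme.{u}) b := hR.2 hb
    haveI : Flat b := hP.1
    haveI : LocallyOfFinitePresentation b := hP.2
    obtain ⟨s, hs⟩ := hsec b hb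
    change s ≫ v.left = b at hs
    obtain ⟨U, hU, hqU, -⟩ := exists_isAffineOpen_mem_and_subset (x := q) (U := ⊤) trivial
    haveI : CompactSpace ↥U.toScheme := isCompact_iff_compactSpace.1 hU.isCompact
    refine ⟨b '' (U : Set Y),
      Set.range fun y : ↥U.toScheme => idx Z ((U.ι ≫ s ≫ (d₁ ≫ eG.hom).left) y),
      b.isOpenMap _ U.2, ⟨q, hqU, hq⟩, finite_idx Z (U.ι ≫ s ≫ (d₁ ≫ eG.hom).left), ?_⟩
    rintro y ⟨q', hq'U, hq'⟩
    have h1 : v.left y = v.left (s q') := by
      rw [← hq', ← hs]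
      rfl
    have h2 := d₁_left_eq u v f hpb hfu d₁ hd y (s q') h1
    refine ⟨⟨q', hq'U⟩, ?_⟩
    change idx Z (eG.hom.left (d₁.left (s q'))) = idx Z (eG.hom.left (d₁.left y))
    rw [h2]
  choose W I hWo hpW hIf hWI using key
  obtain ⟨F, hF⟩ := isCompact_univ.elim_finite_subcover W hWo
    (fun p _ => Set.mem_iUnion.2 ⟨p, hpW p⟩)
  refine ((F.finite_toSet).biUnion (fun p _ => hIf p)).subset ?_
  rintro _ ⟨y, rfl⟩
  obtain ⟨p, hpF, hyp⟩ := Set.mem_iUnion₂.1 (hF (Set.mem_univ (v.left y)))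
  exact Set.mem_iUnion₂.2 ⟨p, hpF, hWI p y hyp⟩

end PartE

section PartF

variable [IsCommMonObj E] (f : E ⟶ E) [IsMonHom f] [IsMonHom u] [IsMonHom v]
  (hpb : IsPullback (fst E G) ((E ◁ u) ≫ μ[E]) v v) (hfu : u ≫ f = u) (hfv : f ≫ v = v)
  {Z : Type u} [Group Z] (hZ : ∀ z : Z, IsOfFinOrder z → z = 1)
  (eG : G ≅ TwC.const S Z) (hG : TwC.IsConstGrp Z G eG)

include hpb hfu hfv hZ hG in
/-- rigidity: an endomorphism of an extension of a quasi-compact group by a torsion-free constant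
group inducing the identity on both ends is the identity -/
theorem eq_id_of_rigid [CompactSpace P.left]
    (hloc : NonAbH1.IsLocallyTrivialFor Scheme.fppfPrecoverage (Over.mk v.left : Over P.left)) :
    f = 𝟙 E := by
  have hex := exists_delta₁ u v f hpb hfv
  obtain ⟨d₁, hd⟩ := hex
  have hfin := finite_idx_range u v f hpb hfu d₁ hd eG hloc
  have hone : ∀ y : E.left, idx Z ((d₁ ≫ eG.hom).left y) = 1 := by
    intro y
    apply hZ
    set m := idx Z ((d₁ ≫ eG.hom).left y) with hm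
    have hpow : ∀ n : ℕ, m ^ n ∈ Set.range fun y : E.left => idx Z ((d₁ ≫ eG.hom).left y) := by
      intro n
      obtain ⟨y', hy'⟩ := exists_pow_idx u v f hpb d₁ hd eG hG y n
      exact ⟨y', hy'⟩
    by_contra hnot
    have hinj : Function.Injective fun n : ℕ => m ^ n :=
      injective_pow_iff_not_isOfFinOrder.2 hnot
    exact Set.infinite_of_injective_forall_mem hinj hpow hfin
  have h1 : d₁ ≫ eG.hom = toUnit E ≫ TwC.pt S Z 1 := eq_pt_of_idx Z _ 1 hone
  have h2 : d₁ = 1 := by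
    have := congrArg (fun c => c ≫ eG.inv) h1
    simp only [Category.assoc, Iso.hom_inv_id, Category.comp_id] at this
    rw [this, pt_one eG hG, MonObj.comp_one]
  have h3 : delta f = 1 := by rw [← hd, h2, MonObj.one_comp]
  rw [delta] at h3
  have h4 : f * (𝟙 E)⁻¹ = 1 := h3
  exact mul_inv_eq_one.1 h4

end PartF

end Groth.Agent.Helper18.RigidConst
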