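import Mathlib
import Groth.Prelude

set_option autoImplicit false
universe u
open CategoryTheory AlgebraicGeometry Limits

namespace Groth.Agent.Helper18.SchemDenseExt

/-- a schematically dense open (in the naive sense) has trivial kernel ideal -/
theorem ker_ι_eq_bot {X : Scheme.{u}} (U : X.Opens) (h : CInt.IsSchematicallyDense U) :
    U.ι.ker = ⊥ := by
  rw [← le_bot_iff]
  intro V
  rw [Scheme.IdealSheafData.ideal_bot]
  refine (Scheme.Hom.ideal_ker_le U.ι V).trans ?_
  show RingHom.ker (U.ι.app V.1).hom ≤ (⊥ : Ideal Γ(X, V.1))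
  rw [le_bot_iff, ← RingHom.injective_iff_ker_eq_bot]
  have hV := h V.1
  rw [Scheme.Opens.ι_app]
  have hle : U.ι ''ᵁ U.ι ⁻¹ᵁ V.1 = V.1 ⊓ U := by
    ext x
    simp only [Scheme.Hom.coe_image, Scheme.Hom.coe_preimage, Set.mem_image, Set.mem_preimage,
      SetLike.mem_coe, TopologicalSpace.Opens.coe_inf, Set.mem_inter_iff]
    constructor
    · rintro ⟨y, hy, rfl⟩
      exact ⟨hy, y.2⟩
    · rintro ⟨hx1, hx2⟩
      exact ⟨⟨x, hx2⟩, hx1, rfl⟩
  have e : X.presheaf.map (homOfLE (x := U.ι ''ᵁ U.ι ⁻¹ᵁ V.1)
      (Set.image_preimage_subset _ _)).op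
      = X.presheaf.map (homOfLE (inf_le_left : V.1 ⊓ U ≤ V.1)).op ≫
        X.presheaf.map (eqToHom hle).op := by
    rw [← Functor.map_comp]
    rfl
  rw [e]
  intro a b hab
  apply hV
  have hmono : Function.Injective (X.presheaf.map (eqToHom hle).op) := by
    have : IsIso (X.presheaf.map (eqToHom hle).op) := inferInstance
    exact (ConcreteCategory.bijective_of_isIso _).1
  apply hmono
  exact hab

/-- a closed immersion through which a schematically dense open factors is an isomorphism -/
theorem isIso_of_factor {K X : Scheme.{u}} (i : K ⟶ X) [IsClosedImmersion i]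
    {W : Scheme.{u}} (j : W ⟶ X) (hj : j.ker = ⊥) (l : W ⟶ K) (hl : l ≫ i = j) : IsIso i := by
  rw [IsClosedImmersion.isIso_iff_ker_eq_bot, ← le_bot_iff, ← hj, ← hl]
  exact l.le_ker_comp i


/-- separated case -/
theorem ext_of_separated {S : Scheme.{u}} {X Y : Over S} [IsSeparated Y.hom]
    {W : Scheme.{u}} (j : W ⟶ X.left) (hj : j.ker = ⊥) (f g : X ⟶ Y)
    (h : j ≫ f.left = j ≫ g.left) : f = g := by
  let W' : Over S := Over.mk (j ≫ X.hom)
  let j' : W' ⟶ X := Over.homMk j rfl
  have hj' : j' ≫ f = j' ≫ g := by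
    ext
    exact h
  have hl : (equalizer.lift j' hj').left ≫ (equalizer.ι f g).left = j := by
    rw [← Over.comp_left, equalizer.lift_ι]
    rfl
  haveI := isIso_of_factor (equalizer.ι f g).left j hj _ hl
  ext1
  rw [← cancel_epi (equalizer.ι f g).left]
  exact congr($(equalizer.condition f g).left)

theorem main5434 (S : Scheme.{u}) (X Y : Over S) (U : X.left.Opens)
    (hU : (∀ (S' : Scheme.{u}) (g : S' ⟶ S),
      CInt.IsSchematicallyDense ((pullback.fst X.hom g) ⁻¹ᵁ U)))
    (hY : ∀ s : S, IsSeparated (pullback.snd Y.hom (S.fromSpecResidueField s)))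
    (f g : X ⟶ Y) (h : U.ι ≫ f.left = U.ι ≫ g.left) : f = g := by
  -- fibrewise equality
  have hfib : ∀ s : S, (Over.pullback (S.fromSpecResidueField s)).map f
      = (Over.pullback (S.fromSpecResidueField s)).map g := by
    intro s
    let φ := S.fromSpecResidueField s
    haveI : IsSeparated ((Over.pullback φ).obj Y).hom := hY s
    let Us : (pullback X.hom φ).Opens := (pullback.fst X.hom φ) ⁻¹ᵁ U
    have hUs := ker_ι_eq_bot Us (hU _ φ)
    refine ext_of_separated (X := (Over.pullback φ).obj X) Us.ι hUs _ _ ?_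
    apply pullback.hom_ext
    · rw [Category.assoc, Category.assoc, ActBC.pullback_map_left_fst, ActBC.pullback_map_left_fst,
        ← Category.assoc, ← Category.assoc, ← morphismRestrict_ι, Category.assoc, Category.assoc, h]
    · have e1 := Over.w ((Over.pullback φ).map f)
      have e2 := Over.w ((Over.pullback φ).map g)
      rw [Category.assoc, Category.assoc]
      erw [e1, e2]
  -- the equalizer
  let i := equalizer.ι f.left g.left
  have hsurj : Function.Surjective i := by
    intro x
    let s : S := X.hom x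
    let φ := S.fromSpecResidueField s
    have hpt : ∃ t : Spec (S.residueField s), φ t = s := by
      haveI : Nonempty (Spec (S.residueField s)) :=
        inferInstanceAs (Nonempty (PrimeSpectrum (S.residueField s)))
      obtain ⟨t⟩ := ‹Nonempty (Spec (S.residueField s))›
      exact ⟨t, Scheme.fromSpecResidueField_apply _ _⟩
    obtain ⟨t, ht⟩ := hpt
    obtain ⟨x', hx'1, hx'2⟩ := Scheme.Pullback.exists_preimage_pullback (f := X.hom) (g := φ) x t
      (by rw [ht])
    have hcomp : pullback.fst X.hom φ ≫ f.left = pullback.fst X.hom φ ≫ g.left := by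
      rw [← ActBC.pullback_map_left_fst, ← ActBC.pullback_map_left_fst, hfib s]
    refine ⟨(equalizer.lift (pullback.fst X.hom φ) hcomp) x', ?_⟩
    rw [← Scheme.Hom.comp_apply, equalizer.lift_ι, hx'1]
  haveI : IsClosedImmersion i := IsClosedImmersion.of_isPreimmersion i (by
    rw [hsurj.range_eq]
    exact isClosed_univ)
  -- density over S itself
  have hU1 := ker_ι_eq_bot _ (hU S (𝟙 S))
  let p := pullback.fst X.hom (𝟙 S)
  haveI : IsIso p := inferInstance
  have hker : U.ι.ker = ⊥ := by
    rw [← le_bot_iff]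
    have h1 : ((p ⁻¹ᵁ U).ι ≫ p).ker = ⊥ := by
      haveI : IsSchemeTheoreticallyDominant (p ⁻¹ᵁ U).ι := ⟨hU1⟩
      exact Scheme.Hom.ker_eq_bot _
    rw [← h1, ← morphismRestrict_ι]
    exact (p ∣_ U).le_ker_comp U.ι
  haveI := isIso_of_factor i U.ι hker (equalizer.lift U.ι h) (equalizer.lift_ι _ _)
  ext1
  rw [← cancel_epi i]
  exact equalizer.condition f.left g.left

end Groth.Agent.Helper18.SchemDenseExt
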