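import Mathlib
import Groth.Prelude.Def_SekSuwa2
import Groth.Agent.Lib.Helper22.SekGK

/-!
# `α^{λ,N}` is an isomorphism after base change to a ring where `λ` is a unit (field case)
-/

set_option autoImplicit false
universe u
open CategoryTheory AlgebraicGeometry Limits TensorProduct

namespace Groth.Agent.Helper18.SekAlpha

theorem isIso_of_fst_snd {R A B K : Type u} [CommRing R] [CommRing A] [CommRing B] [CommRing K]
    [Algebra R A] [Algebra R B] [Algebra R K] (h : B →ₐ[R] A)
    (hb : Function.Bijective (Algebra.TensorProduct.map h (AlgHom.id R K)))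
    (m : pullback (Spec.map (CommRingCat.ofHom (algebraMap R A))) (Spec.map (CommRingCat.ofHom (algebraMap R K))) ⟶
      pullback (Spec.map (CommRingCat.ofHom (algebraMap R B))) (Spec.map (CommRingCat.ofHom (algebraMap R K))))
    (h1 : m ≫ pullback.fst _ _ = pullback.fst _ _ ≫ Spec.map (CommRingCat.ofHom (h : B →+* A)))
    (h2 : m ≫ pullback.snd _ _ = pullback.snd _ _) : IsIso m := by
  let e : B ⊗[R] K ≃+* A ⊗[R] K :=
    RingEquiv.ofBijective (Algebra.TensorProduct.map h (AlgHom.id R K)).toRingHom hb
  have key : (pullbackSpecIso R A K).inv ≫ m =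
      Spec.map (CommRingCat.ofHom e.toRingHom) ≫ (pullbackSpecIso R B K).inv := by
    apply pullback.hom_ext
    · rw [Category.assoc, h1, pullbackSpecIso_inv_fst_assoc, Category.assoc, pullbackSpecIso_inv_fst,
        ← Spec.map_comp, ← Spec.map_comp]
      congr 1
    · rw [Category.assoc, h2, pullbackSpecIso_inv_snd, Category.assoc, pullbackSpecIso_inv_snd,
        ← Spec.map_comp]
      congr 1
      apply CommRingCat.hom_ext
      apply RingHom.ext
      intro b
      simp [e]
  have hiso : IsIso (Spec.map (CommRingCat.ofHom e.toRingHom)) := by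
    have : IsIso (CommRingCat.ofHom e.toRingHom) := e.toCommRingCatIso.isIso_hom
    infer_instance
  have key2 : m =
      (pullbackSpecIso R A K).hom ≫ Spec.map (CommRingCat.ofHom e.toRingHom) ≫ (pullbackSpecIso R B K).inv := by
    rw [← key, Iso.hom_inv_id_assoc]
  rw [key2]
  infer_instance

/-- base change of an affine `Over`-morphism is an iso if the tensor map is bijective -/
theorem isIso_pullback_of_bijective {R A B K : Type u} [CommRing R] [CommRing A] [CommRing B] [CommRing K]
    [Algebra R A] [Algebra R B] [Algebra R K] (h : B →ₐ[R] A)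
    (g : (Spec (.of A)).asOver (Spec (.of R)) ⟶ (Spec (.of B)).asOver (Spec (.of R)))
    (hg : g.left = Spec.map (CommRingCat.ofHom (h : B →+* A)))
    (hb : Function.Bijective (Algebra.TensorProduct.map h (AlgHom.id R K))) :
    IsIso ((Over.pullback (Spec.map (CommRingCat.ofHom (algebraMap R K)))).map g) := by
  have : IsIso ((Over.pullback (Spec.map (CommRingCat.ofHom (algebraMap R K)))).map g).left := by
    refine isIso_of_fst_snd h hb _ ?_ ?_
    · rw [← hg]; exact pullback.lift_fst _ _ _
    · exact pullback.lift_snd _ _ _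
  have h3 : IsIso ((Over.forget _).map
      ((Over.pullback (Spec.map (CommRingCat.ofHom (algebraMap R K)))).map g)) := this
  exact isIso_of_reflects_iso _ (Over.forget _)


open SekSuwa Groth.Agent.Helper22.SekGK

section Alg
variable {R : Type u} [CommRing R] {lam : R} {N : ℕ}

theorem adjoin_t (hN : 0 < N) (h : DivCond lam N) :
    Algebra.adjoin R {(AK.t : AK R lam N h)} = ⊤ := by
  have h1 := AdjoinRoot.adjoinRoot_eq_top (f := psiPoly lam N h)
  have h2 := congrArg (Subalgebra.map (fromAdj R lam N h)) h1
  rw [AlgHom.map_adjoin, Set.image_singleton, fromAdj_root, Algebra.map_top] at h2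
  rw [h2, AlgHom.range_eq_top]
  exact (equivAdj R lam N hN h).symm.surjective

variable (K : Type u) [Field K] [Algebra R K]

theorem surj (hN : 0 < N) (h : DivCond lam N) (hlam : algebraMap R K lam ≠ 0) :
    Function.Surjective (Algebra.TensorProduct.map (AlgHom.id K K)
      (alphaNHom R lam N h : MonoidAlgebra R (Multiplicative (ZMod N)) →ₐ[R] AK R lam N h)) := by
  rw [← AlgHom.range_eq_top, ← top_le_iff,
    ← Algebra.TensorProduct.adjoin_one_tmul_image_eq_top (A := K) _ (adjoin_t hN h),
    Set.image_singleton, Algebra.adjoin_le_iff, Set.singleton_subset_iff]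
  set φ := Algebra.TensorProduct.map (AlgHom.id K K)
      (alphaNHom R lam N h : MonoidAlgebra R (Multiplicative (ZMod N)) →ₐ[R] AK R lam N h) with hφ
  have h1 : φ ((1 : K) ⊗ₜ[R] MonoidAlgebra.single (Multiplicative.ofAdd (1 : ZMod N)) (1 : R)) =
      1 + algebraMap R K lam • ((1 : K) ⊗ₜ[R] (AK.t : AK R lam N h)) := by
    rw [hφ, Algebra.TensorProduct.map_tmul]
    have := alphaNHom_single_one R lam N h
    change (1 : K) ⊗ₜ[R] (alphaNHom R lam N h _) = _
    rw [this, TensorProduct.tmul_add, TensorProduct.tmul_smul, algebraMap_smul]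
    rfl
  have h2 : (1 : K) ⊗ₜ[R] (AK.t : AK R lam N h) =
      (algebraMap R K lam)⁻¹ • (φ ((1 : K) ⊗ₜ[R] MonoidAlgebra.single (Multiplicative.ofAdd (1 : ZMod N)) (1 : R)) - 1) := by
    rw [h1, add_sub_cancel_left, smul_smul, inv_mul_cancel₀ hlam, one_smul]
  rw [h2]
  exact Subalgebra.smul_mem _ (Subalgebra.sub_mem _ (AlgHom.mem_range_self _ _) (Subalgebra.one_mem _)) _

theorem bij (hN : 0 < N) (h : DivCond lam N) (hlam : algebraMap R K lam ≠ 0) :
    Function.Bijective (Algebra.TensorProduct.map (AlgHom.id K K)
      (alphaNHom R lam N h : MonoidAlgebra R (Multiplicative (ZMod N)) →ₐ[R] AK R lam N h)) := by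
  haveI : Nontrivial R := (algebraMap R K).domain_nontrivial
  haveI : NeZero N := ⟨hN.ne'⟩
  haveI := free_AK hN h
  haveI := finite_AK hN h
  haveI : Module.Finite R (MonoidAlgebra R (Multiplicative (ZMod N))) :=
    Module.Finite.of_basis (MonoidAlgebra.basis (Multiplicative (ZMod N)) R)
  have hs := surj K hN h hlam
  refine ⟨?_, hs⟩
  have hd : Module.finrank K (K ⊗[R] MonoidAlgebra R (Multiplicative (ZMod N))) =
      Module.finrank K (K ⊗[R] AK R lam N h) := by
    rw [Module.finrank_baseChange, Module.finrank_baseChange, finrank_AK hN h,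
      Module.finrank_eq_card_basis (MonoidAlgebra.basis (Multiplicative (ZMod N)) R)]
    simp [ZMod.card]
  exact (LinearMap.injective_iff_surjective_of_finrank_eq_finrank hd
    (f := (Algebra.TensorProduct.map (AlgHom.id K K)
      (alphaNHom R lam N h : MonoidAlgebra R (Multiplicative (ZMod N)) →ₐ[R] AK R lam N h)).toLinearMap)).mpr hs

theorem bij' (hN : 0 < N) (h : DivCond lam N) (hlam : algebraMap R K lam ≠ 0) :
    Function.Bijective (Algebra.TensorProduct.map
      (alphaNHom R lam N h : MonoidAlgebra R (Multiplicative (ZMod N)) →ₐ[R] AK R lam N h) (AlgHom.id R K)) := by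
  have hb := bij K hN h hlam
  have e : ∀ x, Algebra.TensorProduct.map
      (alphaNHom R lam N h : MonoidAlgebra R (Multiplicative (ZMod N)) →ₐ[R] AK R lam N h) (AlgHom.id R K) x =
      Algebra.TensorProduct.comm R K _ (Algebra.TensorProduct.map (AlgHom.id K K)
      (alphaNHom R lam N h : MonoidAlgebra R (Multiplicative (ZMod N)) →ₐ[R] AK R lam N h)
        (Algebra.TensorProduct.comm R _ K x)) := by
    intro x
    induction x using TensorProduct.induction_on with
    | zero => simp
    | tmul a b => simp
    | add a b ha hb => rw [map_add, ha, hb, map_add, map_add, map_add]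
  have : (Algebra.TensorProduct.map
      (alphaNHom R lam N h : MonoidAlgebra R (Multiplicative (ZMod N)) →ₐ[R] AK R lam N h) (AlgHom.id R K) : _ → _) =
      (Algebra.TensorProduct.comm R K _) ∘ (Algebra.TensorProduct.map (AlgHom.id K K)
      (alphaNHom R lam N h : MonoidAlgebra R (Multiplicative (ZMod N)) →ₐ[R] AK R lam N h)) ∘
        (Algebra.TensorProduct.comm R _ K) := funext e
  rw [this]
  exact (Algebra.TensorProduct.comm R K _).bijective.comp (hb.comp (Algebra.TensorProduct.comm R _ K).bijective)

end Alg


/-- `α^{λ,N}` becomes an isomorphism over a field in which `λ` is invertible. -/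
theorem isIso_alphaN_field {R : Type u} [CommRing R] (lam : R) (N : ℕ) (hN : 0 < N) (h : DivCond lam N)
    (K : Type u) [Field K] [Algebra R K] (hlam : algebraMap R K lam ≠ 0) :
    IsIso ((Over.pullback (Spec.map (CommRingCat.ofHom (algebraMap R K)))).map (alphaN R lam N h)) :=
  isIso_pullback_of_bijective
    (alphaNHom R lam N h : MonoidAlgebra R (Multiplicative (ZMod N)) →ₐ[R] AK R lam N h)
    (alphaN R lam N h) (specHom_left _) (bij' K hN h hlam)

theorem isIso_alphaN_of_field {R : Type u} [CommRing R] (lam : R) (N : ℕ) (hN : 0 < N) (h : DivCond lam N)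
    (K : CommRingCat.{u}) (hK : IsField K) (k : Spec K ⟶ Spec (CommRingCat.of R))
    (hlam : (Spec.preimage k).hom lam ≠ 0) :
    IsIso ((Over.pullback k).map (alphaN R lam N h)) := by
  letI : Field K := hK.toField
  letI : Algebra R K := RingHom.toAlgebra (Spec.preimage k).hom
  have e : k = Spec.map (CommRingCat.ofHom (algebraMap R K)) := (Spec.map_preimage k).symm
  rw [e]
  exact isIso_alphaN_field lam N hN h K hlam

/-- the generic point of an integral scheme surjecting onto `Spec R` (`R` a domain) -/
theorem isIso_alphaN_generic {R : Type u} [CommRing R] [IsDomain R] (lam : R) (N : ℕ) (hN : 0 < N)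
    (h : DivCond lam N) (X : Scheme.{u}) [IsIntegral X] (f : X ⟶ Spec (CommRingCat.of R)) [Surjective f] :
    IsIso ((Over.pullback (X.fromSpecStalk (genericPoint X))).map
      ((Over.pullback f).map (alphaN R lam N h))) := by
  have h1 : IsIso ((Over.pullback (X.fromSpecStalk (genericPoint X) ≫ f)).map (alphaN R lam N h)) := by
    apply isIso_alphaN_of_field lam N hN h _ (Field.toIsField X.functionField)
    intro h0
    set φ := Spec.preimage (X.fromSpecStalk (genericPoint X) ≫ f) with hφ
    have hφ' : Spec.map φ = X.fromSpecStalk (genericPoint X) ≫ f := Spec.map_preimage _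
    have hgen : f.base (genericPoint X) = (⊥ : PrimeSpectrum R) := by
      have h1 := (genericPoint_spec X).image f.continuous
      rw [Set.image_univ, Set.range_eq_univ.mpr f.surjective, closure_univ] at h1
      have h2 := genericPoint_spec (Spec (CommRingCat.of R))
      rw [h1.eq h2]
      exact genericPoint_eq_bot_of_affine (CommRingCat.of R)
    have hmem : lam ∈ ((Spec.map φ).base (IsLocalRing.closedPoint (X.presheaf.stalk (genericPoint X)))).asIdeal := by
      change lam ∈ Ideal.comap φ.hom _
      rw [Ideal.mem_comap, h0]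
      exact Ideal.zero_mem _
    rw [hφ', Scheme.Hom.comp_base, TopCat.comp_app, Scheme.fromSpecStalk_closedPoint, hgen] at hmem
    have : lam = 0 := hmem
    exact nonZeroDivisors.ne_zero h.nzd this
  exact (NatIso.isIso_map_iff (Over.pullbackComp (X.fromSpecStalk (genericPoint X)) f)
    (alphaN R lam N h)).mp h1


theorem isFinite_diag (R : Type u) [CommRing R] (N : ℕ) (hN : 0 < N) :
    IsFinite (Red.diag R (ZMod N)).hom := by
  haveI : NeZero N := ⟨hN.ne'⟩
  haveI : Module.Finite R (MonoidAlgebra R (Multiplicative (ZMod N))) :=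
    Module.Finite.of_basis (MonoidAlgebra.basis (Multiplicative (ZMod N)) R)
  show IsFinite (Spec.map (CommRingCat.ofHom (algebraMap R (MonoidAlgebra R (Multiplicative (ZMod N))))))
  rw [IsFinite.SpecMap_iff]
  simpa [RingHom.finite_algebraMap] using
    (inferInstance : Module.Finite R (MonoidAlgebra R (Multiplicative (ZMod N))))

theorem flat_diag (R : Type u) [CommRing R] (N : ℕ) :
    Flat (Red.diag R (ZMod N)).hom := by
  show Flat (Spec.map (CommRingCat.ofHom (algebraMap R (MonoidAlgebra R (Multiplicative (ZMod N))))))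
  rw [Flat.SpecMap_iff]
  simpa [RingHom.flat_algebraMap_iff] using
    (inferInstance : Module.Flat R (MonoidAlgebra R (Multiplicative (ZMod N))))

end Groth.Agent.Helper18.SekAlpha
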