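import Mathlib
import Groth.Prelude.Def_SekSuwa2
import Groth.Prelude.Def_AlgGrp
import Groth.Agent.Lib.Helper22.SekGK

/-!
# Actions of `G_{μ,1}` on `G_{λ,1}` by group automorphisms are trivial (helper18)
-/

set_option autoImplicit false
set_option linter.unusedSectionVars false
universe u

open CategoryTheory AlgebraicGeometry MonoidalCategory CartesianMonoidalCategory MonObj GrpObj
open SekSuwa Polynomial TensorProduct

noncomputable section

namespace Groth.Agent.Helper18.SekAut

open Groth.Agent.Helper22.SekGK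

/-! ### group theory -/

theorem cyclic_aut_trivial {H : Type*} [Group H] [IsCyclic H] (p : ℕ) [hp : Fact p.Prime]
    (hexp : ∀ x : H, x ^ p = 1) (σ : H → H) (hσ : ∀ x y, σ (x * y) = σ x * σ y)
    (hσp : σ^[p] = id) (x : H) : σ x = x := by
  let τ : H →* H := MonoidHom.mk' σ hσ
  have hτ : ∀ y, τ y = σ y := fun _ => rfl
  obtain ⟨g, hg⟩ := IsCyclic.exists_generator (α := H)
  obtain ⟨k, hk⟩ := Subgroup.mem_zpowers_iff.mp (hg (σ g))
  have hiter : ∀ j : ℕ, σ^[j] g = g ^ (k ^ j) := by
    intro j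
    induction j with
    | zero => simp
    | succ j ih =>
      rw [Function.iterate_succ_apply', ih, ← hτ, map_zpow, hτ, ← hk, ← zpow_mul, pow_succ,
        mul_comm]
  have h1 : g ^ (k ^ p) = g := by
    rw [← hiter p, hσp]; rfl
  have h2 : (k ^ p : ℤ) ≡ k [ZMOD p] := by
    rw [← ZMod.intCast_eq_intCast_iff]
    push_cast
    exact ZMod.pow_card _
  obtain ⟨m, hm⟩ := h2.symm.dvd
  have h3 : g ^ (k ^ p) = g ^ k := by
    have : (k ^ p : ℤ) = k + p * m := by linarith
    rw [this, zpow_add, zpow_mul, zpow_natCast, hexp, one_zpow, _root_.mul_one]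
  have hσg : σ g = g := by rw [← hk, ← h3, h1]
  obtain ⟨n, rfl⟩ := Subgroup.mem_zpowers_iff.mp (hg x)
  rw [← hτ, map_zpow, hτ, hσg]

/-! ### Vandermonde -/

theorem vdm {F : Type*} [Field F] {p : ℕ} (S : Finset F) (hS : p ≤ S.card) (f : Fin p → F)
    (hf : ∀ r ∈ S, ∑ i : Fin p, f i * r ^ (i : ℕ) = 0) : f = 0 := by
  have hQ : (∑ i : Fin p, C (f i) * X ^ (i : ℕ) : F[X]) = 0 := by
    apply Polynomial.eq_zero_of_degree_lt_of_eval_finset_eq_zero S
    · exact lt_of_lt_of_le (degree_sum_fin_lt f) (by exact_mod_cast hS)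
    · intro r hr
      rw [eval_finset_sum]
      simpa using hf r hr
  funext i
  have := congrArg (fun q => q.coeff (i : ℕ)) hQ
  simp only [finset_sum_coeff, coeff_C_mul, coeff_X_pow, coeff_zero] at this
  rw [Finset.sum_eq_single i] at this
  · simpa using this
  · intro j _ hj
    have : (i : ℕ) ≠ (j : ℕ) := fun h => hj (Fin.ext h.symm)
    simp [this]
  · intro h; exact absurd (Finset.mem_univ i) h

/-! ### the algebra `AK` -/

section Alg

variable {R : Type u} [CommRing R] {lam : R} {N : ℕ} (h : DivCond lam N)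

/-- the group-like element `1 + λ t` -/
def uK : AK R lam N h := 1 + lam • AK.t

theorem uK_eq : uK h = AK.mkHom R lam N h A.u := by
  rw [uK, A.u, map_add, map_one, map_smul]; rfl

theorem uK_groupLike : IsGroupLikeElem R (uK h) := by
  rw [uK_eq]
  exact A.isGroupLikeElem_u.map (AK.mkHom R lam N h)

theorem uK_pow : uK h ^ N = 1 := AK.u_pow

theorem uK_mul_inv : uK h * AK.inv = 1 := AK_u_mul_inv h

variable {B : Type u} [CommRing B] [Algebra R B]

theorem conv_apply_uK (f g : WithConv (AK R lam N h →ₐ[R] B)) :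
    (f * g).ofConv (uK h) = f.ofConv (uK h) * g.ofConv (uK h) := by
  have := AlgHom.convMul_apply f g (uK h)
  rw [(uK_groupLike h).comul_eq_tmul_self, Algebra.TensorProduct.lift_tmul] at this
  exact this

theorem one_apply_uK : (1 : WithConv (AK R lam N h →ₐ[R] B)).ofConv (uK h) = 1 := by
  have := AlgHom.convOne_apply (R := R) (A := B) (C := AK R lam N h) (uK h)
  rw [(uK_groupLike h).counit_eq_one, map_one] at this
  exact this

theorem algHom_uK (f : AK R lam N h →ₐ[R] B) : f (uK h) = 1 + algebraMap R B lam * f AK.t := by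
  rw [uK, map_add, map_one, map_smul, Algebra.smul_def]

end Alg

/-! ### points in a field -/

section Field

variable {R : Type u} [CommRing R] {F : Type u} [Field F] [Algebra R F] {lam : R} {p : ℕ}
  (h : DivCond lam p)

theorem algHom_ext_uK (hl : algebraMap R F lam ≠ 0) {f g : AK R lam p h →ₐ[R] F}
    (hfg : f (uK h) = g (uK h)) : f = g := by
  have ht : f AK.t = g AK.t := by
    rw [algHom_uK, algHom_uK] at hfg
    exact mul_left_cancel₀ hl (add_left_cancel hfg)
  apply AK.algHom_ext ht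
  have h1 : f (uK h) * f AK.inv = 1 := by rw [← map_mul, uK_mul_inv, map_one]
  have h2 : g (uK h) * g AK.inv = 1 := by rw [← map_mul, uK_mul_inv, map_one]
  have h3 : f (uK h) ≠ 0 := left_ne_zero_of_mul_eq_one h1
  apply mul_left_cancel₀ h3
  rw [h1, hfg, h2]

open scoped Classical in
/-- the roots of `psiPoly` in `F` -/
def rootSet (F : Type u) [Field F] [Algebra R F] (lam : R) (p : ℕ) : Finset F :=
  (nthRootsFinset p (1 : F)).image (fun ω => (ω - 1) / algebraMap R F lam)

theorem card_rootSet (hl : algebraMap R F lam ≠ 0) {ω : F} (hω : IsPrimitiveRoot ω p) :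
    (rootSet F lam p).card = p := by
  classical
  rw [rootSet, Finset.card_image_of_injective, hω.card_nthRootsFinset]
  intro a b hab
  have h1 : a - 1 = b - 1 := (div_left_inj' hl).mp hab
  exact sub_left_injective h1

theorem aeval_rootSet (hp : 0 < p) (hl : algebraMap R F lam ≠ 0) {r : F}
    (hr : r ∈ rootSet F lam p) : aeval r (psiPoly lam p h) = 0 := by
  classical
  obtain ⟨ω, hω, rfl⟩ := Finset.mem_image.mp hr
  have hω1 : ω ^ p = 1 := (mem_nthRootsFinset hp 1).mp hω
  have e := aeval_psiPoly h (B := F) ((ω - 1) / algebraMap R F lam)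
  rw [mul_div_cancel₀ _ hl, add_sub_cancel, hω1, sub_self] at e
  exact (mul_eq_zero.mp e).resolve_left (by rw [map_pow]; exact pow_ne_zero _ hl)

/-- the algebra map `AK → F` attached to a root -/
def homOfRoot (hp : 0 < p) (r : F) (hr : aeval r (psiPoly lam p h) = 0) :
    AK R lam p h →ₐ[R] F :=
  (AdjoinRoot.liftAlgHom (psiPoly lam p h) (Algebra.ofId R F) r
    (by rwa [aeval_def] at hr)).comp (equivAdj R lam p hp h).toAlgHom

theorem homOfRoot_t (hp : 0 < p) (r : F) (hr : aeval r (psiPoly lam p h) = 0) :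
    homOfRoot h hp r hr AK.t = r := by
  have : equivAdj R lam p hp h AK.t = AdjoinRoot.root _ := toAdj_t hp h
  have hr' : eval₂ (Algebra.ofId R F : R →+* F) r (psiPoly lam p h) = 0 := by
    rwa [aeval_def] at hr
  change AdjoinRoot.liftAlgHom _ (Algebra.ofId R F) r hr' (equivAdj R lam p hp h AK.t) = r
  rw [this, AdjoinRoot.liftAlgHom_root]

/-- the power basis of `AK` -/
def bas [Nontrivial R] (hp : 0 < p) : Module.Basis (Fin p) R (AK R lam p h) :=
  ((AdjoinRoot.powerBasis' (psi_monic hp h)).basis.reindex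
    (finCongr (by rw [AdjoinRoot.powerBasis'_dim, psi_natDegree hp h]))).map
    (equivAdj R lam p hp h).symm.toLinearEquiv

theorem bas_apply [Nontrivial R] (hp : 0 < p) (i : Fin p) :
    bas h hp i = AK.t ^ (i : ℕ) := by
  simp only [bas, Module.Basis.map_apply, Module.Basis.reindex_apply, PowerBasis.coe_basis,
    AdjoinRoot.powerBasis'_gen, AlgEquiv.toLinearEquiv_apply, map_pow]
  have : (equivAdj R lam p hp h).symm (AdjoinRoot.root _) = AK.t := fromAdj_root h
  rw [this]
  rfl

theorem joint_injective [Nontrivial R] (hinj : Function.Injective (algebraMap R F)) {mu : R}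
    (hp : 0 < p) (h₁ : DivCond lam p) (h₂ : DivCond mu p)
    (hl : algebraMap R F lam ≠ 0) (hm : algebraMap R F mu ≠ 0) {ω : F} (hω : IsPrimitiveRoot ω p)
    (z : AK R mu p h₂ ⊗[R] AK R lam p h₁)
    (hz : ∀ (gam : AK R mu p h₂ →ₐ[R] F) (ξ : AK R lam p h₁ →ₐ[R] F),
      Algebra.TensorProduct.lift gam ξ (fun _ _ => Commute.all _ _) z = 0) : z = 0 := by
  let B := (bas h₂ hp).tensorProduct (bas h₁ hp)
  have hB : ∀ i j : Fin p, B (i, j) = ((AK.t : AK R mu p h₂) ^ (i : ℕ)) ⊗ₜ[R] ((AK.t : AK R lam p h₁) ^ (j : ℕ)) := by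
    intro i j
    rw [Module.Basis.tensorProduct_apply, bas_apply, bas_apply]
  have key : ∀ r ∈ rootSet F mu p, ∀ r' ∈ rootSet F lam p,
      ∑ i : Fin p, (∑ j : Fin p, algebraMap R F (B.repr z (i, j)) * r' ^ (j : ℕ)) * r ^ (i : ℕ)
        = 0 := by
    intro r hr r' hr'
    have := hz (homOfRoot h₂ hp r (aeval_rootSet h₂ hp hm hr))
      (homOfRoot h₁ hp r' (aeval_rootSet h₁ hp hl hr'))
    conv_lhs at this => rw [← B.sum_repr z]
    rw [map_sum, Fintype.sum_prod_type] at this
    rw [← this]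
    refine Finset.sum_congr rfl fun i _ => ?_
    rw [Finset.sum_mul]
    refine Finset.sum_congr rfl fun j _ => ?_
    rw [map_smul, hB, Algebra.TensorProduct.lift_tmul, map_pow, map_pow, homOfRoot_t,
      homOfRoot_t, Algebra.smul_def]
    ring
  have h1 : ∀ r' ∈ rootSet F lam p, ∀ i : Fin p,
      ∑ j : Fin p, algebraMap R F (B.repr z (i, j)) * r' ^ (j : ℕ) = 0 := by
    intro r' hr' i
    have := vdm (rootSet F mu p) (card_rootSet hm hω).ge
      (fun i => ∑ j : Fin p, algebraMap R F (B.repr z (i, j)) * r' ^ (j : ℕ))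
      (fun r hr => key r hr r' hr')
    exact congrFun this i
  have h2 : ∀ i j : Fin p, algebraMap R F (B.repr z (i, j)) = 0 := by
    intro i j
    have := vdm (rootSet F lam p) (card_rootSet hl hω).ge
      (fun j => algebraMap R F (B.repr z (i, j))) (fun r' hr' => h1 r' hr' i)
    exact congrFun this j
  have h3 : B.repr z = 0 := by
    ext ⟨i, j⟩
    exact hinj ((h2 i j).trans (map_zero _).symm)
  exact (LinearEquiv.map_eq_zero_iff _).mp h3

end Field

/-! ### points of `Spec` -/

section Pts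

variable {R : Type u} [CommRing R]

/-- `Spec B` over `Spec R` -/
abbrev TT (R : Type u) [CommRing R] (B : Type u) [CommRing B] [Algebra R B] :
    Over (Spec (CommRingCat.of R)) :=
  (Spec (CommRingCat.of B)).asOver (Spec (CommRingCat.of R))

section
variable {S B B' : Type u} [CommRing S] [Bialgebra R S] [CommRing B] [Algebra R B]
  [CommRing B'] [Algebra R B']

/-- the point attached to an algebra map -/
def pt (f : S →ₐ[R] B) : TT R B ⟶ TT R S := Spec.mapMulEquiv (WithConv.toConv f)

/-- `Spec` of an algebra map -/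
def sp (θ : B →ₐ[R] B') : TT R B' ⟶ TT R B :=
  (Spec.map (CommRingCat.ofHom θ.toRingHom)).asOver _

theorem pt_left (f : S →ₐ[R] B) : (pt f).left = Spec.map (CommRingCat.ofHom f.toRingHom) := rfl

theorem sp_left (θ : B →ₐ[R] B') : (sp θ).left = Spec.map (CommRingCat.ofHom θ.toRingHom) := rfl

theorem sp_pt (θ : B →ₐ[R] B') (f : S →ₐ[R] B) : sp θ ≫ pt f = pt (θ.comp f) := by
  ext1
  change Spec.map (CommRingCat.ofHom θ.toRingHom) ≫ Spec.map (CommRingCat.ofHom f.toRingHom) =
    Spec.map (CommRingCat.ofHom (θ.comp f).toRingHom)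
  rw [← Spec.map_comp, ← CommRingCat.ofHom_comp]
  rfl

theorem pt_injective : Function.Injective (pt : (S →ₐ[R] B) → (TT R B ⟶ TT R S)) :=
  Spec.mapMulEquiv.injective.comp WithConv.toConv_injective

theorem pt_surjective (x : TT R B ⟶ TT R S) : ∃ f : S →ₐ[R] B, pt f = x :=
  ⟨(Spec.mapMulEquiv.symm x).ofConv, by simp [pt]⟩

end

section Act

variable {S : Scheme.{u}} {G X : Over S} [GrpObj G] (a : AlgGrp.Action G X)

theorem act_one {T : Over S} (x : T ⟶ X) : lift (toUnit T ≫ η[G]) x ≫ a.act = x := by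
  have h1 : lift (toUnit T ≫ η[G]) x = lift (toUnit T) x ≫ (η[G] ▷ X) := by
    rw [lift_whiskerRight]
  rw [h1, Category.assoc, a.one_act]
  simp

theorem act_mul {T : Over S} (g h : T ⟶ G) (x : T ⟶ X) :
    lift (g * h) x ≫ a.act = lift g (lift h x ≫ a.act) ≫ a.act := by
  have h1 : lift (g * h) x = lift (lift g h) x ≫ (μ[G] ▷ X) := by
    rw [lift_whiskerRight, Hom.mul_def]
  have h2 : lift (lift g h) x ≫ (α_ G G X).hom = lift g (lift h x) := by
    apply CartesianMonoidalCategory.hom_ext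
    · simp
    · apply CartesianMonoidalCategory.hom_ext <;> simp
  rw [h1, Category.assoc, a.mul_act, reassoc_of% h2, ← Category.assoc, lift_whiskerLeft]

end Act

section StepA

variable {F : Type u} [Field F] [Algebra R F] {lam : R} {p : ℕ} [hpf : Fact p.Prime]
  (h : DivCond lam p)

/-- evaluation of a point at the group-like element -/
def ev (x : TT R F ⟶ GK R lam p h) : F := (Spec.mapMulEquiv.symm x).ofConv (uK h)

theorem ev_mul (x y : TT R F ⟶ GK R lam p h) : ev h (x * y) = ev h x * ev h y := by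
  simp only [ev, map_mul]
  exact conv_apply_uK h _ _

theorem ev_one : ev h (1 : TT R F ⟶ GK R lam p h) = 1 := by
  simp only [ev, map_one]
  exact one_apply_uK h

/-- `ev` as a monoid hom -/
def evHom : (TT R F ⟶ GK R lam p h) →* F where
  toFun := ev h
  map_one' := ev_one h
  map_mul' := ev_mul h

theorem ev_injective (hl : algebraMap R F lam ≠ 0) : Function.Injective (ev (F := F) h) := by
  intro x y hxy
  apply Spec.mapMulEquiv.symm.injective
  apply WithConv.ofConv_injective
  exact algHom_ext_uK h hl hxy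

theorem ev_pow (x : TT R F ⟶ GK R lam p h) : ev h x ^ p = 1 := by
  rw [ev, ← map_pow, uK_pow, map_one]

theorem pts_pow (hl : algebraMap R F lam ≠ 0) (x : TT R F ⟶ GK R lam p h) : x ^ p = 1 := by
  apply ev_injective h hl
  have : ev h (x ^ p) = ev h x ^ p := map_pow (evHom h) x p
  rw [this, ev_pow, ev_one]

theorem finite_pts (hl : algebraMap R F lam ≠ 0) : Finite (TT R F ⟶ GK R lam p h) :=
  Finite.of_injective
    (fun x => (⟨ev h x, (mem_nthRootsFinset hpf.out.pos 1).mpr (ev_pow h x)⟩ :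
      ↥(nthRootsFinset p (1 : F))))
    (fun x y hxy => ev_injective h hl (Subtype.ext_iff.mp hxy))

theorem cyclic_pts (hl : algebraMap R F lam ≠ 0) : IsCyclic (TT R F ⟶ GK R lam p h) := by
  haveI := finite_pts h hl
  exact isCyclic_of_injective_ringHom (evHom h) (ev_injective h hl)

theorem stepA {mu : R} (h₁ : DivCond lam p) (h₂ : DivCond mu p)
    (hl : algebraMap R F lam ≠ 0) (hm : algebraMap R F mu ≠ 0)
    (a : AlgGrp.Action (GK R mu p h₂) (GK R lam p h₁))
    (hmul : ∀ (T : Over (Spec (CommRingCat.of R))) (g : T ⟶ GK R mu p h₂)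
      (x y : T ⟶ GK R lam p h₁),
      lift g (x * y) ≫ a.act = (lift g x ≫ a.act) * (lift g y ≫ a.act))
    (g : TT R F ⟶ GK R mu p h₂) (x : TT R F ⟶ GK R lam p h₁) : lift g x ≫ a.act = x := by
  haveI := cyclic_pts h₁ hl
  have hone : ∀ y : TT R F ⟶ GK R lam p h₁, lift (1 : TT R F ⟶ GK R mu p h₂) y ≫ a.act = y := by
    intro y
    rw [Hom.one_def]
    exact act_one a y
  have hiter : ∀ (j : ℕ) (y : TT R F ⟶ GK R lam p h₁),
      (fun y => lift g y ≫ a.act)^[j] y = lift (g ^ j) y ≫ a.act := by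
    intro j
    induction j with
    | zero => intro y; rw [pow_zero, hone]; rfl
    | succ j ih => intro y; rw [Function.iterate_succ_apply', ih, pow_succ', act_mul]
  refine cyclic_aut_trivial p (pts_pow h₁ hl) (fun y => lift g y ≫ a.act) (hmul _ g) ?_ x
  funext y
  rw [hiter, pts_pow h₂ hm, hone]
  rfl

end StepA

section StepB

open CategoryTheory.Limits

theorem isIso_lift (S₁ S₂ : Type u) [CommRing S₁] [CommRing S₂] [Bialgebra R S₁]
    [Bialgebra R S₂] :
    IsIso (lift (pt (Algebra.TensorProduct.includeLeft : S₁ →ₐ[R] S₁ ⊗[R] S₂))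
      (pt (Algebra.TensorProduct.includeRight : S₂ →ₐ[R] S₁ ⊗[R] S₂))) := by
  have hleft : (lift (pt (Algebra.TensorProduct.includeLeft : S₁ →ₐ[R] S₁ ⊗[R] S₂))
      (pt (Algebra.TensorProduct.includeRight : S₂ →ₐ[R] S₁ ⊗[R] S₂))).left =
      (pullbackSpecIso R S₁ S₂).inv := by
    rw [Over.lift_left]
    apply pullback.hom_ext
    · rw [pullback.lift_fst]
      exact (pullbackSpecIso_inv_fst R S₁ S₂).symm
    · rw [pullback.lift_snd]
      exact (pullbackSpecIso_inv_snd R S₁ S₂).symm
  haveI : IsIso ((Over.forget _).map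
      (lift (pt (Algebra.TensorProduct.includeLeft : S₁ →ₐ[R] S₁ ⊗[R] S₂))
      (pt (Algebra.TensorProduct.includeRight : S₂ →ₐ[R] S₁ ⊗[R] S₂)))) := by
    rw [Over.forget_map, hleft]
    infer_instance
  exact isIso_of_reflects_iso _ (Over.forget _)

theorem act_eq_snd [Nontrivial R] {F : Type u} [Field F] [Algebra R F]
    (hinj : Function.Injective (algebraMap R F)) {lam mu : R} {p : ℕ} [hpf : Fact p.Prime]
    (h₁ : DivCond lam p) (h₂ : DivCond mu p)
    (hl : algebraMap R F lam ≠ 0) (hm : algebraMap R F mu ≠ 0) {ω : F} (hω : IsPrimitiveRoot ω p)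
    (a : AlgGrp.Action (GK R mu p h₂) (GK R lam p h₁))
    (hmul : ∀ (T : Over (Spec (CommRingCat.of R))) (g : T ⟶ GK R mu p h₂)
      (x y : T ⟶ GK R lam p h₁),
      lift g (x * y) ≫ a.act = (lift g x ≫ a.act) * (lift g y ≫ a.act)) :
    a.act = snd _ _ := by
  haveI := isIso_lift (R := R) (AK R mu p h₂) (AK R lam p h₁)
  rw [← cancel_epi (lift (pt (Algebra.TensorProduct.includeLeft :
      AK R mu p h₂ →ₐ[R] AK R mu p h₂ ⊗[R] AK R lam p h₁))
    (pt (Algebra.TensorProduct.includeRight :
      AK R lam p h₁ →ₐ[R] AK R mu p h₂ ⊗[R] AK R lam p h₁))), lift_snd]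
  obtain ⟨ρ, hρ⟩ := pt_surjective (lift (pt (Algebra.TensorProduct.includeLeft :
      AK R mu p h₂ →ₐ[R] AK R mu p h₂ ⊗[R] AK R lam p h₁))
    (pt (Algebra.TensorProduct.includeRight :
      AK R lam p h₁ →ₐ[R] AK R mu p h₂ ⊗[R] AK R lam p h₁)) ≫ a.act)
  rw [← hρ]
  congr 1
  ext z
  rw [← sub_eq_zero]
  apply joint_injective hinj hpf.out.pos h₁ h₂ hl hm hω
  intro gam ξ
  rw [map_sub, sub_eq_zero]
  have e1 : (Algebra.TensorProduct.lift gam ξ (fun _ _ => Commute.all _ _)).comp
      Algebra.TensorProduct.includeLeft = gam := Algebra.TensorProduct.lift_comp_includeLeft _ _ _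
  have e2 : (Algebra.TensorProduct.lift gam ξ (fun _ _ => Commute.all _ _)).comp
      Algebra.TensorProduct.includeRight = ξ := Algebra.TensorProduct.lift_comp_includeRight' _ _ _
  have key : (Algebra.TensorProduct.lift gam ξ (fun _ _ => Commute.all _ _)).comp ρ =
      (Algebra.TensorProduct.lift gam ξ (fun _ _ => Commute.all _ _)).comp
        Algebra.TensorProduct.includeRight := by
    apply pt_injective
    rw [← sp_pt, ← sp_pt, hρ, ← Category.assoc, comp_lift, sp_pt, sp_pt, e1, e2]
    exact stepA h₁ h₂ hl hm a hmul _ _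
  exact DFunLike.congr_fun key z

end StepB

end Pts

end Groth.Agent.Helper18.SekAut
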