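import Mathlib
import Groth.Agent.Lib.Helper18.H90

/-!
# Zariski-local Hilbert 90 for the group law `s + t + λst` (helper18)
-/

set_option autoImplicit false
universe u
open TensorProduct

namespace Groth.Agent.Helper18.SekH90

open Groth.Agent.Helper18.AmitsurH1 Groth.Agent.Helper18

variable (A B : Type u) [CommRing A] [CommRing B] [Algebra A B] [Module.FaithfullyFlat A B]

theorem main (lam : A) (hlam : lam ∈ nonZeroDivisors A) (w v : B ⊗[A] B)
    (hv : (1 + lam • w) * v = 1)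
    (hw : q12 A B w + q23 A B w + lam • (q12 A B w * q23 A B w) = q13 A B w)
    (𝔭 : Ideal A) [𝔭.IsPrime] :
    ∃ (a g : A) (z l' : B), a ∉ 𝔭 ∧ g ∉ 𝔭 ∧
      (algebraMap A B a + lam • z) * l' = algebraMap A B g ∧
      a • w + (1 : B) ⊗ₜ[A] z + lam • (w * ((1 : B) ⊗ₜ[A] z)) = z ⊗ₜ[A] (1 : B) := by
  have e1 : ∀ (c : A) (z : B), c • z = algebraMap A B c * z := fun c z => Algebra.smul_def c z
  have e2 : ∀ (c : A) (z : B ⊗[A] B), c • z = algebraMap A (B ⊗[A] B) c * z :=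
    fun c z => Algebra.smul_def c z
  have e3 : ∀ (c : A) (z : (B ⊗[A] B) ⊗[A] B), c • z = algebraMap A ((B ⊗[A] B) ⊗[A] B) c * z :=
    fun c z => Algebra.smul_def c z
  have hu : q12 A B (1 + lam • w) * q23 A B (1 + lam • w) = q13 A B (1 + lam • w) := by
    rw [map_add, map_add, map_add, map_one, map_one, map_one, map_smul, map_smul, map_smul, ← hw]
    simp only [e3]
    ring
  obtain ⟨l, l', g₀, hg₀, hl, hll⟩ := H90.main A B (1 + lam • w) v hv hu 𝔭
  have hd0 : d0 A B l = lam • (w * ((1 : B) ⊗ₜ[A] l)) := by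
    rw [d0_apply, ← hl]
    simp only [e2]
    ring
  have hd1 : lam • d1 A B (w * ((1 : B) ⊗ₜ[A] l)) = 0 := by
    rw [← map_smul, ← hd0, d1_d0]
  have hreg : IsSMulRegular ((B ⊗[A] B) ⊗[A] B) lam :=
    Module.Flat.isSMulRegular_of_nonZeroDivisors (M := (B ⊗[A] B) ⊗[A] B) hlam
  have hd1' : d1 A B (w * ((1 : B) ⊗ₜ[A] l)) = 0 := by
    apply hreg
    show lam • _ = lam • 0
    rw [hd1, smul_zero]
  obtain ⟨z', hz'⟩ := (exact A B _).1 hd1'
  have hd0' : d0 A B (l - lam • z') = 0 := by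
    rw [map_sub, map_smul, hd0, hz', sub_self]
  have h2 : Algebra.TensorProduct.includeLeftSubRight A B (l - lam • z') = 0 := by
    rw [Algebra.TensorProduct.includeLeftSubRight_apply]
    exact hd0'
  obtain ⟨a, ha⟩ := ((Algebra.IsEffective.of_faithfullyFlat A B) (l - lam • z')).1 h2
  have hl_eq : l = algebraMap A B a + lam • z' := by
    have ha' : algebraMap A B a = l - lam • z' := ha
    rw [ha']
    ring
  by_cases ha𝔭 : a ∈ 𝔭
  · have hlam𝔭 : lam ∉ 𝔭 := by
      intro hcon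
      apply hg₀
      rw [← Ideal.comap_map_eq_self_of_faithfullyFlat (B := B) 𝔭, Ideal.mem_comap, ← hll]
      apply Ideal.mul_mem_right
      rw [hl_eq, e1]
      exact Ideal.add_mem _ (Ideal.mem_map_of_mem _ ha𝔭)
        (Ideal.mul_mem_right _ _ (Ideal.mem_map_of_mem _ hcon))
    refine ⟨lam, lam * g₀, l - 1, l', hlam𝔭,
      fun h => (Ideal.IsPrime.mem_or_mem inferInstance h).elim hlam𝔭 hg₀, ?_, ?_⟩
    · rw [map_mul, ← hll]
      simp only [e1]
      ring
    · rw [tmul_sub, sub_tmul, ← Algebra.TensorProduct.one_def]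
      have hl' : (1 + lam • w) * ((1 : B) ⊗ₜ[A] l) = l ⊗ₜ[A] (1 : B) := hl
      simp only [e2] at hl' ⊢
      linear_combination hl'
  · refine ⟨a, g₀, z', l', ha𝔭, hg₀, ?_, ?_⟩
    · rw [← hl_eq, hll]
    · have h3 : w * ((1 : B) ⊗ₜ[A] l) = z' ⊗ₜ[A] (1 : B) - (1 : B) ⊗ₜ[A] z' := by
        rw [← hz', d0_apply]
      have h4 : (1 : B) ⊗ₜ[A] l = a • (1 : B ⊗[A] B) + lam • ((1 : B) ⊗ₜ[A] z') := by
        rw [hl_eq, tmul_add, Algebra.algebraMap_eq_smul_one, tmul_smul, tmul_smul,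
          ← Algebra.TensorProduct.one_def]
      rw [h4] at h3
      simp only [e2] at h3 ⊢
      linear_combination h3

end Groth.Agent.Helper18.SekH90
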