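import Mathlib

set_option autoImplicit false
universe u

namespace Groth.Agent.Helper18.SekPow

open Polynomial

section RootsOfUnity

variable {R : Type*} [CommRing R] [IsDomain R] [IsDiscreteValuationRing R] [CharZero R]
  {p : ℕ} [Fact p.Prime] {ϖ : R} {n : ℕ} {ζ : R} {j : ℕ}

theorem pow_dvd_zeta_sub_one (hϖ : Irreducible ϖ) (hn : 0 < n) (hζ : IsPrimitiveRoot ζ (p ^ n))
    (hj : ϖ ^ (p ^ (n - 1) * (p - 1) * (j + 1)) ∣ (p : R)) : ϖ ^ (j + 1) ∣ ζ - 1 := by
  have hp := (Fact.out : p.Prime)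
  have hNpos : 0 < p ^ n := pow_pos hp.pos n
  have hN : 1 < p ^ n := Nat.one_lt_pow hn.ne' hp.one_lt
  have hζ1 : ζ - 1 ≠ 0 := sub_ne_zero.mpr (hζ.ne_one hN)
  obtain ⟨m, u, hu⟩ := IsDiscreteValuationRing.eq_unit_mul_pow_irreducible hζ1 hϖ
  by_contra hcon
  have hm : m ≤ j := by
    by_contra hm
    push_neg at hm
    apply hcon
    rw [hu]
    exact Dvd.dvd.mul_left (pow_dvd_pow ϖ hm) _
  have hz : ζ - 1 ∣ ϖ ^ j := by
    have h1 : ζ - 1 ∣ ϖ ^ m := ⟨↑u⁻¹, by rw [hu]; rw [mul_comm (u : R), mul_assoc, Units.mul_inv, mul_one]⟩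
    exact dvd_trans h1 (pow_dvd_pow ϖ hm)
  have hdiv : ∀ μ ∈ primitiveRoots (p ^ n) R, (1 - μ) ∣ ϖ ^ j := by
    intro μ hμ
    have hμ' : IsPrimitiveRoot μ (p ^ n) := (mem_primitiveRoots hNpos).mp hμ
    haveI : NeZero (p ^ n) := ⟨hNpos.ne'⟩
    obtain ⟨i, -, hi⟩ := hμ'.eq_pow_of_pow_eq_one hζ.pow_eq_one
    have h1 : (1 - μ) ∣ ζ - 1 := by
      rw [← hi, ← neg_sub, neg_dvd]
      simpa using sub_dvd_pow_sub_pow μ 1 i
    exact dvd_trans h1 hz
  have hpprod : (p : R) = ∏ μ ∈ primitiveRoots (p ^ n) R, (1 - μ) := by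
    obtain ⟨k, rfl⟩ : ∃ k, n = k + 1 := ⟨n - 1, by omega⟩
    rw [← eval_one_cyclotomic_prime_pow (R := R) (p := p) k,
      cyclotomic_eq_prod_X_sub_primitiveRoots hζ, eval_prod]
    simp
  have hcard : (primitiveRoots (p ^ n) R).card = p ^ (n - 1) * (p - 1) := by
    rw [hζ.card_primitiveRoots, Nat.totient_prime_pow hp hn]
  have h2 : (p : R) ∣ ϖ ^ (j * (p ^ (n - 1) * (p - 1))) := by
    rw [hpprod, pow_mul, ← hcard, ← Finset.prod_const]
    exact Finset.prod_dvd_prod_of_dvd _ _ hdiv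
  have h3 := dvd_trans hj h2
  rw [pow_dvd_pow_iff hϖ.ne_zero hϖ.not_isUnit] at h3
  have hpos : 0 < p ^ (n - 1) * (p - 1) :=
    Nat.mul_pos (pow_pos hp.pos _) (Nat.sub_pos_of_lt hp.one_lt)
  nlinarith

theorem exists_quot (hϖ : Irreducible ϖ) (hn : 0 < n) (hζ : IsPrimitiveRoot ζ (p ^ n))
    (hj : ϖ ^ (p ^ (n - 1) * (p - 1) * (j + 1)) ∣ (p : R)) :
    ∃ q : R → R, ∀ μ ∈ nthRootsFinset (p ^ n) (1 : R), μ = 1 + ϖ ^ (j + 1) * q μ := by
  have h := pow_dvd_zeta_sub_one hϖ hn hζ hj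
  have hpos : 0 < p ^ n := pow_pos (Fact.out : p.Prime).pos n
  have : ∀ μ : R, ∃ q : R, μ ∈ nthRootsFinset (p ^ n) (1 : R) → μ = 1 + ϖ ^ (j + 1) * q := by
    intro μ
    by_cases hμ : μ ∈ nthRootsFinset (p ^ n) (1 : R)
    · have hμ1 : μ ^ (p ^ n) = 1 := (mem_nthRootsFinset hpos 1).mp hμ
      haveI : NeZero (p ^ n) := ⟨hpos.ne'⟩
      obtain ⟨i, -, hi⟩ := hζ.eq_pow_of_pow_eq_one hμ1
      have h1 : ζ - 1 ∣ μ - 1 := by
        rw [← hi]
        simpa using sub_dvd_pow_sub_pow ζ 1 i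
      obtain ⟨q, hq⟩ := dvd_trans h h1
      exact ⟨q, fun _ => by rw [← hq]; ring⟩
    · exact ⟨0, fun h => absurd h hμ⟩
  choose q hq using this
  exact ⟨q, hq⟩

theorem pow_identity {S : Type*} [CommRing S] (hζ : IsPrimitiveRoot ζ (p ^ n)) (φ : R →+* S)
    (i : ℕ) (q : R → R)
    (hq : ∀ μ ∈ nthRootsFinset (p ^ n) (1 : R), μ = 1 + ϖ ^ i * q μ) (w : S) :
    (1 + φ ϖ ^ i * w) ^ (p ^ n) =
      1 + φ ϖ ^ (i * p ^ n) * ∏ μ ∈ nthRootsFinset (p ^ n) (1 : R), (w - φ (q μ)) := by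
  have hpos : 0 < p ^ n := pow_pos (Fact.out : p.Prime).pos n
  have h := congrArg (eval₂ φ (1 + φ ϖ ^ i * w)) (X_pow_sub_one_eq_prod hpos hζ)
  simp only [eval₂_sub, eval₂_pow, eval₂_X, eval₂_one, eval₂_finset_prod, eval₂_C] at h
  have h2 : ∏ μ ∈ nthRootsFinset (p ^ n) (1 : R), (1 + φ ϖ ^ i * w - φ μ) =
      ∏ μ ∈ nthRootsFinset (p ^ n) (1 : R), (φ ϖ ^ i * (w - φ (q μ))) := by
    refine Finset.prod_congr rfl fun μ hμ => ?_
    conv_lhs => rw [hq μ hμ]
    simp only [map_add, map_one, map_mul, map_pow]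
    ring
  rw [h2, Finset.prod_mul_distrib, Finset.prod_const, hζ.card_nthRootsFinset, ← pow_mul] at h
  rw [← h]; ring

end RootsOfUnity

theorem prod_sub_mem {S : Type*} [CommRing S] {T : Type*} (s : Finset T) (w c : S) (a : T → S) :
    ∏ μ ∈ s, (w - c * a μ) - w ^ s.card ∈ Ideal.span {c} := by
  rw [← Ideal.Quotient.eq, map_prod, map_pow, ← Finset.prod_const]
  refine Finset.prod_congr rfl fun μ _ => ?_
  rw [Ideal.Quotient.eq]
  have : w - c * a μ - w = -(a μ) * c := by ring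
  rw [this]
  exact Ideal.mul_mem_left _ _ (Ideal.mem_span_singleton_self c)

section Main

variable {A : Type u} [CommRing A] [IsDomain A]

theorem isIntegrallyClosedIn_away [IsIntegrallyClosed A] {π : A} (hπ : π ≠ 0) :
    IsIntegrallyClosedIn A (Localization.Away π) := by
  have hunit : ∀ y : Submonoid.powers π, IsUnit ((Algebra.ofId A (FractionRing A)) y) := by
    rintro ⟨y, k, rfl⟩
    apply IsUnit.mk0
    simp [hπ]
  let F : Localization.Away π →ₐ[A] FractionRing A :=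
    IsLocalization.liftAlgHom (M := Submonoid.powers π) hunit
  have hF : Function.Injective F := by
    have : Function.Injective
        (IsLocalization.lift (M := Submonoid.powers π) (S := Localization.Away π) hunit) := by
      rw [IsLocalization.lift_injective_iff]
      intro x y
      rw [(IsLocalization.injective (Localization.Away π)
        (powers_le_nonZeroDivisors_of_noZeroDivisors hπ)).eq_iff]
      exact (IsFractionRing.injective A (FractionRing A)).eq_iff.symm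
    exact this
  exact AlgHom.isIntegrallyClosedIn F hF inferInstance

variable (π : A) (N : ℕ) (f : A)

abbrev LL := AdjoinRoot (X ^ N - C (algebraMap A (Localization.Away π) f))

theorem contraction [IsIntegrallyClosed A] [IsDomain (LL π N f)] (hN : 0 < N) (hπ : π ≠ 0) (m : ℕ)
    (a : A) (b : LL π N f) (hb : IsIntegral A b)
    (h : algebraMap A (LL π N f) a = algebraMap A (LL π N f) π ^ m * b) :
    ∃ a' : A, a = π ^ m * a' := by
  haveI := isIntegrallyClosedIn_away hπ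
  have hinjA : Function.Injective (algebraMap A (Localization.Away π)) :=
    IsLocalization.injective _ (powers_le_nonZeroDivisors_of_noZeroDivisors hπ)
  haveI : IsDomain (Localization.Away π) :=
    IsLocalization.isDomain_localization (powers_le_nonZeroDivisors_of_noZeroDivisors hπ)
  have hinjL : Function.Injective (algebraMap (Localization.Away π) (LL π N f)) := by
    apply AdjoinRoot.of.injective_of_degree_ne_zero
    rw [degree_X_pow_sub_C hN]
    exact_mod_cast hN.ne'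
  have hu : IsUnit (algebraMap A (Localization.Away π) π) :=
    IsLocalization.Away.algebraMap_isUnit π
  obtain ⟨v, hv⟩ := hu
  let x : Localization.Away π := algebraMap A _ a * ↑(v⁻¹ ^ m)
  have hx : x * algebraMap A _ π ^ m = algebraMap A _ a := by
    simp only [x, ← hv]
    rw [mul_assoc, ← Units.val_pow_eq_pow_val, ← Units.val_mul, inv_pow, inv_mul_cancel,
      Units.val_one, mul_one]
  have hπL0 : algebraMap A (LL π N f) π ^ m ≠ 0 := by
    apply pow_ne_zero
    rw [IsScalarTower.algebraMap_apply A (Localization.Away π) (LL π N f)]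
    intro h0
    have := hinjL (h0.trans (map_zero _).symm)
    exact hπ (hinjA (this.trans (map_zero _).symm))
  have hxL : algebraMap _ (LL π N f) x = b := by
    apply mul_left_cancel₀ hπL0
    rw [← h, IsScalarTower.algebraMap_apply A (Localization.Away π) (LL π N f), ← map_pow,
      ← map_mul, mul_comm, hx]
    rw [← IsScalarTower.algebraMap_apply A (Localization.Away π) (LL π N f)]
  have hxint : IsIntegral A x := by
    rw [← hxL] at hb
    exact (isIntegral_algHom_iff (IsScalarTower.toAlgHom A (Localization.Away π) (LL π N f))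
      hinjL).mp hb
  obtain ⟨a', ha'⟩ := IsIntegrallyClosedIn.algebraMap_eq_of_integral hxint
  refine ⟨a', hinjA ?_⟩
  rw [map_mul, map_pow, ha', mul_comm, hx]


theorem main {R : Type u} [CommRing R] [IsDomain R] [IsDiscreteValuationRing R] [CharZero R]
    (p : ℕ) [Fact p.Prime] (ϖ : R) (hϖ : Irreducible ϖ)
    (n : ℕ) (hn : 0 < n) (ζ : R) (hζ : IsPrimitiveRoot ζ (p ^ n))
    {A : Type u} [CommRing A] [IsDomain A] [IsIntegrallyClosed A] [Algebra R A]
    (hlift : ∀ a : A, IsUnit (Ideal.Quotient.mk (Ideal.span {algebraMap R A ϖ}) a) → IsUnit a)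
    (f g : Aˣ) (j : ℕ) (hj : ϖ ^ (p ^ (n - 1) * (p - 1) * (j + 1)) ∣ (p : R)) (f₀ : A)
    (hfg : (f : A) * (g : A) ^ (p ^ n) = 1 + (algebraMap R A ϖ) ^ (j * p ^ n) * f₀)
    (hmax : ∀ (g' : Aˣ) (c : A),
      (f : A) * (g' : A) ^ (p ^ n) ≠ 1 + (algebraMap R A ϖ) ^ ((j + 1) * p ^ n) * c)
    [IsDomain (LL (algebraMap R A ϖ) (p ^ n) (f : A))]
    (hred : (Ideal.span {algebraMap A (integralClosure A (LL (algebraMap R A ϖ) (p ^ n) (f : A)))
      (algebraMap R A ϖ)}).IsRadical)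
    (g₀ : A) : f₀ - g₀ ^ (p ^ n) ∉ Ideal.span {(algebraMap R A ϖ)} := by
  intro hmem
  obtain ⟨c₁, hc₁⟩ := Ideal.mem_span_singleton'.mp hmem
  have hp := (Fact.out : p.Prime)
  have hNpos : 0 < p ^ n := pow_pos hp.pos n
  obtain ⟨q, hq⟩ := exists_quot hϖ hn hζ hj
  have hq' : ∀ μ ∈ nthRootsFinset (p ^ n) (1 : R), μ = 1 + ϖ ^ j * (ϖ * q μ) := by
    intro μ hμ
    calc μ = 1 + ϖ ^ (j + 1) * q μ := hq μ hμ
      _ = 1 + ϖ ^ j * (ϖ * q μ) := by ring
  obtain ⟨t, ht⟩ : ϖ ∣ (p : R) := by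
    refine dvd_trans (dvd_pow_self ϖ ?_) hj
    have h1 := Nat.sub_pos_of_lt hp.one_lt
    have h2 : 0 < p ^ (n - 1) := pow_pos hp.pos _
    have : 0 < p ^ (n - 1) * (p - 1) * (j + 1) := by positivity
    exact this.ne'
  set π : A := algebraMap R A ϖ with hπdef
  let L := LL π (p ^ n) (f : A)
  let B := integralClosure A L
  have hπL : IsUnit (algebraMap A L π) := by
    rw [IsScalarTower.algebraMap_apply A (Localization.Away π) L]
    exact (IsLocalization.Away.algebraMap_isUnit π).map _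
  have hπL0 : algebraMap A L π ≠ 0 := hπL.ne_zero
  have hπ0 : π ≠ 0 := by
    intro h0
    apply hπL0
    have h1 : algebraMap A L π = algebraMap A L 0 := congrArg _ h0
    rw [h1, map_zero]
  obtain ⟨v, hv⟩ := hπL
  have hcoe : ∀ a : A, ((algebraMap A B a : B) : L) = algebraMap A L a := fun a => rfl
  have hπB0 : algebraMap A B π ≠ 0 := by
    intro h0
    apply hπL0
    rw [← hcoe, h0]; rfl
  -- the root
  have hroot : (AdjoinRoot.root _ : L) ^ (p ^ n) = algebraMap A L (f : A) := by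
    have h := AdjoinRoot.eval₂_root (X ^ (p ^ n) - C (algebraMap A (Localization.Away π) (f : A)))
    simp only [eval₂_sub, eval₂_pow, eval₂_X, eval₂_C] at h
    rw [IsScalarTower.algebraMap_apply A (Localization.Away π) L, AdjoinRoot.algebraMap_eq]
    exact sub_eq_zero.mp h
  have hzint : IsIntegral A (AdjoinRoot.root _ : L) := by
    apply IsIntegral.of_pow hNpos
    rw [hroot]; exact isIntegral_algebraMap
  let zB : B := ⟨AdjoinRoot.root _, hzint⟩
  have hz : zB ^ (p ^ n) = algebraMap A B (f : A) := Subtype.ext hroot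
  let πB : B := algebraMap A B π
  have hyN : (zB * algebraMap A B (g : A)) ^ (p ^ n) =
      1 + πB ^ (j * p ^ n) * algebraMap A B f₀ := by
    rw [mul_pow, hz, ← map_pow, ← map_mul, hfg]
    simp only [map_add, map_one, map_mul, map_pow, πB]
  -- w in L
  let yL : L := AdjoinRoot.root _ * algebraMap A L (g : A)
  let w : L := (yL - 1) * ↑(v⁻¹ ^ j)
  have hyw : yL = 1 + algebraMap A L π ^ j * w := by
    have h1 : algebraMap A L π ^ j * ↑(v⁻¹ ^ j) = 1 := by
      rw [← hv, ← Units.val_pow_eq_pow_val, ← Units.val_mul, inv_pow, mul_inv_cancel,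
        Units.val_one]
    calc yL = 1 + (yL - 1) * (algebraMap A L π ^ j * ↑(v⁻¹ ^ j)) := by rw [h1]; ring
      _ = _ := by simp only [w]; ring
  have hyLN : yL ^ (p ^ n) = 1 + algebraMap A L π ^ (j * p ^ n) * algebraMap A L f₀ := by
    simp only [yL]
    rw [mul_pow, hroot, ← map_pow, ← map_mul, hfg]
    simp only [map_add, map_one, map_mul, map_pow]
  have hidL := pow_identity (ϖ := ϖ) hζ ((algebraMap A L).comp (algebraMap R A)) j
    (fun μ => ϖ * q μ) hq' w
  simp only [RingHom.comp_apply] at hidL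
  rw [← hπdef, ← hyw, hyLN] at hidL
  have hPL : ∏ μ ∈ nthRootsFinset (p ^ n) (1 : R),
      (w - algebraMap A L (algebraMap R A (ϖ * q μ))) = algebraMap A L f₀ :=
    (mul_left_cancel₀ (pow_ne_zero _ hπL0) (add_left_cancel hidL)).symm
  have hwint : IsIntegral A w := by
    have hm := monic_prod_X_sub_C (fun μ => algebraMap R A (ϖ * q μ))
      (nthRootsFinset (p ^ n) (1 : R))
    have hdeg : (∏ μ ∈ nthRootsFinset (p ^ n) (1 : R),
        (X - C (algebraMap R A (ϖ * q μ)))).natDegree = p ^ n := by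
      rw [natDegree_finsetProd_X_sub_C_eq_card, hζ.card_nthRootsFinset]
    refine ⟨∏ μ ∈ nthRootsFinset (p ^ n) (1 : R), (X - C (algebraMap R A (ϖ * q μ))) - C f₀,
      ?_, ?_⟩
    · apply hm.sub_of_left
      apply lt_of_le_of_lt degree_C_le
      rw [degree_eq_natDegree hm.ne_zero, hdeg]
      exact_mod_cast hNpos
    · simp only [eval₂_sub, eval₂_finset_prod, eval₂_X, eval₂_C]
      rw [sub_eq_zero]
      exact hPL
  let wB : B := ⟨w, hwint⟩
  have hyB : zB * algebraMap A B (g : A) = 1 + πB ^ j * wB := Subtype.ext hyw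
  -- identity in B
  let φB : R →+* B := (algebraMap A B).comp (algebraMap R A)
  have hφπ : φB ϖ = πB := rfl
  have hidB := pow_identity (ϖ := ϖ) hζ φB j (fun μ => ϖ * q μ) hq' wB
  rw [hφπ, ← hyB, hyN] at hidB
  have hPB : ∏ μ ∈ nthRootsFinset (p ^ n) (1 : R), (wB - φB (ϖ * q μ)) = algebraMap A B f₀ :=
    (mul_left_cancel₀ (pow_ne_zero _ hπB0) (add_left_cancel hidB)).symm
  have hPform : ∏ μ ∈ nthRootsFinset (p ^ n) (1 : R), (wB - φB (ϖ * q μ)) =
      ∏ μ ∈ nthRootsFinset (p ^ n) (1 : R), (wB - πB * φB (q μ)) :=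
    Finset.prod_congr rfl (fun μ _ => by rw [map_mul, hφπ])
  let I : Ideal B := Ideal.span {πB}
  have hπI : πB ∈ I := Ideal.mem_span_singleton_self πB
  have h1 : algebraMap A B f₀ - wB ^ (p ^ n) ∈ I := by
    have := prod_sub_mem (nthRootsFinset (p ^ n) (1 : R)) wB πB (fun μ => φB (q μ))
    rwa [← hPform, hPB, hζ.card_nthRootsFinset] at this
  have h2 : algebraMap A B f₀ - algebraMap A B g₀ ^ (p ^ n) ∈ I := by
    rw [← map_pow, ← map_sub, ← hc₁, map_mul]
    exact Ideal.mul_mem_left _ _ hπI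
  have h3 : wB ^ (p ^ n) - algebraMap A B g₀ ^ (p ^ n) ∈ I := by
    have := I.sub_mem h2 h1
    rwa [sub_sub_sub_cancel_left] at this
  have h4 : ((p : ℕ) : B) ∈ I := by
    have : ((p : ℕ) : B) = φB t * πB := by
      rw [← hφπ, ← map_mul, mul_comm, ← ht, map_natCast]
    rw [this]
    exact Ideal.mul_mem_left _ _ hπI
  have h5 : (wB - algebraMap A B g₀) ^ (p ^ n) ∈ I := by
    obtain ⟨r, hr⟩ := exists_add_pow_prime_pow_eq hp (wB - algebraMap A B g₀) (algebraMap A B g₀) n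
    rw [sub_add_cancel] at hr
    have : (wB - algebraMap A B g₀) ^ (p ^ n) = (wB ^ (p ^ n) - algebraMap A B g₀ ^ (p ^ n)) -
        ((wB - algebraMap A B g₀) * algebraMap A B g₀ * r) * (p : B) := by
      rw [hr]; ring
    rw [this]
    exact I.sub_mem h3 (Ideal.mul_mem_left _ _ h4)
  have h6 : wB - algebraMap A B g₀ ∈ I := hred ⟨p ^ n, h5⟩
  obtain ⟨w₁, hw₁⟩ := Ideal.mem_span_singleton'.mp h6
  -- the unit u
  let u : A := 1 + π ^ j * g₀
  have hyu : zB * algebraMap A B (g : A) - algebraMap A B u = πB ^ (j + 1) * w₁ := by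
    rw [hyB]
    simp only [u, map_add, map_one, map_mul, map_pow]
    have : wB = algebraMap A B g₀ + w₁ * πB := by rw [hw₁]; ring
    rw [this]; ring
  have huunit : IsUnit u := by
    apply hlift
    have hdvd : πB ∣ (zB * algebraMap A B (g : A)) ^ (p ^ n) - algebraMap A B u ^ (p ^ n) :=
      dvd_trans ⟨πB ^ j * w₁, by rw [hyu]; ring⟩ (sub_dvd_pow_sub_pow _ _ _)
    obtain ⟨b, hb⟩ := hdvd
    have hb' : algebraMap A B ((f : A) * (g : A) ^ (p ^ n) - u ^ (p ^ n)) = πB ^ 1 * b := by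
      rw [pow_one, ← hb, mul_pow, hz]
      simp only [map_sub, map_mul, map_pow]
    obtain ⟨a', ha'⟩ := contraction π (p ^ n) (f : A) hNpos hπ0 1
      ((f : A) * (g : A) ^ (p ^ n) - u ^ (p ^ n)) b.1 b.2 (congrArg Subtype.val hb')
    have hmk : (Ideal.Quotient.mk (Ideal.span {π}) u) ^ (p ^ n) =
        Ideal.Quotient.mk (Ideal.span {π}) ((f : A) * (g : A) ^ (p ^ n)) := by
      rw [← map_pow, eq_comm, Ideal.Quotient.eq, ha', pow_one]
      exact Ideal.mul_mem_right _ _ (Ideal.mem_span_singleton_self π)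
    have hfgu : IsUnit ((f : A) * (g : A) ^ (p ^ n)) := (f * g ^ (p ^ n)).isUnit
    rw [← isUnit_pow_iff hNpos.ne', hmk]
    exact hfgu.map _
  obtain ⟨uu, huu⟩ := huunit
  let g' : Aˣ := g * uu⁻¹
  have hzg' : zB * algebraMap A B (g' : A) =
      1 + πB ^ (j + 1) * (w₁ * algebraMap A B ((uu⁻¹ : Aˣ) : A)) := by
    have h1 : algebraMap A B u * algebraMap A B ((uu⁻¹ : Aˣ) : A) = 1 := by
      rw [← map_mul, ← huu, Units.mul_inv, map_one]
    have h2 : zB * algebraMap A B (g : A) = algebraMap A B u + πB ^ (j + 1) * w₁ := by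
      rw [← hyu]; ring
    simp only [g', Units.val_mul, map_mul]
    rw [← mul_assoc, h2, add_mul, h1]; ring
  have hidB' := pow_identity (ϖ := ϖ) hζ φB (j + 1) q hq (w₁ * algebraMap A B ((uu⁻¹ : Aˣ) : A))
  rw [hφπ, ← hzg', mul_pow, hz] at hidB'
  have hfin : algebraMap A B ((f : A) * (g' : A) ^ (p ^ n) - 1) = πB ^ ((j + 1) * p ^ n) *
      ∏ μ ∈ nthRootsFinset (p ^ n) (1 : R),
        (w₁ * algebraMap A B ((uu⁻¹ : Aˣ) : A) - φB (q μ)) := by
    rw [map_sub, map_mul, map_pow, map_one, hidB']; ring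
  obtain ⟨a', ha'⟩ := contraction π (p ^ n) (f : A) hNpos hπ0 ((j + 1) * p ^ n)
    ((f : A) * (g' : A) ^ (p ^ n) - 1) _ (Subtype.prop _) (congrArg Subtype.val hfin)
  exact hmax g' a' (by rw [← ha']; ring)

end Main

end Groth.Agent.Helper18.SekPow
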