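import Groth.Agent.Lib.Helper18.BcPts
import Groth.Agent.Lib.Helper18.FinSub2
import Groth.Prelude.Def_SekSuwa

/-!
# Points of the group schemes `G^(λ)` (helper18)
-/

set_option autoImplicit false
set_option linter.style.haveILetI false
universe u
open CategoryTheory CategoryTheory.Limits MonoidalCategory CartesianMonoidalCategory MonObj
  AlgebraicGeometry

noncomputable section

namespace Groth.Agent.Helper18.SekPts

open Groth.Agent.Helper18 Groth.Agent.Helper18.FinSub SekSuwa

/-- naturality of `ΓSpecIso.inv` in convenient form -/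
theorem appTop_comp_SpecMap {Z : Scheme.{u}} {C D : Type u} [CommRing C] [CommRing D]
    (h : Z ⟶ Spec (CommRingCat.of C)) (θ : D →+* C) (d : D) :
    (h ≫ Spec.map (CommRingCat.ofHom θ)).appTop ((Scheme.ΓSpecIso (CommRingCat.of D)).inv d) =
      h.appTop ((Scheme.ΓSpecIso (CommRingCat.of C)).inv (θ d)) := by
  rw [Scheme.Hom.comp_appTop, CommRingCat.comp_apply]
  congr 1
  exact (congrArg (fun k => k.hom d) (Scheme.ΓSpecIso_inv_naturality (CommRingCat.ofHom θ))).symm

variable {R : Type u} [CommRing R] (lam : R)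

section Base

variable {W : Over (Spec (CommRingCat.of R))}

/-- the underlying morphism of a point, with its type normalised -/
def xl (x : W ⟶ G R lam) : W.left ⟶ Spec (CommRingCat.of (A R lam)) := x.left

/-- the underlying morphism of a pair of points, with its type normalised -/
def ll (x y : W ⟶ G R lam) : W.left ⟶ pullback
    (Spec.map (CommRingCat.ofHom (algebraMap R (A R lam))))
    (Spec.map (CommRingCat.ofHom (algebraMap R (A R lam)))) := (lift x y).left

/-- the ring map of a point -/
def rho (x : W ⟶ G R lam) : A R lam →+* Γ(W.left, ⊤) :=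
  (xl lam x).appTop.hom.comp (Scheme.ΓSpecIso (CommRingCat.of (A R lam))).inv.hom

theorem rho_apply (x : W ⟶ G R lam) (a : A R lam) :
    rho lam x a = (xl lam x).appTop ((Scheme.ΓSpecIso (CommRingCat.of (A R lam))).inv a) := rfl

theorem rho_algebraMap (x : W ⟶ G R lam) (r : R) :
    rho lam x (algebraMap R (A R lam) r) = sigma W r := by
  have hw : xl lam x ≫ Spec.map (CommRingCat.ofHom (algebraMap R (A R lam))) = W.hom := Over.w x
  rw [rho_apply, ← appTop_comp_SpecMap, hw]
  rfl

/-- the coordinate of a point -/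
def cw (x : W ⟶ G R lam) : Γ(W.left, ⊤) := rho lam x A.t

theorem rho_u (x : W ⟶ G R lam) : rho lam x A.u = 1 + sigma W lam * cw lam x := by
  rw [A.u_def, map_add, map_one, map_mul, rho_algebraMap]
  rfl

theorem isUnit_cw (x : W ⟶ G R lam) : IsUnit (1 + sigma W lam * cw lam x) := by
  rw [← rho_u]
  exact (A.isUnit_u).map _

theorem rho_injective {x y : W ⟶ G R lam} (h : rho lam x = rho lam y) : x = y := by
  apply Over.OverMorphism.ext
  show xl lam x = xl lam y
  apply ext_of_isAffine
  ext s
  have e : s = (Scheme.ΓSpecIso (CommRingCat.of (A R lam))).inv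
      ((Scheme.ΓSpecIso (CommRingCat.of (A R lam))).hom s) :=
    (congrArg (fun k => k.hom s) (Scheme.ΓSpecIso (CommRingCat.of (A R lam))).hom_inv_id).symm
  rw [e]
  exact congrArg (fun k => k ((Scheme.ΓSpecIso (CommRingCat.of (A R lam))).hom s)) h

theorem cw_injective {x y : W ⟶ G R lam} (h : cw lam x = cw lam y) : x = y := by
  apply rho_injective
  letI : Algebra R Γ(W.left, ⊤) := (sigma W).toAlgebra
  let fx : A R lam →ₐ[R] Γ(W.left, ⊤) := { rho lam x with commutes' := rho_algebraMap lam x }
  let fy : A R lam →ₐ[R] Γ(W.left, ⊤) := { rho lam y with commutes' := rho_algebraMap lam y }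
  have hxy : fx = fy := by
    apply A.algHom_ext
    · exact h
    · show rho lam x A.inv = rho lam y A.inv
      have h1 : rho lam x A.u * rho lam x A.inv = 1 := by rw [← map_mul, A.u_mul_inv, map_one]
      have h2 : rho lam y A.u * rho lam y A.inv = 1 := by rw [← map_mul, A.u_mul_inv, map_one]
      have h3 : rho lam x A.u = rho lam y A.u := by
        rw [rho_u, rho_u]
        unfold cw at h ⊢
        rw [h]
      calc rho lam x A.inv = rho lam x A.inv * (rho lam y A.u * rho lam y A.inv) := by
            rw [h2, _root_.mul_one]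
        _ = (rho lam x A.u * rho lam x A.inv) * rho lam y A.inv := by rw [← h3]; ring
        _ = rho lam y A.inv := by rw [h1, _root_.one_mul]
  ext a
  exact congrArg (fun k => k a) hxy

/-- the ring map out of the tensor square attached to a pair of points -/
def tau (x y : W ⟶ G R lam) : TensorProduct R (A R lam) (A R lam) →+* Γ(W.left, ⊤) :=
  (ll lam x y ≫ (pullbackSpecIso R (A R lam) (A R lam)).hom).appTop.hom.comp
    (Scheme.ΓSpecIso (CommRingCat.of (TensorProduct R (A R lam) (A R lam)))).inv.hom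

theorem tau_left (x y : W ⟶ G R lam) (a : A R lam) :
    tau lam x y (a ⊗ₜ[R] 1) = rho lam x a := by
  have h2 : ll lam x y ≫ pullback.fst _ _ = xl lam x := by
    show (lift x y).left ≫ pullback.fst (G R lam).hom (G R lam).hom = x.left
    rw [← Over.fst_left, ← Over.comp_left, lift_fst]
  have h3 : (ll lam x y ≫ (pullbackSpecIso R (A R lam) (A R lam)).hom) ≫
      Spec.map (CommRingCat.ofHom
        (Algebra.TensorProduct.includeLeftRingHom : A R lam →+* TensorProduct R (A R lam) (A R lam))) =
        xl lam x := by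
    rw [Category.assoc]
    erw [pullbackSpecIso_hom_fst]
    exact h2
  rw [rho_apply, ← h3, appTop_comp_SpecMap]
  rfl

theorem tau_right (x y : W ⟶ G R lam) (a : A R lam) :
    tau lam x y (1 ⊗ₜ[R] a) = rho lam y a := by
  have h2 : ll lam x y ≫ pullback.snd _ _ = xl lam y := by
    show (lift x y).left ≫ pullback.snd (G R lam).hom (G R lam).hom = y.left
    rw [← Over.snd_left, ← Over.comp_left, lift_snd]
  have h3 : (ll lam x y ≫ (pullbackSpecIso R (A R lam) (A R lam)).hom) ≫
      Spec.map (CommRingCat.ofHom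
        (RingHomClass.toRingHom (Algebra.TensorProduct.includeRight :
          A R lam →ₐ[R] TensorProduct R (A R lam) (A R lam)))) = xl lam y := by
    rw [Category.assoc]
    erw [pullbackSpecIso_hom_snd]
    exact h2
  rw [rho_apply, ← h3, appTop_comp_SpecMap]
  rfl

theorem rho_mul (x y : W ⟶ G R lam) (a : A R lam) :
    rho lam (x * y) a = tau lam x y (CoalgebraStruct.comul (R := R) a) := by
  have hxy : x * y = lift x y ≫ μ[G R lam] := rfl
  have hμ : μ[G R lam].left = (pullbackSpecIso R (A R lam) (A R lam)).hom ≫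
      Spec.map (CommRingCat.ofHom (Bialgebra.comulAlgHom R (A R lam)).toRingHom) :=
    mul_spec_asOver_spec_left
  have hl : xl lam (x * y) = (ll lam x y ≫ (pullbackSpecIso R (A R lam) (A R lam)).hom) ≫
      Spec.map (CommRingCat.ofHom (Bialgebra.comulAlgHom R (A R lam)).toRingHom) := by
    rw [Category.assoc]
    show (x * y).left = (lift x y).left ≫ _
    rw [hxy, Over.comp_left, hμ]
  rw [rho_apply, hl, appTop_comp_SpecMap]
  rfl

theorem cw_mul (x y : W ⟶ G R lam) :
    cw lam (x * y) = cw lam x + cw lam y + sigma W lam * cw lam x * cw lam y := by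
  unfold cw
  rw [rho_mul, A.comul_t, map_add, map_add, tau_left, tau_right]
  congr 1
  have e : lam • (A.t ⊗ₜ[R] A.t : TensorProduct R (A R lam) (A R lam)) =
      ((algebraMap R (A R lam) lam * A.t) ⊗ₜ[R] 1) * (1 ⊗ₜ[R] A.t) := by
    rw [Algebra.TensorProduct.tmul_mul_tmul, _root_.mul_one, _root_.one_mul, ← Algebra.smul_def,
      TensorProduct.smul_tmul']
  rw [e, map_mul, tau_left, tau_right, map_mul, rho_algebraMap]

/-- the ring map with a given coordinate -/
def liftW (c c' : Γ(W.left, ⊤)) (h : (1 + sigma W lam * c) * c' = 1) :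
    A R lam →+* Γ(W.left, ⊤) :=
  letI : Algebra R Γ(W.left, ⊤) := (sigma W).toAlgebra
  (A.lift R lam c c' (by rw [Algebra.smul_def]; exact h)).toRingHom

theorem liftW_comp (c c' : Γ(W.left, ⊤)) (h : (1 + sigma W lam * c) * c' = 1) :
    (liftW lam c c' h).comp (algebraMap R (A R lam)) = sigma W := by
  letI : Algebra R Γ(W.left, ⊤) := (sigma W).toAlgebra
  exact (A.lift R lam c c' (by rw [Algebra.smul_def]; exact h)).comp_algebraMap

theorem liftW_t (c c' : Γ(W.left, ⊤)) (h : (1 + sigma W lam * c) * c' = 1) :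
    liftW lam c c' h A.t = c := by
  letI : Algebra R Γ(W.left, ⊤) := (sigma W).toAlgebra
  exact A.lift_t _ _ _

/-- the point with a given coordinate -/
def mkW (c c' : Γ(W.left, ⊤)) (h : (1 + sigma W lam * c) * c' = 1) : W ⟶ G R lam :=
  Over.homMk (W.left.toSpecΓ ≫ Spec.map (CommRingCat.ofHom (liftW lam c c' h))) (by
    show (W.left.toSpecΓ ≫ Spec.map (CommRingCat.ofHom (liftW lam c c' h))) ≫
        Spec.map (CommRingCat.ofHom (algebraMap R (A R lam))) = W.hom
    rw [Category.assoc, ← Spec.map_comp, ← CommRingCat.ofHom_comp, liftW_comp, toSpecΓ_sigma])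

theorem cw_mkW (c c' : Γ(W.left, ⊤)) (h : (1 + sigma W lam * c) * c' = 1) :
    cw lam (mkW lam c c' h) = c := by
  show (W.left.toSpecΓ ≫ Spec.map (CommRingCat.ofHom (liftW lam c c' h))).appTop
      ((Scheme.ΓSpecIso (CommRingCat.of (A R lam))).inv A.t) = c
  rw [appTop_comp_SpecMap, Scheme.toSpecΓ_appTop]
  have e : ∀ s : Γ(W.left, ⊤), (Scheme.ΓSpecIso Γ(W.left, ⊤)).hom
      ((Scheme.ΓSpecIso Γ(W.left, ⊤)).inv s) = s := fun s =>
    congrArg (fun k => k.hom s) (Scheme.ΓSpecIso Γ(W.left, ⊤)).inv_hom_id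
  erw [e]
  exact liftW_t lam c c' h

theorem cw_comp {W' : Over (Spec (CommRingCat.of R))} (g : W' ⟶ W) (x : W ⟶ G R lam) :
    cw lam (g ≫ x) = g.left.appTop (cw lam x) := by
  unfold cw
  have : xl lam (g ≫ x) = g.left ≫ xl lam x := rfl
  rw [rho_apply, rho_apply, this, Scheme.Hom.comp_appTop, CommRingCat.comp_apply]

end Base

section Bc

variable {X : Scheme.{u}} (f : X ⟶ Spec (CommRingCat.of R))

/-- the structure map on global sections -/
def sig (T : Over X) : R →+* Γ(T.left, ⊤) := sigma ((Over.map f).obj T)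

theorem sig_comp {T T' : Over X} (g : T' ⟶ T) (r : R) :
    g.left.appTop (sig f T r) = sig f T' r :=
  sigma_comp ((Over.map f).map g) r

/-- the coordinate of a point of the base change -/
def co {T : Over X} (t : T ⟶ Red.bc f (G R lam)) : Γ(T.left, ⊤) :=
  cw lam (BcPts.dn f (G R lam) t)

theorem co_mul {T : Over X} (s t : T ⟶ Red.bc f (G R lam)) :
    co lam f (s * t) = co lam f s + co lam f t + sig f T lam * co lam f s * co lam f t := by
  unfold co
  rw [BcPts.dn_mul, cw_mul]
  rfl

theorem co_comp {T T' : Over X} (g : T' ⟶ T) (t : T ⟶ Red.bc f (G R lam)) :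
    co lam f (g ≫ t) = g.left.appTop (co lam f t) := by
  unfold co
  rw [BcPts.dn_comp, cw_comp]
  rfl

theorem isUnit_co {T : Over X} (t : T ⟶ Red.bc f (G R lam)) :
    IsUnit (1 + sig f T lam * co lam f t) :=
  isUnit_cw lam (BcPts.dn f (G R lam) t)

theorem dn_injective {T : Over X} {s t : T ⟶ Red.bc f (G R lam)}
    (h : BcPts.dn f (G R lam) s = BcPts.dn f (G R lam) t) : s = t := by
  apply Over.OverMorphism.ext
  have h1 := congrArg (fun k => k.left) h
  simp only [BcPts.dn_left] at h1
  have hs : s.left ≫ pullback.snd (G R lam).hom f = T.hom := Over.w s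
  have ht : t.left ≫ pullback.snd (G R lam).hom f = T.hom := Over.w t
  apply pullback.hom_ext
  · exact h1
  · rw [hs, ht]

theorem co_injective {T : Over X} {s t : T ⟶ Red.bc f (G R lam)}
    (h : co lam f s = co lam f t) : s = t :=
  dn_injective lam f (cw_injective lam h)

/-- lifting a point of `G` to the base change -/
def up {T : Over X} (y : (Over.map f).obj T ⟶ G R lam) : T ⟶ Red.bc f (G R lam) :=
  Over.homMk (pullback.lift y.left T.hom (Over.w y)) (pullback.lift_snd _ _ _)

theorem dn_up {T : Over X} (y : (Over.map f).obj T ⟶ G R lam) :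
    BcPts.dn f (G R lam) (up lam f y) = y := by
  apply Over.OverMorphism.ext
  rw [BcPts.dn_left]
  exact pullback.lift_fst _ _ _

/-- the point of the base change with a given coordinate -/
def mk {T : Over X} (c c' : Γ(T.left, ⊤)) (h : (1 + sig f T lam * c) * c' = 1) :
    T ⟶ Red.bc f (G R lam) :=
  up lam f (mkW lam (W := (Over.map f).obj T) c c' h)

theorem co_mk {T : Over X} (c c' : Γ(T.left, ⊤)) (h : (1 + sig f T lam * c) * c' = 1) :
    co lam f (mk lam f c c' h) = c := by
  unfold co mk
  rw [dn_up]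
  exact cw_mkW lam (W := (Over.map f).obj T) c c' h

end Bc

section Affine

open Groth.Agent.Helper18.GaTorsor

variable {X : Scheme.{u}} (f : X ⟶ Spec (CommRingCat.of R))
  {A : Type u} [CommRing A] (φ : Spec (CommRingCat.of A) ⟶ X)

/-- the structure map of an affine test object -/
def sC (C : Type u) [CommRing C] [Algebra A C] : R →+* C :=
  (Scheme.ΓSpecIso (CommRingCat.of C)).hom.hom.comp (sig f (TT φ C))

theorem sC_apply (C : Type u) [CommRing C] [Algebra A C] (r : R) :
    sC f φ C r = (Scheme.ΓSpecIso (CommRingCat.of C)).hom (sig f (TT φ C) r) := rfl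

theorem sig_eq (C : Type u) [CommRing C] [Algebra A C] (r : R) :
    sig f (TT φ C) r = (Scheme.ΓSpecIso (CommRingCat.of C)).inv (sC f φ C r) := by
  rw [sC_apply]
  exact (congrArg (fun k => k.hom (sig f (TT φ C) r))
    (Scheme.ΓSpecIso (CommRingCat.of C)).hom_inv_id).symm

theorem sC_rr {C C' : Type u} [CommRing C] [CommRing C'] [Algebra A C] [Algebra A C']
    (h : C →ₐ[A] C') (r : R) : sC f φ C' r = h (sC f φ C r) := by
  rw [sC_apply, sC_apply, ← sig_comp f (rr φ h) r, rr_left]
  exact congrArg (fun k => k.hom (sig f (TT φ C) r))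
    (Scheme.ΓSpecIso_naturality (CommRingCat.ofHom h.toRingHom))

theorem sC_algebraMap (C : Type u) [CommRing C] [Algebra A C] (r : R) :
    sC f φ C r = algebraMap A C (sC f φ A r) :=
  sC_rr f φ (Algebra.ofId A C) r

/-- the coordinate of a point of an affine test object, as a ring element -/
def fnc (C : Type u) [CommRing C] [Algebra A C] (t : TT φ C ⟶ Red.bc f (G R lam)) : C :=
  (Scheme.ΓSpecIso (CommRingCat.of C)).hom (co lam f t)

theorem co_eq (C : Type u) [CommRing C] [Algebra A C] (t : TT φ C ⟶ Red.bc f (G R lam)) :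
    co lam f t = (Scheme.ΓSpecIso (CommRingCat.of C)).inv (fnc lam f φ C t) := by
  unfold fnc
  exact (congrArg (fun k => k.hom (co lam f t))
    (Scheme.ΓSpecIso (CommRingCat.of C)).hom_inv_id).symm

theorem fnc_mul (C : Type u) [CommRing C] [Algebra A C] (s t : TT φ C ⟶ Red.bc f (G R lam)) :
    fnc lam f φ C (s * t) = fnc lam f φ C s + fnc lam f φ C t +
      sC f φ C lam * fnc lam f φ C s * fnc lam f φ C t := by
  unfold fnc
  rw [co_mul, map_add, map_add, map_mul, map_mul]
  rfl

theorem fnc_rr {C C' : Type u} [CommRing C] [CommRing C'] [Algebra A C] [Algebra A C']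
    (h : C →ₐ[A] C') (t : TT φ C ⟶ Red.bc f (G R lam)) :
    fnc lam f φ C' (rr φ h ≫ t) = h (fnc lam f φ C t) := by
  unfold fnc
  rw [co_comp, rr_left]
  exact congrArg (fun k => k.hom (co lam f t))
    (Scheme.ΓSpecIso_naturality (CommRingCat.ofHom h.toRingHom))

theorem isUnit_fnc (C : Type u) [CommRing C] [Algebra A C] (t : TT φ C ⟶ Red.bc f (G R lam)) :
    IsUnit (1 + sC f φ C lam * fnc lam f φ C t) := by
  have h := (isUnit_co lam f t).map (Scheme.ΓSpecIso (CommRingCat.of C)).hom.hom
  rw [map_add, map_one, map_mul] at h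
  exact h

theorem SpecMap_sC : Spec.map (CommRingCat.ofHom (sC f φ A)) = φ ≫ f := by
  have e : CommRingCat.ofHom (sC f φ A) = CommRingCat.ofHom (sig f (TT φ A)) ≫
      (Scheme.ΓSpecIso (CommRingCat.of A)).hom := rfl
  rw [e, Spec.map_comp, SpecMap_ΓSpecIso_hom]
  refine (toSpecΓ_sigma ((Over.map f).obj (TT φ A))).trans ?_
  show (Spec.map (CommRingCat.ofHom (algebraMap A A)) ≫ φ) ≫ f = φ ≫ f
  have h1 : CommRingCat.ofHom (algebraMap A A) = 𝟙 _ := rfl
  rw [h1, Spec.map_id, Category.id_comp]

theorem sC_mem_nonZeroDivisors (hφ : Flat (φ ≫ f)) {r : R} (hr : r ∈ nonZeroDivisors R) :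
    sC f φ A r ∈ nonZeroDivisors A := by
  have h1 : Flat (Spec.map (CommRingCat.ofHom (sC f φ A))) := by
    rw [SpecMap_sC]; exact hφ
  rw [Flat.SpecMap_iff] at h1
  letI : Algebra R A := (sC f φ A).toAlgebra
  have h2 : Module.Flat R A := (RingHom.flat_algebraMap_iff).mp h1
  have h3 : IsSMulRegular A r := Module.Flat.isSMulRegular_of_nonZeroDivisors (M := A) hr
  rw [mem_nonZeroDivisors_iff_left]
  intro x hx
  apply h3
  show r • x = r • 0
  rw [smul_zero, Algebra.smul_def]
  exact hx

end Affine

end Groth.Agent.Helper18.SekPts
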