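import Groth.Agent.Lib.Helper18.SekPts
import Groth.Agent.Lib.Helper18.SekH90
import Groth.Agent.Lib.Helper18.GmTorsor

/-!
# Torsors under `G^(λ)` are Zariski locally trivial (helper18)
-/

set_option autoImplicit false
set_option linter.style.haveILetI false
universe u
open CategoryTheory CategoryTheory.Limits MonoidalCategory CartesianMonoidalCategory MonObj
  AlgebraicGeometry TensorProduct

noncomputable section

namespace Groth.Agent.Helper18.SekTorsor

open Groth.Agent.Helper18 Groth.Agent.Helper18.GaTorsor Groth.Agent.Helper18.GmTorsor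
  Groth.Agent.Helper18.SekPts SekSuwa

section Descent

variable {R : Type u} [CommRing R] (lam : R) {X : Scheme.{u}} (f : X ⟶ Spec (CommRingCat.of R))
  (A B : Type u) [CommRing A] [CommRing B] [Algebra A B] [Module.FaithfullyFlat A B]
  (φ : Spec (CommRingCat.of A) ⟶ X) {P : Over X} (a : AlgGrp.Action (Red.bc f (G R lam)) P)

set_option maxHeartbeats 1600000 in
theorem exists_local_section (hps : NonAbH1.IsPseudoTorsorSch a) (x : TT φ B ⟶ P)
    (hreg : sC f φ A lam ∈ nonZeroDivisors A) (𝔭 : ↥(Spec (CommRingCat.of A))) :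
    ∃ (U : (Spec (CommRingCat.of A)).Opens) (s : (U : Scheme.{u}) ⟶ P.left),
      𝔭 ∈ U ∧ s ≫ P.hom = U.ι ≫ φ := by
  let iL : B →ₐ[A] B ⊗[A] B := Algebra.TensorProduct.includeLeft
  let iR : B →ₐ[A] B ⊗[A] B := Algebra.TensorProduct.includeRight
  let p₁ := rr φ iL
  let p₂ := rr φ iR
  let q₁₂ := rr φ (AmitsurH1.q12 A B)
  let q₁₃ := rr φ (AmitsurH1.q13 A B)
  let q₂₃ := rr φ (AmitsurH1.q23 A B)
  have e₁ : q₁₂ ≫ p₁ = q₁₃ ≫ p₁ := by
    rw [rr_comp, rr_comp]
    congr 1
  have e₂ : q₁₂ ≫ p₂ = q₂₃ ≫ p₁ := by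
    rw [rr_comp, rr_comp]
    congr 1
  have e₃ : q₁₃ ≫ p₂ = q₂₃ ≫ p₂ := by
    rw [rr_comp, rr_comp]
    congr 1
  obtain ⟨g, hg⟩ := PseudoTorsPts.pt_exists a hps (p₂ ≫ x) (p₁ ≫ x)
  have hc := cocycle a hps p₁ p₂ q₁₂ q₁₃ q₂₃ e₁ e₂ e₃ x g hg
  let lamA : A := sC f φ A lam
  let w : B ⊗[A] B := fnc lam f φ (B ⊗[A] B) g
  have hw : AmitsurH1.q12 A B w + AmitsurH1.q23 A B w +
      lamA • (AmitsurH1.q12 A B w * AmitsurH1.q23 A B w) = AmitsurH1.q13 A B w := by
    have := congrArg (fnc lam f φ _) hc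
    rw [fnc_mul, fnc_rr, fnc_rr, fnc_rr, sC_algebraMap] at this
    have e3 : lamA • (AmitsurH1.q12 A B w * AmitsurH1.q23 A B w) =
        algebraMap A ((B ⊗[A] B) ⊗[A] B) lamA *
          (AmitsurH1.q12 A B w * AmitsurH1.q23 A B w) :=
      Algebra.smul_def lamA (AmitsurH1.q12 A B w * AmitsurH1.q23 A B w)
    rw [e3, ← _root_.mul_assoc]
    exact this
  obtain ⟨v, hv⟩ := (isUnit_fnc lam f φ _ g).exists_right_inv
  have hv' : (1 + lamA • w) * v = 1 := by
    have e2 : lamA • w = algebraMap A (B ⊗[A] B) lamA * w := Algebra.smul_def lamA w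
    rw [e2, ← sC_algebraMap]
    exact hv
  let 𝔭' : PrimeSpectrum A := 𝔭
  haveI := 𝔭'.isPrime
  obtain ⟨a₀, g₀, z, l', ha₀, hg₀, hll, hrel⟩ := SekH90.main A B lamA hreg w v hv' hw 𝔭'.asIdeal
  let sA : Γ(Spec (CommRingCat.of A), ⊤) := (Scheme.ΓSpecIso (CommRingCat.of A)).inv (a₀ * g₀)
  let U : (Spec (CommRingCat.of A)).Opens := (Spec (CommRingCat.of A)).basicOpen sA
  have h𝔭U : 𝔭 ∈ U := by
    show 𝔭 ∈ (Spec (CommRingCat.of A)).basicOpen
      ((Scheme.ΓSpecIso (CommRingCat.of A)).inv (a₀ * g₀))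
    rw [basicOpen_eq_of_affine]
    exact fun h => (Ideal.IsPrime.mem_or_mem inferInstance h).elim ha₀ hg₀
  let π : Spec (CommRingCat.of B) ⟶ Spec (CommRingCat.of A) :=
    Spec.map (CommRingCat.ofHom (algebraMap A B))
  have hfs : Flat π ∧ Surjective π :=
    (flat_and_surjective_SpecMap_iff _).mpr
      ((RingHom.faithfullyFlat_algebraMap_iff (R := A) (S := B)).mpr inferInstance)
  haveI := hfs.1
  haveI := hfs.2
  let V : (Spec (CommRingCat.of B)).Opens := π ⁻¹ᵁ U
  let ρV : B →+* Γ((V : Scheme.{u}), ⊤) :=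
    V.ι.appTop.hom.comp (Scheme.ΓSpecIso (CommRingCat.of B)).inv.hom
  have hρV : ∀ b : B, ρV b = V.ι.appTop ((Scheme.ΓSpecIso (CommRingCat.of B)).inv b) := fun _ => rfl
  have hunit : IsUnit (ρV (algebraMap A B (a₀ * g₀))) := by
    have h1 : ρV (algebraMap A B (a₀ * g₀)) = V.ι.appTop (π.appTop sA) := by
      rw [hρV]
      congr 1
      exact congrArg (fun k => k.hom (a₀ * g₀))
        (Scheme.ΓSpecIso_inv_naturality (CommRingCat.ofHom (algebraMap A B)))
    rw [h1]
    apply isUnit_of_basicOpen_eq_top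
    rw [← Scheme.preimage_basicOpen_top, ← Scheme.preimage_basicOpen_top]
    exact V.ι_preimage_self
  rw [map_mul, map_mul] at hunit
  obtain ⟨aV', haV'⟩ := (isUnit_of_mul_isUnit_left hunit).exists_right_inv
  obtain ⟨gV', hgV'⟩ := (isUnit_of_mul_isUnit_right hunit).exists_right_inv
  let TV : Over X := Over.mk (V.ι ≫ π ≫ φ)
  let iV : TV ⟶ TT φ B := Over.homMk V.ι rfl
  let xV : TV ⟶ P := iV ≫ x
  let sV : Γ((V : Scheme.{u}), ⊤) := sig f TV lam
  have hsigV : sV = ρV (algebraMap A B lamA) := by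
    show sig f TV lam = _
    rw [← sig_comp f iV lam, sig_eq, sC_algebraMap]
    rfl
  let cV : Γ((V : Scheme.{u}), ⊤) := aV' * ρV z
  let cV' : Γ((V : Scheme.{u}), ⊤) := ρV (algebraMap A B a₀) * ρV l' * gV'
  have hcV : (1 + sV * cV) * cV' = 1 := by
    rw [hsigV]
    have h3 : (ρV (algebraMap A B a₀) + ρV (algebraMap A B lamA) * ρV z) * ρV l' =
        ρV (algebraMap A B g₀) := by
      have e1 : lamA • z = algebraMap A B lamA * z := Algebra.smul_def lamA z
      rw [← map_mul, ← map_add, ← map_mul, ← e1, hll]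
    show (1 + ρV (algebraMap A B lamA) * (aV' * ρV z)) *
      (ρV (algebraMap A B a₀) * ρV l' * gV') = 1
    linear_combination (ρV (algebraMap A B lamA) * ρV z * ρV l' * gV') * haV' + hgV' + gV' * h3
  let b : TV ⟶ Red.bc f (G R lam) := SekPts.mk lam f (T := TV) cV cV' hcV
  let πV : (V : Scheme.{u}) ⟶ (U : Scheme.{u}) := π ∣_ U
  haveI : Surjective πV :=
    MorphismProperty.of_isPullback (P := @Surjective) (isPullback_morphismRestrict π U).flip
      inferInstance
  haveI : Flat πV := by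
    show Flat (π ∣_ U)
    infer_instance
  haveI : QuasiCompact πV := by
    show QuasiCompact (π ∣_ U)
    infer_instance
  have hπV : πV ≫ U.ι = V.ι ≫ π := morphismRestrict_ι π U
  have hcond : ∀ {Z : Scheme.{u}} (g₁ g₂ : Z ⟶ (V : Scheme.{u})), g₁ ≫ πV = g₂ ≫ πV →
      g₁ ≫ (lift b⁻¹ xV ≫ a.act).left = g₂ ≫ (lift b⁻¹ xV ≫ a.act).left := by
    intro Z g₁ g₂ hgg
    have hh : (g₁ ≫ V.ι) ≫ π = (g₂ ≫ V.ι) ≫ π := by
      rw [Category.assoc, Category.assoc, ← hπV, ← Category.assoc, hgg, Category.assoc]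
    obtain ⟨t, ht1, ht2⟩ : ∃ t : Z ⟶ Spec (CommRingCat.of (B ⊗[A] B)),
        t ≫ Spec.map (CommRingCat.ofHom iL.toRingHom) = g₁ ≫ V.ι ∧
        t ≫ Spec.map (CommRingCat.ofHom iR.toRingHom) = g₂ ≫ V.ι := by
      refine ⟨pullback.lift (g₁ ≫ V.ι) (g₂ ≫ V.ι) hh ≫ (pullbackSpecIso A B B).hom, ?_, ?_⟩
      · have := pullbackSpecIso_hom_fst A B B
        rw [Category.assoc]
        erw [this]
        exact pullback.lift_fst _ _ _
      · have := pullbackSpecIso_hom_snd A B B
        rw [Category.assoc]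
        erw [this]
        exact pullback.lift_snd _ _ _
    let Z' : Over X := Over.mk (t ≫ (TT φ (B ⊗[A] B)).hom)
    let t' : Z' ⟶ TT φ (B ⊗[A] B) := Over.homMk t rfl
    let G₁ : Z' ⟶ TV := Over.homMk g₁ (by
      show g₁ ≫ V.ι ≫ π ≫ φ = t ≫ (TT φ (B ⊗[A] B)).hom
      rw [← Over.w p₁, ← Category.assoc g₁, ← ht1, Category.assoc]
      rfl)
    let G₂ : Z' ⟶ TV := Over.homMk g₂ (by
      show g₂ ≫ V.ι ≫ π ≫ φ = t ≫ (TT φ (B ⊗[A] B)).hom
      rw [← Over.w p₂, ← Category.assoc g₂, ← ht2, Category.assoc]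
      rfl)
    have h1 : t' ≫ p₁ = G₁ ≫ iV := Over.OverMorphism.ext ht1
    have h2 : t' ≫ p₂ = G₂ ≫ iV := Over.OverMorphism.ext ht2
    have hg' : lift (t' ≫ g) (G₂ ≫ xV) ≫ a.act = G₁ ≫ xV := by
      have := congrArg (fun k => t' ≫ k) hg
      rw [comp_act, ← Category.assoc t' p₂, h2, ← Category.assoc t' p₁, h1, Category.assoc,
        Category.assoc] at this
      exact this
    have hb : t' ≫ g = (G₁ ≫ b) * (G₂ ≫ b)⁻¹ := by
      rw [eq_mul_inv_iff_mul_eq]
      apply co_injective lam f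
      rw [co_mul, co_comp, co_comp, co_comp, co_mk, co_eq, ← sig_comp f t' lam, sig_eq,
        sC_algebraMap]
      let τ : B ⊗[A] B →+* Γ(Z, ⊤) :=
        t.appTop.hom.comp (Scheme.ΓSpecIso (CommRingCat.of (B ⊗[A] B))).inv.hom
      have key1 : ∀ l : B, g₁.appTop (ρV l) = τ (iL l) := by
        intro l
        have e : g₁.appTop (ρV l) =
            (g₁ ≫ V.ι).appTop ((Scheme.ΓSpecIso (CommRingCat.of B)).inv l) := by
          rw [Scheme.Hom.comp_appTop]; rfl
        rw [e, ← ht1, appTop_comp_SpecMap]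
        rfl
      have key2 : ∀ l : B, g₂.appTop (ρV l) = τ (iR l) := by
        intro l
        have e : g₂.appTop (ρV l) =
            (g₂ ≫ V.ι).appTop ((Scheme.ΓSpecIso (CommRingCat.of B)).inv l) := by
          rw [Scheme.Hom.comp_appTop]; rfl
        rw [e, ← ht2, appTop_comp_SpecMap]
        rfl
      show τ w + g₂.appTop cV + τ (algebraMap A (B ⊗[A] B) lamA) * τ w * g₂.appTop cV =
        g₁.appTop cV
      have hE1 : g₁.appTop (ρV (algebraMap A B a₀)) = τ (algebraMap A (B ⊗[A] B) a₀) := by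
        rw [key1, AlgHom.commutes]
      have hE2 : g₂.appTop (ρV (algebraMap A B a₀)) = τ (algebraMap A (B ⊗[A] B) a₀) := by
        rw [key2, AlgHom.commutes]
      have hEu : IsUnit (τ (algebraMap A (B ⊗[A] B) a₀)) := by
        rw [← hE1]
        exact (isUnit_of_mul_isUnit_left hunit).map g₁.appTop.hom
      have hc1 : τ (algebraMap A (B ⊗[A] B) a₀) * g₁.appTop cV = τ (z ⊗ₜ[A] (1 : B)) := by
        rw [← hE1, ← map_mul]
        show g₁.appTop (ρV (algebraMap A B a₀) * (aV' * ρV z)) = _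
        rw [← _root_.mul_assoc, haV', _root_.one_mul, key1]
        rfl
      have hc2 : τ (algebraMap A (B ⊗[A] B) a₀) * g₂.appTop cV = τ ((1 : B) ⊗ₜ[A] z) := by
        rw [← hE2, ← map_mul]
        show g₂.appTop (ρV (algebraMap A B a₀) * (aV' * ρV z)) = _
        rw [← _root_.mul_assoc, haV', _root_.one_mul, key2]
        rfl
      have hrel' := congrArg τ hrel
      rw [map_add, map_add, Algebra.smul_def, Algebra.smul_def, map_mul, map_mul, map_mul]
        at hrel'
      apply hEu.mul_left_cancel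
      linear_combination hrel' + (1 + τ (algebraMap A (B ⊗[A] B) lamA) * τ w) * hc2 - hc1
    exact congrArg (fun k => k.left) (modify a G₁ G₂ xV (t' ≫ g) hg' b hb)
  refine ⟨U, EffectiveEpi.desc πV (lift b⁻¹ xV ≫ a.act).left hcond, h𝔭U, ?_⟩
  rw [← cancel_epi πV, EffectiveEpi.fac_assoc, Over.w]
  show V.ι ≫ π ≫ φ = πV ≫ U.ι ≫ φ
  rw [← Category.assoc πV, hπV, Category.assoc]

end Descent

section Main

theorem flat_A (R : Type u) [CommRing R] (lam : R) : Module.Flat R (A R lam) := by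
  let s : Polynomial R := 1 + Polynomial.C lam * Polynomial.X
  have hflat : Module.Flat R (Localization.Away s) :=
    Module.Flat.trans R (Polynomial R) (Localization.Away s)
  have hs : (1 + lam • (algebraMap (Polynomial R) (Localization.Away s) Polynomial.X)) *
      IsLocalization.Away.invSelf s = 1 := by
    have h1 := IsLocalization.Away.mul_invSelf (S := Localization.Away s) s
    have h2 : algebraMap (Polynomial R) (Localization.Away s) s =
        1 + lam • (algebraMap (Polynomial R) (Localization.Away s) Polynomial.X) := by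
      show algebraMap (Polynomial R) (Localization.Away s)
        (1 + Polynomial.C lam * Polynomial.X) = _
      rw [map_add, map_one, map_mul, Algebra.smul_def]
      rfl
    rw [← h2]
    exact h1
  let i : A R lam →ₐ[R] Localization.Away s :=
    A.lift R lam (algebraMap _ _ Polynomial.X) (IsLocalization.Away.invSelf s) hs
  let f0 : Polynomial R →ₐ[R] A R lam := Polynomial.aeval A.t
  have hf0s : f0 s = A.u := by
    show Polynomial.aeval A.t (1 + Polynomial.C lam * Polynomial.X) = _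
    rw [map_add, map_one, map_mul, Polynomial.aeval_C, Polynomial.aeval_X, A.u_def]
  have hf0 : ∀ y : Submonoid.powers s, IsUnit (f0 y) := by
    rintro ⟨_, n, rfl⟩
    show IsUnit (f0 (s ^ n))
    rw [map_pow, hf0s]
    exact A.isUnit_u.pow n
  let r : Localization.Away s →ₐ[R] A R lam :=
    IsLocalization.liftAlgHom (M := Submonoid.powers s) hf0
  have hr : ∀ q : Polynomial R, r (algebraMap _ _ q) = f0 q := fun q =>
    IsLocalization.lift_eq (M := Submonoid.powers s) hf0 q
  have h : r.comp i = AlgHom.id R _ := by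
    apply A.algHom_ext
    · show r (i A.t) = A.t
      rw [A.lift_t, hr]
      exact Polynomial.aeval_X _
    · show r (i A.inv) = A.inv
      rw [A.lift_inv]
      apply A.isUnit_u.mul_left_cancel
      rw [A.u_mul_inv, ← hf0s, ← hr, ← map_mul, IsLocalization.Away.mul_invSelf, map_one]
  exact Module.Flat.of_retract i.toLinearMap r.toLinearMap (by
    ext z
    exact congrArg (fun k => k z) h)

variable {R : Type u} [CommRing R] (lam : R) {X : Scheme.{u}} (f : X ⟶ Spec (CommRingCat.of R))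

theorem flat_G : Flat (G R lam).hom := by
  show Flat (Spec.map (CommRingCat.ofHom (algebraMap R (A R lam))))
  rw [Flat.SpecMap_iff]
  exact (RingHom.flat_algebraMap_iff).mpr (flat_A R lam)

theorem flat_bc : Flat (Red.bc f (G R lam)).hom := by
  haveI := flat_G lam
  show Flat (pullback.snd (G R lam).hom f)
  infer_instance

theorem isAffineHom_bc : IsAffineHom (Red.bc f (G R lam)).hom := by
  haveI : IsAffineHom (G R lam).hom := by
    show IsAffineHom (Spec.map (CommRingCat.ofHom (algebraMap R (A R lam))))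
    infer_instance
  exact MorphismProperty.pullback_snd (P := @IsAffineHom) _ _ this

theorem hasLocalSection_of_affine (P : Over X) (a : AlgGrp.Action (Red.bc f (G R lam)) P)
    (hps : NonAbH1.IsPseudoTorsorSch a) [IsAffineHom P.hom] [Flat P.hom] [Surjective P.hom]
    (A : CommRingCat.{u}) (φ : Spec A ⟶ X)
    (hreg : sC (A := A) f φ A lam ∈ nonZeroDivisors A) (𝔭 : ↥(Spec A)) :
    ∃ (U : (Spec A).Opens) (s : (U : Scheme.{u}) ⟶ P.left), 𝔭 ∈ U ∧ s ≫ P.hom = U.ι ≫ φ := by
  haveI : IsAffine (pullback P.hom φ) := isAffine_of_isAffineHom (pullback.snd P.hom φ)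
  let B : CommRingCat.{u} := Γ(pullback P.hom φ, ⊤)
  let e : pullback P.hom φ ≅ Spec B := (pullback P.hom φ).isoSpec
  let ψ : A ⟶ B := Spec.preimage (e.inv ≫ pullback.snd P.hom φ)
  have hψ : Spec.map ψ = e.inv ≫ pullback.snd P.hom φ := Spec.map_preimage _
  letI : Algebra A B := ψ.hom.toAlgebra
  have hff : Module.FaithfullyFlat A B := by
    have h1 : Flat (Spec.map ψ) ∧ Surjective (Spec.map ψ) := by
      rw [hψ]
      exact ⟨inferInstance, inferInstance⟩
    exact (RingHom.faithfullyFlat_algebraMap_iff).mp ((flat_and_surjective_SpecMap_iff ψ).mp h1)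
  let x : TT (A := A) φ B ⟶ P := Over.homMk (e.inv ≫ pullback.fst P.hom φ) (by
    show (e.inv ≫ pullback.fst P.hom φ) ≫ P.hom = Spec.map ψ ≫ φ
    rw [hψ, Category.assoc, Category.assoc, pullback.condition])
  exact exists_local_section lam f A B φ a hps x hreg 𝔭

theorem main [Flat f] (hlam : lam ∈ nonZeroDivisors R) (P : Over X)
    (a : AlgGrp.Action (Red.bc f (G R lam)) P)
    (h : NonAbH1.IsTorsorFor Scheme.fpqcPrecoverage a) :
    NonAbH1.IsTorsorFor Scheme.zariskiPrecoverage a := by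
  haveI := flat_bc lam f
  haveI := isAffineHom_bc lam f
  obtain ⟨haff, hflat⟩ := FpqcTorsor.main6004 (Red.bc f (G R lam)) P a h
  haveI : Surjective P.hom := ((FpqcTorsor.main6003 (Red.bc f (G R lam)) P a).mp h).2.1
  have hloc : ∀ s : X, ∃ (W : Scheme.{u}) (j : W ⟶ X) (_ : IsOpenImmersion j) (σ : W ⟶ P.left),
      s ∈ Set.range j ∧ σ ≫ P.hom = j := by
    intro s
    obtain ⟨i, 𝔭, h𝔭⟩ := X.affineCover.exists_eq s
    have hoi : IsOpenImmersion (X.affineCover.f i) := X.affineCover.map_prop i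
    haveI h1 : Flat (X.affineCover.f i) := inferInstance
    haveI h2 : Flat f := inferInstance
    have h3 : Flat (X.affineCover.f i ≫ f) := Flat.comp _ _
    obtain ⟨U, σ, hU, hσ⟩ := hasLocalSection_of_affine lam f P a h.1 _ (X.affineCover.f i)
      (sC_mem_nonZeroDivisors f (X.affineCover.f i) h3 hlam) 𝔭
    refine ⟨U, U.ι ≫ X.affineCover.f i,
      @IsOpenImmersion.comp _ _ _ U.ι (X.affineCover.f i) inferInstance hoi, σ,
      ⟨⟨𝔭, hU⟩, ?_⟩, hσ⟩
    rw [Scheme.Hom.comp_apply]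
    exact h𝔭
  choose W j hj σ hs hσ using hloc
  let 𝒰 : X.OpenCover := {
    I₀ := X, X := W, f := j,
    mem₀ := by
      rw [Scheme.presieve₀_mem_precoverage_iff]
      exact ⟨fun s => ⟨s, hs s⟩, hj⟩ }
  refine ⟨h.1, 𝒰.presieve₀, 𝒰.mem₀, ?_⟩
  rintro S' f ⟨s⟩
  exact ⟨σ s, hσ s⟩

end Main

end Groth.Agent.Helper18.SekTorsor
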