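import Groth.Agent.Lib.Helper18.GrpDesc
import Groth.Agent.Lib.Helper18.NilThick
import Groth.Agent.S0083

/-!
# Closed immersions in the middle of short exact sequences of group schemes (helper18)
-/

set_option autoImplicit false
universe u
open CategoryTheory CategoryTheory.Limits MonoidalCategory CartesianMonoidalCategory MonObj
  AlgebraicGeometry

namespace Groth.Agent.Helper18.SesClosed

/-- a cartesian square from unique existence on points -/
theorem isPullback_of_existsUnique {C : Type*} [Category C] {A X Y Z : C} (p₁ : A ⟶ X)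
    (p₂ : A ⟶ Y) (f : X ⟶ Z) (g : Y ⟶ Z) (comm : p₁ ≫ f = p₂ ≫ g)
    (h : ∀ {T : C} (x : T ⟶ X) (y : T ⟶ Y), x ≫ f = y ≫ g →
      ∃ a : T ⟶ A, (a ≫ p₁ = x ∧ a ≫ p₂ = y) ∧
        ∀ a' : T ⟶ A, a' ≫ p₁ = x → a' ≫ p₂ = y → a' = a) :
    IsPullback p₁ p₂ f g := by
  refine ⟨⟨comm⟩, ⟨PullbackCone.IsLimit.mk _ (fun s => (h s.fst s.snd s.condition).choose)
    (fun s => (h s.fst s.snd s.condition).choose_spec.1.1)
    (fun s => (h s.fst s.snd s.condition).choose_spec.1.2)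
    (fun s m h1 h2 => (h s.fst s.snd s.condition).choose_spec.2 m h1 h2)⟩⟩

variable {S : Scheme.{u}}

theorem mono_of_isKernel {N G Q : Over S} [GrpObj Q] {i : N ⟶ G} {q : G ⟶ Q}
    (hK : AlgGrp.IsKernel i q) : Mono i := by
  have := hK.flip
  exact CategoryTheory.Limits.PullbackCone.mono_snd_of_is_pullback_of_mono this.isLimit

theorem main
    {H₁' H₁ H₁'' H₂' H₂ H₂'' : Over S} [GrpObj H₁'] [GrpObj H₁] [GrpObj H₁''] [GrpObj H₂']
    [GrpObj H₂] [GrpObj H₂'']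
    [IsSeparated H₁''.hom] [QuasiCompact H₁.hom]
    (a₁ : H₁' ⟶ H₁) (b₁ : H₁ ⟶ H₁'') (a₂ : H₂' ⟶ H₂) (b₂ : H₂ ⟶ H₂'')
    [IsMonHom a₁] [IsMonHom b₁] [IsMonHom a₂] [IsMonHom b₂]
    (h₁ : AlgGrp.IsKernel a₁ b₁) (hb₁ : Flat b₁.left ∧ Surjective b₁.left)
    (h₂ : AlgGrp.IsKernel a₂ b₂)
    (j' : H₁' ⟶ H₂') (j : H₁ ⟶ H₂) (j'' : H₁'' ⟶ H₂'') [IsMonHom j'] [IsMonHom j] [IsMonHom j'']
    (sq₁ : a₁ ≫ j = j' ≫ a₂) (sq₂ : b₁ ≫ j'' = j ≫ b₂)
    (hj' : IsClosedImmersion j'.left) (hj'' : IsClosedImmersion j''.left) :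
    IsClosedImmersion j.left := by
  haveI : MorphismProperty.DescendsAlong @IsClosedImmersion
      (@Surjective ⊓ @Flat ⊓ @QuasiCompact : MorphismProperty Scheme.{u}) :=
    Groth.Agent.S0083.result
  haveI : Mono a₁ := mono_of_isKernel h₁
  haveI : Mono a₂ := mono_of_isKernel h₂
  have ha₁q : a₁ ≫ b₁ = 1 := GrpFppf.IsKernel.comp_eq_one h₁
  have ha₂q : a₂ ≫ b₂ = 1 := GrpFppf.IsKernel.comp_eq_one h₂
  haveI : Flat b₁.left := hb₁.1
  haveI : Surjective b₁.left := hb₁.2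
  haveI : QuasiCompact b₁.left := by
    haveI : QuasiCompact (b₁.left ≫ H₁''.hom) := by rw [Over.w]; infer_instance
    exact QuasiCompact.of_comp b₁.left H₁''.hom
  -- the fibre product
  let P := pullback b₂ j''
  let p₁ : P ⟶ H₂ := pullback.fst b₂ j''
  let p₂ : P ⟶ H₁'' := pullback.snd b₂ j''
  have hP : IsPullback p₁ p₂ b₂ j'' := IsPullback.of_hasPullback _ _
  let φ : H₁ ⟶ P := pullback.lift j b₁ sq₂.symm
  have hφ₁ : φ ≫ p₁ = j := pullback.lift_fst _ _ _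
  have hφ₂ : φ ≫ p₂ = b₁ := pullback.lift_snd _ _ _
  have hext : ∀ {T : Over S} (u v : T ⟶ P), u ≫ p₁ = v ≫ p₁ → u ≫ p₂ = v ≫ p₂ → u = v :=
    fun u v h1 h2 => pullback.hom_ext h1 h2
  haveI : IsClosedImmersion p₁.left :=
    MorphismProperty.of_isPullback (P := @IsClosedImmersion) (GrpFppf.isPullback_left hP).flip hj''
  -- the cover
  have hc0 : ((fst H₁ H₂' ≫ j) * (snd H₁ H₂' ≫ a₂)) ≫ b₂ = (fst H₁ H₂' ≫ b₁) ≫ j'' := by
    rw [MonObj.mul_comp, Category.assoc, Category.assoc, ha₂q, MonObj.comp_one, _root_.mul_one,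
      Category.assoc, sq₂]
  let c : H₁ ⊗ H₂' ⟶ P := pullback.lift ((fst H₁ H₂' ≫ j) * (snd H₁ H₂' ≫ a₂))
    (fst H₁ H₂' ≫ b₁) hc0
  have hc₁ : c ≫ p₁ = (fst H₁ H₂' ≫ j) * (snd H₁ H₂' ≫ a₂) := pullback.lift_fst _ _ _
  have hc₂ : c ≫ p₂ = fst H₁ H₂' ≫ b₁ := pullback.lift_snd _ _ _
  have hsqC : IsPullback c (fst H₁ H₂') p₂ b₁ := by
    refine isPullback_of_existsUnique _ _ _ _ hc₂ ?_
    intro T x y hxy
    have hk : ((y ≫ j)⁻¹ * (x ≫ p₁)) ≫ b₂ = 1 := by
      rw [MonObj.mul_comp, GrpObj.inv_comp, Category.assoc, ← sq₂, Category.assoc, hP.w,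
        ← Category.assoc x, hxy, Category.assoc, inv_mul_cancel]
    obtain ⟨n, hn⟩ := GrpFppf.IsKernel.exists_lift h₂ _ hk
    refine ⟨lift y n, ⟨?_, lift_fst _ _⟩, ?_⟩
    · apply hext
      · rw [Category.assoc, hc₁, MonObj.comp_mul, ← Category.assoc, lift_fst, ← Category.assoc,
          lift_snd, hn, mul_inv_cancel_left]
      · rw [Category.assoc, hc₂, ← Category.assoc, lift_fst, hxy]
    · intro a' ha1 ha2
      apply CartesianMonoidalCategory.hom_ext
      · rw [lift_fst, ha2]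
      · rw [lift_snd, ← cancel_mono a₂, hn, ← ha1, Category.assoc a' c p₁, hc₁, MonObj.comp_mul,
          ← Category.assoc a', ha2, inv_mul_cancel_left, Category.assoc]
  have hcl := GrpFppf.isPullback_left hsqC
  haveI : Flat c.left :=
    MorphismProperty.of_isPullback (P := @Flat) hcl.flip inferInstance
  haveI : Surjective c.left :=
    MorphismProperty.of_isPullback (P := @Surjective) hcl.flip inferInstance
  haveI : QuasiCompact c.left :=
    MorphismProperty.of_isPullback (P := @QuasiCompact) hcl.flip inferInstance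
  -- the base change of φ
  let d : H₁ ⊗ H₁' ⟶ H₁ := (fst H₁ H₁') * (snd H₁ H₁' ≫ a₁)
  have hcomm : (H₁ ◁ j') ≫ c = d ≫ φ := by
    apply hext
    · rw [Category.assoc, hc₁, MonObj.comp_mul, ← Category.assoc, whiskerLeft_fst,
        ← Category.assoc, whiskerLeft_snd, Category.assoc, Category.assoc d φ p₁, hφ₁,
        MonObj.mul_comp, Category.assoc, sq₁]
    · rw [Category.assoc, hc₂, ← Category.assoc, whiskerLeft_fst, Category.assoc d φ p₂, hφ₂,
        MonObj.mul_comp, Category.assoc, ha₁q, MonObj.comp_one, _root_.mul_one]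
  have hsqD : IsPullback (H₁ ◁ j') d c φ := by
    refine isPullback_of_existsUnique _ _ _ _ hcomm ?_
    intro T x w hxw
    have e1 : (x ≫ fst H₁ H₂' ≫ j) * (x ≫ snd H₁ H₂' ≫ a₂) = w ≫ j := by
      have := congrArg (fun t => t ≫ p₁) hxw
      simp only [Category.assoc] at this
      rw [hc₁, hφ₁, MonObj.comp_mul] at this
      exact this
    have e2 : x ≫ fst H₁ H₂' ≫ b₁ = w ≫ b₁ := by
      have := congrArg (fun t => t ≫ p₂) hxw
      simp only [Category.assoc] at this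
      rw [hc₂, hφ₂] at this
      exact this
    have hk : ((x ≫ fst H₁ H₂')⁻¹ * w) ≫ b₁ = 1 := by
      rw [MonObj.mul_comp, GrpObj.inv_comp, Category.assoc, e2, inv_mul_cancel]
    obtain ⟨n, hn⟩ := GrpFppf.IsKernel.exists_lift h₁ _ hk
    have hnj : n ≫ j' = x ≫ snd H₁ H₂' := by
      rw [← cancel_mono a₂, Category.assoc, ← sq₁, ← Category.assoc, hn, MonObj.mul_comp,
        GrpObj.inv_comp, ← e1, Category.assoc, Category.assoc, inv_mul_cancel_left]
    refine ⟨lift (x ≫ fst H₁ H₂') n, ⟨?_, ?_⟩, ?_⟩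
    · apply CartesianMonoidalCategory.hom_ext
      · rw [Category.assoc, whiskerLeft_fst, lift_fst]
      · rw [Category.assoc, whiskerLeft_snd, ← Category.assoc, lift_snd, hnj]
    · show lift (x ≫ fst H₁ H₂') n ≫ ((fst H₁ H₁') * (snd H₁ H₁' ≫ a₁)) = w
      rw [MonObj.comp_mul, lift_fst, ← Category.assoc, lift_snd, hn, mul_inv_cancel_left]
    · intro a' ha1 ha2
      have hf : a' ≫ fst H₁ H₁' = x ≫ fst H₁ H₂' := by
        rw [← ha1, Category.assoc, whiskerLeft_fst]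
      apply CartesianMonoidalCategory.hom_ext
      · rw [lift_fst, hf]
      · rw [lift_snd, ← cancel_mono a₁, hn, ← ha2]
        show (a' ≫ snd H₁ H₁') ≫ a₁ = (x ≫ fst H₁ H₂')⁻¹ * a' ≫ ((fst H₁ H₁') * (snd H₁ H₁' ≫ a₁))
        rw [MonObj.comp_mul, hf, inv_mul_cancel_left, Category.assoc]
  have hw : IsClosedImmersion (H₁ ◁ j').left :=
    MorphismProperty.of_isPullback (P := @IsClosedImmersion)
      (GrpFppf.isPullback_left (NilThick.isPullback_whiskerLeft_snd H₁ j')).flip hj'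
  haveI : IsClosedImmersion φ.left := GrpFppf.descend (P := @IsClosedImmersion) hsqD hw
  have : j.left = φ.left ≫ p₁.left := by rw [← Over.comp_left, hφ₁]
  rw [this]
  infer_instance

end Groth.Agent.Helper18.SesClosed
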