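import Groth.Agent.Lib.Helper18.SesClosed
import Groth.Agent.S0086

/-!
# Properness of a homomorphism from properness on a kernel with proper quotient (helper18)
-/

set_option autoImplicit false
universe u
open CategoryTheory CategoryTheory.Limits MonoidalCategory CartesianMonoidalCategory MonObj
  AlgebraicGeometry

namespace Groth.Agent.Helper18.SesProper

open Groth.Agent.Helper18.SesClosed

variable {S : Scheme.{u}}

theorem main (G G' G'' : Over S) [GrpObj G] [GrpObj G'] [GrpObj G'']
    [QuasiCompact G.hom] [IsProper G''.hom]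
    (p : G ⟶ G'') [IsMonHom p] [Surjective p.left] [Flat p.left]
    (i : G' ⟶ G) [IsMonHom i] (hker : AlgGrp.IsKernel i p)
    (H : Over S) [GrpObj H]
    (u : G ⟶ H) [IsMonHom u] (hu : IsProper (i ≫ u).left) : IsProper u.left := by
  haveI : MorphismProperty.DescendsAlong @IsProper
      (@Surjective ⊓ @Flat ⊓ @QuasiCompact : MorphismProperty Scheme.{u}) :=
    Groth.Agent.S0086.result
  haveI : Mono i := mono_of_isKernel hker
  have hiq : i ≫ p = 1 := GrpFppf.IsKernel.comp_eq_one hker
  haveI : QuasiCompact p.left := by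
    haveI : QuasiCompact (p.left ≫ G''.hom) := by rw [Over.w]; infer_instance
    exact QuasiCompact.of_comp p.left G''.hom
  let w : G ⟶ H ⊗ G'' := lift u p
  let c : H ⊗ G ⟶ H ⊗ G'' := lift ((snd H G ≫ u) * fst H G) (snd H G ≫ p)
  have hc₁ : c ≫ fst H G'' = (snd H G ≫ u) * fst H G := lift_fst _ _
  have hc₂ : c ≫ snd H G'' = snd H G ≫ p := lift_snd _ _
  -- c is a base change of p
  have hsqC : IsPullback c (snd H G) (snd H G'') p := by
    refine isPullback_of_existsUnique _ _ _ _ hc₂ ?_
    intro T x g hxg
    refine ⟨lift ((g ≫ u)⁻¹ * (x ≫ fst H G'')) g, ⟨?_, lift_snd _ _⟩, ?_⟩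
    · apply CartesianMonoidalCategory.hom_ext
      · rw [Category.assoc, hc₁, MonObj.comp_mul, ← Category.assoc, lift_snd, lift_fst,
          mul_inv_cancel_left]
      · rw [Category.assoc, hc₂, ← Category.assoc, lift_snd, hxg]
    · intro a' ha1 ha2
      apply CartesianMonoidalCategory.hom_ext
      · rw [lift_fst, ← ha1, Category.assoc a' c, hc₁, MonObj.comp_mul, ← Category.assoc a',
          ha2, inv_mul_cancel_left]
      · rw [lift_snd, ha2]
  have hcl := GrpFppf.isPullback_left hsqC
  haveI : Flat c.left :=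
    MorphismProperty.of_isPullback (P := @Flat) hcl.flip inferInstance
  haveI : Surjective c.left :=
    MorphismProperty.of_isPullback (P := @Surjective) hcl.flip inferInstance
  haveI : QuasiCompact c.left :=
    MorphismProperty.of_isPullback (P := @QuasiCompact) hcl.flip inferInstance
  -- the base change of w
  let top : G ⊗ G' ⟶ H ⊗ G := lift (snd G G' ≫ i ≫ u) (fst G G')
  let d : G ⊗ G' ⟶ G := (fst G G') * (snd G G' ≫ i)
  have htop₁ : top ≫ fst H G = snd G G' ≫ i ≫ u := lift_fst _ _
  have htop₂ : top ≫ snd H G = fst G G' := lift_snd _ _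
  have hw₁ : w ≫ fst H G'' = u := lift_fst _ _
  have hw₂ : w ≫ snd H G'' = p := lift_snd _ _
  have hcomm : top ≫ c = d ≫ w := by
    apply CartesianMonoidalCategory.hom_ext
    · rw [Category.assoc, hc₁, MonObj.comp_mul, ← Category.assoc, htop₂, htop₁,
        Category.assoc d w, hw₁, MonObj.mul_comp, Category.assoc]
    · rw [Category.assoc, hc₂, ← Category.assoc, htop₂, Category.assoc d w, hw₂,
        MonObj.mul_comp, Category.assoc, hiq, MonObj.comp_one, _root_.mul_one]
  have hsqD : IsPullback top d c w := by
    refine isPullback_of_existsUnique _ _ _ _ hcomm ?_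
    intro T x g₀ hx
    have e1 : (x ≫ snd H G ≫ u) * (x ≫ fst H G) = g₀ ≫ u := by
      have := congrArg (fun t => t ≫ fst H G'') hx
      simp only [Category.assoc] at this
      rw [hc₁, hw₁, MonObj.comp_mul] at this
      exact this
    have e2 : x ≫ snd H G ≫ p = g₀ ≫ p := by
      have := congrArg (fun t => t ≫ snd H G'') hx
      simp only [Category.assoc] at this
      rw [hc₂, hw₂] at this
      exact this
    have hk : ((x ≫ snd H G)⁻¹ * g₀) ≫ p = 1 := by
      rw [MonObj.mul_comp, GrpObj.inv_comp, Category.assoc, e2, inv_mul_cancel]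
    obtain ⟨n, hn⟩ := GrpFppf.IsKernel.exists_lift hker _ hk
    have hnu : n ≫ i ≫ u = x ≫ fst H G := by
      rw [← Category.assoc, hn, MonObj.mul_comp, GrpObj.inv_comp, ← e1, Category.assoc,
        inv_mul_cancel_left]
    refine ⟨lift (x ≫ snd H G) n, ⟨?_, ?_⟩, ?_⟩
    · apply CartesianMonoidalCategory.hom_ext
      · rw [Category.assoc, htop₁, ← Category.assoc, lift_snd, hnu]
      · rw [Category.assoc, htop₂, lift_fst]
    · show lift (x ≫ snd H G) n ≫ ((fst G G') * (snd G G' ≫ i)) = g₀
      rw [MonObj.comp_mul, lift_fst, ← Category.assoc, lift_snd, hn, mul_inv_cancel_left]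
    · intro a' ha1 ha2
      have hf : a' ≫ fst G G' = x ≫ snd H G := by
        rw [← ha1, Category.assoc, htop₂]
      apply CartesianMonoidalCategory.hom_ext
      · rw [lift_fst, hf]
      · rw [lift_snd, ← cancel_mono i, hn, ← ha2]
        show (a' ≫ snd G G') ≫ i = (x ≫ snd H G)⁻¹ * a' ≫ ((fst G G') * (snd G G' ≫ i))
        rw [MonObj.comp_mul, hf, inv_mul_cancel_left, Category.assoc]
  -- top is a base change of i ≫ u
  have hsqT : IsPullback top (snd G G') (fst H G) (i ≫ u) := by
    refine isPullback_of_existsUnique _ _ _ _ (by rw [htop₁]) ?_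
    intro T x n hxn
    refine ⟨lift (x ≫ snd H G) n, ⟨?_, lift_snd _ _⟩, ?_⟩
    · apply CartesianMonoidalCategory.hom_ext
      · rw [Category.assoc, htop₁, ← Category.assoc, lift_snd, hxn]
      · rw [Category.assoc, htop₂, lift_fst]
    · intro a' ha1 ha2
      apply CartesianMonoidalCategory.hom_ext
      · rw [lift_fst, ← ha1, Category.assoc, htop₂]
      · rw [lift_snd, ha2]
  have htopP : IsProper top.left :=
    MorphismProperty.of_isPullback (P := @IsProper) (GrpFppf.isPullback_left hsqT).flip hu
  haveI : IsProper w.left := GrpFppf.descend (P := @IsProper) hsqD htopP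
  -- the projection is proper
  have hpb : IsPullback (fst H G'').left (snd H G'').left H.hom G''.hom :=
    IsPullback.of_hasPullback H.hom G''.hom
  haveI : IsProper (fst H G'').left :=
    MorphismProperty.of_isPullback (P := @IsProper) hpb.flip inferInstance
  have : u.left = w.left ≫ (fst H G'').left := by rw [← Over.comp_left, hw₁]
  rw [this]
  infer_instance

end Groth.Agent.Helper18.SesProper
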