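import Mathlib

/-!
# Universally injective morphisms with a section (helper18)
-/

set_option autoImplicit false
set_option linter.style.haveILetI false
universe u
open CategoryTheory CategoryTheory.Limits AlgebraicGeometry

namespace Groth.Agent.Helper18.StabFib

variable {F B : Scheme.{u}} (q : F ⟶ B) (e : B ⟶ F)

theorem surjective_section (he : e ≫ q = 𝟙 B) [UniversallyInjective q] : Surjective e := by
  refine ⟨fun y => ⟨q y, ?_⟩⟩
  apply q.injective
  rw [← Scheme.Hom.comp_apply, he]
  rfl

/-- a section of an unramified morphism locally of finite type is an open immersion -/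
theorem isOpenImmersion_section (he : e ≫ q = 𝟙 B) [FormallyUnramified q]
    [LocallyOfFiniteType q] : IsOpenImmersion e := by
  haveI : IsIso (e ≫ q) := he ▸ inferInstance
  have h1 : IsOpenImmersion (pullback.lift (𝟙 B) e (by simp) : B ⟶ pullback (e ≫ q) q) :=
    MorphismProperty.of_isPullback (P := @IsOpenImmersion)
      (pullback_lift_diagonal_isPullback e q) inferInstance
  have h2 : e = (pullback.lift (𝟙 B) e (by simp) : B ⟶ pullback (e ≫ q) q) ≫
      pullback.snd (e ≫ q) q := (pullback.lift_snd _ _ _).symm
  rw [h2]
  infer_instance

theorem isIso_of_section_of_unramified (he : e ≫ q = 𝟙 B) [UniversallyInjective q]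
    [FormallyUnramified q] [LocallyOfFiniteType q] : IsIso q := by
  haveI := isOpenImmersion_section q e he
  haveI := surjective_section q e he
  haveI : IsIso e := (isIso_iff_isOpenImmersion_and_surjective e).mpr ⟨inferInstance, inferInstance⟩
  haveI : IsIso (e ≫ q) := he ▸ inferInstance
  exact IsIso.of_isIso_comp_left e q

theorem isIso_of_section_of_isReduced (he : e ≫ q = 𝟙 B) [UniversallyInjective q]
    [IsSeparated q] [IsReduced F] : IsIso q := by
  haveI : IsIso (e ≫ q) := he ▸ inferInstance
  haveI : IsClosedImmersion e := IsClosedImmersion.of_comp e q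
  haveI := surjective_section q e he
  haveI : IsIso e := isIso_of_isClosedImmersion_of_surjective e
  exact IsIso.of_isIso_comp_left e q

end Groth.Agent.Helper18.StabFib
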