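import Mathlib
import Groth.Agent.Lib.Helper18.StabFib3
import Groth.Agent.Lib.Helper18.StabFib4
import Groth.Agent.Lib.Helper12.CartierSm
import Groth.Agent.Lib.Helper9.RatSec
import Groth.Agent.Lib.Helper23.MonoFib3

/-!
# Fibres of the stabilizer (helper18)
-/

set_option autoImplicit false
set_option linter.style.haveILetI false
universe u
open CategoryTheory CategoryTheory.Limits MonoidalCategory CartesianMonoidalCategory MonObj GrpObj
  AlgebraicGeometry

noncomputable section

namespace Groth.Agent.Helper18.StabFib

variable {S : Scheme.{u}} {G X : Over S} [GrpObj G] (a : AlgGrp.Action G X)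

theorem lft_p [LocallyOfFiniteType G.hom] [LocallyOfFiniteType X.hom] :
    LocallyOfFiniteType (p a) := by
  rw [← fst_snd a]
  haveI : LocallyOfFiniteType (lift (𝟙 X) (𝟙 X)).left := by
    have h2 : (lift (𝟙 X) (𝟙 X)).left ≫ (fst X X).left = 𝟙 _ := by
      rw [← Over.comp_left, lift_fst]; rfl
    haveI : LocallyOfFiniteType ((lift (𝟙 X) (𝟙 X)).left ≫ (fst X X).left) := by
      rw [h2]; infer_instance
    exact locallyOfFiniteType_of_comp _ (fst X X).left
  haveI : LocallyOfFiniteType (snd G X).left := by
    rw [Over.snd_left]; infer_instance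
  infer_instance

theorem sep_p [IsAffineHom G.hom] : IsSeparated (p a) := by
  rw [← fst_snd a]
  haveI : IsAffineHom (snd G X).left := by
    rw [Over.snd_left]
    exact MorphismProperty.pullback_snd (P := @IsAffineHom) _ _ inferInstance
  infer_instance

theorem unram_p [Etale G.hom] : FormallyUnramified (p a) := by
  rw [← fst_snd a]
  haveI : Etale (snd G X).left := by
    rw [Over.snd_left]; infer_instance
  haveI : IsIso (pullback.diagonal
      (pullback.fst (GIT.psi a (𝟙 X)).left (lift (𝟙 X) (𝟙 X)).left)) :=
    (pullback.isIso_diagonal_iff _).mpr inferInstance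
  haveI : FormallyUnramified
      (pullback.fst (GIT.psi a (𝟙 X)).left (lift (𝟙 X) (𝟙 X)).left) := inferInstance
  infer_instance

/-- the unit section of a fibre -/
def fibSec (x : X.left) : Spec (X.left.residueField x) ⟶ (p a).fiber x :=
  pullback.lift (X.left.fromSpecResidueField x ≫ sec a) (𝟙 _) (by simp)

theorem fibSec_comp (x : X.left) :
    fibSec a x ≫ (p a).fiberToSpecResidueField x = 𝟙 _ := pullback.lift_snd _ _ _

theorem isIso_fibre_of_etale [LocallyOfFiniteType X.hom] [Etale G.hom]
    [UniversallyInjective (p a)] (x : X.left) :
    IsIso ((p a).fiberToSpecResidueField x) := by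
  haveI := lft_p a
  haveI := unram_p a
  haveI : UniversallyInjective ((p a).fiberToSpecResidueField x) :=
    MorphismProperty.pullback_snd (P := @UniversallyInjective) _ _ inferInstance
  haveI : FormallyUnramified ((p a).fiberToSpecResidueField x) :=
    MorphismProperty.pullback_snd (P := @FormallyUnramified) _ _ inferInstance
  haveI : LocallyOfFiniteType ((p a).fiberToSpecResidueField x) :=
    MorphismProperty.pullback_snd (P := @LocallyOfFiniteType) _ _ inferInstance
  exact isIso_of_section_of_unramified _ (fibSec a x) (fibSec_comp a x)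

theorem isIso_fibre_of_isReduced [IsAffineHom G.hom]
    [UniversallyInjective (p a)] (x : X.left) [IsReduced ((p a).fiber x)] :
    IsIso ((p a).fiberToSpecResidueField x) := by
  haveI := sep_p a
  haveI : UniversallyInjective ((p a).fiberToSpecResidueField x) :=
    MorphismProperty.pullback_snd (P := @UniversallyInjective) _ _ inferInstance
  haveI : IsSeparated ((p a).fiberToSpecResidueField x) :=
    MorphismProperty.pullback_snd (P := @IsSeparated) _ _ inferInstance
  exact isIso_of_section_of_isReduced _ (fibSec a x) (fibSec_comp a x)

end Groth.Agent.Helper18.StabFib
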