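import Mathlib
import Groth.Agent.Lib.Helper18.StabFib5

/-!
# Fibres of the stabilizer in characteristic zero are reduced (helper18)
-/

set_option autoImplicit false
set_option linter.style.haveILetI false
universe u
open CategoryTheory CategoryTheory.Limits MonoidalCategory CartesianMonoidalCategory MonObj GrpObj
  AlgebraicGeometry

noncomputable section

namespace Groth.Agent.Helper18.StabFib

variable {k : Type u} [Field k] {G X : Over (Spec (CommRingCat.of k))} [GrpObj G]
  (a : AlgGrp.Action G X)

theorem charZero_residueField [CharZero k] (x : X.left) :
    CharZero (X.left.residueField x) := by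
  let φ : CommRingCat.of k ⟶ X.left.residueField x :=
    Spec.preimage (X.left.fromSpecResidueField x ≫ X.hom)
  exact charZero_of_injective_ringHom φ.hom.injective

theorem isReduced_fibre [CharZero k] [LocallyOfFiniteType G.hom] [LocallyOfFiniteType X.hom]
    (x : X.left) : IsReduced ((p a).fiber x) := by
  obtain ⟨hN, -⟩ := exists_grpObj a
  haveI := lft_p a
  haveI := charZero_residueField (X := X) x
  haveI : LocallyOfFiniteType (Red.bc (X.left.fromSpecResidueField x) (N a)).hom :=
    MorphismProperty.pullback_snd (P := @LocallyOfFiniteType) _ _ (lft_p a)
  have hsm : Smooth (Red.bc (X.left.fromSpecResidueField x) (N a)).hom :=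
    Groth.Agent.Helper12.CartierSm.smooth_of_charZero (X.left.residueField x)
      (Red.bc (X.left.fromSpecResidueField x) (N a))
  haveI : Smooth ((p a).fiberToSpecResidueField x) := hsm
  exact Groth.Agent.Helper9.RatSec.isReduced_of_smooth ((p a).fiberToSpecResidueField x)

theorem isIso_fibre_of_charZero [CharZero k] [IsAffineHom G.hom] [LocallyOfFiniteType G.hom]
    [LocallyOfFiniteType X.hom] [UniversallyInjective (p a)] (x : X.left) :
    IsIso ((p a).fiberToSpecResidueField x) := by
  haveI := isReduced_fibre a x
  exact isIso_fibre_of_isReduced a x

end Groth.Agent.Helper18.StabFib
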