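import Mathlib
import Groth.Agent.Lib.Helper18.StabFib

/-!
# Trivial stabilizer implies `(g, x) ↦ (g x, x)` is a monomorphism (helper18)
-/

set_option autoImplicit false
set_option linter.style.haveILetI false
universe u
open CategoryTheory CategoryTheory.Limits MonoidalCategory CartesianMonoidalCategory MonObj GrpObj
  AlgebraicGeometry

noncomputable section

namespace Groth.Agent.Helper18.StabFib

variable {S : Scheme.{u}} {G X : Over S} [GrpObj G] (a : AlgGrp.Action G X)

theorem eq_one_of_fix [Mono (p a)] {T : Over S} (c : T ⟶ G) (y : T ⟶ X)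
    (h : lift c y ≫ a.act = y) : c = 1 := by
  have hw : ∀ (c' : T ⟶ G), lift c' y ≫ a.act = y →
      (lift c' y).left ≫ (GIT.psi a (𝟙 X)).left = y.left ≫ (lift (𝟙 X) (𝟙 X)).left := by
    intro c' h'
    rw [← Over.comp_left, ← Over.comp_left, psi_eq]
    congr 1
    apply CartesianMonoidalCategory.hom_ext
    · rw [Category.assoc, lift_fst, h', Category.assoc, lift_fst, Category.comp_id]
    · rw [Category.assoc, lift_snd, lift_snd, Category.assoc, lift_snd, Category.comp_id]
  have h1 := a.lift_one_act y
  have hz : pullback.lift _ _ (hw c h) = pullback.lift _ _ (hw 1 h1) := by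
    rw [← cancel_mono (p a)]
    rw [pullback.lift_snd, pullback.lift_snd]
  have hz2 := congrArg (· ≫ pullback.fst (GIT.psi a (𝟙 X)).left (lift (𝟙 X) (𝟙 X)).left) hz
  simp only [pullback.lift_fst] at hz2
  have hz3 : lift c y = lift 1 y := Over.OverMorphism.ext hz2
  have := congrArg (· ≫ fst G X) hz3
  simpa using this

theorem mono_psi [Mono (p a)] : Mono (GIT.psi a (𝟙 X)) := by
  constructor
  intro T u v huv
  rw [psi_eq] at huv
  have hsnd : u ≫ snd G X = v ≫ snd G X := by
    have := congrArg (· ≫ snd X X) huv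
    simpa using this
  have hact : u ≫ a.act = v ≫ a.act := by
    have := congrArg (· ≫ fst X X) huv
    simpa using this
  have hu : u = lift (u ≫ fst G X) (u ≫ snd G X) := by
    apply CartesianMonoidalCategory.hom_ext <;> simp
  have hv : v = lift (v ≫ fst G X) (u ≫ snd G X) := by
    apply CartesianMonoidalCategory.hom_ext
    · simp
    · rw [lift_snd, hsnd]
  rw [hu, hv] at hact
  have hfix : lift ((v ≫ fst G X)⁻¹ * (u ≫ fst G X)) (u ≫ snd G X) ≫ a.act = u ≫ snd G X := by
    rw [a.lift_mul_act, hact, ← a.lift_mul_act, inv_mul_cancel]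
    exact a.lift_one_act _
  have h1 := eq_one_of_fix a _ _ hfix
  have hg : u ≫ fst G X = v ≫ fst G X := by
    have := inv_mul_eq_one.mp h1
    exact this.symm
  rw [hu, hv, hg]

end Groth.Agent.Helper18.StabFib
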