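import Groth.Agent.Lib.Helper18.BalFix

/-!
# The part of the global stabilizer over a conjugacy class is a balanced product (helper18)
-/

set_option autoImplicit false
set_option linter.unusedSectionVars false

universe u

open CategoryTheory CategoryTheory.Limits MonoidalCategory CartesianMonoidalCategory MonObj GrpObj AlgebraicGeometry

namespace Groth.Agent.Helper18.StabPart

open Groth.Agent.Helper18.FppfDescHom

variable {S : Scheme.{u}} {G X Z Ψ Xh SΨ : Over S} [GrpObj G] [GrpObj Z]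
  (K : Precoverage Scheme.{u}) [K.IsStableUnderComposition] [K.IsStableUnderBaseChange] [K.HasIsos]
  (a : AlgGrp.Action G X) (h : 𝟙_ (Over S) ⟶ G)
  (i : Z ⟶ G) [IsMonHom i]
  (ψ : Ψ ⟶ G) [Mono ψ] (aΨ : AlgGrp.Action G Ψ)
  (hψ : aΨ.act ≫ ψ = fst G Ψ * (snd G Ψ ≫ ψ) * (fst G Ψ)⁻¹)
  (o : 𝟙_ (Over S) ⟶ Ψ) (ho : o ≫ ψ = h)
  (hhom : ChGrp.IsHomog K i aΨ o)
  (incl : Xh ⟶ X) [Mono incl]
  (hXh : ∀ (T : Over S) (x : T ⟶ X), (∃ y : T ⟶ Xh, y ≫ incl = x) ↔ lift (toUnit T ≫ h) x ≫ a.act = x)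
  (aXh : AlgGrp.Action Z Xh) (hincl : AlgGrp.Action.IsEquivariant aXh (a.restrict i) incl)
  (σ : SΨ ⟶ G ⊗ X) [Mono σ]
  (hSΨ : ∀ (T : Over S) (g : T ⟶ G) (x : T ⟶ X),
    (∃ q : T ⟶ SΨ, q ≫ σ = lift g x) ↔ ((∃ y : T ⟶ Ψ, y ≫ ψ = g) ∧ lift g x ≫ a.act = x))
  (aS : AlgGrp.Action G SΨ)
  (hσ : aS.act ≫ σ = lift (fst G SΨ * (snd G SΨ ≫ σ ≫ fst G X) * (fst G SΨ)⁻¹)
    (lift (fst G SΨ) (snd G SΨ ≫ σ ≫ snd G X) ≫ a.act))
  (Φ : G ⊗ Xh ⟶ SΨ)
  (hΦ : Φ ≫ σ = lift (fst G Xh * (toUnit (G ⊗ Xh) ≫ h) * (fst G Xh)⁻¹)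
    (lift (fst G Xh) (snd G Xh ≫ incl) ≫ a.act))

include hψ in
theorem psi_act {T : Over S} (g : T ⟶ G) (y : T ⟶ Ψ) :
    (lift g y ≫ aΨ.act) ≫ ψ = g * (y ≫ ψ) * g⁻¹ := by
  rw [Category.assoc, hψ, MonObj.comp_mul, MonObj.comp_mul, GrpObj.comp_inv, lift_fst, ← Category.assoc, lift_snd]

include hψ ho in
theorem psi_orbit {T : Over S} (g : T ⟶ G) :
    (g ≫ aΨ.orbitMap o) ≫ ψ = g * (toUnit T ≫ h) * g⁻¹ := by
  rw [AlgGrp.Action.comp_orbitMap, psi_act ψ aΨ hψ, Category.assoc, ho]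

include hΦ in
theorem phi_sigma {T : Over S} (g : T ⟶ G) (x : T ⟶ Xh) :
    (lift g x ≫ Φ) ≫ σ = lift (g * (toUnit T ≫ h) * g⁻¹) (lift g (x ≫ incl) ≫ a.act) := by
  rw [Category.assoc, hΦ]
  have e : lift g x ≫ toUnit (G ⊗ Xh) = toUnit T := toUnit_unique _ _
  simp only [comp_lift, MonObj.comp_mul, GrpObj.comp_inv, lift_fst, lift_snd, lift_fst_assoc, lift_snd_assoc,
    comp_lift_assoc, reassoc_of% e]

include hσ in
theorem aS_sigma {T : Over S} (g : T ⟶ G) (q : T ⟶ SΨ) :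
    (lift g q ≫ aS.act) ≫ σ = lift (g * (q ≫ σ ≫ fst G X) * g⁻¹) (lift g (q ≫ σ ≫ snd G X) ≫ a.act) := by
  rw [Category.assoc, hσ]
  simp only [comp_lift, MonObj.comp_mul, GrpObj.comp_inv, lift_fst, lift_snd, lift_fst_assoc, lift_snd_assoc,
    comp_lift_assoc]

include hincl in
theorem incl_act {T : Over S} (z : T ⟶ Z) (x : T ⟶ Xh) :
    (lift z x ≫ aXh.act) ≫ incl = lift (z ≫ i) (x ≫ incl) ≫ a.act := by
  have h1 : aXh.act ≫ incl = (Z ◁ incl) ≫ (a.restrict i).act := hincl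
  rw [Category.assoc, h1, ← Category.assoc, lift_whiskerLeft, AlgGrp.Action.lift_restrict_act]

include hψ ho hhom in
/-- `Z` centralizes `h` -/
theorem centralizes {T : Over S} (z : T ⟶ Z) :
    (z ≫ i) * (toUnit T ≫ h) * (z ≫ i)⁻¹ = toUnit T ≫ h := by
  have hw := hhom.2.1.w
  have h1 := congrArg (fun k => lift (1 : T ⟶ G) z ≫ k) hw
  simp only [← Category.assoc, lift_fst, lift_whiskerLeft] at h1
  have h2 : lift (1 : T ⟶ G) (z ≫ i) ≫ μ[G] = z ≫ i := by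
    rw [← Hom.mul_def, _root_.one_mul]
  rw [h2] at h1
  have h3 := congrArg (fun k => k ≫ ψ) h1
  simp only [psi_orbit h ψ aΨ hψ o ho] at h3
  rw [← h3]
  group


include hσ hΦ in
theorem equiv_phi :
    AlgGrp.Action.IsEquivariant ((NonAbH1.trivialAction G).prod (AlgGrp.Action.trivial G Xh)) aS Φ := by
  change ((NonAbH1.trivialAction G).prod (AlgGrp.Action.trivial G Xh)).act ≫ Φ = (G ◁ Φ) ≫ aS.act
  apply AlgGrp.Action.hom_ext_lift₂
  intro T g' p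
  have e : p = lift (p ≫ fst G Xh) (p ≫ snd G Xh) := by
    apply CartesianMonoidalCategory.hom_ext <;> simp
  generalize p ≫ fst G Xh = g at e
  generalize p ≫ snd G Xh = x at e
  subst e
  rw [← cancel_mono σ]
  have h1 : lift g' (lift g x) ≫ ((NonAbH1.trivialAction G).prod (AlgGrp.Action.trivial G Xh)).act =
      lift (g' * g) x := by
    rw [AlgGrp.Action.lift_prod_act, AlgGrp.Action.lift_trivial_act]
    congr 1
  rw [← Category.assoc, h1, phi_sigma a h incl σ Φ hΦ, ← Category.assoc, lift_whiskerLeft,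
    aS_sigma a σ aS hσ, ← Category.assoc (lift g x ≫ Φ), ← Category.assoc (lift g x ≫ Φ),
    phi_sigma a h incl σ Φ hΦ, lift_fst, lift_snd, AlgGrp.Action.lift_mul_act]
  congr 1
  group

include hψ ho hhom in
theorem mono_i : Mono i := by
  refine ⟨fun {T} z z' hz => ?_⟩
  have e : lift (1 : T ⟶ G) z = lift (1 : T ⟶ G) z' := by
    apply hhom.2.1.hom_ext
    · simp
    · rw [← Category.assoc, ← Category.assoc, lift_whiskerLeft, lift_whiskerLeft, hz]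
  have := congrArg (fun k => k ≫ snd G Z) e
  simpa using this

include hψ ho hhom hincl hΦ in
theorem isPullback_phi : IsPullback (ChGrp.twist i aXh).act (snd Z (G ⊗ Xh)) Φ Φ := by
  haveI := mono_i K h i ψ aΨ hψ o ho hhom
  have hpt : ∀ {T : Over S} (z : T ⟶ Z) (g : T ⟶ G) (x : T ⟶ Xh),
      lift (g * (z ≫ i)⁻¹) (lift z x ≫ aXh.act) ≫ Φ = lift g x ≫ Φ := by
    intro T z g x
    rw [← cancel_mono σ, phi_sigma a h incl σ Φ hΦ, phi_sigma a h incl σ Φ hΦ,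
      incl_act a i incl aXh hincl, ← AlgGrp.Action.lift_mul_act]
    have hc := centralizes K h i ψ aΨ hψ o ho hhom z
    congr 1
    · calc g * (z ≫ i)⁻¹ * (toUnit T ≫ h) * (g * (z ≫ i)⁻¹)⁻¹
          = g * (z ≫ i)⁻¹ * ((z ≫ i) * (toUnit T ≫ h) * (z ≫ i)⁻¹) * (g * (z ≫ i)⁻¹)⁻¹ := by rw [hc]
        _ = g * (toUnit T ≫ h) * g⁻¹ := by group
    · congr 2
      group
  refine TorsComp.isPullback_of_points _ _ _ _ ?_ ?_ ?_
  · apply AlgGrp.Action.hom_ext_lift₂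
    intro T z p
    have e : p = lift (p ≫ fst G Xh) (p ≫ snd G Xh) := by
      apply CartesianMonoidalCategory.hom_ext <;> simp
    generalize p ≫ fst G Xh = g at e
    generalize p ≫ snd G Xh = x at e
    subst e
    rw [← Category.assoc, ChGrp.lift_twist_act, hpt, ← Category.assoc, lift_snd]
  · intro T p₁ p₂ hp
    have e₁ : p₁ = lift (p₁ ≫ fst G Xh) (p₁ ≫ snd G Xh) := by
      apply CartesianMonoidalCategory.hom_ext <;> simp
    have e₂ : p₂ = lift (p₂ ≫ fst G Xh) (p₂ ≫ snd G Xh) := by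
      apply CartesianMonoidalCategory.hom_ext <;> simp
    generalize p₁ ≫ fst G Xh = g₁ at e₁
    generalize p₁ ≫ snd G Xh = x₁ at e₁
    generalize p₂ ≫ fst G Xh = g₂ at e₂
    generalize p₂ ≫ snd G Xh = x₂ at e₂
    subst e₁ e₂
    have hp' := congrArg (fun k => k ≫ σ) hp
    simp only [phi_sigma a h incl σ Φ hΦ] at hp'
    have hp1 := congrArg (fun k => k ≫ fst G X) hp'
    have hp2 := congrArg (fun k => k ≫ snd G X) hp'
    simp only [lift_fst, lift_snd] at hp1 hp2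
    have horb : g₂ ≫ aΨ.orbitMap o = g₁ ≫ aΨ.orbitMap o := by
      rw [← cancel_mono ψ, psi_orbit h ψ aΨ hψ o ho, psi_orbit h ψ aΨ hψ o ho, hp1]
    obtain ⟨l, hl1, hl2⟩ : ∃ l : T ⟶ G ⊗ Z, l ≫ fst G Z = g₂ ∧ l ≫ (G ◁ i) ≫ μ[G] = g₁ :=
      ⟨hhom.2.1.lift _ _ horb, hhom.2.1.lift_fst _ _ horb, hhom.2.1.lift_snd _ _ horb⟩
    have hl : l = lift g₂ (l ≫ snd G Z) := by
      apply CartesianMonoidalCategory.hom_ext <;> simp [hl1]
    generalize l ≫ snd G Z = z at hl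
    subst hl
    rw [← Category.assoc, lift_whiskerLeft, ← Hom.mul_def] at hl2
    have hx : x₁ = lift z⁻¹ x₂ ≫ aXh.act := by
      rw [← cancel_mono incl, incl_act a i incl aXh hincl]
      have h3 : x₁ ≫ incl = lift (g₁⁻¹ * g₂) (x₂ ≫ incl) ≫ a.act := by
        rw [AlgGrp.Action.lift_mul_act, ← hp2, ← AlgGrp.Action.lift_mul_act, inv_mul_cancel,
          AlgGrp.Action.lift_one_act]
      rw [h3, ← hl2]
      congr 2
      rw [GrpObj.inv_comp]
      group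
    refine ⟨lift z⁻¹ (lift g₂ x₂), ?_, lift_snd _ _⟩
    rw [ChGrp.lift_twist_act, ← hx, GrpObj.inv_comp, _root_.inv_inv, hl2]
  · intro T l l' h1 h2
    have e : l = lift (l ≫ fst Z (G ⊗ Xh)) (l ≫ snd Z (G ⊗ Xh)) := by
      apply CartesianMonoidalCategory.hom_ext <;> simp
    have e' : l' = lift (l' ≫ fst Z (G ⊗ Xh)) (l' ≫ snd Z (G ⊗ Xh)) := by
      apply CartesianMonoidalCategory.hom_ext <;> simp
    rw [← h2] at e'
    generalize l ≫ fst Z (G ⊗ Xh) = z at e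
    generalize l' ≫ fst Z (G ⊗ Xh) = z' at e'
    generalize l ≫ snd Z (G ⊗ Xh) = p at e e'
    have ep : p = lift (p ≫ fst G Xh) (p ≫ snd G Xh) := by
      apply CartesianMonoidalCategory.hom_ext <;> simp
    generalize p ≫ fst G Xh = g at ep
    generalize p ≫ snd G Xh = x at ep
    subst ep
    subst e e'
    rw [ChGrp.lift_twist_act, ChGrp.lift_twist_act] at h1
    have h3 := congrArg (fun k => k ≫ fst G Xh) h1
    simp only [lift_fst] at h3
    have h4 : z ≫ i = z' ≫ i := by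
      have := mul_left_cancel h3
      exact inv_injective this
    rw [(cancel_mono i).mp h4]


include hψ ho hhom hXh hSΨ hΦ in
theorem secSieve_phi : secSieve Φ ∈ QuotSh.J K S SΨ := by
  obtain ⟨⟨y, hy⟩, hfixσ⟩ := (hSΨ SΨ (σ ≫ fst G X) (σ ≫ snd G X)).mp ⟨𝟙 SΨ, by
    rw [Category.id_comp]
    apply CartesianMonoidalCategory.hom_ext <;> simp⟩
  have horb : secSieve (aΨ.orbitMap o) ∈ QuotSh.J K S Ψ := DescHomK.secSieve_mem_of_loc K _ hhom.2.2
  refine (QuotSh.J K S).superset_covering ?_ ((QuotSh.J K S).pullback_stable y horb)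
  rintro V t ⟨s, hs⟩
  have hg : s * (toUnit V ≫ h) * s⁻¹ = t ≫ σ ≫ fst G X := by
    rw [← psi_orbit h ψ aΨ hψ o ho, hs, Category.assoc, hy]
  have hfix : lift (t ≫ σ ≫ fst G X) (t ≫ σ ≫ snd G X) ≫ a.act = t ≫ σ ≫ snd G X := by
    have := congrArg (fun k => t ≫ k) hfixσ
    simpa only [comp_lift_assoc] using this
  have hx' : lift (toUnit V ≫ h) (lift s⁻¹ (t ≫ σ ≫ snd G X) ≫ a.act) ≫ a.act =
      lift s⁻¹ (t ≫ σ ≫ snd G X) ≫ a.act := by
    rw [← AlgGrp.Action.lift_mul_act]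
    have e : (toUnit V ≫ h) * s⁻¹ = s⁻¹ * (t ≫ σ ≫ fst G X) := by
      rw [← hg]
      group
    rw [e, AlgGrp.Action.lift_mul_act, hfix]
  obtain ⟨x₀, hx₀⟩ := (hXh V _).mpr hx'
  refine ⟨lift s x₀, ?_⟩
  rw [← cancel_mono σ, phi_sigma a h incl σ Φ hΦ, hx₀, ← AlgGrp.Action.lift_mul_act, mul_inv_cancel,
    AlgGrp.Action.lift_one_act, hg]
  apply CartesianMonoidalCategory.hom_ext <;> simp

include hψ ho hhom hXh hincl hSΨ hσ hΦ in
theorem isBalProd : ChGrp.IsBalProd K i aXh aS Φ :=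
  ⟨equiv_phi a h incl σ aS hσ Φ hΦ, isPullback_phi K a h i ψ aΨ hψ o ho hhom incl aXh hincl σ Φ hΦ,
    DescHomK.loc_of_secSieve_mem K Φ (secSieve_phi K a h i ψ aΨ hψ o ho hhom incl hXh σ hSΨ Φ hΦ)⟩

end Groth.Agent.Helper18.StabPart
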