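import Mathlib
import Groth.Prelude.Def_ChGrp
import Groth.Prelude.Def_GLinSh
import Groth.Agent.Lib.Helper18.QuotOrbCl3

/-!
# Points of stabilisers of geometric points (helper18)
-/

set_option autoImplicit false
set_option linter.style.haveILetI false
set_option linter.unusedSectionVars false
universe u
open CategoryTheory CategoryTheory.Limits MonoidalCategory CartesianMonoidalCategory MonObj GrpObj
  AlgebraicGeometry

noncomputable section

namespace Groth.Agent.Helper18.StabQuot

/-- finiteness over a field is finiteness of the underlying set -/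
theorem isFinite_iff_finite {Z T : Scheme.{u}} (p : Z ⟶ T) [LocallyOfFiniteType p] [QuasiCompact p]
    (Ω : Type u) [Field Ω] (e : T ≅ Spec (CommRingCat.of Ω)) : IsFinite p ↔ Finite Z := by
  haveI : IsLocallyArtinian (Spec (CommRingCat.of Ω)) :=
    Scheme.isLocallyArtinianScheme_Spec.mpr (inferInstanceAs (IsArtinianRing Ω))
  haveI : IsLocallyArtinian T := IsLocallyArtinian.of_isImmersion e.hom
  haveI : Finite T := by
    haveI : Finite (Spec (CommRingCat.of Ω)) :=
      inferInstanceAs (Finite (PrimeSpectrum Ω))
    exact Finite.of_injective e.hom.base e.hom.homeomorph.injective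
  constructor
  · intro h
    have hfin : ∀ t : T, (p.base ⁻¹' {t}).Finite := fun t => p.finite_preimage_singleton t
    have : (Set.univ : Set Z) = ⋃ t : T, p.base ⁻¹' {t} := by
      ext z; simp
    rw [← Set.finite_univ_iff, this]
    exact Set.finite_iUnion hfin
  · intro h
    haveI : LocallyQuasiFinite p :=
      LocallyQuasiFinite.of_finite_preimage_singleton p (fun x => Set.toFinite _)
    exact IsFinite.of_locallyQuasiFinite p

variable {S : Scheme.{u}} {G X T : Over S} [GrpObj G] (a : AlgGrp.Action G X) (x : T ⟶ X)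

/-- first projection of the stabiliser, with the domain folded -/
def fstS : GLinSh.stab a x ⟶ (G ⊗ T).left :=
  pullback.fst (GIT.psi a x).left (lift x (𝟙 T)).left

theorem condS : fstS a x ≫ (GIT.psi a x).left = GLinSh.stabTo a x ≫ (lift x (𝟙 T)).left :=
  pullback.condition

/-- a point of the stabiliser from a group point fixing `x` -/
def mk {R : Over S} (h : R ⟶ G) (t : R ⟶ T) (hfix : lift h (t ≫ x) ≫ a.act = t ≫ x) :
    R.left ⟶ GLinSh.stab a x :=
  pullback.lift (lift h t).left t.left (by
    rw [← Over.comp_left, ← Over.comp_left, QuotOrbCl.lift_psi, hfix, comp_lift, Category.comp_id])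

theorem mk_fst {R : Over S} (h : R ⟶ G) (t : R ⟶ T) (hfix : lift h (t ≫ x) ≫ a.act = t ≫ x) :
    mk a x h t hfix ≫ fstS a x = (lift h t).left :=
  pullback.lift_fst _ _ _

theorem mk_snd {R : Over S} (h : R ⟶ G) (t : R ⟶ T) (hfix : lift h (t ≫ x) ≫ a.act = t ≫ x) :
    mk a x h t hfix ≫ GLinSh.stabTo a x = t.left :=
  pullback.lift_snd _ _ _

/-- the stabiliser as an object over `S` -/
def U : Over S := Over.mk (GLinSh.stabTo a x ≫ T.hom)

/-- the universal `T`-point -/
def uT : U a x ⟶ T := Over.homMk (GLinSh.stabTo a x) rfl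

theorem fstS_snd : fstS a x ≫ (snd G T).left = GLinSh.stabTo a x := by
  have h1 : (GIT.psi a x).left ≫ (snd X T).left = (snd G T).left := by
    rw [← Over.comp_left]
    unfold GIT.psi
    rw [lift_snd]
  have h2 : (lift x (𝟙 T)).left ≫ (snd X T).left = 𝟙 _ := by
    rw [← Over.comp_left, lift_snd]
    rfl
  rw [← h1, ← Category.assoc, condS, Category.assoc, h2, Category.comp_id]

/-- the universal point of `G ⊗ T` -/
def uGT : U a x ⟶ G ⊗ T :=
  Over.homMk (fstS a x) (by
    change _ ≫ (G ⊗ T).hom = GLinSh.stabTo a x ≫ T.hom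
    rw [← Over.w (snd G T), ← Category.assoc, fstS_snd])

/-- the universal group point -/
def uG : U a x ⟶ G := uGT a x ≫ fst G T

theorem uGT_snd : uGT a x ≫ snd G T = uT a x := by
  apply Over.OverMorphism.ext
  exact fstS_snd a x

theorem uGT_eq : uGT a x = lift (uG a x) (uT a x) := by
  apply CartesianMonoidalCategory.hom_ext
  · rw [lift_fst]; rfl
  · rw [lift_snd, uGT_snd]

theorem uGT_psi : uGT a x ≫ GIT.psi a x = uT a x ≫ lift x (𝟙 T) := by
  apply Over.OverMorphism.ext
  exact condS a x

theorem ufix : lift (uG a x) (uT a x ≫ x) ≫ a.act = uT a x ≫ x := by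
  have h := uGT_psi a x
  rw [uGT_eq, QuotOrbCl.lift_psi, comp_lift, Category.comp_id] at h
  have := congrArg (· ≫ fst X T) h
  simpa using this

/-- morphisms into the stabiliser are determined by their components -/
theorem hom_ext {R : Scheme.{u}} (r r' : R ⟶ GLinSh.stab a x)
    (h1 : r ≫ fstS a x = r' ≫ fstS a x) : r = r' := by
  apply pullback.hom_ext h1
  have := congrArg (· ≫ (snd G T).left) h1
  simp only [Category.assoc] at this
  rw [fstS_snd] at this
  exact this

end Groth.Agent.Helper18.StabQuot
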