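import Mathlib
import Groth.Prelude.Def_ChGrp
import Groth.Prelude.Def_GLinSh
import Groth.Agent.Lib.Helper18.StabQuot1

/-!
# Universal property of stabilisers of points, finiteness conditions (helper18)
-/

set_option autoImplicit false
set_option linter.style.haveILetI false
set_option linter.unusedSectionVars false
universe u
open CategoryTheory CategoryTheory.Limits MonoidalCategory CartesianMonoidalCategory MonObj GrpObj
  AlgebraicGeometry

noncomputable section

namespace Groth.Agent.Helper18.StabQuot

variable {S : Scheme.{u}} {G X T : Over S} [GrpObj G] (a : AlgGrp.Action G X) (x : T ⟶ X)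

/-- the lift into the stabiliser as a morphism over `S` -/
def lift' {R : Over S} (h : R ⟶ G) (t : R ⟶ T) (hfix : lift h (t ≫ x) ≫ a.act = t ≫ x) :
    R ⟶ U a x :=
  Over.homMk (mk a x h t hfix) (by
    change _ ≫ GLinSh.stabTo a x ≫ T.hom = R.hom
    rw [← Category.assoc, mk_snd, Over.w])

theorem lift'_uT {R : Over S} (h : R ⟶ G) (t : R ⟶ T) (hfix : lift h (t ≫ x) ≫ a.act = t ≫ x) :
    lift' a x h t hfix ≫ uT a x = t :=
  Over.OverMorphism.ext (mk_snd a x h t hfix)

theorem lift'_uGT {R : Over S} (h : R ⟶ G) (t : R ⟶ T) (hfix : lift h (t ≫ x) ≫ a.act = t ≫ x) :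
    lift' a x h t hfix ≫ uGT a x = lift h t :=
  Over.OverMorphism.ext (mk_fst a x h t hfix)

theorem lift'_uG {R : Over S} (h : R ⟶ G) (t : R ⟶ T) (hfix : lift h (t ≫ x) ≫ a.act = t ≫ x) :
    lift' a x h t hfix ≫ uG a x = h := by
  unfold uG
  rw [← Category.assoc, lift'_uGT, lift_fst]

theorem U_ext {R : Over S} (r r' : R ⟶ U a x) (h1 : r ≫ uG a x = r' ≫ uG a x)
    (h2 : r ≫ uT a x = r' ≫ uT a x) : r = r' := by
  apply Over.OverMorphism.ext
  apply hom_ext a x
  have : r ≫ uGT a x = r' ≫ uGT a x := by
    rw [uGT_eq, comp_lift, comp_lift, h1, h2]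
  exact congrArg CommaMorphism.left this

/-- the inverse of a group point fixing `v` fixes `v` -/
theorem inv_fix {R : Over S} (h : R ⟶ G) (v : R ⟶ X) (hfix : lift h v ≫ a.act = v) :
    lift h⁻¹ v ≫ a.act = v := by
  conv_lhs => rw [← hfix]
  rw [← AlgGrp.Action.lift_mul_act, inv_mul_cancel, AlgGrp.Action.lift_one_act]

/-- the product of two group points fixing `v` fixes `v` -/
theorem mul_fix {R : Over S} (h h' : R ⟶ G) (v : R ⟶ X) (hfix : lift h v ≫ a.act = v)
    (hfix' : lift h' v ≫ a.act = v) : lift (h * h') v ≫ a.act = v := by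
  rw [AlgGrp.Action.lift_mul_act, hfix', hfix]

theorem snd_lft [LocallyOfFiniteType G.hom] : LocallyOfFiniteType (snd G T).left := by
  rw [Over.snd_left]
  infer_instance

theorem snd_qc [QuasiCompact G.hom] : QuasiCompact (snd G T).left := by
  rw [Over.snd_left]
  infer_instance

theorem psi_snd : (GIT.psi a x).left ≫ (snd X T).left = (snd G T).left := by
  rw [← Over.comp_left]
  unfold GIT.psi
  rw [lift_snd]

theorem stabTo_lft [LocallyOfFiniteType G.hom] : LocallyOfFiniteType (GLinSh.stabTo a x) := by
  haveI : LocallyOfFiniteType ((GIT.psi a x).left ≫ (snd X T).left) := by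
    rw [psi_snd]; exact snd_lft
  haveI : LocallyOfFiniteType (GIT.psi a x).left :=
    locallyOfFiniteType_of_comp (GIT.psi a x).left (snd X T).left
  change LocallyOfFiniteType (pullback.snd (GIT.psi a x).left (lift x (𝟙 T)).left)
  infer_instance

theorem stabTo_qc [QuasiCompact G.hom] [QuasiSeparated X.hom] :
    QuasiCompact (GLinSh.stabTo a x) := by
  haveI : QuasiCompact ((GIT.psi a x).left ≫ (snd X T).left) := by
    rw [psi_snd]; exact snd_qc
  haveI : QuasiSeparated (snd X T).left := by
    rw [Over.snd_left]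
    infer_instance
  haveI : QuasiCompact (GIT.psi a x).left :=
    QuasiCompact.of_comp (GIT.psi a x).left (snd X T).left
  change QuasiCompact (pullback.snd (GIT.psi a x).left (lift x (𝟙 T)).left)
  infer_instance

end Groth.Agent.Helper18.StabQuot
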