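import Mathlib
import Groth.Prelude.Def_ChGrp
import Groth.Prelude.Def_GLinSh
import Groth.Agent.Lib.Helper18.StabQuot2

/-!
# The map of stabilisers induced by a quotient of groups is surjective (helper18)
-/

set_option autoImplicit false
set_option linter.style.haveILetI false
set_option linter.unusedSectionVars false
universe u
open CategoryTheory CategoryTheory.Limits MonoidalCategory CartesianMonoidalCategory MonObj GrpObj
  AlgebraicGeometry

noncomputable section

namespace Groth.Agent.Helper18.StabQuot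

variable {S : Scheme.{u}} {H N Q X Y T : Over S} [GrpObj H] [GrpObj N] [GrpObj Q]
  (i : N ⟶ H) [IsMonHom i] (q : H ⟶ Q) [IsMonHom q]
  (a : AlgGrp.Action H X) (aN : AlgGrp.Action N X)
  (π : X ⟶ Y) (aQ : AlgGrp.Action Q Y) (x : T ⟶ X)

/-- equivariance on points -/
theorem act_equiv (hequiv : (q ⊗ₘ π) ≫ aQ.act = a.act ≫ π) {R : Over S} (h : R ⟶ H) (v : R ⟶ X) :
    lift (h ≫ q) (v ≫ π) ≫ aQ.act = (lift h v ≫ a.act) ≫ π := by
  rw [Category.assoc, ← hequiv, ← Category.assoc, lift_map]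

/-- restriction of the action on points -/
theorem act_restrict (haN : aN.act = (i ▷ X) ≫ a.act) {R : Over S} (n : R ⟶ N) (v : R ⟶ X) :
    lift n v ≫ aN.act = lift (n ≫ i) v ≫ a.act := by
  rw [haN, ← Category.assoc, lift_whiskerRight]

/-- the induced map of stabilisers -/
def sMap (hequiv : (q ⊗ₘ π) ≫ aQ.act = a.act ≫ π) : U a x ⟶ U aQ (x ≫ π) :=
  lift' aQ (x ≫ π) (uG a x ≫ q) (uT a x) (by
    rw [← Category.assoc (uT a x), act_equiv q a π aQ hequiv, ufix, Category.assoc])

theorem sMap_uG (hequiv : (q ⊗ₘ π) ≫ aQ.act = a.act ≫ π) :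
    sMap q a π aQ x hequiv ≫ uG aQ (x ≫ π) = uG a x ≫ q := lift'_uG _ _ _ _ _

theorem sMap_uT (hequiv : (q ⊗ₘ π) ≫ aQ.act = a.act ≫ π) :
    sMap q a π aQ x hequiv ≫ uT aQ (x ≫ π) = uT a x := lift'_uT _ _ _ _ _

theorem sMap_surjective (hequiv : (q ⊗ₘ π) ≫ aQ.act = a.act ≫ π)
    (hiq : i ≫ q = toUnit N ≫ η[Q]) (haN : aN.act = (i ▷ X) ≫ a.act) [Surjective q.left]
    (hinv : GIT.IsInvariant aN π) (horb : Function.Surjective (GIT.PsiY aN π hinv).base) :
    Function.Surjective (sMap q a π aQ x hequiv).left.base := by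
  let R₀ : Over S := U aQ (x ≫ π)
  let g : R₀ ⟶ Q := uG aQ (x ≫ π)
  let t : R₀ ⟶ T := uT aQ (x ≫ π)
  have hg : lift g (t ≫ x ≫ π) ≫ aQ.act = t ≫ x ≫ π := ufix aQ (x ≫ π)
  let R₁ : Over S := Over.mk (pullback.fst g.left q.left ≫ R₀.hom)
  let p : R₁ ⟶ R₀ := Over.homMk (pullback.fst g.left q.left) rfl
  let h₁ : R₁ ⟶ H := Over.homMk (pullback.snd g.left q.left) (by
    change pullback.snd g.left q.left ≫ H.hom = pullback.fst g.left q.left ≫ R₀.hom
    rw [← Over.w q, ← Category.assoc, ← pullback.condition, Category.assoc, Over.w g])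
  have hh₁ : h₁ ≫ q = p ≫ g := Over.OverMorphism.ext pullback.condition.symm
  let x' : R₁ ⟶ X := p ≫ t ≫ x
  have hx' : (lift h₁ x' ≫ a.act) ≫ π = x' ≫ π := by
    rw [← act_equiv q a π aQ hequiv, hh₁]
    have h1 : lift (p ≫ g) (x' ≫ π) = p ≫ lift g (t ≫ x ≫ π) := by
      rw [comp_lift]; simp only [x', Category.assoc]
    rw [h1, Category.assoc, hg]
    simp only [x', Category.assoc]
  let c : R₁.left ⟶ pullback π.left π.left :=
    pullback.lift (lift h₁ x' ≫ a.act).left x'.left (by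
      rw [← Over.comp_left, ← Over.comp_left, hx'])
  haveI : Surjective (GIT.PsiY aN π hinv) := ⟨horb⟩
  let R₂ : Over S := Over.mk (pullback.fst c (GIT.PsiY aN π hinv) ≫ R₁.hom)
  let p₂ : R₂ ⟶ R₁ := Over.homMk (pullback.fst c (GIT.PsiY aN π hinv)) rfl
  have hc2 : pullback.snd c (GIT.PsiY aN π hinv) ≫ (snd N X).left =
      pullback.fst c (GIT.PsiY aN π hinv) ≫ x'.left := by
    have := congrArg (· ≫ pullback.snd π.left π.left)
      (pullback.condition (f := c) (g := GIT.PsiY aN π hinv))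
    simp only [Category.assoc] at this
    rw [show c ≫ pullback.snd π.left π.left = x'.left from pullback.lift_snd _ _ _,
      show GIT.PsiY aN π hinv ≫ pullback.snd π.left π.left = (snd N X).left from
        pullback.lift_snd _ _ _] at this
    exact this.symm
  have hc1 : pullback.snd c (GIT.PsiY aN π hinv) ≫ aN.act.left =
      pullback.fst c (GIT.PsiY aN π hinv) ≫ (lift h₁ x' ≫ a.act).left := by
    have := congrArg (· ≫ pullback.fst π.left π.left)
      (pullback.condition (f := c) (g := GIT.PsiY aN π hinv))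
    simp only [Category.assoc] at this
    rw [show c ≫ pullback.fst π.left π.left = (lift h₁ x' ≫ a.act).left from
        pullback.lift_fst _ _ _,
      show GIT.PsiY aN π hinv ≫ pullback.fst π.left π.left = aN.act.left from
        pullback.lift_fst _ _ _] at this
    exact this.symm
  let nx : R₂ ⟶ N ⊗ X := Over.homMk (pullback.snd c (GIT.PsiY aN π hinv)) (by
    change _ ≫ (N ⊗ X).hom = pullback.fst c (GIT.PsiY aN π hinv) ≫ R₁.hom
    rw [← Over.w (snd N X), ← Category.assoc, hc2, Category.assoc, Over.w x'])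
  have hnx1 : nx ≫ aN.act = p₂ ≫ (lift h₁ x' ≫ a.act) := Over.OverMorphism.ext hc1
  have hnx2 : nx ≫ snd N X = p₂ ≫ x' := Over.OverMorphism.ext hc2
  let n : R₂ ⟶ N := nx ≫ fst N X
  let v : R₂ ⟶ X := p₂ ≫ x'
  have hnxe : nx = lift n v := by
    apply CartesianMonoidalCategory.hom_ext
    · rw [lift_fst]
    · rw [lift_snd, hnx2]
  have hkey : lift (n ≫ i) v ≫ a.act = lift (p₂ ≫ h₁) v ≫ a.act := by
    rw [← act_restrict i a aN haN, ← hnxe, hnx1, ← Category.assoc, comp_lift]
  have hfix : lift ((n⁻¹ ≫ i) * (p₂ ≫ h₁)) v ≫ a.act = v := by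
    rw [AlgGrp.Action.lift_mul_act, ← hkey, ← AlgGrp.Action.lift_mul_act, ← MonObj.mul_comp,
      inv_mul_cancel, MonObj.one_comp, AlgGrp.Action.lift_one_act]
  let z' : R₂ ⟶ U a x := lift' a x ((n⁻¹ ≫ i) * (p₂ ≫ h₁)) (p₂ ≫ p ≫ t) (by
    simpa only [v, x', Category.assoc] using hfix)
  have hz' : z' ≫ sMap q a π aQ x hequiv = p₂ ≫ p := by
    apply U_ext
    · rw [Category.assoc, sMap_uG, ← Category.assoc, lift'_uG, MonObj.mul_comp, Category.assoc,
        hiq, Category.assoc, hh₁]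
      have h1 : n⁻¹ ≫ toUnit N ≫ η[Q] = 1 := by
        rw [← Category.assoc, toUnit_unique (n⁻¹ ≫ toUnit N) (toUnit R₂), ← Hom.one_def]
      rw [h1, _root_.one_mul, Category.assoc]
    · rw [Category.assoc, sMap_uT, lift'_uT, Category.assoc]
  intro w
  obtain ⟨r₁, hr₁⟩ := (inferInstance : Surjective (pullback.fst g.left q.left)).surj w
  obtain ⟨r₂, hr₂⟩ := (inferInstance : Surjective (pullback.fst c (GIT.PsiY aN π hinv))).surj r₁
  refine ⟨z'.left.base r₂, ?_⟩
  have := congrArg (fun f => f.left.base r₂) hz'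
  simp only [Over.comp_left, Scheme.Hom.comp_base, TopCat.comp_app] at this
  rw [this]
  change (pullback.fst g.left q.left).base ((pullback.fst c (GIT.PsiY aN π hinv)).base r₂) = w
  rw [hr₂, hr₁]

end Groth.Agent.Helper18.StabQuot
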