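import Mathlib
import Groth.Prelude.Def_ChGrp
import Groth.Prelude.Def_GLinSh
import Groth.Agent.Lib.Helper18.StabQuot3

/-!
# The map of stabilisers induced by a quotient of groups has finite fibres (helper18)
-/

set_option autoImplicit false
set_option linter.style.haveILetI false
set_option linter.unusedSectionVars false
universe u
open CategoryTheory CategoryTheory.Limits MonoidalCategory CartesianMonoidalCategory MonObj GrpObj
  AlgebraicGeometry

noncomputable section

namespace Groth.Agent.Helper18.StabQuot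

variable {S : Scheme.{u}} {H N Q X Y T : Over S} [GrpObj H] [GrpObj N] [GrpObj Q]
  (i : N ⟶ H) [IsMonHom i] (q : H ⟶ Q) [IsMonHom q]
  (a : AlgGrp.Action H X) (aN : AlgGrp.Action N X)
  (π : X ⟶ Y) (aQ : AlgGrp.Action Q Y) (x : T ⟶ X)

theorem comp_ufix {G : Over S} [GrpObj G] (a : AlgGrp.Action G X) (x : T ⟶ X) {R : Over S}
    (r : R ⟶ U a x) :
    lift (r ≫ uG a x) ((r ≫ uT a x) ≫ x) ≫ a.act = (r ≫ uT a x) ≫ x := by
  calc lift (r ≫ uG a x) ((r ≫ uT a x) ≫ x) ≫ a.act
      = r ≫ (lift (uG a x) (uT a x ≫ x) ≫ a.act) := by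
        rw [← Category.assoc, comp_lift, Category.assoc]
    _ = (r ≫ uT a x) ≫ x := by rw [ufix, Category.assoc]

theorem sMap_finite_fibres (hequiv : (q ⊗ₘ π) ≫ aQ.act = a.act ≫ π)
    (hker : AlgGrp.IsKernel i q) (haN : aN.act = (i ▷ X) ≫ a.act)
    [IsFinite (GLinSh.stabTo aN x)] (h₀ : (U a x).left) :
    ((sMap q a π aQ x hequiv).left.base ⁻¹' {(sMap q a π aQ x hequiv).left.base h₀}).Finite := by
  let s := sMap q a π aQ x hequiv
  let p₁ : pullback s.left s.left ⟶ (U a x).left := pullback.fst s.left s.left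
  let p₂ : pullback s.left s.left ⟶ (U a x).left := pullback.snd s.left s.left
  let WO : Over S := Over.mk (p₁ ≫ (U a x).hom)
  let P₁ : WO ⟶ U a x := Over.homMk p₁ rfl
  let P₂ : WO ⟶ U a x := Over.homMk p₂ (by
    change p₂ ≫ (U a x).hom = p₁ ≫ (U a x).hom
    rw [← Over.w s, ← Category.assoc, ← pullback.condition, Category.assoc])
  have hP : P₁ ≫ s = P₂ ≫ s := Over.OverMorphism.ext pullback.condition
  let h₁ : WO ⟶ H := P₁ ≫ uG a x
  let h₂ : WO ⟶ H := P₂ ≫ uG a x
  let tt : WO ⟶ T := P₁ ≫ uT a x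
  have htt : P₂ ≫ uT a x = tt := by
    rw [← sMap_uT q a π aQ x hequiv, ← Category.assoc, ← hP, Category.assoc, sMap_uT]
  have hq12 : h₁ ≫ q = h₂ ≫ q := by
    simp only [h₁, h₂, Category.assoc]
    rw [← sMap_uG q a π aQ x hequiv, ← Category.assoc, hP, Category.assoc]
  have hq : (h₁ * h₂⁻¹) ≫ q = toUnit WO ≫ η[Q] := by
    rw [MonObj.mul_comp, GrpObj.inv_comp, hq12, mul_inv_cancel, Hom.one_def]
  let n : WO ⟶ N := hker.lift (h₁ * h₂⁻¹) (toUnit WO) hq
  have hn : n ≫ i = h₁ * h₂⁻¹ := hker.lift_fst _ _ _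
  have hfix1 : lift h₁ (tt ≫ x) ≫ a.act = tt ≫ x := comp_ufix a x P₁
  have hfix2 : lift h₂ (tt ≫ x) ≫ a.act = tt ≫ x := by
    rw [← htt]
    exact comp_ufix a x P₂
  have hfixn : lift n (tt ≫ x) ≫ aN.act = tt ≫ x := by
    rw [act_restrict i a aN haN, hn]
    exact mul_fix a _ _ _ hfix1 (inv_fix a _ _ hfix2)
  let nF : WO ⟶ U aN x := lift' aN x n tt hfixn
  let FZO : Over S :=
    Over.mk (pullback.snd (GLinSh.stabTo aN x) (GLinSh.stabTo a x) ≫ (U a x).hom)
  let f₁ : FZO ⟶ U aN x := Over.homMk (pullback.fst (GLinSh.stabTo aN x) (GLinSh.stabTo a x)) (by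
    change _ ≫ GLinSh.stabTo aN x ≫ T.hom = _ ≫ GLinSh.stabTo a x ≫ T.hom
    rw [← Category.assoc, pullback.condition, Category.assoc])
  let f₂ : FZO ⟶ U a x :=
    Over.homMk (pullback.snd (GLinSh.stabTo aN x) (GLinSh.stabTo a x)) rfl
  have hf12 : f₁ ≫ uT aN x = f₂ ≫ uT a x := Over.OverMorphism.ext pullback.condition
  let m : FZO ⟶ U a x := lift' a x ((f₁ ≫ uG aN x ≫ i) * (f₂ ≫ uG a x)) (f₂ ≫ uT a x) (by
    apply mul_fix
    · rw [← hf12, ← Category.assoc f₁, ← act_restrict i a aN haN]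
      exact comp_ufix aN x f₁
    · exact comp_ufix a x f₂)
  let M' : WO ⟶ FZO := Over.homMk (pullback.lift nF.left p₂ (by
    have e1 : nF.left ≫ GLinSh.stabTo aN x = tt.left :=
      congrArg CommaMorphism.left (lift'_uT aN x n tt hfixn)
    have e2 : p₂ ≫ GLinSh.stabTo a x = tt.left := congrArg CommaMorphism.left htt
    exact e1.trans e2.symm)) (by
    change pullback.lift _ _ _ ≫ pullback.snd _ _ ≫ (U a x).hom = p₁ ≫ (U a x).hom
    rw [← Category.assoc, pullback.lift_snd]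
    exact Over.w P₂)
  have hM1 : M' ≫ f₁ = nF := Over.OverMorphism.ext (pullback.lift_fst _ _ _)
  have hM2 : M' ≫ f₂ = P₂ := Over.OverMorphism.ext (pullback.lift_snd _ _ _)
  have hMm : M' ≫ m = P₁ := by
    apply U_ext
    · have e1 : M' ≫ f₁ ≫ uG aN x ≫ i = h₁ * h₂⁻¹ := by
        rw [← Category.assoc, hM1, ← Category.assoc, lift'_uG, hn]
      have e2 : M' ≫ f₂ ≫ uG a x = h₂ := by rw [← Category.assoc, hM2]
      rw [Category.assoc, lift'_uG, MonObj.comp_mul, e1, e2, inv_mul_cancel_right]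
    · rw [Category.assoc, lift'_uT, ← Category.assoc, hM2, htt]
  haveI hlq : LocallyQuasiFinite (GLinSh.stabTo aN x) := inferInstance
  haveI hqc : QuasiCompact (GLinSh.stabTo aN x) := inferInstance
  haveI : LocallyQuasiFinite (pullback.snd (GLinSh.stabTo aN x) (GLinSh.stabTo a x)) :=
    MorphismProperty.pullback_snd _ _ hlq
  haveI : QuasiCompact (pullback.snd (GLinSh.stabTo aN x) (GLinSh.stabTo a x)) :=
    MorphismProperty.pullback_snd _ _ hqc
  have hfin : ((pullback.snd (GLinSh.stabTo aN x) (GLinSh.stabTo a x)).base ⁻¹'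
      {(h₀ : ↥(GLinSh.stab a x))}).Finite :=
    Scheme.Hom.finite_preimage_singleton
      (pullback.snd (GLinSh.stabTo aN x) (GLinSh.stabTo a x)) (h₀ : ↥(GLinSh.stab a x))
  refine (hfin.image m.left.base).subset ?_
  intro h₁' hh
  obtain ⟨w, hw1, hw2⟩ := Scheme.Pullback.exists_preimage_pullback (f := s.left) (g := s.left)
    h₁' h₀ hh
  refine ⟨M'.left.base w, ?_, ?_⟩
  · have := congrArg (fun f => f.left.base w) hM2
    simp only [Over.comp_left, Scheme.Hom.comp_base, TopCat.comp_app] at this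
    exact this.trans hw2
  · have := congrArg (fun f => f.left.base w) hMm
    simp only [Over.comp_left, Scheme.Hom.comp_base, TopCat.comp_app] at this
    exact this.trans hw1

end Groth.Agent.Helper18.StabQuot
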