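import Mathlib
import Groth.Prelude.Def_ChGrp
import Groth.Prelude.Def_GLinSh
import Groth.Agent.Lib.Helper18.StabQuot4
import Groth.Agent.Lib.Helper18.QuotOrbCl5

/-!
# Stabilisers for free actions, finiteness over a field without separatedness (helper18)
-/

set_option autoImplicit false
set_option linter.style.haveILetI false
set_option linter.unusedSectionVars false
universe u
open CategoryTheory CategoryTheory.Limits MonoidalCategory CartesianMonoidalCategory MonObj GrpObj
  AlgebraicGeometry

noncomputable section

namespace Groth.Agent.Helper18.StabQuot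

/-- a finite morphism to the spectrum of a field has a finite source -/
theorem finite_of_isFinite {Z T : Scheme.{u}} (p : Z ⟶ T) [IsFinite p]
    (Ω : Type u) [Field Ω] (e : T ≅ Spec (CommRingCat.of Ω)) : Finite Z := by
  haveI : Finite T := by
    haveI : Finite (Spec (CommRingCat.of Ω)) :=
      inferInstanceAs (Finite (PrimeSpectrum Ω))
    exact Finite.of_injective e.hom.base e.hom.homeomorph.injective
  have hfin : ∀ t : T, (p.base ⁻¹' {t}).Finite := fun t => p.finite_preimage_singleton t
  have : (Set.univ : Set Z) = ⋃ t : T, p.base ⁻¹' {t} := by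
    ext z; simp
  rw [← Set.finite_univ_iff, this]
  exact Set.finite_iUnion hfin

/-- a morphism locally of finite type from a finite scheme to the spectrum of a field is finite -/
theorem isFinite_of_finite {Z T : Scheme.{u}} (p : Z ⟶ T) [LocallyOfFiniteType p]
    (Ω : Type u) [Field Ω] (e : T ≅ Spec (CommRingCat.of Ω)) [Finite Z] : IsFinite p := by
  haveI : IsAffine T := IsAffine.of_isIso e.hom
  haveI : CompactSpace Z := inferInstance
  haveI : QuasiCompact p := inferInstance
  exact (isFinite_iff_finite p Ω e).mpr inferInstance

variable {S : Scheme.{u}} {G X Y T : Over S} [GrpObj G] (a : AlgGrp.Action G X)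

/-- freeness on points from a cartesian action square -/
theorem act_cancel_of_isPullback (φ : X ⟶ Y) (hcart : IsPullback a.act (snd G X) φ φ)
    {R : Over S} (g g' : R ⟶ G) (x : R ⟶ X)
    (h : lift g x ≫ a.act = lift g' x ≫ a.act) : g = g' := by
  have e : lift g x = lift g' x := hcart.hom_ext h (by rw [lift_snd, lift_snd])
  have := congrArg (· ≫ fst G X) e
  simpa using this

/-- the stabiliser of a point under a free action is trivial -/
theorem isIso_stabTo_of_free (x : T ⟶ X)
    (hfree : ∀ {R : Over S} (g g' : R ⟶ G) (v : R ⟶ X),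
      lift g v ≫ a.act = lift g' v ≫ a.act → g = g') : IsIso (GLinSh.stabTo a x) := by
  have h1 : lift (1 : T ⟶ G) (𝟙 T ≫ x) ≫ a.act = 𝟙 T ≫ x := AlgGrp.Action.lift_one_act a _
  let s : T ⟶ U a x := lift' a x 1 (𝟙 T) h1
  have hs : s ≫ uT a x = 𝟙 T := lift'_uT a x _ _ _
  have huG : uG a x = 1 := by
    apply hfree (uG a x) 1 (uT a x ≫ x)
    rw [ufix, AlgGrp.Action.lift_one_act]
  have hs' : uT a x ≫ s = 𝟙 (U a x) := by
    apply U_ext
    · rw [Category.assoc, lift'_uG, Category.id_comp, huG, MonObj.comp_one]
    · rw [Category.assoc, hs, Category.comp_id, Category.id_comp]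
  refine ⟨s.left, ?_, ?_⟩
  · exact congrArg CommaMorphism.left hs'
  · exact congrArg CommaMorphism.left hs

/-- the comparison map of a cartesian action square is surjective -/
theorem orbit_surjective_of_isPullback (φ : X ⟶ Y) (hcart : IsPullback a.act (snd G X) φ φ)
    (hinv : GIT.IsInvariant a φ) : Function.Surjective (GIT.PsiY a φ hinv).base := by
  have hl : IsPullback a.act.left (snd G X).left φ.left φ.left := hcart.map (Over.forget S)
  have he : GIT.PsiY a φ hinv = hl.isoPullback.hom := by
    apply pullback.hom_ext
    · unfold GIT.PsiY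
      rw [pullback.lift_fst, IsPullback.isoPullback_hom_fst]
    · unfold GIT.PsiY
      rw [pullback.lift_snd, IsPullback.isoPullback_hom_snd]
  rw [he]
  exact hl.isoPullback.hom.homeomorph.surjective

end Groth.Agent.Helper18.StabQuot
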