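import Groth.Agent.Lib.Helper18.StalkBC2
import Groth.Agent.Lib.Helper16.Sch.BCTowerSch
import Groth.Agent.Lib.Helper28.GeomDomain

/-!
# Geometric pointwise integrality (helper18)
-/

set_option autoImplicit false
universe u
open CategoryTheory CategoryTheory.Limits AlgebraicGeometry
open scoped TensorProduct

namespace Groth.Agent.Helper18.StalkBC

theorem isDomain_stalk_of_flat {W U : Scheme.{u}} (g : W ⟶ U) [Flat g] (w : W)
    (h : IsDomain (W.presheaf.stalk w)) : IsDomain (U.presheaf.stalk (g w)) := by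
  have hfl := Flat.stalkMap g w
  algebraize [(g.stalkMap w).hom]
  haveI : IsLocalHom (algebraMap (U.presheaf.stalk (g w)) (W.presheaf.stalk w)) :=
    g.toLRSHom.prop w
  haveI : Module.FaithfullyFlat (U.presheaf.stalk (g w)) (W.presheaf.stalk w) :=
    Module.FaithfullyFlat.of_flat_of_isLocalHom
  exact (FaithfulSMul.algebraMap_injective (U.presheaf.stalk (g w))
    (W.presheaf.stalk w)).isDomain _

theorem isDomain_stalk_iff {Z X : Scheme.{u}} (j : Z ⟶ X) [Flat j] [IsPreimmersion j] (z : Z) :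
    IsDomain (Z.presheaf.stalk z) ↔ IsDomain (X.presheaf.stalk (j z)) := by
  let e : X.presheaf.stalk (j z) ≃+* Z.presheaf.stalk z :=
    RingEquiv.ofBijective (j.stalkMap z).hom (bijective_stalkMap j z)
  exact ⟨fun _ => e.injective.isDomain e.toRingHom, fun _ => e.symm.injective.isDomain e.symm.toRingHom⟩

variable {k : Type u} [Field k] {X : Scheme.{u}} (f : X ⟶ Spec (CommRingCat.of k))

open Groth.Agent.Helper16.BCTowerSch in
theorem isGeomPtIntegralAt_bc (K : Type u) [Field K] [Algebra k K] (u : X)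
    (h : FBase.IsGeomPtIntegralAt f u) (u' : ↥(FBase.bc f K)) (hu' : (FBase.bcπ f K).base u' = u) :
    FBase.IsGeomPtIntegralAt (k := K) (FBase.bcStr f K) u' := by
  intro L _ _ x'' hx''
  letI : Algebra k L := ((algebraMap K L).comp (algebraMap k K)).toAlgebra
  haveI : IsScalarTower k K L := IsScalarTower.of_algebraMap_eq (fun _ => rfl)
  have hy : (FBase.bcπ f L).base ((towerIso f K L).inv x'') = u := by
    have e1 : (towerIso f K L).inv ≫ FBase.bcπ f L =
        FBase.bcπ (k := K) (FBase.bcStr f K) L ≫ FBase.bcπ f K := by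
      rw [← towerMap_π f K L, ← towerIso_hom_π f K L, Category.assoc, Iso.inv_hom_id_assoc]
    have e2 := congrArg (fun g : FBase.bc (k := K) (FBase.bcStr f K) L ⟶ X => g.base x'') e1
    simp only [Scheme.Hom.comp_base, TopCat.comp_app] at e2
    rw [e2, hx'', hu']
  have hred := h L _ hy
  exact (isDomain_stalk_iff (towerIso f K L).inv x'').mpr hred

open Groth.Agent.Helper16.BCTowerSch in
theorem isGeomPtIntegralAt_of_bc (K : Type u) [Field K] [Algebra k K] (u : X)
    (u' : ↥(FBase.bc f K)) (hu' : (FBase.bcπ f K).base u' = u)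
    (h : FBase.IsGeomPtIntegralAt (k := K) (FBase.bcStr f K) u') :
    FBase.IsGeomPtIntegralAt f u := by
  intro L _ _ xL hxL
  obtain ⟨Ω, hF, hkΩ, hKΩ, hLΩ, t1, t2, xΩ, h1, h2⟩ :=
    exists_common_point f K L u' xL (hu'.trans hxL.symm)
  letI := hF
  letI := hkΩ
  letI := hKΩ
  letI := hLΩ
  haveI := t1
  haveI := t2
  have hπ : (FBase.bcπ (k := K) (FBase.bcStr f K) Ω).base ((towerIso f K Ω).hom.base xΩ) = u' := by
    have e := congrArg (fun g : FBase.bc f Ω ⟶ FBase.bc f K => g.base xΩ) (towerIso_hom_π f K Ω)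
    simp only [Scheme.Hom.comp_base, TopCat.comp_app] at e
    rw [e, h1]
  have hred1 := h Ω _ hπ
  have hred2 : IsDomain ((FBase.bc f Ω).presheaf.stalk xΩ) :=
    (isDomain_stalk_iff (towerIso f K Ω).hom xΩ).mpr hred1
  have hred3 := isDomain_stalk_of_flat (towerMap f L Ω) xΩ hred2
  rw [← h2]
  exact hred3

theorem isGeomPtIntegralAt_iff_bc (K : Type u) [Field K] [Algebra k K] (u : X)
    (u' : ↥(FBase.bc f K)) (hu' : (FBase.bcπ f K).base u' = u) :
    FBase.IsGeomPtIntegralAt f u ↔ FBase.IsGeomPtIntegralAt (k := K) (FBase.bcStr f K) u' :=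
  ⟨fun h => isGeomPtIntegralAt_bc f K u h u' hu', isGeomPtIntegralAt_of_bc f K u u' hu'⟩

end Groth.Agent.Helper18.StalkBC
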