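import Mathlib
import Groth.Prelude.Def_W4c2submetdescSubtr
import Groth.Agent.Lib.Helper22.SubtrLC
import Groth.Agent.Lib.Helper18.WordCons

/-!
# Locally closed subsets descend along universally S-subtrusive morphisms of finite presentation
(helper18)
-/

set_option autoImplicit false
set_option linter.style.haveILetI false
universe u
open CategoryTheory CategoryTheory.Limits AlgebraicGeometry
open Topology

namespace Groth.Agent.Helper18.SubtrLC2

section Top

variable {Z : Type*} [TopologicalSpace Z]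

/-- in a spectral space, a point of the closure of `E` is a specialization of a point of the
closure of `E` for the constructible topology -/
theorem exists_cons_generic [CompactSpace Z] [QuasiSober Z] [PrespectralSpace Z]
    [QuasiSeparatedSpace Z] (E : Set Z) (y : Z) (hy : y ∈ closure E) :
    ∃ y₀ : Z, y₀ ⤳ y ∧ ∀ T : Set Z, IsConstructible T → y₀ ∈ T → (T ∩ E).Nonempty := by
  let 𝒜 : Set (Set Z) := {A | IsConstructible A ∧ ∃ U, IsOpen U ∧ y ∈ U ∧ U ∩ E ⊆ A}
  let t : 𝒜 → Set (WithConstructibleTopology Z) := fun A => WithTopology.ofTopology ⁻¹' A.1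
  have htc : ∀ A, IsClosed (t A) := by
    intro A
    rw [← isOpen_compl_iff]
    have h1 : (t A)ᶜ = WithTopology.ofTopology ⁻¹' (A.1ᶜ) := rfl
    rw [h1]
    exact (WithTopology.isOpen_iff _).mpr (WordCons.isOpen_ct_of_isConstructible A.2.1.compl)
  have hfin : ∀ u : Finset 𝒜, ∃ U, IsOpen U ∧ y ∈ U ∧ U ∩ E ⊆ ⋂ i ∈ u, (i : Set Z) := by
    intro u
    induction u using Finset.induction_on with
    | empty => exact ⟨Set.univ, isOpen_univ, trivial, by simp⟩
    | insert a s _ ih =>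
      obtain ⟨U, hU, hyU, hUE⟩ := ih
      obtain ⟨_, U', hU', hyU', hU'E⟩ := a.2
      refine ⟨U ∩ U', hU.inter hU', ⟨hyU, hyU'⟩, ?_⟩
      intro z hz
      simp only [Finset.mem_insert, Set.iInter_iInter_eq_or_left, Set.mem_inter_iff]
      exact ⟨hU'E ⟨hz.1.2, hz.2⟩, hUE ⟨hz.1.1, hz.2⟩⟩
  obtain ⟨y₀, -, hy₀⟩ := isCompact_univ.inter_iInter_nonempty t htc (fun u => by
    obtain ⟨U, hU, hyU, hUE⟩ := hfin u
    obtain ⟨z, hzU, hzE⟩ := mem_closure_iff.mp hy U hU hyU
    refine ⟨WithTopology.toTopology _ z, Set.mem_univ _, ?_⟩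
    have := hUE ⟨hzU, hzE⟩
    simp only [Set.mem_iInter] at this ⊢
    exact fun i hi => this i hi)
  have hy₀' : ∀ A : Set Z, A ∈ 𝒜 → WithTopology.ofTopology y₀ ∈ A := by
    intro A hA
    have := Set.mem_iInter.mp hy₀ ⟨A, hA⟩
    exact this
  refine ⟨WithTopology.ofTopology y₀, ?_, ?_⟩
  · rw [specializes_iff_forall_open]
    intro U hU hyU
    obtain ⟨U₀, ⟨hU₀o, hU₀c⟩, hyU₀, hU₀U⟩ :=
      PrespectralSpace.isTopologicalBasis.exists_subset_of_mem_open hyU hU
    apply hU₀U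
    apply hy₀'
    refine ⟨?_, U₀, hU₀o, hyU₀, Set.inter_subset_left⟩
    exact (hU₀c.isRetrocompact hU₀o).isConstructible hU₀o
  · intro T hT hyT
    by_contra hne
    rw [Set.not_nonempty_iff_eq_empty] at hne
    have hTc : Tᶜ ∈ 𝒜 := by
      refine ⟨hT.compl, Set.univ, isOpen_univ, trivial, ?_⟩
      intro z hz hzT
      have : z ∈ T ∩ E := ⟨hzT, hz.2⟩
      rw [hne] at this
      exact this
    exact hy₀' _ hTc hyT

end Top

section Sch

/-- the chartwise closure of `E` for the constructible topology -/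
def P {S : Scheme.{u}} (E : Set S) : Set S :=
  {y₀ | ∃ (V : S.Opens) (_ : IsAffineOpen V) (h : y₀ ∈ V), ∀ T : Set ↥V, IsConstructible T →
      (⟨y₀, h⟩ : ↥V) ∈ T → (T ∩ Subtype.val ⁻¹' E).Nonempty}

theorem exists_mem_P {S : Scheme.{u}} (E : Set S) (y : S) (hy : y ∈ closure E) :
    ∃ y₀ ∈ P E, y₀ ⤳ y := by
  obtain ⟨_, ⟨V, hV, rfl⟩, hyV, -⟩ :=
    S.isBasis_affineOpens.exists_subset_of_mem_open (Set.mem_univ y) isOpen_univ
  haveI : IsAffine V := hV
  haveI : CompactSpace ↥V := inferInstanceAs (CompactSpace (V : Scheme))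
  haveI : QuasiSeparatedSpace ↥V := inferInstanceAs (QuasiSeparatedSpace (V : Scheme))
  haveI : QuasiSober ↥V := inferInstanceAs (QuasiSober (V : Scheme))
  haveI : PrespectralSpace ↥V := inferInstanceAs (PrespectralSpace (V : Scheme))
  have hy' : (⟨y, hyV⟩ : ↥V) ∈ closure (Subtype.val ⁻¹' E : Set ↥V) := by
    have himg : Subtype.val '' (Subtype.val ⁻¹' E : Set ↥V) = (V : Set S) ∩ E := by
      ext z
      constructor
      · rintro ⟨w, hw, rfl⟩
        exact ⟨w.2, hw⟩
      · rintro ⟨h1, h2⟩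
        exact ⟨⟨z, h1⟩, h2, rfl⟩
    rw [closure_subtype, himg, mem_closure_iff]
    intro o ho hyo
    obtain ⟨z, ⟨hzo, hzV⟩, hzE⟩ := mem_closure_iff.mp hy (o ∩ V) (ho.inter V.2) ⟨hyo, hyV⟩
    exact ⟨z, hzo, hzV, hzE⟩
  obtain ⟨y₀, hy₀, hT⟩ := exists_cons_generic (Z := ↥V) _ _ hy'
  refine ⟨y₀.1, ⟨V, hV, y₀.2, hT⟩, ?_⟩
  exact hy₀.map continuous_subtype_val

theorem mem_closure_of_mem_P {S' S : Scheme.{u}} (f : S' ⟶ S) [LocallyOfFinitePresentation f]
    (E : Set S) (x' : S') (hx' : f x' ∈ P E) : x' ∈ closure (f ⁻¹' E) := by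
  obtain ⟨V, hV, h, hT⟩ := hx'
  rw [mem_closure_iff]
  intro o ho hxo
  let o' : S'.Opens := ⟨o, ho⟩
  obtain ⟨C, hC, hmem, hsub⟩ := WordCons.exists_constructible_of_lfp (Scheme.Opens.ι o' ≫ f)
    (⟨x', hxo⟩ : ↥o') V hV h
  obtain ⟨z, hzC, hzE⟩ := hT C hC hmem
  obtain ⟨w, hw⟩ := hsub z hzC
  refine ⟨(Scheme.Opens.ι o') w, w.2, ?_⟩
  change f ((Scheme.Opens.ι o') w) ∈ E
  have : f ((Scheme.Opens.ι o') w) = (z : S) := hw
  rw [this]
  exact hzE

/-- Locally closed subsets descend along quasi-compact universally S-subtrusive morphisms locally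
of finite presentation. -/
theorem main {S' S : Scheme.{u}} (f : S' ⟶ S) [LocallyOfFinitePresentation f] [QuasiCompact f]
    (hf : Subtr.UnivSSubtrusive f) (E : Set S) :
    IsLocallyClosed E ↔ IsLocallyClosed (f ⁻¹' E) := by
  have hS : Subtr.IsSSubtrusive f := hf (𝟙 _) (𝟙 _) f (IsPullback.id_vert f)
  have hsurj : Function.Surjective f := by
    intro y
    obtain ⟨x, _, _, hx, _⟩ := hS (specializes_rfl : y ⤳ y)
    exact ⟨x, hx⟩
  constructor
  · intro hlc
    exact hlc.preimage f.continuous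
  · intro hlc
    have himg : f '' (f ⁻¹' E) = E := Set.image_preimage_eq E hsurj
    obtain ⟨U', Z₀, hU', hZ₀, hLeq⟩ := hlc
    have hLeq' : f ⁻¹' E = U' ∩ closure (f ⁻¹' E) := by
      apply Set.Subset.antisymm
      · intro x hx
        have hx' : x ∈ U' ∩ Z₀ := by rw [← hLeq]; exact hx
        exact ⟨hx'.1, subset_closure hx⟩
      · rintro x ⟨hxU, hxC⟩
        have h1 : f ⁻¹' E ⊆ Z₀ := by rw [hLeq]; exact Set.inter_subset_right
        rw [hLeq]
        exact ⟨hxU, closure_minimal h1 hZ₀ hxC⟩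
    have hKcl : IsClosed (closure (f ⁻¹' E) ∩ U'ᶜ) := isClosed_closure.inter hU'.isClosed_compl
    have hKL : ∀ x, x ∈ closure (f ⁻¹' E) ∩ U'ᶜ ↔ x ∈ closure (f ⁻¹' E) ∧ x ∉ f ⁻¹' E := by
      intro x
      constructor
      · rintro ⟨h1, h2⟩
        refine ⟨h1, fun hx => h2 ?_⟩
        rw [hLeq'] at hx; exact hx.1
      · rintro ⟨h1, h2⟩
        refine ⟨h1, fun hxU => h2 ?_⟩
        rw [hLeq']; exact ⟨hxU, h1⟩
    have hB1 : f '' (closure (f ⁻¹' E) ∩ U'ᶜ) = closure E \ E := by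
      apply Set.Subset.antisymm
      · rintro _ ⟨x, hxK, rfl⟩
        obtain ⟨h1, h2⟩ := (hKL x).mp hxK
        refine ⟨?_, h2⟩
        have h3 : f x ∈ closure (f '' (f ⁻¹' E)) :=
          image_closure_subset_closure_image f.continuous ⟨x, h1, rfl⟩
        rwa [himg] at h3
      · rintro y ⟨hy1, hy2⟩
        obtain ⟨y₀, hy₀P, hspec⟩ := exists_mem_P E y hy1
        obtain ⟨x, x', hxx', hx, hx'⟩ := hS hspec
        refine ⟨x, (hKL x).mpr ⟨?_, ?_⟩, hx⟩
        · have hx'L : x' ∈ closure (f ⁻¹' E) := by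
            apply mem_closure_of_mem_P f E x'
            rw [hx']; exact hy₀P
          exact hxx'.mem_closed isClosed_closure hx'L
        · change ¬ f x ∈ E
          rw [hx]; exact hy2
    have hBcl : IsClosed (f '' (closure (f ⁻¹' E) ∩ U'ᶜ)) := by
      have hBpro : ProCons.IsProConstructible (f '' (closure (f ⁻¹' E) ∩ U'ᶜ)) :=
        Groth.Agent.Helper5.PC.isProConstructible_image f
          (Groth.Agent.Helper22.SubtrLC.isProConstructible_of_isClosed hKcl)
      have hBcc := Groth.Agent.Helper7.ProCons2.CC.of_isProConstructible hBpro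
      rw [← closure_subset_iff_isClosed]
      intro y hy
      obtain ⟨b, hbB, hby⟩ :=
        Groth.Agent.Helper7.ProCons2.exists_specializes_of_mem_closure hBcc hy
      have hb' : b ∈ closure E \ E := by rw [← hB1]; exact hbB
      obtain ⟨y₀, hy₀P, heb⟩ := exists_mem_P E b hb'.1
      obtain ⟨e', b', y', he'b', hb'y', hfe, hfb, hfy⟩ :=
        Groth.Agent.Helper22.SubtrLC.exists_chain_lift f hf heb hby
      have he'L : e' ∈ closure (f ⁻¹' E) := by
        apply mem_closure_of_mem_P f E e'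
        rw [hfe]; exact hy₀P
      have hb'C : b' ∈ closure (f ⁻¹' E) := he'b'.mem_closed isClosed_closure he'L
      have hb'nL : b' ∉ f ⁻¹' E := by
        change ¬ f b' ∈ E
        rw [hfb]; exact hb'.2
      have hb'K : b' ∈ closure (f ⁻¹' E) ∩ U'ᶜ := (hKL b').mpr ⟨hb'C, hb'nL⟩
      have hy'K : y' ∈ closure (f ⁻¹' E) ∩ U'ᶜ := hb'y'.mem_closed hKcl hb'K
      exact ⟨y', hy'K, hfy⟩
    have hfin : E = closure E ∩ (f '' (closure (f ⁻¹' E) ∩ U'ᶜ))ᶜ := by
      rw [hB1]
      ext y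
      constructor
      · intro hy; exact ⟨subset_closure hy, fun h => h.2 hy⟩
      · rintro ⟨h1, h2⟩
        by_contra hy
        exact h2 ⟨h1, hy⟩
    rw [hfin]
    exact isClosed_closure.isLocallyClosed.inter hBcl.isOpen_compl.isLocallyClosed

end Sch

end Groth.Agent.Helper18.SubtrLC2
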