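import Mathlib
import Groth.Prelude.Def_Pic
import Groth.Prelude.Def_RelProj2
import Groth.Agent.Lib.Helper18.SymAlg4

set_option autoImplicit false
universe u
open CategoryTheory CategoryTheory.Limits AlgebraicGeometry TopologicalSpace Opposite

/-!
# Invertible modules: local generators, and the local structure of `Sym(L)`
-/

noncomputable section

namespace Groth.Agent.Helper18.SymAlg

variable {X : Scheme.{u}}

/-- An invertible module has, locally, a section which is a basis over every smaller open. -/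
theorem exists_local_generator (L : X.Modules) (hL : PicF.IsInvertible L) (x : X) :
    ∃ (V : X.Opens) (_ : IsAffineOpen V) (_ : x ∈ V) (ℓ : Γ(L, V)), ∀ (W : X.Opens) (hW : W ≤ V),
      Function.Bijective (fun r : Γ(X, W) => r • L.presheaf.map (homOfLE hW).op ℓ) := by
  obtain ⟨U, hxU, ⟨e⟩⟩ := hL x
  obtain ⟨V', hV', hxV', -⟩ := Opens.isBasis_iff_nbhd.mp ((U : Scheme.{u}).isBasis_affineOpens)
    (show (⟨x, hxU⟩ : (U : Scheme.{u})) ∈ (⊤ : (U : Scheme.{u}).Opens) from trivial)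
  have hV'a : IsAffineOpen V' := hV'
  refine ⟨U.ι ''ᵁ V', hV'a.image_of_isOpenImmersion U.ι, ⟨⟨x, hxU⟩, hxV', rfl⟩,
    (e.inv.app V').hom (1 : Γ((U : Scheme.{u}), V')), ?_⟩
  intro W hW
  obtain ⟨W', rfl⟩ : ∃ W' : (U : Scheme.{u}).Opens, U.ι ''ᵁ W' = W := by
    refine ⟨U.ι ⁻¹ᵁ W, ?_⟩
    rw [Scheme.Hom.image_preimage_eq_opensRange_inf, Scheme.Opens.opensRange_ι]
    exact inf_eq_right.mpr (hW.trans (Scheme.Opens.ι_image_le U V'))
  have hW' : W' ≤ V' := (Scheme.Hom.image_le_image_iff U.ι _ _).mp hW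
  have hres : L.presheaf.map (homOfLE hW).op ((e.inv.app V').hom (1 : Γ((U : Scheme.{u}), V'))) =
      (e.inv.app W').hom (1 : Γ((U : Scheme.{u}), W')) := by
    have hnat := congrArg (fun k => k.hom (1 : Γ((U : Scheme.{u}), V')))
      (e.inv.mapPresheaf.naturality (homOfLE hW').op)
    have h1 : ((Coh.structureModule (U : Scheme.{u})).presheaf.map (homOfLE hW').op).hom
        (1 : Γ((U : Scheme.{u}), V')) = (1 : Γ((U : Scheme.{u}), W')) :=
      map_one ((U : Scheme.{u}).presheaf.map (homOfLE hW').op).hom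
    have hnat' : (e.inv.app W').hom
        (((Coh.structureModule (U : Scheme.{u})).presheaf.map (homOfLE hW').op).hom
          (1 : Γ((U : Scheme.{u}), V'))) =
        ((L.restrict U.ι).presheaf.map (homOfLE hW').op).hom
          ((e.inv.app V').hom (1 : Γ((U : Scheme.{u}), V'))) := hnat
    rw [h1] at hnat'
    exact hnat'.symm
  have hfun : (fun r : Γ(X, U.ι ''ᵁ W') => r • L.presheaf.map (homOfLE hW).op
      ((e.inv.app V').hom (1 : Γ((U : Scheme.{u}), V')))) =
      (e.inv.app W').hom ∘ (U.ι.appIso W').hom.hom := by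
    funext r
    rw [hres]
    have h2 := Scheme.Modules.Hom.app_smul e.inv ((U.ι.appIso W').hom.hom r)
      (1 : Γ((U : Scheme.{u}), W'))
    have h3 : ((U.ι.appIso W').hom.hom r • (1 : Γ((U : Scheme.{u}), W')) :
        Γ(Coh.structureModule (U : Scheme.{u}), W')) = (U.ι.appIso W').hom.hom r :=
      mul_one _
    have h4 : (e.inv.app W').hom ((U.ι.appIso W').hom.hom r) =
        (U.ι.appIso W').hom.hom r • (e.inv.app W').hom (1 : Γ((U : Scheme.{u}), W')) :=
      (congrArg (e.inv.app W').hom h3).symm.trans h2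
    change _ = (e.inv.app W').hom ((U.ι.appIso W').hom.hom r)
    refine Eq.trans ?_ h4.symm
    have h5 : (U.ι.appIso W').inv.hom ((U.ι.appIso W').hom.hom r) = r :=
      congrArg (fun k => k.hom r) (U.ι.appIso W').hom_inv_id
    let ℓW : Γ(L, U.ι ''ᵁ W') := (e.inv.app W').hom (1 : Γ((U : Scheme.{u}), W'))
    have h6 : ((U.ι.appIso W').hom.hom r • (e.inv.app W').hom (1 : Γ((U : Scheme.{u}), W')) :
          Γ(L.restrict U.ι, W')) =
        (U.ι.appIso W').inv.hom ((U.ι.appIso W').hom.hom r) • ℓW := rfl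
    rw [h6, h5]
  rw [hfun]
  refine Function.Bijective.comp ?_ ?_
  · exact (ConcreteCategory.isIso_iff_bijective _).mp (inferInstanceAs (IsIso (e.inv.app W')))
  · exact (ConcreteCategory.isIso_iff_bijective _).mp
      (inferInstanceAs (IsIso (U.ι.appIso W').hom))

section PureAlg

open Polynomial in
/-- The symmetric algebra of a free module of rank one is a polynomial ring. -/
theorem poly_to_sym_bijective {R M : Type*} [CommRing R] [AddCommGroup M] [Module R M] (ℓ : M)
    (hℓ : Function.Bijective (fun r : R => r • ℓ)) :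
    Function.Bijective (Polynomial.eval₂RingHom (algebraMap R (SymmetricAlgebra R M))
      (SymmetricAlgebra.ι R M ℓ)) := by
  let e : R ≃ₗ[R] M := LinearEquiv.ofBijective (LinearMap.toSpanSingleton R M ℓ) hℓ
  have he1 : e 1 = ℓ := one_smul R ℓ
  have hes : e.symm ℓ = 1 := by rw [← he1, e.symm_apply_apply]
  let g : M →ₗ[R] R[X] := (Polynomial.monomial 1 : R →ₗ[R] R[X]) ∘ₗ e.symm.toLinearMap
  let Ψ : SymmetricAlgebra R M →ₐ[R] R[X] := SymmetricAlgebra.lift g
  let Φ : R[X] →ₐ[R] SymmetricAlgebra R M := Polynomial.aeval (SymmetricAlgebra.ι R M ℓ)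
  have hΦ : ∀ p, Polynomial.eval₂RingHom (algebraMap R (SymmetricAlgebra R M))
      (SymmetricAlgebra.ι R M ℓ) p = Φ p := fun p => rfl
  have h1 : Ψ.comp Φ = AlgHom.id R R[X] := by
    apply Polynomial.algHom_ext
    change Ψ (Polynomial.aeval (SymmetricAlgebra.ι R M ℓ) X) = X
    rw [Polynomial.aeval_X, SymmetricAlgebra.lift_ι_apply]
    change Polynomial.monomial 1 (e.symm ℓ) = X
    rw [hes, Polynomial.monomial_one_one_eq_X]
  have h2 : Φ.comp Ψ = AlgHom.id R (SymmetricAlgebra R M) := by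
    apply SymmetricAlgebra.algHom_ext
    ext m
    change Φ (Ψ (SymmetricAlgebra.ι R M m)) = SymmetricAlgebra.ι R M m
    rw [SymmetricAlgebra.lift_ι_apply]
    change Polynomial.aeval (SymmetricAlgebra.ι R M ℓ) (Polynomial.monomial 1 (e.symm m)) = _
    rw [Polynomial.aeval_monomial, pow_one, ← Algebra.smul_def, ← map_smul]
    congr 1
    exact e.apply_symm_apply m
  constructor
  · intro a b hab
    rw [hΦ, hΦ] at hab
    have := congrArg Ψ hab
    have ha := DFunLike.congr_fun h1 a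
    have hb := DFunLike.congr_fun h1 b
    exact ha.symm.trans (this.trans hb)
  · intro y
    exact ⟨Ψ y, (hΦ _).trans (DFunLike.congr_fun h2 y)⟩

end PureAlg

section Poly

variable (L : X.Modules) [L.IsQuasicoherent] (𝒮L : RelProj.QCGrAlg X) (j : L ⟶ 𝒮L.toModule)
  (hj : RelProj.IsGrSymAlg L 𝒮L j)

include hj in
/-- Over an affine open on which `L` has a basis `ℓ`, `Sym(L)` is the polynomial ring in `j(ℓ)`. -/
theorem poly_bijective (V : X.Opens) (hV : IsAffineOpen V) (ℓ : Γ(L, V))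
    (hℓ : Function.Bijective (fun r : Γ(X, V) => r • ℓ)) :
    Function.Bijective (Polynomial.eval₂RingHom (𝒮L.str.app (op V)).hom
      (jU L 𝒮L.toQCAlg j V ℓ)) := by
  have h1 := symToA_bijective L 𝒮L.toQCAlg j hj.1 V hV
  have h2 := poly_to_sym_bijective ℓ hℓ
  have h3 : Polynomial.eval₂RingHom (𝒮L.str.app (op V)).hom (jU L 𝒮L.toQCAlg j V ℓ) =
      (symToA L 𝒮L.toQCAlg j V).comp
        (Polynomial.eval₂RingHom (algebraMap Γ(X, V) (SymmetricAlgebra Γ(X, V) Γ(L, V)))
          (SymmetricAlgebra.ι Γ(X, V) Γ(L, V) ℓ)) := by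
    apply Polynomial.ringHom_ext
    · intro a
      simp only [Polynomial.coe_eval₂RingHom, Polynomial.eval₂_C, RingHom.comp_apply,
        symToA_algebraMap]
    · simp only [Polynomial.coe_eval₂RingHom, Polynomial.eval₂_X, RingHom.comp_apply, symToA_ι]
  rw [h3]
  exact h1.comp h2

include hj in
theorem jU_mem_deg_one (V : X.Opens) (hV : IsAffineOpen V) (ℓ : Γ(L, V)) :
    jU L 𝒮L.toQCAlg j V ℓ ∈ 𝒮L.deg V hV 1 := hj.2 V hV ℓ

include hj in
theorem str_mul_pow_mem (V : X.Opens) (hV : IsAffineOpen V) (ℓ : Γ(L, V)) (a : Γ(X, V)) (n : ℕ) :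
    (𝒮L.str.app (op V)).hom a * jU L 𝒮L.toQCAlg j V ℓ ^ n ∈ 𝒮L.deg V hV n := by
  have h1 := SetLike.pow_mem_graded n (jU_mem_deg_one L 𝒮L j hj V hV ℓ)
  have h2 := SetLike.mul_mem_graded (𝒮L.str_mem V hV a) h1
  simpa using h2

include hj in
/-- the graded pieces of `Sym(L)` over an affine open on which `L` has a basis -/
theorem mem_deg_iff (V : X.Opens) (hV : IsAffineOpen V) (ℓ : Γ(L, V))
    (hℓ : Function.Bijective (fun r : Γ(X, V) => r • ℓ)) (n : ℕ) (y : 𝒮L.presheaf.obj (op V)) :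
    y ∈ 𝒮L.deg V hV n ↔
      ∃ a : Γ(X, V), y = (𝒮L.str.app (op V)).hom a * jU L 𝒮L.toQCAlg j V ℓ ^ n := by
  classical
  constructor
  · intro hy
    obtain ⟨p, rfl⟩ := (poly_bijective L 𝒮L j hj V hV ℓ hℓ).2 y
    refine ⟨p.coeff n, ?_⟩
    set T := jU L 𝒮L.toQCAlg j V ℓ with hT
    have hsum : Polynomial.eval₂RingHom (𝒮L.str.app (op V)).hom T p =
        ∑ k ∈ p.support, (𝒮L.str.app (op V)).hom (p.coeff k) * T ^ k := by
      rw [Polynomial.coe_eval₂RingHom, Polynomial.eval₂_eq_sum, Polynomial.sum_def]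
    have hproj : GradedRing.proj (𝒮L.deg V hV) n
        (Polynomial.eval₂RingHom (𝒮L.str.app (op V)).hom T p) =
        Polynomial.eval₂RingHom (𝒮L.str.app (op V)).hom T p :=
      DirectSum.decompose_of_mem_same _ hy
    rw [← hproj, hsum, map_sum]
    have hterm : ∀ k ∈ p.support, GradedRing.proj (𝒮L.deg V hV) n
        ((𝒮L.str.app (op V)).hom (p.coeff k) * T ^ k) =
        if k = n then (𝒮L.str.app (op V)).hom (p.coeff n) * T ^ n else 0 := by
      intro k _
      have hk := str_mul_pow_mem L 𝒮L j hj V hV ℓ (p.coeff k) k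
      split_ifs with hkn
      · subst hkn
        exact DirectSum.decompose_of_mem_same _ hk
      · exact DirectSum.decompose_of_mem_ne _ hk hkn
    rw [Finset.sum_congr rfl hterm, Finset.sum_ite_eq']
    split_ifs with hn
    · rfl
    · rw [Polynomial.notMem_support_iff.mp hn, map_zero, zero_mul]
  · rintro ⟨a, rfl⟩
    exact str_mul_pow_mem L 𝒮L j hj V hV ℓ a n

include hj in
theorem eq_zero_of_str_mul_pow_eq_zero (V : X.Opens) (hV : IsAffineOpen V) (ℓ : Γ(L, V))
    (hℓ : Function.Bijective (fun r : Γ(X, V) => r • ℓ)) (a : Γ(X, V)) (n : ℕ)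
    (h : (𝒮L.str.app (op V)).hom a * jU L 𝒮L.toQCAlg j V ℓ ^ n = 0) : a = 0 := by
  have hinj := (poly_bijective L 𝒮L j hj V hV ℓ hℓ).1
  have h1 : Polynomial.eval₂RingHom (𝒮L.str.app (op V)).hom (jU L 𝒮L.toQCAlg j V ℓ)
      (Polynomial.C a * Polynomial.X ^ n) = 0 := by
    rw [map_mul, map_pow, Polynomial.coe_eval₂RingHom, Polynomial.eval₂_C, Polynomial.eval₂_X]
    exact h
  have h2 : Polynomial.C a * Polynomial.X ^ n = 0 := hinj (h1.trans (map_zero _).symm)
  have h3 := congrArg (fun p => Polynomial.coeff p n) h2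
  simpa using h3

include hj in
/-- `D₊(j ℓ)` is all of `Proj Sym(L)(V)`. -/
theorem basicOpen_jU_eq_top (V : X.Opens) (hV : IsAffineOpen V) (ℓ : Γ(L, V))
    (hℓ : Function.Bijective (fun r : Γ(X, V) => r • ℓ)) :
    Proj.basicOpen (𝒮L.deg V hV) (jU L 𝒮L.toQCAlg j V ℓ) = ⊤ := by
  rw [eq_top_iff]
  intro y _
  rw [Proj.mem_basicOpen]
  intro hT
  apply y.not_irrelevant_le
  rw [HomogeneousIdeal.irrelevant_le]
  intro n hn b hb
  obtain ⟨a, rfl⟩ := (mem_deg_iff L 𝒮L j hj V hV ℓ hℓ n b).mp hb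
  obtain ⟨k, rfl⟩ : ∃ k, n = k + 1 := ⟨n - 1, by omega⟩
  rw [pow_succ, ← mul_assoc]
  exact Ideal.mul_mem_left _ _ hT

end Poly

end Groth.Agent.Helper18.SymAlg
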