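import Mathlib
import Groth.Prelude.Def_RelProj4
import Groth.Agent.Lib.Helper18.SymAlg5
import Groth.Agent.Lib.Helper18.ProjQ

set_option autoImplicit false
universe u
open CategoryTheory CategoryTheory.Limits AlgebraicGeometry TopologicalSpace Opposite
open scoped HomogeneousIdeal
open HomogeneousLocalization

/-!
# `Proj(Sym L) ≅ X` for an invertible module `L`: local computations
-/

noncomputable section

namespace Groth.Agent.Helper18.SymAlg

section Graded

variable {A σ : Type u} [CommRing A] [SetLike σ A] [AddSubgroupClass σ A]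
  (𝒜 : ℕ → σ) [GradedRing 𝒜]

/-- If `D₊(T) = Proj 𝒜` for `T` of degree one and `𝒜₀ → 𝒜_(T)` is bijective then
`Proj 𝒜 → Spec 𝒜₀` is an isomorphism. -/
theorem isIso_toSpecZero_of (T : A) (hT : T ∈ 𝒜 1) (htop : Proj.basicOpen 𝒜 T = ⊤)
    (hbij : Function.Bijective (fromZeroRingHom 𝒜 (Submonoid.powers T))) :
    IsIso (Proj.toSpecZero 𝒜) := by
  have h2 : IsIso (Proj.awayι 𝒜 T hT one_pos) :=
    isIso_of_isOpenImmersion_of_opensRange_eq_top _ (by rw [Proj.opensRange_awayι]; exact htop)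
  have h3 : IsIso (CommRingCat.ofHom (fromZeroRingHom 𝒜 (Submonoid.powers T))) :=
    (ConcreteCategory.isIso_iff_bijective _).mpr hbij
  have h4 : Proj.toSpecZero 𝒜 = inv (Proj.awayι 𝒜 T hT one_pos) ≫
      Spec.map (CommRingCat.ofHom (fromZeroRingHom 𝒜 (Submonoid.powers T))) := by
    rw [IsIso.eq_inv_comp]
    exact Proj.awayι_toSpecZero 𝒜 T hT one_pos
  rw [h4]
  infer_instance

end Graded

section SymL

variable {X : Scheme.{u}} (L : X.Modules) [L.IsQuasicoherent] (𝒮L : RelProj.QCGrAlg X)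
  (j : L ⟶ 𝒮L.toModule) (hj : RelProj.IsGrSymAlg L 𝒮L j)
  (V : X.Opens) (hV : IsAffineOpen V) (ℓ : Γ(L, V))
  (hℓ : Function.Bijective (fun r : Γ(X, V) => r • ℓ))

include hj hℓ in
theorem strZero_bijective : Function.Bijective (𝒮L.strZero V hV).hom := by
  constructor
  · rw [injective_iff_map_eq_zero]
    intro a ha
    have h1 : (𝒮L.str.app (op V)).hom a = 0 := congrArg Subtype.val ha
    exact eq_zero_of_str_mul_pow_eq_zero L 𝒮L j hj V hV ℓ hℓ a 0 (by rw [pow_zero, mul_one, h1])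
  · rintro ⟨y, hy⟩
    obtain ⟨a, ha⟩ := (mem_deg_iff L 𝒮L j hj V hV ℓ hℓ 0 y).mp hy
    refine ⟨a, Subtype.ext ?_⟩
    change (𝒮L.str.app (op V)).hom a = y
    rw [ha, pow_zero, mul_one]

include hj hℓ in
theorem fromZero_bijective :
    Function.Bijective (fromZeroRingHom (𝒮L.deg V hV)
      (Submonoid.powers (jU L 𝒮L.toQCAlg j V ℓ))) := by
  set T := jU L 𝒮L.toQCAlg j V ℓ with hT
  have hT1 : T ∈ 𝒮L.deg V hV 1 := jU_mem_deg_one L 𝒮L j hj V hV ℓ
  constructor
  · rw [injective_iff_map_eq_zero]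
    rintro ⟨y, hy⟩ h0
    obtain ⟨a, rfl⟩ := (mem_deg_iff L 𝒮L j hj V hV ℓ hℓ 0 y).mp hy
    have h1 := congrArg HomogeneousLocalization.val h0
    rw [HomogeneousLocalization.val_zero] at h1
    change Localization.mk ((𝒮L.str.app (op V)).hom a * T ^ 0) (1 : Submonoid.powers T) = 0 at h1
    rw [Localization.mk_eq_mk', IsLocalization.mk'_eq_zero_iff] at h1
    obtain ⟨⟨_, k, rfl⟩, hk⟩ := h1
    have hk' : (𝒮L.str.app (op V)).hom a * T ^ k = 0 := by
      rw [pow_zero, mul_one] at hk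
      rw [mul_comm]; exact hk
    have := eq_zero_of_str_mul_pow_eq_zero L 𝒮L j hj V hV ℓ hℓ a k hk'
    subst this
    apply Subtype.ext
    simp
  · intro x
    obtain ⟨n, y, hy, rfl⟩ := Away.mk_surjective (𝒮L.deg V hV) hT1 x
    have hy' : y ∈ 𝒮L.deg V hV n := by simpa using hy
    obtain ⟨a, rfl⟩ := (mem_deg_iff L 𝒮L j hj V hV ℓ hℓ n y).mp hy'
    refine ⟨⟨(𝒮L.str.app (op V)).hom a, 𝒮L.str_mem V hV a⟩, ?_⟩
    apply HomogeneousLocalization.val_injective
    rw [Away.val_mk]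
    change Localization.mk ((𝒮L.str.app (op V)).hom a) (1 : Submonoid.powers T) = _
    rw [Localization.mk_eq_mk_iff, Localization.r_iff_exists]
    exact ⟨1, by simp [mul_comm, hT]⟩

end SymL

end Groth.Agent.Helper18.SymAlg
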