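import Mathlib
import Groth.Agent.Lib.Helper18.SymAlg6
import Groth.Agent.Lib.Helper18.ProjQPre

set_option autoImplicit false
universe u
open CategoryTheory CategoryTheory.Limits AlgebraicGeometry TopologicalSpace Opposite
open scoped HomogeneousIdeal
open HomogeneousLocalization

noncomputable section

namespace Groth.Agent.Helper18.SymAlg

section Graded

variable {A σ : Type u} [CommRing A] [SetLike σ A] [AddSubgroupClass σ A]
  (𝒜 : ℕ → σ) [GradedRing 𝒜]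

/-- The point of `Spec 𝒜₀` under a point `y` of `Proj 𝒜` is `y ∩ 𝒜₀`. -/
theorem mem_toSpecZero_iff (y : Proj 𝒜) (c : 𝒜 0) :
    c ∈ ((Proj.toSpecZero 𝒜).base y).asIdeal ↔ (c : A) ∈ y.asHomogeneousIdeal := by
  have hcov := ProjQ.iSup_basicOpen_eq_top (ℬ := 𝒜)
  have hy : y ∈ (⨆ s : (Σ i : ℕ+, 𝒜 i), Proj.basicOpen 𝒜 (s.2 : A)) := by
    rw [hcov]; trivial
  obtain ⟨⟨m, f⟩, hyf⟩ := Opens.mem_iSup.mp hy
  have hf : (f : A) ∈ 𝒜 m := f.2
  have hm : 0 < (m : ℕ) := m.pos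
  rw [← Proj.opensRange_awayι 𝒜 _ hf hm] at hyf
  obtain ⟨z, rfl⟩ := hyf
  have h1 : (Proj.toSpecZero 𝒜).base ((Proj.awayι 𝒜 _ hf hm).base z) =
      (Spec.map (CommRingCat.ofHom (fromZeroRingHom 𝒜 (Submonoid.powers (f : A))))).base z := by
    rw [← Proj.awayι_toSpecZero 𝒜 _ hf hm]; rfl
  rw [h1]
  have hcf : (c : A) * f ∈ 𝒜 m := by
    simpa using SetLike.mul_mem_graded c.2 hf
  have h2 := Proj.awayι_preimage_basicOpen 𝒜 hf hm hcf hm
  have h3 : z ∈ Proj.awayι 𝒜 _ hf hm ⁻¹ᵁ Proj.basicOpen 𝒜 ((c : A) * f) ↔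
      (c : A) ∉ ((Proj.awayι 𝒜 _ hf hm).base z).asHomogeneousIdeal := by
    change (Proj.awayι 𝒜 _ hf hm).base z ∈ Proj.basicOpen 𝒜 ((c : A) * f) ↔ _
    rw [Proj.basicOpen_mul]
    constructor
    · rintro ⟨h, -⟩; exact (Proj.mem_basicOpen _ _ _).mp h
    · intro h
      refine ⟨(Proj.mem_basicOpen _ _ _).mpr h, ?_⟩
      rw [← Proj.opensRange_awayι 𝒜 _ hf hm]; exact ⟨z, rfl⟩
  rw [h2] at h3
  have h4 : Away.isLocalizationElem hf hcf =
      (fromZeroRingHom 𝒜 (Submonoid.powers (f : A)) c) ^ (m : ℕ) := by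
    apply HomogeneousLocalization.val_injective
    unfold Away.isLocalizationElem
    rw [Away.val_mk, HomogeneousLocalization.val_pow]
    change _ = (Localization.mk (c : A) (1 : Submonoid.powers (f : A))) ^ (m : ℕ)
    rw [Localization.mk_pow, Localization.mk_eq_mk_iff, Localization.r_iff_exists]
    refine ⟨1, ?_⟩
    simp only [OneMemClass.coe_one, one_mul, one_pow, mul_pow]
    ring
  rw [← not_iff_not, ← h3]
  change ¬ (fromZeroRingHom 𝒜 (Submonoid.powers (f : A)) c ∈ z.asIdeal) ↔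
    z ∈ PrimeSpectrum.basicOpen (Away.isLocalizationElem hf hcf)
  rw [h4, PrimeSpectrum.basicOpen_pow _ _ hm]
  rfl

end Graded

section Rel

variable {X PL : Scheme.{u}} {𝒮L : RelProj.QCGrAlg X}
  {pL : PL ⟶ X} {chartL : ∀ (U : X.Opens) (hU : IsAffineOpen U),
    (((pL ⁻¹ᵁ U : PL.Opens) : Scheme.{u}) ≅ Proj (𝒮L.deg U hU))}

/-- The image in `X` of a point of the chart `Proj 𝒮(W)` lies in `D(c)` iff `c ∉ y`. -/
theorem pL_emb_mem_basicOpen_iff (hPL : RelProj.IsRelProj 𝒮L pL chartL)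
    (W : X.Opens) (hW : IsAffineOpen W) (y₁ : Proj (𝒮L.deg W hW)) (c : Γ(X, W)) :
    pL.base ((RelProj.emb pL chartL W hW).base y₁) ∈ X.basicOpen c ↔
      (𝒮L.str.app (op W)).hom c ∉ y₁.asHomogeneousIdeal := by
  have h1 : pL.base ((RelProj.emb pL chartL W hW).base y₁) =
      hW.fromSpec.base ((Spec.map (𝒮L.strZero W hW)).base
        ((Proj.toSpecZero (𝒮L.deg W hW)).base y₁)) := by
    have := congrArg (fun k => k.base y₁) (ProjQ.emb_comp hPL W hW)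
    exact this
  rw [h1]
  have h2 : hW.fromSpec.base ((Spec.map (𝒮L.strZero W hW)).base
        ((Proj.toSpecZero (𝒮L.deg W hW)).base y₁)) ∈ X.basicOpen c ↔
      (Spec.map (𝒮L.strZero W hW)).base ((Proj.toSpecZero (𝒮L.deg W hW)).base y₁) ∈
        hW.fromSpec ⁻¹ᵁ X.basicOpen c := Iff.rfl
  rw [h2, hW.fromSpec_preimage_basicOpen]
  have h3 := mem_toSpecZero_iff (𝒮L.deg W hW) y₁ ((𝒮L.strZero W hW).hom c)
  rw [← not_iff_not] at h3
  exact h3

/-- A point of the chart over `V` lying over `D(a)` comes from the chart over `D(a)`. -/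
theorem exists_lift_basicOpen (hPL : RelProj.IsRelProj 𝒮L pL chartL)
    (V : X.Opens) (hV : IsAffineOpen V) (a : Γ(X, V)) (y₀ : Proj (𝒮L.deg V hV))
    (hy : pL.base ((RelProj.emb pL chartL V hV).base y₀) ∈ X.basicOpen a) :
    ∃ y₁ : Proj (𝒮L.deg (X.basicOpen a) (hV.basicOpen a)),
      (Proj.map (𝒮L.res hV (hV.basicOpen a) (X.basicOpen_le a))
        (𝒮L.irrelevant_le_map V hV a)).base y₁ = y₀ ∧
      (RelProj.emb pL chartL (X.basicOpen a) (hV.basicOpen a)).base y₁ =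
        (RelProj.emb pL chartL V hV).base y₀ := by
  have hy' : (RelProj.emb pL chartL V hV).base y₀ ∈
      (RelProj.emb pL chartL (X.basicOpen a) (hV.basicOpen a)).opensRange := by
    rw [ProjQ.opensRange_emb]; exact hy
  obtain ⟨y₁, hy₁⟩ := hy'
  have h2 : (RelProj.emb pL chartL V hV).base
      ((Proj.map (𝒮L.res hV (hV.basicOpen a) (X.basicOpen_le a))
        (𝒮L.irrelevant_le_map V hV a)).base y₁) =
      (RelProj.emb pL chartL (X.basicOpen a) (hV.basicOpen a)).base y₁ := by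
    rw [← RelProj.map_res_emb hPL V hV a]
    rfl
  have hinj := (RelProj.emb pL chartL V hV).isOpenEmbedding.injective (h2.trans hy₁)
  exact ⟨y₁, hinj, hy₁⟩

theorem proj_map_mem_iff {A B σ τ : Type u} [CommRing A] [SetLike σ A] [AddSubgroupClass σ A]
    [CommRing B] [SetLike τ B] [AddSubgroupClass τ B] {𝒜 : ℕ → σ} {ℬ : ℕ → τ}
    [GradedRing 𝒜] [GradedRing ℬ] (ψ : 𝒜 →+*ᵍ ℬ) (hirr : ℬ₊ ≤ 𝒜₊.map ψ) (y₁ : Proj ℬ) (x : A) :
    x ∈ ((Proj.map ψ hirr).base y₁).asHomogeneousIdeal ↔ ψ x ∈ y₁.asHomogeneousIdeal := Iff.rfl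

end Rel


section SymL

variable {X PL : Scheme.{u}} (L : X.Modules) [L.IsQuasicoherent] (hL : PicF.IsInvertible L)
  (𝒮L : RelProj.QCGrAlg X) (j : L ⟶ 𝒮L.toModule) (hj : RelProj.IsGrSymAlg L 𝒮L j)
  {pL : PL ⟶ X} {chartL : ∀ (U : X.Opens) (hU : IsAffineOpen U),
    (((pL ⁻¹ᵁ U : PL.Opens) : Scheme.{u}) ≅ Proj (𝒮L.deg U hU))}
  (hPL : RelProj.IsRelProj 𝒮L pL chartL)

theorem pL_emb_mem (V : X.Opens) (hV : IsAffineOpen V) (y₀ : Proj (𝒮L.deg V hV)) :
    pL.base ((RelProj.emb pL chartL V hV).base y₀) ∈ V := by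
  have : (RelProj.emb pL chartL V hV).base y₀ ∈ (RelProj.emb pL chartL V hV).opensRange :=
    ⟨_, rfl⟩
  rw [ProjQ.opensRange_emb] at this
  exact this

include hL hj hPL in
/-- **Lemma A**: if `Sym^d L (V) ⊆ (t)` then `D₊(t)` is all of `Proj Sym(L)(V)`. -/
theorem not_mem_of_deg_subset_span (V : X.Opens) (hV : IsAffineOpen V) (d : ℕ)
    (t : 𝒮L.presheaf.obj (op V))
    (H : ((𝒮L.deg V hV d : AddSubgroup (𝒮L.presheaf.obj (op V))) : Set (𝒮L.presheaf.obj (op V))) ⊆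
      (Ideal.span {t} : Set (𝒮L.presheaf.obj (op V))))
    (y₀ : Proj (𝒮L.deg V hV)) : t ∉ y₀.asHomogeneousIdeal := by
  intro ht
  set x' := pL.base ((RelProj.emb pL chartL V hV).base y₀) with hx'
  have hxV : x' ∈ V := pL_emb_mem 𝒮L V hV y₀
  obtain ⟨V₀, hV₀, hx₀, ℓ, hℓ⟩ := exists_local_generator L hL x'
  obtain ⟨a, b, hab, hxa⟩ := exists_basicOpen_le_affine_inter hV hV₀ x' ⟨hxV, hx₀⟩
  have hWV₀ : X.basicOpen a ≤ V₀ := hab ▸ X.basicOpen_le b
  have hW : IsAffineOpen (X.basicOpen a) := hV.basicOpen a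
  set ℓW := L.presheaf.map (homOfLE hWV₀).op ℓ with hℓW
  have hbij : Function.Bijective (fun r : Γ(X, X.basicOpen a) => r • ℓW) := hℓ _ hWV₀
  obtain ⟨y₁, hy₁, -⟩ := exists_lift_basicOpen hPL V hV a y₀ hxa
  set T := jU L 𝒮L.toQCAlg j (X.basicOpen a) ℓW with hT
  have hT1 : T ∉ y₁.asHomogeneousIdeal := by
    have := basicOpen_jU_eq_top L 𝒮L j hj (X.basicOpen a) hW ℓW hbij
    have hy : y₁ ∈ Proj.basicOpen (𝒮L.deg (X.basicOpen a) hW) T := by rw [this]; trivial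
    exact (Proj.mem_basicOpen _ _ _).mp hy
  obtain ⟨n, m, hm⟩ := Groth.Agent.Helper13.QCoh.exists_pow_smul_eq_res L hV a ℓW
  -- `j(m)^d ∈ y₀`
  have h1 : jU L 𝒮L.toQCAlg j V m ^ d ∈ y₀.asHomogeneousIdeal := by
    have hmem : jU L 𝒮L.toQCAlg j V m ^ d ∈ 𝒮L.deg V hV d := by
      have := SetLike.pow_mem_graded d (jU_mem_deg_one L 𝒮L j hj V hV m)
      simpa using this
    obtain ⟨c, hc⟩ := Ideal.mem_span_singleton'.mp (H hmem)
    rw [← hc]
    exact Ideal.mul_mem_left _ _ ht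
  rw [← hy₁] at h1
  have h2 : (𝒮L.res hV hW (X.basicOpen_le a)) (jU L 𝒮L.toQCAlg j V m ^ d) ∈
      y₁.asHomogeneousIdeal := h1
  have h3 : (𝒮L.res hV hW (X.basicOpen_le a)) (jU L 𝒮L.toQCAlg j V m) =
      (𝒮L.str.app (op (X.basicOpen a))).hom
        ((X.presheaf.map (homOfLE (X.basicOpen_le a)).op).hom a ^ n) * T := by
    rw [RelProj.QCGrAlg.res_apply]
    have := jU_res L 𝒮L.toQCAlg j (X.basicOpen_le a) m
    rw [this]
    have h4 : resMod L (X.basicOpen_le a) m =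
        ((X.presheaf.map (homOfLE (X.basicOpen_le a)).op).hom a) ^ n • ℓW := hm
    rw [h4, jU_smul]
  rw [map_pow, h3] at h2
  have h5 := y₁.isPrime.mem_of_pow_mem _ h2
  rcases y₁.isPrime.mem_or_mem h5 with h6 | h6
  · have hu : IsUnit ((X.presheaf.map (homOfLE (X.basicOpen_le a)).op).hom a) :=
      RingedSpace.isUnit_res_basicOpen _ a
    have hu2 : IsUnit ((𝒮L.str.app (op (X.basicOpen a))).hom
        ((X.presheaf.map (homOfLE (X.basicOpen_le a)).op).hom a ^ n)) := (hu.pow n).map _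
    exact y₁.isPrime.ne_top (Ideal.eq_top_of_isUnit_mem _ h6 hu2)
  · exact hT1 h6


include hL hj hPL in
/-- **Lemma B**: around a point of `D₊(t)`, `t` generates `Sym^d L`. -/
theorem exists_affine_deg_subset_span (V : X.Opens) (hV : IsAffineOpen V) (d : ℕ)
    (t : 𝒮L.presheaf.obj (op V)) (ht : t ∈ 𝒮L.deg V hV d)
    (y₀ : Proj (𝒮L.deg V hV)) (hy₀ : t ∉ y₀.asHomogeneousIdeal) :
    ∃ (V'' : X.Opens) (hV'' : IsAffineOpen V'') (hle : V'' ≤ V),
      pL.base ((RelProj.emb pL chartL V hV).base y₀) ∈ V'' ∧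
      ((𝒮L.deg V'' hV'' d : AddSubgroup (𝒮L.presheaf.obj (op V''))) :
          Set (𝒮L.presheaf.obj (op V''))) ⊆
        (Ideal.span {(𝒮L.presheaf.map (homOfLE hle).op).hom t} :
          Set (𝒮L.presheaf.obj (op V''))) := by
  set x' := pL.base ((RelProj.emb pL chartL V hV).base y₀) with hx'
  have hxV : x' ∈ V := pL_emb_mem 𝒮L V hV y₀
  obtain ⟨V₀, hV₀, hx₀, ℓ, hℓ⟩ := exists_local_generator L hL x'
  obtain ⟨a, b, hab, hxa⟩ := exists_basicOpen_le_affine_inter hV hV₀ x' ⟨hxV, hx₀⟩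
  have hWV₀ : X.basicOpen a ≤ V₀ := hab ▸ X.basicOpen_le b
  have hW : IsAffineOpen (X.basicOpen a) := hV.basicOpen a
  set ℓW := L.presheaf.map (homOfLE hWV₀).op ℓ with hℓW
  have hbij : Function.Bijective (fun r : Γ(X, X.basicOpen a) => r • ℓW) := hℓ _ hWV₀
  obtain ⟨y₁, hy₁, hy₁'⟩ := exists_lift_basicOpen hPL V hV a y₀ hxa
  set T := jU L 𝒮L.toQCAlg j (X.basicOpen a) ℓW with hT
  set tW := (𝒮L.presheaf.map (homOfLE (X.basicOpen_le a)).op).hom t with htW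
  have htW1 : tW ∈ 𝒮L.deg (X.basicOpen a) hW d := 𝒮L.map_mem hV hW (X.basicOpen_le a) ht
  obtain ⟨c, hc⟩ := (mem_deg_iff L 𝒮L j hj (X.basicOpen a) hW ℓW hbij d tW).mp htW1
  have htW2 : tW ∉ y₁.asHomogeneousIdeal := by
    rw [← hy₁] at hy₀
    exact hy₀
  have hc1 : (𝒮L.str.app (op (X.basicOpen a))).hom c ∉ y₁.asHomogeneousIdeal := by
    intro h
    apply htW2
    rw [hc]
    exact Ideal.mul_mem_right _ _ h
  have hxc : x' ∈ X.basicOpen c := by
    rw [hx', ← hy₁']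
    exact (pL_emb_mem_basicOpen_iff hPL _ hW y₁ c).mpr hc1
  have hV'' : IsAffineOpen (X.basicOpen c) := hW.basicOpen c
  have hle'' : X.basicOpen c ≤ V := (X.basicOpen_le c).trans (X.basicOpen_le a)
  refine ⟨X.basicOpen c, hV'', hle'', hxc, ?_⟩
  have hWV₀'' : X.basicOpen c ≤ V₀ := (X.basicOpen_le c).trans hWV₀
  set ℓ'' := L.presheaf.map (homOfLE hWV₀'').op ℓ with hℓ''
  have hbij'' : Function.Bijective (fun r : Γ(X, X.basicOpen c) => r • ℓ'') := hℓ _ hWV₀''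
  set T'' := jU L 𝒮L.toQCAlg j (X.basicOpen c) ℓ'' with hT''
  have hℓres : resMod L (X.basicOpen_le c) ℓW = ℓ'' := by
    change (L.presheaf.map (homOfLE (X.basicOpen_le c)).op).hom
      ((L.presheaf.map (homOfLE hWV₀).op).hom ℓ) = (L.presheaf.map (homOfLE hWV₀'').op).hom ℓ
    rw [← ConcreteCategory.comp_apply, ← Functor.map_comp]
    rfl
  have hTres : (𝒮L.presheaf.map (homOfLE (X.basicOpen_le c)).op).hom T = T'' := by
    rw [hT, jU_res L 𝒮L.toQCAlg j (X.basicOpen_le c) ℓW, hℓres]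
  have htres : (𝒮L.presheaf.map (homOfLE hle'').op).hom t =
      (𝒮L.presheaf.map (homOfLE (X.basicOpen_le c)).op).hom tW := by
    rw [htW, ← ConcreteCategory.comp_apply, ← Functor.map_comp]
    rfl
  have hstr : (𝒮L.presheaf.map (homOfLE (X.basicOpen_le c)).op).hom
      ((𝒮L.str.app (op (X.basicOpen a))).hom c) =
      (𝒮L.str.app (op (X.basicOpen c))).hom
        ((X.presheaf.map (homOfLE (X.basicOpen_le c)).op).hom c) := by
    have := congrArg (fun k => k.hom c) (𝒮L.str.naturality (homOfLE (X.basicOpen_le c)).op)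
    exact this.symm
  have hu : IsUnit ((X.presheaf.map (homOfLE (X.basicOpen_le c)).op).hom c) :=
    RingedSpace.isUnit_res_basicOpen _ c
  obtain ⟨cu, hcu⟩ := hu
  intro y hy
  obtain ⟨e, rfl⟩ := (mem_deg_iff L 𝒮L j hj (X.basicOpen c) hV'' ℓ'' hbij'' d y).mp hy
  rw [SetLike.mem_coe, Ideal.mem_span_singleton']
  refine ⟨(𝒮L.str.app (op (X.basicOpen c))).hom (e * ↑cu⁻¹), ?_⟩
  have hres : (𝒮L.presheaf.map (homOfLE hle'').op).hom t =
      (𝒮L.str.app (op (X.basicOpen c))).hom (↑cu) * T'' ^ d := by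
    rw [htres, hc, map_mul, map_pow, hTres, hstr, ← hcu]
  rw [hres, ← mul_assoc, ← map_mul, mul_assoc, Units.inv_mul, mul_one]

end SymL

end Groth.Agent.Helper18.SymAlg
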