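import Mathlib
import Groth.Agent.Lib.Helper18.SymAlg7
import Groth.Agent.Lib.Helper18.ProjQPre

set_option autoImplicit false
universe u
open CategoryTheory CategoryTheory.Limits AlgebraicGeometry TopologicalSpace Opposite
open scoped HomogeneousIdeal
open HomogeneousLocalization

/-!
# The open of definition `G(ψ)` of `r_{L,ψ}` in terms of non-vanishing of sections
-/

noncomputable section

namespace Groth.Agent.Helper18.SymAlg

section GrLoc

variable {S : Scheme.{u}} (𝒮 : RelProj.QCGrAlg S)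

/-- Homogeneous elements over a basic open come from homogeneous elements of the same degree. -/
theorem exists_homogeneous_lift (U : S.Opens) (hU : IsAffineOpen U) (r : Γ(S, U)) (i : ℕ)
    (b : 𝒮.presheaf.obj (op (S.basicOpen r))) (hb : b ∈ 𝒮.deg (S.basicOpen r) (hU.basicOpen r) i) :
    ∃ (k : ℕ) (x : 𝒮.presheaf.obj (op U)), x ∈ 𝒮.deg U hU i ∧
      (𝒮.presheaf.map (homOfLE (S.basicOpen_le r)).op).hom x =
        b * (𝒮.presheaf.map (homOfLE (S.basicOpen_le r)).op).hom ((𝒮.str.app (op U)).hom r) ^ k := by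
  classical
  let ψ := 𝒮.res hU (hU.basicOpen r) (S.basicOpen_le r)
  let _inst := (𝒮.presheaf.map (homOfLE (S.basicOpen_le r)).op).hom.toAlgebra
  let c := (𝒮.str.app (op U)).hom r
  have hloc : IsLocalization.Away c (𝒮.presheaf.obj (op (S.basicOpen r))) := 𝒮.isQC U hU r
  obtain ⟨⟨x, s, hs⟩, hxs⟩ := IsLocalization.surj (Submonoid.powers c) b
  obtain ⟨k, rfl⟩ := (Submonoid.mem_powers_iff _ _).mp hs
  change b * ψ (c ^ k) = ψ x at hxs
  have hc0 : ψ (c ^ k) ∈ 𝒮.deg (S.basicOpen r) (hU.basicOpen r) 0 := by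
    rw [map_pow]
    exact SetLike.pow_mem_graded _ (ψ.map_mem (𝒮.str_mem U hU r))
  have hbi : b * ψ (c ^ k) ∈ 𝒮.deg (S.basicOpen r) (hU.basicOpen r) i := by
    simpa only [add_zero] using
      SetLike.mul_mem_graded (A := 𝒮.deg (S.basicOpen r) (hU.basicOpen r)) hb hc0
  have hxi : ψ (DirectSum.decompose (𝒮.deg U hU) x i : 𝒮.presheaf.obj (op U)) = b * ψ (c ^ k) := by
    rw [GradedRingHom.map_directSumDecompose, ← hxs, DirectSum.decompose_of_mem_same _ hbi]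
  refine ⟨k, (DirectSum.decompose (𝒮.deg U hU) x i : 𝒮.presheaf.obj (op U)), SetLike.coe_mem _, ?_⟩
  rw [map_pow] at hxi
  exact hxi


/-- The condition `𝒮_d ⊆ (t)` restricts to basic opens. -/
theorem deg_subset_span_basicOpen (U : S.Opens) (hU : IsAffineOpen U) (r : Γ(S, U)) (d : ℕ)
    (t : 𝒮.presheaf.obj (op U))
    (H : ((𝒮.deg U hU d : AddSubgroup (𝒮.presheaf.obj (op U))) : Set (𝒮.presheaf.obj (op U))) ⊆
      (Ideal.span {t} : Set (𝒮.presheaf.obj (op U)))) :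
    ((𝒮.deg (S.basicOpen r) (hU.basicOpen r) d : AddSubgroup (𝒮.presheaf.obj (op (S.basicOpen r)))) :
        Set (𝒮.presheaf.obj (op (S.basicOpen r)))) ⊆
      (Ideal.span {(𝒮.presheaf.map (homOfLE (S.basicOpen_le r)).op).hom t} :
        Set (𝒮.presheaf.obj (op (S.basicOpen r)))) := by
  intro b hb
  obtain ⟨k, x, hx, hxb⟩ := exists_homogeneous_lift 𝒮 U hU r d b hb
  obtain ⟨w, hw⟩ := Ideal.mem_span_singleton'.mp (H hx)
  have hu : IsUnit ((𝒮.presheaf.map (homOfLE (S.basicOpen_le r)).op).hom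
      ((𝒮.str.app (op U)).hom r)) := by
    have h1 : (𝒮.presheaf.map (homOfLE (S.basicOpen_le r)).op).hom ((𝒮.str.app (op U)).hom r) =
        (𝒮.str.app (op (S.basicOpen r))).hom
          ((S.presheaf.map (homOfLE (S.basicOpen_le r)).op).hom r) := by
      have := congrArg (fun k => k.hom r) (𝒮.str.naturality (homOfLE (S.basicOpen_le r)).op)
      exact this.symm
    rw [h1]
    exact (RingedSpace.isUnit_res_basicOpen _ r).map _
  obtain ⟨v, hv⟩ := hu.pow k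
  rw [SetLike.mem_coe, Ideal.mem_span_singleton']
  refine ⟨(𝒮.presheaf.map (homOfLE (S.basicOpen_le r)).op).hom w * ↑v⁻¹, ?_⟩
  have h2 : (𝒮.presheaf.map (homOfLE (S.basicOpen_le r)).op).hom w *
      (𝒮.presheaf.map (homOfLE (S.basicOpen_le r)).op).hom t = b * ↑v := by
    rw [← map_mul, hw, hxb, hv]
  calc (𝒮.presheaf.map (homOfLE (S.basicOpen_le r)).op).hom w * ↑v⁻¹ *
        (𝒮.presheaf.map (homOfLE (S.basicOpen_le r)).op).hom t
      = ((𝒮.presheaf.map (homOfLE (S.basicOpen_le r)).op).hom w *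
        (𝒮.presheaf.map (homOfLE (S.basicOpen_le r)).op).hom t) * ↑v⁻¹ := by ring
    _ = b := by rw [h2, mul_assoc, Units.mul_inv, mul_one]

end GrLoc


section Crit

open ProjQ

variable {Y X PL : Scheme.{u}} {q : X ⟶ Y} (L : X.Modules) [L.IsQuasicoherent]
  (hL : PicF.IsInvertible L)
  {𝒮 : RelProj.QCGrAlg Y} (𝒮L : RelProj.QCGrAlg X) (j : L ⟶ 𝒮L.toModule)
  (hj : RelProj.IsGrSymAlg L 𝒮L j) (u : RelProj.QGrHom q 𝒮 𝒮L)
  {pL : PL ⟶ X} {chartL : ∀ (U : X.Opens) (hU : IsAffineOpen U),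
    (((pL ⁻¹ᵁ U : PL.Opens) : Scheme.{u}) ≅ Proj (𝒮L.deg U hU))}
  (hPL : RelProj.IsRelProj 𝒮L pL chartL)

include hL hj hPL in
/-- If `ψ♭(s)` generates `L^{⊗n}` over `V`, then the part of `Proj(Sym L)` over `V` lies in the
standard chart of `s`, hence in `G(ψ)`. -/
theorem preimage_le_range_k (i : QIdx q 𝒮)
    (H : ((𝒮L.deg i.U' i.hU' i.d : AddSubgroup (𝒮L.presheaf.obj (op i.U'))) :
        Set (𝒮L.presheaf.obj (op i.U'))) ⊆
      (Ideal.span {(u.appLE i.U i.U' i.hle).hom i.f} : Set (𝒮L.presheaf.obj (op i.U'))))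
    (x : PL) (hx : pL.base x ∈ i.U') : x ∈ Set.range (i.k u pL chartL).base := by
  have hx1 : x ∈ (RelProj.emb pL chartL i.U' i.hU').opensRange := by
    rw [opensRange_emb]; exact hx
  obtain ⟨y₀, rfl⟩ := hx1
  set t := i.ψ u i.f with ht
  have htd : t ∈ 𝒮L.deg i.U' i.hU' i.d := (i.ψ u).map_mem i.hf
  have hy₀ : t ∉ y₀.asHomogeneousIdeal :=
    not_mem_of_deg_subset_span L hL 𝒮L j hj hPL i.U' i.hU' i.d t H y₀
  have hy₀' : y₀ ∈ Proj.basicOpen (𝒮L.deg i.U' i.hU') t := (Proj.mem_basicOpen _ _ _).mpr hy₀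
  rw [← Proj.opensRange_awayι _ _ htd i.hd] at hy₀'
  obtain ⟨z, rfl⟩ := hy₀'
  exact ⟨z, rfl⟩

include hL hj hPL in
theorem preimage_le_domQ (i : QIdx q 𝒮)
    (H : ((𝒮L.deg i.U' i.hU' i.d : AddSubgroup (𝒮L.presheaf.obj (op i.U'))) :
        Set (𝒮L.presheaf.obj (op i.U'))) ⊆
      (Ideal.span {(u.appLE i.U i.U' i.hle).hom i.f} : Set (𝒮L.presheaf.obj (op i.U'))))
    (x : PL) (hx : pL.base x ∈ i.U') : x ∈ RelProj.domQ u pL chartL := by
  have hk := preimage_le_range_k L hL 𝒮L j hj u hPL i H x hx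
  have hG := RelProj.range_awayEmb_subset_domQ u pL chartL i.U i.hU i.U' i.hU' i.hle i.hd i.f i.hf hk
  rw [Scheme.Opens.range_ι] at hG
  exact hG

include hL hj hPL in
/-- Around a point of a standard chart, `ψ♭(f)` generates `L^{⊗d}`. -/
theorem exists_deg_subset_span_of_mem_range_k (i : QIdx q 𝒮) (x : PL)
    (hx : x ∈ Set.range (i.k u pL chartL).base) :
    ∃ (V : X.Opens) (hV : IsAffineOpen V) (hle : V ≤ i.U'), pL.base x ∈ V ∧
      ((𝒮L.deg V hV i.d : AddSubgroup (𝒮L.presheaf.obj (op V))) : Set (𝒮L.presheaf.obj (op V))) ⊆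
        (Ideal.span {(u.appLE i.U V (hle.trans i.hle)).hom i.f} : Set (𝒮L.presheaf.obj (op V))) := by
  obtain ⟨z, rfl⟩ := hx
  set t := i.ψ u i.f with ht
  have htd : t ∈ 𝒮L.deg i.U' i.hU' i.d := (i.ψ u).map_mem i.hf
  set y₁ := (Proj.awayι (𝒮L.deg i.U' i.hU') t htd i.hd).base z with hy₁
  have hz' : (RelProj.emb pL chartL i.U' i.hU').base y₁ = (i.k u pL chartL).base z := rfl
  have hy₁t : t ∉ y₁.asHomogeneousIdeal := by
    have : y₁ ∈ Proj.basicOpen (𝒮L.deg i.U' i.hU') t := by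
      rw [← Proj.opensRange_awayι _ _ htd i.hd]; exact ⟨z, rfl⟩
    exact (Proj.mem_basicOpen _ _ _).mp this
  obtain ⟨V'', hV'', hle'', hx'', H⟩ :=
    exists_affine_deg_subset_span L hL 𝒮L j hj hPL i.U' i.hU' i.d t htd y₁ hy₁t
  rw [hz'] at hx''
  have hres : (𝒮L.presheaf.map (homOfLE hle'').op).hom t =
      (u.appLE i.U V'' (hle''.trans i.hle)).hom i.f := by
    have := congrArg (fun k => k.hom i.f) (u.appLE_map i.hle hle'')
    exact this
  rw [hres] at H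
  exact ⟨V'', hV'', hle'', hx'', H⟩

include hL hj hPL in
/-- Every point of `G(ψ)` has such a neighbourhood. -/
theorem exists_deg_subset_span_of_mem_domQ (x : PL) (hx : x ∈ RelProj.domQ u pL chartL) :
    ∃ (U : Y.Opens) (hU : IsAffineOpen U) (V : X.Opens) (hV : IsAffineOpen V) (hle : V ≤ q ⁻¹ᵁ U)
      (n : ℕ) (_ : 0 < n) (s : 𝒮.presheaf.obj (op U)) (_ : s ∈ 𝒮.deg U hU n), pL.base x ∈ V ∧
      ((𝒮L.deg V hV n : AddSubgroup (𝒮L.presheaf.obj (op V))) : Set (𝒮L.presheaf.obj (op V))) ⊆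
        (Ideal.span {(u.appLE U V hle).hom s} : Set (𝒮L.presheaf.obj (op V))) := by
  obtain ⟨i, hi⟩ := exists_k_of_mem_domQ (u := u) (p' := pL) (chart' := chartL) x hx
  obtain ⟨V, hV, hle, hxV, H⟩ :=
    exists_deg_subset_span_of_mem_range_k L hL 𝒮L j hj u hPL i x hi
  exact ⟨i.U, i.hU, V, hV, hle.trans i.hle, i.d, i.hd, i.f, i.hf, hxV, H⟩

end Crit


section Top

variable {Y X : Scheme.{u}} {q : X ⟶ Y} {𝒮 : RelProj.QCGrAlg Y} {𝒮L : RelProj.QCGrAlg X}
  (u : RelProj.QGrHom q 𝒮 𝒮L)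

theorem isUnit_res_str {S : Scheme.{u}} (𝒮 : RelProj.QCGrAlg S) (U : S.Opens) (r : Γ(S, U)) :
    IsUnit ((𝒮.presheaf.map (homOfLE (S.basicOpen_le r)).op).hom ((𝒮.str.app (op U)).hom r)) := by
  have h1 : (𝒮.presheaf.map (homOfLE (S.basicOpen_le r)).op).hom ((𝒮.str.app (op U)).hom r) =
      (𝒮.str.app (op (S.basicOpen r))).hom
        ((S.presheaf.map (homOfLE (S.basicOpen_le r)).op).hom r) := by
    have := congrArg (fun k => k.hom r) (𝒮.str.naturality (homOfLE (S.basicOpen_le r)).op)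
    exact this.symm
  rw [h1]
  exact (RingedSpace.isUnit_res_basicOpen _ r).map _

/-- Over an affine base, the local generator `ψ♭(s)` may be taken with `s` a global section. -/
theorem exists_top_deg_subset_span (hY : IsAffineOpen (⊤ : Y.Opens))
    (U : Y.Opens) (hU : IsAffineOpen U) (V : X.Opens) (hV : IsAffineOpen V) (hle : V ≤ q ⁻¹ᵁ U)
    (n : ℕ) (s : 𝒮.presheaf.obj (op U)) (hs : s ∈ 𝒮.deg U hU n) (x' : X) (hxV : x' ∈ V)
    (H : ((𝒮L.deg V hV n : AddSubgroup (𝒮L.presheaf.obj (op V))) : Set (𝒮L.presheaf.obj (op V))) ⊆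
      (Ideal.span {(u.appLE U V hle).hom s} : Set (𝒮L.presheaf.obj (op V)))) :
    ∃ (s' : 𝒮.presheaf.obj (op ⊤)) (_ : s' ∈ 𝒮.deg ⊤ hY n) (V' : X.Opens) (hV' : IsAffineOpen V'),
      x' ∈ V' ∧
      ((𝒮L.deg V' hV' n : AddSubgroup (𝒮L.presheaf.obj (op V'))) :
          Set (𝒮L.presheaf.obj (op V'))) ⊆
        (Ideal.span {(u.appLE ⊤ V' (le_top.trans (Scheme.Hom.preimage_top q).ge)).hom s'} :
          Set (𝒮L.presheaf.obj (op V'))) := by
  have hyU : q.base x' ∈ U := hle hxV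
  obtain ⟨a, b, hab, hya⟩ := exists_basicOpen_le_affine_inter hY hU (q.base x') ⟨trivial, hyU⟩
  set c := (q.appLE U V hle).hom b with hc
  have hV3 : X.basicOpen c = V ⊓ q ⁻¹ᵁ (Y.basicOpen b) := Scheme.basicOpen_appLE q V U hle b
  have hV3a : IsAffineOpen (X.basicOpen c) := hV.basicOpen c
  have hx3 : x' ∈ X.basicOpen c := by
    rw [hV3]; exact ⟨hxV, hab ▸ hya⟩
  have H3 := deg_subset_span_basicOpen 𝒮L V hV c n _ H
  have hres3 : (𝒮L.presheaf.map (homOfLE (X.basicOpen_le c)).op).hom ((u.appLE U V hle).hom s) =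
      (u.appLE U (X.basicOpen c) ((X.basicOpen_le c).trans hle)).hom s := by
    have := congrArg (fun k => k.hom s) (u.appLE_map hle (X.basicOpen_le c))
    exact this
  rw [hres3] at H3
  have hD : IsAffineOpen (Y.basicOpen a) := hY.basicOpen a
  have hDU : Y.basicOpen a ≤ U := hab ▸ Y.basicOpen_le b
  have hV3D : X.basicOpen c ≤ q ⁻¹ᵁ (Y.basicOpen a) := by
    rw [hV3, hab]; exact inf_le_right
  set sD := (𝒮.presheaf.map (homOfLE hDU).op).hom s with hsD
  have hsD' : sD ∈ 𝒮.deg (Y.basicOpen a) hD n := 𝒮.map_mem hU hD hDU hs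
  obtain ⟨k, s', hs', hres⟩ := exists_homogeneous_lift 𝒮 ⊤ hY a n sD hsD'
  have hu := isUnit_res_str 𝒮 ⊤ a
  have e1 : (u.appLE ⊤ (X.basicOpen c) (le_top.trans (Scheme.Hom.preimage_top q).ge)).hom s' =
      (u.appLE (Y.basicOpen a) (X.basicOpen c) hV3D).hom
        ((𝒮.presheaf.map (homOfLE (Y.basicOpen_le a)).op).hom s') := by
    have := congrArg (fun k => k.hom s') (u.map_appLE (Y.basicOpen_le a) hV3D)
    exact this.symm
  have e2 : (u.appLE (Y.basicOpen a) (X.basicOpen c) hV3D).hom sD =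
      (u.appLE U (X.basicOpen c) ((X.basicOpen_le c).trans hle)).hom s := by
    have := congrArg (fun k => k.hom s) (u.map_appLE hDU hV3D)
    exact this
  obtain ⟨v, hv⟩ := ((hu.pow k).map (u.appLE (Y.basicOpen a) (X.basicOpen c) hV3D).hom)
  have e3 : (u.appLE ⊤ (X.basicOpen c) (le_top.trans (Scheme.Hom.preimage_top q).ge)).hom s' =
      (u.appLE U (X.basicOpen c) ((X.basicOpen_le c).trans hle)).hom s * ↑v := by
    rw [e1, hres, map_mul, e2, hv]
  refine ⟨s', hs', X.basicOpen c, hV3a, hx3, ?_⟩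
  intro y hy
  obtain ⟨w, hw⟩ := Ideal.mem_span_singleton'.mp (H3 hy)
  rw [SetLike.mem_coe, Ideal.mem_span_singleton', e3]
  refine ⟨w * ↑v⁻¹, ?_⟩
  rw [← hw]
  calc w * ↑v⁻¹ * ((u.appLE U (X.basicOpen c) ((X.basicOpen_le c).trans hle)).hom s * ↑v)
      = w * (u.appLE U (X.basicOpen c) ((X.basicOpen_le c).trans hle)).hom s * (↑v⁻¹ * ↑v) := by
        ring
    _ = w * (u.appLE U (X.basicOpen c) ((X.basicOpen_le c).trans hle)).hom s := by
        rw [Units.inv_mul, mul_one]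

end Top

end Groth.Agent.Helper18.SymAlg
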