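import Mathlib
import Groth.Agent.Lib.Helper18.SymAlg8
import Groth.Agent.Lib.Helper18.SymAlg9
import Groth.Agent.S12143

set_option autoImplicit false
universe u
open CategoryTheory CategoryTheory.Limits AlgebraicGeometry TopologicalSpace Opposite
open scoped HomogeneousIdeal
open HomogeneousLocalization

/-!
# The morphism `r_{L,ψ}` over the charts `D₊(s)` of `Proj S` (affine base)
-/

noncomputable section

namespace Groth.Agent.Helper18.SymAlg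

open ProjQ

section Core

variable {Y X P PL : Scheme.{u}} {q : X ⟶ Y} (L : X.Modules) [L.IsQuasicoherent]
  (hL : PicF.IsInvertible L)
  {𝒮 : RelProj.QCGrAlg Y} (𝒮L : RelProj.QCGrAlg X) (j : L ⟶ 𝒮L.toModule)
  (hj : RelProj.IsGrSymAlg L 𝒮L j) (u : RelProj.QGrHom q 𝒮 𝒮L)
  {p : P ⟶ Y} {chart : ∀ (U : Y.Opens) (hU : IsAffineOpen U),
    (((p ⁻¹ᵁ U : P.Opens) : Scheme.{u}) ≅ Proj (𝒮.deg U hU))}
  (hP : RelProj.IsRelProj 𝒮 p chart)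
  {pL : PL ⟶ X} {chartL : ∀ (U : X.Opens) (hU : IsAffineOpen U),
    (((pL ⁻¹ᵁ U : PL.Opens) : Scheme.{u}) ≅ Proj (𝒮L.deg U hU))}
  (hPL : RelProj.IsRelProj 𝒮L pL chartL)
  (r : ((RelProj.domQ u pL chartL : PL.Opens) : Scheme.{u}) ⟶ P)
  (hr : RelProj.IsProjQMapOn u p chart pL chartL (RelProj.domQ u pL chartL) r)
  (hY : IsAffineOpen (⊤ : Y.Opens))

/-- The open `X_t` where `t = ψ♭(s)` does not vanish. -/
def XT (n : ℕ) (s : 𝒮.presheaf.obj (op ⊤)) : X.Opens :=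
  ⨆ V : {V : X.affineOpens //
    ((𝒮L.deg V.1 V.2 n : AddSubgroup (𝒮L.presheaf.obj (op (V.1 : X.Opens)))) :
        Set (𝒮L.presheaf.obj (op (V.1 : X.Opens)))) ⊆
      (Ideal.span {(u.appLE ⊤ (V.1 : X.Opens)
        (le_top.trans (Scheme.Hom.preimage_top q).ge)).hom s} :
        Set (𝒮L.presheaf.obj (op (V.1 : X.Opens))))},
    (V.1.1 : X.Opens)

theorem mem_XT_iff (n : ℕ) (s : 𝒮.presheaf.obj (op ⊤)) (x : X) :
    x ∈ XT 𝒮L u n s ↔ ∃ (V : X.Opens) (hV : IsAffineOpen V), x ∈ V ∧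
      ((𝒮L.deg V hV n : AddSubgroup (𝒮L.presheaf.obj (op V))) : Set (𝒮L.presheaf.obj (op V))) ⊆
        (Ideal.span {(u.appLE ⊤ V (le_top.trans (Scheme.Hom.preimage_top q).ge)).hom s} :
          Set (𝒮L.presheaf.obj (op V))) := by
  unfold XT
  rw [Opens.mem_iSup]
  constructor
  · rintro ⟨⟨⟨V, hV⟩, H⟩, hx⟩
    exact ⟨V, hV, hx, H⟩
  · rintro ⟨V, hV, hx, H⟩
    exact ⟨⟨⟨V, hV⟩, H⟩, hx⟩

/-- the chart of `D₊(s)` in `P` -/
def Dp (p : P ⟶ Y) (chart : ∀ (U : Y.Opens) (hU : IsAffineOpen U),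
    (((p ⁻¹ᵁ U : P.Opens) : Scheme.{u}) ≅ Proj (𝒮.deg U hU)))
    (hY : IsAffineOpen (⊤ : Y.Opens)) (s : 𝒮.presheaf.obj (op ⊤)) : P.Opens :=
  (RelProj.emb p chart ⊤ hY) ''ᵁ Proj.basicOpen (𝒮.deg ⊤ hY) s

include hL hj hP hPL hr in
/-- `r⁻¹(D₊(s)) = X_t`. -/
theorem map_mem_Dp_iff (n : ℕ) (hn : 0 < n) (s : 𝒮.presheaf.obj (op ⊤)) (hs : s ∈ 𝒮.deg ⊤ hY n)
    (x : ((RelProj.domQ u pL chartL : PL.Opens) : Scheme.{u})) :
    r.base x ∈ Dp p chart hY s ↔ pL.base x.1 ∈ XT 𝒮L u n s := by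
  have hle : ∀ V : X.Opens, V ≤ q ⁻¹ᵁ ⊤ := fun V => le_top.trans (Scheme.Hom.preimage_top q).ge
  constructor
  · rintro ⟨y₀, hy₀, hy⟩
    obtain ⟨V, hV0, hxV, -⟩ := Opens.isBasis_iff_nbhd.mp (X.isBasis_affineOpens)
      (show pL.base x.1 ∈ (⊤ : X.Opens) from trivial)
    have hV : IsAffineOpen V := hV0
    let jdx : QIdx q 𝒮 := ⟨⊤, hY, V, hV, hle V, n, hn, s, hs⟩
    have h1 := (map_inD_iff (u := u) hP hPL r hr jdx x hxV).mp ⟨y₀, hy₀, hy⟩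
    obtain ⟨V'', hV'', hle'', hx'', H⟩ :=
      exists_deg_subset_span_of_mem_range_k L hL 𝒮L j hj u hPL jdx x.1 h1
    exact (mem_XT_iff 𝒮L u n s _).mpr ⟨V'', hV'', hx'', H⟩
  · intro hx
    obtain ⟨V, hV, hxV, H⟩ := (mem_XT_iff 𝒮L u n s _).mp hx
    let jdx : QIdx q 𝒮 := ⟨⊤, hY, V, hV, hle V, n, hn, s, hs⟩
    have hk := preimage_le_range_k L hL 𝒮L j hj u hPL jdx H x.1 hxV
    obtain ⟨y', hy', hy''⟩ := (map_inD_iff (u := u) hP hPL r hr jdx x hxV).mpr hk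
    exact ⟨y', hy', hy''⟩

include hL hj hPL in
theorem mem_domQ_of_mem_XT (n : ℕ) (hn : 0 < n) (s : 𝒮.presheaf.obj (op ⊤))
    (hs : s ∈ 𝒮.deg ⊤ hY n) (x : PL) (hx : pL.base x ∈ XT 𝒮L u n s) :
    x ∈ RelProj.domQ u pL chartL := by
  obtain ⟨V, hV, hxV, H⟩ := (mem_XT_iff 𝒮L u n s _).mp hx
  exact preimage_le_domQ L hL 𝒮L j hj u hPL
    ⟨⊤, hY, V, hV, le_top.trans (Scheme.Hom.preimage_top q).ge, n, hn, s, hs⟩ H x hxV

/-- the chart index attached to `s` when `X_t` is affine -/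
def idxT (n : ℕ) (hn : 0 < n) (s : 𝒮.presheaf.obj (op ⊤)) (hs : s ∈ 𝒮.deg ⊤ hY n)
    (hXT : IsAffineOpen (XT 𝒮L u n s)) : QIdx q 𝒮 :=
  ⟨⊤, hY, XT 𝒮L u n s, hXT, le_top.trans (Scheme.Hom.preimage_top q).ge, n, hn, s, hs⟩

include hL hj hP hPL hr in
theorem mem_range_k_idxT_iff (n : ℕ) (hn : 0 < n) (s : 𝒮.presheaf.obj (op ⊤))
    (hs : s ∈ 𝒮.deg ⊤ hY n) (hXT : IsAffineOpen (XT 𝒮L u n s)) (x : PL) :
    x ∈ Set.range ((idxT 𝒮L u hY n hn s hs hXT).k u pL chartL).base ↔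
      pL.base x ∈ XT 𝒮L u n s := by
  constructor
  · intro h
    exact mem_of_mem_range_k (idxT 𝒮L u hY n hn s hs hXT) x h
  · intro hx
    have hG := mem_domQ_of_mem_XT L hL 𝒮L j hj u hPL hY n hn s hs x hx
    have h1 := (map_mem_Dp_iff L hL 𝒮L j hj u hP hPL r hr hY n hn s hs ⟨x, hG⟩).mpr hx
    obtain ⟨y₀, hy₀, hy⟩ := h1
    exact (map_inD_iff (u := u) hP hPL r hr (idxT 𝒮L u hY n hn s hs hXT) ⟨x, hG⟩ hx).mp
      ⟨y₀, hy₀, hy⟩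

include hL hj hP hPL hr in
theorem opensRange_k'_idxT (n : ℕ) (hn : 0 < n) (s : 𝒮.presheaf.obj (op ⊤))
    (hs : s ∈ 𝒮.deg ⊤ hY n) (hXT : IsAffineOpen (XT 𝒮L u n s)) :
    ((idxT 𝒮L u hY n hn s hs hXT).k' u pL chartL).opensRange = r ⁻¹ᵁ Dp p chart hY s := by
  ext x
  have h1 : x ∈ ((idxT 𝒮L u hY n hn s hs hXT).k' u pL chartL).opensRange ↔
      x.1 ∈ Set.range ((idxT 𝒮L u hY n hn s hs hXT).k u pL chartL).base := by
    constructor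
    · rintro ⟨z, rfl⟩
      refine ⟨z, ?_⟩
      have := congrArg (fun k => k.base z)
        (QIdx.k'_ι (u := u) (p' := pL) (chart' := chartL) (idxT 𝒮L u hY n hn s hs hXT))
      exact this.symm
    · rintro ⟨z, hz⟩
      refine ⟨z, ?_⟩
      apply (RelProj.domQ u pL chartL).ι.isOpenEmbedding.injective
      have := congrArg (fun k => k.base z)
        (QIdx.k'_ι (u := u) (p' := pL) (chart' := chartL) (idxT 𝒮L u hY n hn s hs hXT))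
      exact this.trans hz
  change x ∈ ((idxT 𝒮L u hY n hn s hs hXT).k' u pL chartL).opensRange ↔ r.base x ∈ Dp p chart hY s
  rw [h1, mem_range_k_idxT_iff L hL 𝒮L j hj u hP hPL r hr hY n hn s hs hXT,
    map_mem_Dp_iff L hL 𝒮L j hj u hP hPL r hr hY n hn s hs]

end Core


section Theta

variable {Y X P PL : Scheme.{u}} {q : X ⟶ Y} (L : X.Modules) [L.IsQuasicoherent]
  (hL : PicF.IsInvertible L)
  {𝒮 : RelProj.QCGrAlg Y} (𝒮L : RelProj.QCGrAlg X) (j : L ⟶ 𝒮L.toModule)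
  (hj : RelProj.IsGrSymAlg L 𝒮L j) (u : RelProj.QGrHom q 𝒮 𝒮L)
  {p : P ⟶ Y} {chart : ∀ (U : Y.Opens) (hU : IsAffineOpen U),
    (((p ⁻¹ᵁ U : P.Opens) : Scheme.{u}) ≅ Proj (𝒮.deg U hU))}
  (hP : RelProj.IsRelProj 𝒮 p chart)
  {pL : PL ⟶ X} {chartL : ∀ (U : X.Opens) (hU : IsAffineOpen U),
    (((pL ⁻¹ᵁ U : PL.Opens) : Scheme.{u}) ≅ Proj (𝒮L.deg U hU))}
  (hPL : RelProj.IsRelProj 𝒮L pL chartL)
  (r : ((RelProj.domQ u pL chartL : PL.Opens) : Scheme.{u}) ⟶ P)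
  (hr : RelProj.IsProjQMapOn u p chart pL chartL (RelProj.domQ u pL chartL) r)
  (hY : IsAffineOpen (⊤ : Y.Opens))
  (n : ℕ) (hn : 0 < n) (s : 𝒮.presheaf.obj (op ⊤)) (hs : s ∈ 𝒮.deg ⊤ hY n)
  (hXT : IsAffineOpen (XT 𝒮L u n s))

/-- `t = ψ♭(s)` over `X_t` -/
abbrev tT : 𝒮L.presheaf.obj (op (XT 𝒮L u n s)) :=
  (idxT 𝒮L u hY n hn s hs hXT).ψ u s

/-- the comparison `O(X_t) → Sym(L)(X_t)_(t)` -/
def thetaT : Γ(X, XT 𝒮L u n s) ⟶
    CommRingCat.of (Away (𝒮L.deg (XT 𝒮L u n s) hXT) (tT 𝒮L u hY n hn s hs hXT)) :=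
  𝒮L.strZero (XT 𝒮L u n s) hXT ≫ CommRingCat.ofHom
    (fromZeroRingHom (𝒮L.deg (XT 𝒮L u n s) hXT)
      (Submonoid.powers (tT 𝒮L u hY n hn s hs hXT)))

include hL hj hP hPL hr in
theorem isIso_thetaT [IsIso pL] : IsIso (thetaT 𝒮L u hY n hn s hs hXT) := by
  have htd : tT 𝒮L u hY n hn s hs hXT ∈ 𝒮L.deg (XT 𝒮L u n s) hXT n :=
    ((idxT 𝒮L u hY n hn s hs hXT).ψ u).map_mem hs
  let kT : Spec (CommRingCat.of (Away (𝒮L.deg (XT 𝒮L u n s) hXT)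
      (tT 𝒮L u hY n hn s hs hXT))) ⟶ PL :=
    Proj.awayι _ _ htd hn ≫ RelProj.emb pL chartL (XT 𝒮L u n s) hXT
  have hkT : ∀ x : PL, x ∈ Set.range kT.base ↔ pL.base x ∈ XT 𝒮L u n s :=
    fun x => mem_range_k_idxT_iff L hL 𝒮L j hj u hP hPL r hr hY n hn s hs hXT x
  have hfac : kT ≫ pL = Spec.map (thetaT 𝒮L u hY n hn s hs hXT) ≫ hXT.fromSpec := by
    change (Proj.awayι _ _ htd hn ≫ RelProj.emb pL chartL (XT 𝒮L u n s) hXT) ≫ pL = _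
    rw [Category.assoc, emb_comp hPL (XT 𝒮L u n s) hXT, Proj.awayι_toSpecZero_assoc, thetaT,
      Spec.map_comp, Category.assoc]
  have hrange : Set.range (kT ≫ pL).base = Set.range hXT.fromSpec.base := by
    rw [hXT.range_fromSpec]
    ext x
    constructor
    · rintro ⟨z, rfl⟩
      exact (hkT _).mp ⟨z, rfl⟩
    · intro hx
      obtain ⟨x₀, rfl⟩ := pL.surjective x
      obtain ⟨z, hz⟩ := (hkT x₀).mpr hx
      exact ⟨z, congrArg pL.base hz⟩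
  let e := IsOpenImmersion.isoOfRangeEq (kT ≫ pL) hXT.fromSpec hrange
  have he : e.hom ≫ hXT.fromSpec = kT ≫ pL :=
    IsOpenImmersion.isoOfRangeEq_hom_fac _ _ _
  have he2 : e.hom = Spec.map (thetaT 𝒮L u hY n hn s hs hXT) := by
    rw [← cancel_mono hXT.fromSpec, he, hfac]
  have : IsIso (Spec.map (thetaT 𝒮L u hY n hn s hs hXT)) := by
    rw [← he2]; infer_instance
  exact (ConcreteCategory.isIso_iff_bijective _).mpr (isIso_SpecMap_iff.mp this)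


include hL hj hP hPL hr in
/-- Over `D₊(s)`, `r` is `Spec` of `S_(s) → Sym(L)(X_t)_(t)`. -/
theorem restrict_Dp_iff (Pr : MorphismProperty Scheme.{u}) [Pr.RespectsIso] :
    Pr (r ∣_ Dp p chart hY s) ↔
      Pr (Spec.map (CommRingCat.ofHom (Away.map ((idxT 𝒮L u hY n hn s hs hXT).ψ u) s))) := by
  have hκ := opensRange_k'_idxT L hL 𝒮L j hj u hP hPL r hr hY n hn s hs hXT
  have hε : (Proj.awayι (𝒮.deg ⊤ hY) s hs hn ≫ RelProj.emb p chart ⊤ hY).opensRange =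
      Dp p chart hY s := by
    rw [Scheme.Hom.opensRange_comp, Proj.opensRange_awayι]
    rfl
  have hc : (idxT 𝒮L u hY n hn s hs hXT).k' u pL chartL ≫ r =
      Spec.map (CommRingCat.ofHom (Away.map ((idxT 𝒮L u hY n hn s hs hXT).ψ u) s)) ≫
        Proj.awayι (𝒮.deg ⊤ hY) s hs hn ≫ RelProj.emb p chart ⊤ hY :=
    hr ⊤ hY (XT 𝒮L u n s) hXT (le_top.trans (Scheme.Hom.preimage_top q).ge) n hn s hs _
  exact restrict_iff_of_charts Pr r (Dp p chart hY s)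
    ((idxT 𝒮L u hY n hn s hs hXT).k' u pL chartL)
    (Proj.awayι (𝒮.deg ⊤ hY) s hs hn ≫ RelProj.emb p chart ⊤ hY) _ hκ hε hc

include hL hj hP hPL hr in
/-- condition (iii) is the surjectivity of `S_(s) → Sym(L)(X_t)_(t)` -/
theorem surjective_phi_iff [IsIso pL] :
    Function.Surjective (Away.map ((idxT 𝒮L u hY n hn s hs hXT).ψ u) s) ↔
      ∀ t : X.presheaf.obj (op (XT 𝒮L u n s)), ∃ (m : ℕ) (_ : 0 < m)
        (s' : 𝒮.presheaf.obj (op ⊤)) (_ : s' ∈ 𝒮.deg ⊤ hY (m * n)),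
        (𝒮L.str.app (op (XT 𝒮L u n s))).hom t *
          ((u.appLE ⊤ (XT 𝒮L u n s) (le_top.trans (Scheme.Hom.preimage_top q).ge)).hom s) ^ m =
            (u.appLE ⊤ (XT 𝒮L u n s) (le_top.trans (Scheme.Hom.preimage_top q).ge)).hom s' := by
  have hθ := isIso_thetaT L hL 𝒮L j hj u hP hPL r hr hY n hn s hs hXT
  have hθ' := ((ConcreteCategory.isIso_iff_bijective _).mp hθ).2
  exact surjective_awayMap_iff ((idxT 𝒮L u hY n hn s hs hXT).ψ u) hs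
    (𝒮L.strZero (XT 𝒮L u n s) hXT).hom hθ'

/-- condition (iv) is the injectivity of `S_(s) → Sym(L)(X_t)_(t)` -/
theorem injective_phi_iff :
    Function.Injective (Away.map ((idxT 𝒮L u hY n hn s hs hXT).ψ u) s) ↔
      ∀ (m : ℕ), 0 < m → ∀ s' ∈ 𝒮.deg ⊤ hY (m * n),
        (u.appLE ⊤ (XT 𝒮L u n s) (le_top.trans (Scheme.Hom.preimage_top q).ge)).hom s' = 0 →
          ∃ (k : ℕ), 0 < k ∧ s ^ k * s' = 0 :=
  injective_awayMap_iff ((idxT 𝒮L u hY n hn s hs hXT).ψ u) hs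

end Theta


section Affine

variable {Y X P PL : Scheme.{u}} {q : X ⟶ Y} (L : X.Modules) [L.IsQuasicoherent]
  (hL : PicF.IsInvertible L)
  {𝒮 : RelProj.QCGrAlg Y} (𝒮L : RelProj.QCGrAlg X) (j : L ⟶ 𝒮L.toModule)
  (hj : RelProj.IsGrSymAlg L 𝒮L j) (u : RelProj.QGrHom q 𝒮 𝒮L)
  {p : P ⟶ Y} {chart : ∀ (U : Y.Opens) (hU : IsAffineOpen U),
    (((p ⁻¹ᵁ U : P.Opens) : Scheme.{u}) ≅ Proj (𝒮.deg U hU))}
  (hP : RelProj.IsRelProj 𝒮 p chart)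
  {pL : PL ⟶ X} {chartL : ∀ (U : X.Opens) (hU : IsAffineOpen U),
    (((pL ⁻¹ᵁ U : PL.Opens) : Scheme.{u}) ≅ Proj (𝒮L.deg U hU))}
  (hPL : RelProj.IsRelProj 𝒮L pL chartL)
  (r : ((RelProj.domQ u pL chartL : PL.Opens) : Scheme.{u}) ⟶ P)
  (hr : RelProj.IsProjQMapOn u p chart pL chartL (RelProj.domQ u pL chartL) r)
  (hY : IsAffineOpen (⊤ : Y.Opens))
  (n : ℕ) (hn : 0 < n) (s : 𝒮.presheaf.obj (op ⊤)) (hs : s ∈ 𝒮.deg ⊤ hY n)

include hn hs in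
theorem isAffineOpen_Dp : IsAffineOpen (Dp p chart hY s) :=
  (Proj.isAffineOpen_basicOpen (𝒮.deg ⊤ hY) s hs hn).image_of_isOpenImmersion
    (RelProj.emb p chart ⊤ hY)

include hL hj hP hPL hr hn hs in
theorem isAffineOpen_XT_of_isClosedImmersion [IsIso pL]
    (h : IsClosedImmersion (r ∣_ Dp p chart hY s)) : IsAffineOpen (XT 𝒮L u n s) := by
  have hD : IsAffineOpen (Dp p chart hY s) := isAffineOpen_Dp hY n hn s hs
  have hDa : IsAffine ((Dp p chart hY s : P.Opens) : Scheme.{u}) := hD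
  obtain ⟨h1, -⟩ := IsClosedImmersion.isAffine_surjective_of_isAffine (r ∣_ Dp p chart hY s)
  have hA : IsAffineOpen (r ⁻¹ᵁ Dp p chart hY s) := h1
  have hA2 := hA.image_of_isOpenImmersion (RelProj.domQ u pL chartL).ι
  have hA3 := hA2.image_of_isOpenImmersion pL
  have heq : pL ''ᵁ ((RelProj.domQ u pL chartL).ι ''ᵁ (r ⁻¹ᵁ Dp p chart hY s)) =
      XT 𝒮L u n s := by
    ext x
    constructor
    · rintro ⟨_, ⟨x₀, hx₀, rfl⟩, rfl⟩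
      exact (map_mem_Dp_iff L hL 𝒮L j hj u hP hPL r hr hY n hn s hs x₀).mp hx₀
    · intro hx
      obtain ⟨x₁, rfl⟩ := pL.surjective x
      have hG := mem_domQ_of_mem_XT L hL 𝒮L j hj u hPL hY n hn s hs x₁ hx
      exact ⟨x₁, ⟨⟨x₁, hG⟩,
        (map_mem_Dp_iff L hL 𝒮L j hj u hP hPL r hr hY n hn s hs ⟨x₁, hG⟩).mpr hx, rfl⟩, rfl⟩
  rw [← heq]
  exact hA3

end Affine

end Groth.Agent.Helper18.SymAlg
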