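import Mathlib
import Groth.Agent.Lib.Helper18.SymAlg10

set_option autoImplicit false
universe u
open CategoryTheory CategoryTheory.Limits AlgebraicGeometry TopologicalSpace Opposite
open scoped HomogeneousIdeal
open HomogeneousLocalization

/-!
# The morphism `r_{L,ψ}` over the charts `D₊(s)` of `Proj S` (relative version, over an affine
open `U` of the base)
-/

noncomputable section

namespace Groth.Agent.Helper18.SymAlg

open ProjQ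

section CoreU

variable {Y X P PL : Scheme.{u}} {q : X ⟶ Y} (L : X.Modules) [L.IsQuasicoherent]
  (hL : PicF.IsInvertible L)
  {𝒮 : RelProj.QCGrAlg Y} (𝒮L : RelProj.QCGrAlg X) (j : L ⟶ 𝒮L.toModule)
  (hj : RelProj.IsGrSymAlg L 𝒮L j) (u : RelProj.QGrHom q 𝒮 𝒮L)
  {p : P ⟶ Y} {chart : ∀ (U : Y.Opens) (hU : IsAffineOpen U),
    (((p ⁻¹ᵁ U : P.Opens) : Scheme.{u}) ≅ Proj (𝒮.deg U hU))}
  (hP : RelProj.IsRelProj 𝒮 p chart)
  {pL : PL ⟶ X} {chartL : ∀ (U : X.Opens) (hU : IsAffineOpen U),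
    (((pL ⁻¹ᵁ U : PL.Opens) : Scheme.{u}) ≅ Proj (𝒮L.deg U hU))}
  (hPL : RelProj.IsRelProj 𝒮L pL chartL)
  (r : ((RelProj.domQ u pL chartL : PL.Opens) : Scheme.{u}) ⟶ P)
  (hr : RelProj.IsProjQMapOn u p chart pL chartL (RelProj.domQ u pL chartL) r)
  (U : Y.Opens) (hU : IsAffineOpen U)

/-- The open `X_t ⊆ q⁻¹U` where `t = ψ♭(s)` does not vanish, `s ∈ 𝒮(U)`. -/
def XTU (n : ℕ) (s : 𝒮.presheaf.obj (op U)) : X.Opens :=
  ⨆ V : {V : X.affineOpens // ∃ hle : (V.1 : X.Opens) ≤ q ⁻¹ᵁ U,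
    ((𝒮L.deg V.1 V.2 n : AddSubgroup (𝒮L.presheaf.obj (op (V.1 : X.Opens)))) :
        Set (𝒮L.presheaf.obj (op (V.1 : X.Opens)))) ⊆
      (Ideal.span {(u.appLE U (V.1 : X.Opens) hle).hom s} :
        Set (𝒮L.presheaf.obj (op (V.1 : X.Opens))))},
    (V.1.1 : X.Opens)

theorem mem_XTU_iff (n : ℕ) (s : 𝒮.presheaf.obj (op U)) (x : X) :
    x ∈ XTU 𝒮L u U n s ↔ ∃ (V : X.Opens) (hV : IsAffineOpen V) (hle : V ≤ q ⁻¹ᵁ U), x ∈ V ∧
      ((𝒮L.deg V hV n : AddSubgroup (𝒮L.presheaf.obj (op V))) : Set (𝒮L.presheaf.obj (op V))) ⊆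
        (Ideal.span {(u.appLE U V hle).hom s} : Set (𝒮L.presheaf.obj (op V))) := by
  unfold XTU
  rw [Opens.mem_iSup]
  constructor
  · rintro ⟨⟨⟨V, hV⟩, hle, H⟩, hx⟩
    exact ⟨V, hV, hle, hx, H⟩
  · rintro ⟨V, hV, hle, hx, H⟩
    exact ⟨⟨⟨V, hV⟩, hle, H⟩, hx⟩

theorem XTU_le (n : ℕ) (s : 𝒮.presheaf.obj (op U)) : XTU 𝒮L u U n s ≤ q ⁻¹ᵁ U := by
  intro x hx
  obtain ⟨V, hV, hle, hxV, -⟩ := (mem_XTU_iff 𝒮L u U n s x).mp hx
  exact hle hxV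

/-- the chart of `D₊(s)` in `P` -/
def DpU (p : P ⟶ Y) (chart : ∀ (U : Y.Opens) (hU : IsAffineOpen U),
    (((p ⁻¹ᵁ U : P.Opens) : Scheme.{u}) ≅ Proj (𝒮.deg U hU)))
    (U : Y.Opens) (hU : IsAffineOpen U) (s : 𝒮.presheaf.obj (op U)) : P.Opens :=
  (RelProj.emb p chart U hU) ''ᵁ Proj.basicOpen (𝒮.deg U hU) s

theorem DpU_le (s : 𝒮.presheaf.obj (op U)) : DpU p chart U hU s ≤ p ⁻¹ᵁ U := by
  rintro _ ⟨y₀, -, rfl⟩
  have : (RelProj.emb p chart U hU).base y₀ ∈ (RelProj.emb p chart U hU).opensRange := ⟨_, rfl⟩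
  rw [opensRange_emb] at this
  exact this

include hL hj hP hPL hr in
/-- `r⁻¹(D₊(s)) = X_t`. -/
theorem map_mem_DpU_iff (n : ℕ) (hn : 0 < n) (s : 𝒮.presheaf.obj (op U)) (hs : s ∈ 𝒮.deg U hU n)
    (x : ((RelProj.domQ u pL chartL : PL.Opens) : Scheme.{u})) :
    r.base x ∈ DpU p chart U hU s ↔ pL.base x.1 ∈ XTU 𝒮L u U n s := by
  constructor
  · rintro ⟨y₀, hy₀, hy⟩
    have hpU : p.base (r.base x) ∈ U := DpU_le U hU s ⟨y₀, hy₀, hy⟩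
    have hcomp := projQMapOn_comp_p (u := u) hP hPL r hr
    have hqU : q.base (pL.base x.1) ∈ U := by
      have := congrArg (fun k => k.base x) hcomp
      have h2 : p.base (r.base x) = q.base (pL.base x.1) := this
      rw [← h2]; exact hpU
    obtain ⟨V, hV0, hxV, hVle⟩ := Opens.isBasis_iff_nbhd.mp (X.isBasis_affineOpens)
      (show pL.base x.1 ∈ q ⁻¹ᵁ U from hqU)
    have hV : IsAffineOpen V := hV0
    let jdx : QIdx q 𝒮 := ⟨U, hU, V, hV, hVle, n, hn, s, hs⟩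
    have h1 := (map_inD_iff (u := u) hP hPL r hr jdx x hxV).mp ⟨y₀, hy₀, hy⟩
    obtain ⟨V'', hV'', hle'', hx'', H⟩ :=
      exists_deg_subset_span_of_mem_range_k L hL 𝒮L j hj u hPL jdx x.1 h1
    exact (mem_XTU_iff 𝒮L u U n s _).mpr ⟨V'', hV'', hle''.trans hVle, hx'', H⟩
  · intro hx
    obtain ⟨V, hV, hle, hxV, H⟩ := (mem_XTU_iff 𝒮L u U n s _).mp hx
    let jdx : QIdx q 𝒮 := ⟨U, hU, V, hV, hle, n, hn, s, hs⟩
    have hk := preimage_le_range_k L hL 𝒮L j hj u hPL jdx H x.1 hxV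
    obtain ⟨y', hy', hy''⟩ := (map_inD_iff (u := u) hP hPL r hr jdx x hxV).mpr hk
    exact ⟨y', hy', hy''⟩

include hL hj hPL in
theorem mem_domQ_of_mem_XTU (n : ℕ) (hn : 0 < n) (s : 𝒮.presheaf.obj (op U))
    (hs : s ∈ 𝒮.deg U hU n) (x : PL) (hx : pL.base x ∈ XTU 𝒮L u U n s) :
    x ∈ RelProj.domQ u pL chartL := by
  obtain ⟨V, hV, hle, hxV, H⟩ := (mem_XTU_iff 𝒮L u U n s _).mp hx
  exact preimage_le_domQ L hL 𝒮L j hj u hPL
    ⟨U, hU, V, hV, hle, n, hn, s, hs⟩ H x hxV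

/-- the chart index attached to `s` when `X_t` is affine -/
def idxTU (n : ℕ) (hn : 0 < n) (s : 𝒮.presheaf.obj (op U)) (hs : s ∈ 𝒮.deg U hU n)
    (hXT : IsAffineOpen (XTU 𝒮L u U n s)) : QIdx q 𝒮 :=
  ⟨U, hU, XTU 𝒮L u U n s, hXT, XTU_le 𝒮L u U n s, n, hn, s, hs⟩

include hL hj hP hPL hr in
theorem mem_range_k_idxTU_iff (n : ℕ) (hn : 0 < n) (s : 𝒮.presheaf.obj (op U))
    (hs : s ∈ 𝒮.deg U hU n) (hXT : IsAffineOpen (XTU 𝒮L u U n s)) (x : PL) :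
    x ∈ Set.range ((idxTU 𝒮L u U hU n hn s hs hXT).k u pL chartL).base ↔
      pL.base x ∈ XTU 𝒮L u U n s := by
  constructor
  · intro h
    exact mem_of_mem_range_k (idxTU 𝒮L u U hU n hn s hs hXT) x h
  · intro hx
    have hG := mem_domQ_of_mem_XTU L hL 𝒮L j hj u hPL U hU n hn s hs x hx
    have h1 := (map_mem_DpU_iff L hL 𝒮L j hj u hP hPL r hr U hU n hn s hs ⟨x, hG⟩).mpr hx
    obtain ⟨y₀, hy₀, hy⟩ := h1
    exact (map_inD_iff (u := u) hP hPL r hr (idxTU 𝒮L u U hU n hn s hs hXT) ⟨x, hG⟩ hx).mp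
      ⟨y₀, hy₀, hy⟩

include hL hj hP hPL hr in
theorem opensRange_k'_idxTU (n : ℕ) (hn : 0 < n) (s : 𝒮.presheaf.obj (op U))
    (hs : s ∈ 𝒮.deg U hU n) (hXT : IsAffineOpen (XTU 𝒮L u U n s)) :
    ((idxTU 𝒮L u U hU n hn s hs hXT).k' u pL chartL).opensRange = r ⁻¹ᵁ DpU p chart U hU s := by
  ext x
  have h1 : x ∈ ((idxTU 𝒮L u U hU n hn s hs hXT).k' u pL chartL).opensRange ↔
      x.1 ∈ Set.range ((idxTU 𝒮L u U hU n hn s hs hXT).k u pL chartL).base := by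
    constructor
    · rintro ⟨z, rfl⟩
      refine ⟨z, ?_⟩
      have := congrArg (fun k => k.base z)
        (QIdx.k'_ι (u := u) (p' := pL) (chart' := chartL) (idxTU 𝒮L u U hU n hn s hs hXT))
      exact this.symm
    · rintro ⟨z, hz⟩
      refine ⟨z, ?_⟩
      apply (RelProj.domQ u pL chartL).ι.isOpenEmbedding.injective
      have := congrArg (fun k => k.base z)
        (QIdx.k'_ι (u := u) (p' := pL) (chart' := chartL) (idxTU 𝒮L u U hU n hn s hs hXT))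
      exact this.trans hz
  change x ∈ ((idxTU 𝒮L u U hU n hn s hs hXT).k' u pL chartL).opensRange ↔
    r.base x ∈ DpU p chart U hU s
  rw [h1, mem_range_k_idxTU_iff L hL 𝒮L j hj u hP hPL r hr U hU n hn s hs hXT,
    map_mem_DpU_iff L hL 𝒮L j hj u hP hPL r hr U hU n hn s hs]

end CoreU


section ThetaU

variable {Y X P PL : Scheme.{u}} {q : X ⟶ Y} (L : X.Modules) [L.IsQuasicoherent]
  (hL : PicF.IsInvertible L)
  {𝒮 : RelProj.QCGrAlg Y} (𝒮L : RelProj.QCGrAlg X) (j : L ⟶ 𝒮L.toModule)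
  (hj : RelProj.IsGrSymAlg L 𝒮L j) (u : RelProj.QGrHom q 𝒮 𝒮L)
  {p : P ⟶ Y} {chart : ∀ (U : Y.Opens) (hU : IsAffineOpen U),
    (((p ⁻¹ᵁ U : P.Opens) : Scheme.{u}) ≅ Proj (𝒮.deg U hU))}
  (hP : RelProj.IsRelProj 𝒮 p chart)
  {pL : PL ⟶ X} {chartL : ∀ (U : X.Opens) (hU : IsAffineOpen U),
    (((pL ⁻¹ᵁ U : PL.Opens) : Scheme.{u}) ≅ Proj (𝒮L.deg U hU))}
  (hPL : RelProj.IsRelProj 𝒮L pL chartL)
  (r : ((RelProj.domQ u pL chartL : PL.Opens) : Scheme.{u}) ⟶ P)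
  (hr : RelProj.IsProjQMapOn u p chart pL chartL (RelProj.domQ u pL chartL) r)
  (U : Y.Opens) (hU : IsAffineOpen U)
  (n : ℕ) (hn : 0 < n) (s : 𝒮.presheaf.obj (op U)) (hs : s ∈ 𝒮.deg U hU n)
  (hXT : IsAffineOpen (XTU 𝒮L u U n s))

/-- `t = ψ♭(s)` over `X_t` -/
abbrev tTU : 𝒮L.presheaf.obj (op (XTU 𝒮L u U n s)) :=
  (idxTU 𝒮L u U hU n hn s hs hXT).ψ u s

/-- the comparison `O(X_t) → Sym(L)(X_t)_(t)` -/
def thetaTU : Γ(X, XTU 𝒮L u U n s) ⟶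
    CommRingCat.of (Away (𝒮L.deg (XTU 𝒮L u U n s) hXT) (tTU 𝒮L u U hU n hn s hs hXT)) :=
  𝒮L.strZero (XTU 𝒮L u U n s) hXT ≫ CommRingCat.ofHom
    (fromZeroRingHom (𝒮L.deg (XTU 𝒮L u U n s) hXT)
      (Submonoid.powers (tTU 𝒮L u U hU n hn s hs hXT)))

include hL hj hP hPL hr in
theorem isIso_thetaTU [IsIso pL] : IsIso (thetaTU 𝒮L u U hU n hn s hs hXT) := by
  have htd : tTU 𝒮L u U hU n hn s hs hXT ∈ 𝒮L.deg (XTU 𝒮L u U n s) hXT n :=
    ((idxTU 𝒮L u U hU n hn s hs hXT).ψ u).map_mem hs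
  let kT : Spec (CommRingCat.of (Away (𝒮L.deg (XTU 𝒮L u U n s) hXT)
      (tTU 𝒮L u U hU n hn s hs hXT))) ⟶ PL :=
    Proj.awayι _ _ htd hn ≫ RelProj.emb pL chartL (XTU 𝒮L u U n s) hXT
  have hkT : ∀ x : PL, x ∈ Set.range kT.base ↔ pL.base x ∈ XTU 𝒮L u U n s :=
    fun x => mem_range_k_idxTU_iff L hL 𝒮L j hj u hP hPL r hr U hU n hn s hs hXT x
  have hfac : kT ≫ pL = Spec.map (thetaTU 𝒮L u U hU n hn s hs hXT) ≫ hXT.fromSpec := by
    change (Proj.awayι _ _ htd hn ≫ RelProj.emb pL chartL (XTU 𝒮L u U n s) hXT) ≫ pL = _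
    rw [Category.assoc, emb_comp hPL (XTU 𝒮L u U n s) hXT, Proj.awayι_toSpecZero_assoc, thetaTU,
      Spec.map_comp, Category.assoc]
  have hrange : Set.range (kT ≫ pL).base = Set.range hXT.fromSpec.base := by
    rw [hXT.range_fromSpec]
    ext x
    constructor
    · rintro ⟨z, rfl⟩
      exact (hkT _).mp ⟨z, rfl⟩
    · intro hx
      obtain ⟨x₀, rfl⟩ := pL.surjective x
      obtain ⟨z, hz⟩ := (hkT x₀).mpr hx
      exact ⟨z, congrArg pL.base hz⟩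
  let e := IsOpenImmersion.isoOfRangeEq (kT ≫ pL) hXT.fromSpec hrange
  have he : e.hom ≫ hXT.fromSpec = kT ≫ pL :=
    IsOpenImmersion.isoOfRangeEq_hom_fac _ _ _
  have he2 : e.hom = Spec.map (thetaTU 𝒮L u U hU n hn s hs hXT) := by
    rw [← cancel_mono hXT.fromSpec, he, hfac]
  have : IsIso (Spec.map (thetaTU 𝒮L u U hU n hn s hs hXT)) := by
    rw [← he2]; infer_instance
  exact (ConcreteCategory.isIso_iff_bijective _).mpr (isIso_SpecMap_iff.mp this)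


include hL hj hP hPL hr in
/-- Over `D₊(s)`, `r` is `Spec` of `S_(s) → Sym(L)(X_t)_(t)`. -/
theorem restrict_DpU_iff (Pr : MorphismProperty Scheme.{u}) [Pr.RespectsIso] :
    Pr (r ∣_ DpU p chart U hU s) ↔
      Pr (Spec.map (CommRingCat.ofHom
        (Away.map ((idxTU 𝒮L u U hU n hn s hs hXT).ψ u) s))) := by
  have hκ := opensRange_k'_idxTU L hL 𝒮L j hj u hP hPL r hr U hU n hn s hs hXT
  have hε : (Proj.awayι (𝒮.deg U hU) s hs hn ≫ RelProj.emb p chart U hU).opensRange =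
      DpU p chart U hU s := by
    rw [Scheme.Hom.opensRange_comp, Proj.opensRange_awayι]
    rfl
  have hc : (idxTU 𝒮L u U hU n hn s hs hXT).k' u pL chartL ≫ r =
      Spec.map (CommRingCat.ofHom (Away.map ((idxTU 𝒮L u U hU n hn s hs hXT).ψ u) s)) ≫
        Proj.awayι (𝒮.deg U hU) s hs hn ≫ RelProj.emb p chart U hU :=
    hr U hU (XTU 𝒮L u U n s) hXT (XTU_le 𝒮L u U n s) n hn s hs _
  exact restrict_iff_of_charts Pr r (DpU p chart U hU s)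
    ((idxTU 𝒮L u U hU n hn s hs hXT).k' u pL chartL)
    (Proj.awayι (𝒮.deg U hU) s hs hn ≫ RelProj.emb p chart U hU) _ hκ hε hc

include hL hj hP hPL hr in
/-- condition (iii) is the surjectivity of `S_(s) → Sym(L)(X_t)_(t)` -/
theorem surjective_phiU_iff [IsIso pL] :
    Function.Surjective (Away.map ((idxTU 𝒮L u U hU n hn s hs hXT).ψ u) s) ↔
      ∀ t : X.presheaf.obj (op (XTU 𝒮L u U n s)), ∃ (m : ℕ) (_ : 0 < m)
        (s' : 𝒮.presheaf.obj (op U)) (_ : s' ∈ 𝒮.deg U hU (m * n)),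
        (𝒮L.str.app (op (XTU 𝒮L u U n s))).hom t *
          ((u.appLE U (XTU 𝒮L u U n s) (XTU_le 𝒮L u U n s)).hom s) ^ m =
            (u.appLE U (XTU 𝒮L u U n s) (XTU_le 𝒮L u U n s)).hom s' := by
  have hθ := isIso_thetaTU L hL 𝒮L j hj u hP hPL r hr U hU n hn s hs hXT
  have hθ' := ((ConcreteCategory.isIso_iff_bijective _).mp hθ).2
  exact surjective_awayMap_iff ((idxTU 𝒮L u U hU n hn s hs hXT).ψ u) hs
    (𝒮L.strZero (XTU 𝒮L u U n s) hXT).hom hθ'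

/-- condition (iv) is the injectivity of `S_(s) → Sym(L)(X_t)_(t)` -/
theorem injective_phiU_iff :
    Function.Injective (Away.map ((idxTU 𝒮L u U hU n hn s hs hXT).ψ u) s) ↔
      ∀ (m : ℕ), 0 < m → ∀ s' ∈ 𝒮.deg U hU (m * n),
        (u.appLE U (XTU 𝒮L u U n s) (XTU_le 𝒮L u U n s)).hom s' = 0 →
          ∃ (k : ℕ), 0 < k ∧ s ^ k * s' = 0 :=
  injective_awayMap_iff ((idxTU 𝒮L u U hU n hn s hs hXT).ψ u) hs

end ThetaU


section AffineU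

variable {Y X P PL : Scheme.{u}} {q : X ⟶ Y} (L : X.Modules) [L.IsQuasicoherent]
  (hL : PicF.IsInvertible L)
  {𝒮 : RelProj.QCGrAlg Y} (𝒮L : RelProj.QCGrAlg X) (j : L ⟶ 𝒮L.toModule)
  (hj : RelProj.IsGrSymAlg L 𝒮L j) (u : RelProj.QGrHom q 𝒮 𝒮L)
  {p : P ⟶ Y} {chart : ∀ (U : Y.Opens) (hU : IsAffineOpen U),
    (((p ⁻¹ᵁ U : P.Opens) : Scheme.{u}) ≅ Proj (𝒮.deg U hU))}
  (hP : RelProj.IsRelProj 𝒮 p chart)
  {pL : PL ⟶ X} {chartL : ∀ (U : X.Opens) (hU : IsAffineOpen U),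
    (((pL ⁻¹ᵁ U : PL.Opens) : Scheme.{u}) ≅ Proj (𝒮L.deg U hU))}
  (hPL : RelProj.IsRelProj 𝒮L pL chartL)
  (r : ((RelProj.domQ u pL chartL : PL.Opens) : Scheme.{u}) ⟶ P)
  (hr : RelProj.IsProjQMapOn u p chart pL chartL (RelProj.domQ u pL chartL) r)
  (U : Y.Opens) (hU : IsAffineOpen U)
  (n : ℕ) (hn : 0 < n) (s : 𝒮.presheaf.obj (op U)) (hs : s ∈ 𝒮.deg U hU n)

include hn hs in
theorem isAffineOpen_DpU : IsAffineOpen (DpU p chart U hU s) :=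
  (Proj.isAffineOpen_basicOpen (𝒮.deg U hU) s hs hn).image_of_isOpenImmersion
    (RelProj.emb p chart U hU)

include hL hj hP hPL hr hn hs in
theorem image_preimage_DpU [IsIso pL] :
    pL ''ᵁ ((RelProj.domQ u pL chartL).ι ''ᵁ (r ⁻¹ᵁ DpU p chart U hU s)) =
      XTU 𝒮L u U n s := by
  ext x
  constructor
  · rintro ⟨_, ⟨x₀, hx₀, rfl⟩, rfl⟩
    exact (map_mem_DpU_iff L hL 𝒮L j hj u hP hPL r hr U hU n hn s hs x₀).mp hx₀
  · intro hx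
    obtain ⟨x₁, rfl⟩ := pL.surjective x
    have hG := mem_domQ_of_mem_XTU L hL 𝒮L j hj u hPL U hU n hn s hs x₁ hx
    exact ⟨x₁, ⟨⟨x₁, hG⟩,
      (map_mem_DpU_iff L hL 𝒮L j hj u hP hPL r hr U hU n hn s hs ⟨x₁, hG⟩).mpr hx, rfl⟩, rfl⟩

include hL hj hP hPL hr hn hs in
theorem isAffineOpen_XTU_of_isClosedImmersion [IsIso pL]
    (h : IsClosedImmersion (r ∣_ DpU p chart U hU s)) : IsAffineOpen (XTU 𝒮L u U n s) := by
  have hD : IsAffineOpen (DpU p chart U hU s) := isAffineOpen_DpU U hU n hn s hs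
  have hDa : IsAffine ((DpU p chart U hU s : P.Opens) : Scheme.{u}) := hD
  obtain ⟨h1, -⟩ := IsClosedImmersion.isAffine_surjective_of_isAffine (r ∣_ DpU p chart U hU s)
  have hA : IsAffineOpen (r ⁻¹ᵁ DpU p chart U hU s) := h1
  have hA2 := hA.image_of_isOpenImmersion (RelProj.domQ u pL chartL).ι
  have hA3 := hA2.image_of_isOpenImmersion pL
  rw [← image_preimage_DpU L hL 𝒮L j hj u hP hPL r hr U hU n hn s hs]
  exact hA3

end AffineU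

end Groth.Agent.Helper18.SymAlg
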