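import Mathlib
import Groth.Agent.Lib.Helper18.SymAlg11
import Groth.Agent.Lib.Helper18.ProjQComp

set_option autoImplicit false
universe u
open CategoryTheory CategoryTheory.Limits AlgebraicGeometry TopologicalSpace Opposite
open scoped HomogeneousIdeal
open HomogeneousLocalization

/-!
# Immersion for `Proj(u ∘ v)` implies immersion for `Proj(u)`
-/

noncomputable section

namespace Groth.Agent.Helper18.SymAlg

open ProjQ

section CompImm

variable {Y X P PL P' : Scheme.{u}} {q : X ⟶ Y}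
  {𝒮 : RelProj.QCGrAlg Y} {𝒮L : RelProj.QCGrAlg X} (u : RelProj.QGrHom q 𝒮 𝒮L)
  {p : P ⟶ Y} {chart : ∀ (U : Y.Opens) (hU : IsAffineOpen U),
    (((p ⁻¹ᵁ U : P.Opens) : Scheme.{u}) ≅ Proj (𝒮.deg U hU))}
  (hP : RelProj.IsRelProj 𝒮 p chart)
  {pL : PL ⟶ X} {chartL : ∀ (U : X.Opens) (hU : IsAffineOpen U),
    (((pL ⁻¹ᵁ U : PL.Opens) : Scheme.{u}) ≅ Proj (𝒮L.deg U hU))}
  (r : ((RelProj.domQ u pL chartL : PL.Opens) : Scheme.{u}) ⟶ P)
  (hr : RelProj.IsProjQMapOn u p chart pL chartL (RelProj.domQ u pL chartL) r)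
  {𝒯 : RelProj.QCGrAlg Y} (v : 𝒯.toQCAlg ⟶ 𝒮.toQCAlg) (hv : RelProj.IsGradedHom v)
  (u' : RelProj.QGrHom q 𝒯 𝒮L) (hu' : ∀ U : Y.Opens, u'.app U = v.hom.app (op U) ≫ u.app U)
  {p' : P' ⟶ Y} {chart' : ∀ (U : Y.Opens) (hU : IsAffineOpen U),
    (((p' ⁻¹ᵁ U : P'.Opens) : Scheme.{u}) ≅ Proj (𝒯.deg U hU))}
  (hP' : RelProj.IsRelProj 𝒯 p' chart')
  (r' : ((RelProj.domQ u' pL chartL : PL.Opens) : Scheme.{u}) ⟶ P')
  (hr' : RelProj.IsProjQMapOn u' p' chart' pL chartL (RelProj.domQ u' pL chartL) r')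

include hP hP' hr hr' hu' hv in
theorem domQ_top_isImmersion_of_comp (h1 : RelProj.domQ u' pL chartL = ⊤) (h2 : IsImmersion r') :
    RelProj.domQ u pL chartL = ⊤ ∧ IsImmersion r := by
  have hle := domQ_le u v hv u' hu' (pL := pL) (chartL := chartL)
  have hG : RelProj.domQ u pL chartL = ⊤ := top_le_iff.mp (h1 ▸ hle)
  refine ⟨hG, ?_⟩
  obtain ⟨w, hw0⟩ := exists_projQMapOn (u := RelProj.QGrHom.ofHom v hv) hP' hP
  have hw : RelProj.IsProjQMapOn (RelProj.QGrHom.ofHom v hv) p' chart' p chart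
      (RelProj.domQ (RelProj.QGrHom.ofHom v hv) p chart) w :=
    fun U hU U' hU' hle d hd f hf _ => hw0 ⟨U, hU, U', hU', hle, d, hd, f, hf⟩
  obtain ⟨r₀, e1, e2⟩ := exists_factor u r hr v hv u' hu' w hw r' hr'
  have hr₀ : IsImmersion r₀ := by
    have : IsImmersion (r₀ ≫ w) := e2 ▸ h2
    exact IsImmersion.of_comp r₀ w
  have h3 : IsImmersion (PL.homOfLE hle ≫ r) := by
    rw [e1]; infer_instance
  have hiso : IsIso (PL.homOfLE hle) := by
    have hsurj : Function.Surjective (PL.homOfLE hle).base := by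
      intro x
      refine ⟨⟨x.1, by rw [h1]; trivial⟩, ?_⟩
      apply (RelProj.domQ u pL chartL).ι.isOpenEmbedding.injective
      have := congrArg (fun k => k.base (⟨x.1, by rw [h1]; trivial⟩ :
        ((RelProj.domQ u' pL chartL : PL.Opens) : Scheme.{u}))) (PL.homOfLE_ι hle)
      exact this
    apply isIso_of_isOpenImmersion_of_opensRange_eq_top
    ext x
    simp only [Opens.coe_top, Set.mem_univ, iff_true]
    exact hsurj x
  have h4 : r = inv (PL.homOfLE hle) ≫ (PL.homOfLE hle ≫ r) := by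
    rw [IsIso.inv_hom_id_assoc]
  rw [h4]
  infer_instance

end CompImm

end Groth.Agent.Helper18.SymAlg
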