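import Mathlib
import Groth.Agent.Lib.Helper18.SymAlg12

set_option autoImplicit false
universe u
open CategoryTheory CategoryTheory.Limits AlgebraicGeometry TopologicalSpace Opposite
open scoped HomogeneousIdeal
open HomogeneousLocalization

/-!
# Relative immersion criterion for `r_{L,ψ}` and its behaviour under filtered colimits
-/

noncomputable section

namespace Groth.Agent.Helper18.SymAlg

open ProjQ

section Family

variable {Y X P PL : Scheme.{u}} {q : X ⟶ Y} (L : X.Modules) [L.IsQuasicoherent]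
  (hL : PicF.IsInvertible L)
  {𝒮 : RelProj.QCGrAlg Y} (𝒮L : RelProj.QCGrAlg X) (j : L ⟶ 𝒮L.toModule)
  (hj : RelProj.IsGrSymAlg L 𝒮L j) (u : RelProj.QGrHom q 𝒮 𝒮L)
  {p : P ⟶ Y} {chart : ∀ (U : Y.Opens) (hU : IsAffineOpen U),
    (((p ⁻¹ᵁ U : P.Opens) : Scheme.{u}) ≅ Proj (𝒮.deg U hU))}
  (hP : RelProj.IsRelProj 𝒮 p chart)
  {pL : PL ⟶ X} {chartL : ∀ (U : X.Opens) (hU : IsAffineOpen U),
    (((pL ⁻¹ᵁ U : PL.Opens) : Scheme.{u}) ≅ Proj (𝒮L.deg U hU))}
  (hPL : RelProj.IsRelProj 𝒮L pL chartL)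
  (r : ((RelProj.domQ u pL chartL : PL.Opens) : Scheme.{u}) ⟶ P)
  (hr : RelProj.IsProjQMapOn u p chart pL chartL (RelProj.domQ u pL chartL) r)

/-- condition (iii): every function on `V` is of the form `ψ♭(s') / ψ♭(s)^m`. -/
def Cond3 (U : Y.Opens) (hU : IsAffineOpen U) (V : X.Opens) (hle : V ≤ q ⁻¹ᵁ U) (n : ℕ)
    (s : 𝒮.presheaf.obj (op U)) : Prop :=
  ∀ t : X.presheaf.obj (op V), ∃ (m : ℕ) (_ : 0 < m)
    (s' : 𝒮.presheaf.obj (op U)) (_ : s' ∈ 𝒮.deg U hU (m * n)),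
    (𝒮L.str.app (op V)).hom t * ((u.appLE U V hle).hom s) ^ m = (u.appLE U V hle).hom s'

theorem Cond3.congr_open {U : Y.Opens} {hU : IsAffineOpen U} {V : X.Opens} {hle : V ≤ q ⁻¹ᵁ U}
    {n : ℕ} {s : 𝒮.presheaf.obj (op U)} (h : Cond3 𝒮L u U hU V hle n s)
    (W : X.Opens) (hW : W = V) (hleW : W ≤ q ⁻¹ᵁ U) : Cond3 𝒮L u U hU W hleW n s := by
  subst hW
  exact h

include hL hj hP hPL hr in
/-- relative form of the immersion criterion: a family `s_a ∈ 𝒮(U_a)_{n_a}` with `X_{f_a}` affine,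
covering `X` and satisfying (iii) makes `r` everywhere defined and an immersion. -/
theorem domQ_top_isImmersion_of_family [IsIso pL] {ι : Type*} (U : ι → Y.Opens)
    (hU : ∀ a, IsAffineOpen (U a)) (n : ι → ℕ) (hn : ∀ a, 0 < n a)
    (s : ∀ a, 𝒮.presheaf.obj (op (U a))) (hs : ∀ a, s a ∈ 𝒮.deg (U a) (hU a) (n a))
    (hc : (⨆ a, XTU 𝒮L u (U a) (n a) (s a)) = ⊤)
    (hd : ∀ a, IsAffineOpen (XTU 𝒮L u (U a) (n a) (s a)))
    (he : ∀ a, Cond3 𝒮L u (U a) (hU a) (XTU 𝒮L u (U a) (n a) (s a))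
      (XTU_le 𝒮L u (U a) (n a) (s a)) (n a) (s a)) :
    RelProj.domQ u pL chartL = ⊤ ∧ IsImmersion r := by
  have hG : RelProj.domQ u pL chartL = ⊤ := by
    rw [eq_top_iff]
    intro x₁ _
    have hx : pL.base x₁ ∈ (⨆ a, XTU 𝒮L u (U a) (n a) (s a)) := by rw [hc]; trivial
    obtain ⟨a, hxa⟩ := Opens.mem_iSup.mp hx
    exact mem_domQ_of_mem_XTU L hL 𝒮L j hj u hPL (U a) (hU a) (n a) (hn a) (s a) (hs a) x₁ hxa
  refine ⟨hG, ?_⟩
  have hrange : Set.range r.base ⊆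
      ((⨆ a, DpU p chart (U a) (hU a) (s a) : P.Opens) : Set P) := by
    rintro _ ⟨x, rfl⟩
    have hx : pL.base x.1 ∈ (⨆ a, XTU 𝒮L u (U a) (n a) (s a)) := by rw [hc]; trivial
    obtain ⟨a, hxa⟩ := Opens.mem_iSup.mp hx
    exact Opens.mem_iSup.mpr ⟨a,
      (map_mem_DpU_iff L hL 𝒮L j hj u hP hPL r hr (U a) (hU a) _ (hn a) _ (hs a) x).mpr hxa⟩
  have H : ∀ a, IsClosedImmersion (r ∣_ DpU p chart (U a) (hU a) (s a)) := by
    intro a
    refine (restrict_DpU_iff L hL 𝒮L j hj u hP hPL r hr (U a) (hU a) (n a) (hn a) (s a) (hs a)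
        (hd a) @IsClosedImmersion).mpr ?_
    exact IsClosedImmersion.spec_of_surjective _
      ((surjective_phiU_iff L hL 𝒮L j hj u hP hPL r hr (U a) (hU a) (n a) (hn a) (s a) (hs a)
        (hd a)).mpr (he a))
  have hlift := lift_of_forall_restrict @IsClosedImmersion r
    (fun a => DpU p chart (U a) (hU a) (s a)) hrange H
  have hcomp : IsImmersion (IsOpenImmersion.lift
      (⨆ a, DpU p chart (U a) (hU a) (s a) : P.Opens).ι r
      (by rw [Scheme.Opens.range_ι]; exact hrange) ≫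
      (⨆ a, DpU p chart (U a) (hU a) (s a) : P.Opens).ι) := inferInstance
  rwa [IsOpenImmersion.lift_fac] at hcomp

include hL hj hP hPL hr in
/-- conversely an immersion yields such data around every point -/
theorem exists_local_data_of_isImmersion [IsIso pL] (hG : RelProj.domQ u pL chartL = ⊤)
    [IsImmersion r] (x : PL) :
    ∃ (U : Y.Opens) (hU : IsAffineOpen U) (n : ℕ) (_ : 0 < n) (s : 𝒮.presheaf.obj (op U))
      (_ : s ∈ 𝒮.deg U hU n), pL.base x ∈ XTU 𝒮L u U n s ∧ IsAffineOpen (XTU 𝒮L u U n s) ∧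
        Cond3 𝒮L u U hU (XTU 𝒮L u U n s) (XTU_le 𝒮L u U n s) n s := by
  have hx₁ : x ∈ RelProj.domQ u pL chartL := by rw [hG]; trivial
  set y := r.base ⟨x, hx₁⟩ with hy
  obtain ⟨U, hU0, hyU, -⟩ := Opens.isBasis_iff_nbhd.mp (Y.isBasis_affineOpens)
    (show p.base y ∈ (⊤ : Y.Opens) from trivial)
  have hU : IsAffineOpen U := hU0
  have hy' : y ∈ (RelProj.emb p chart U hU).opensRange := by
    rw [opensRange_emb]; exact hyU
  obtain ⟨y₀, hy₀⟩ := hy'
  have hyW : y₀ ∈ (RelProj.emb p chart U hU) ⁻¹ᵁ r.coborderRange := by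
    change (RelProj.emb p chart U hU).base y₀ ∈ r.coborderRange
    rw [hy₀]
    exact subset_coborder ⟨_, rfl⟩
  obtain ⟨n, hn, s, hs, hy₀s, hle⟩ :=
    exists_homogeneous_basicOpen_le (𝒜 := 𝒮.deg U hU) y₀
      ((RelProj.emb p chart U hU) ⁻¹ᵁ r.coborderRange) hyW
  have hDle : DpU p chart U hU s ≤ r.coborderRange := by
    rintro _ ⟨y₁, hy₁, rfl⟩
    exact hle hy₁
  have hyD : y ∈ DpU p chart U hU s := ⟨y₀, hy₀s, hy₀⟩
  have hclr : IsClosedImmersion (r ∣_ DpU p chart U hU s) :=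
    isClosedImmersion_restrict_of_le_coborderRange r _ hDle
  have haff : IsAffineOpen (XTU 𝒮L u U n s) :=
    isAffineOpen_XTU_of_isClosedImmersion L hL 𝒮L j hj u hP hPL r hr U hU n hn s hs hclr
  refine ⟨U, hU, n, hn, s, hs, ?_, haff, ?_⟩
  · exact (map_mem_DpU_iff L hL 𝒮L j hj u hP hPL r hr U hU n hn s hs ⟨x, hx₁⟩).mp hyD
  · have h1 := (restrict_DpU_iff L hL 𝒮L j hj u hP hPL r hr U hU n hn s hs haff
      @IsClosedImmersion).mp hclr
    have h2 := surjective_of_isClosedImmersion_specMap _ h1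
    exact (surjective_phiU_iff L hL 𝒮L j hj u hP hPL r hr U hU n hn s hs haff).mp h2

end Family

end Groth.Agent.Helper18.SymAlg
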