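import Mathlib
import Groth.Agent.Lib.Helper18.SymAlg13

set_option autoImplicit false
universe u
open CategoryTheory CategoryTheory.Limits AlgebraicGeometry TopologicalSpace Opposite
open scoped HomogeneousIdeal
open HomogeneousLocalization

/-!
# Transfer of condition (iii) along a filtered colimit `𝒮 = colim 𝒮ⁱ`
-/

noncomputable section

namespace Groth.Agent.Helper18.SymAlg

open ProjQ

section Colim

variable {Y X : Scheme.{u}} {q : X ⟶ Y}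
  {𝒮 : RelProj.QCGrAlg Y} (𝒮L : RelProj.QCGrAlg X) (u : RelProj.QGrHom q 𝒮 𝒮L)
  {Λ : Type u} [Preorder Λ] [IsDirected Λ (· ≤ ·)] [Nonempty Λ]
  {𝒮i : Λ → RelProj.QCGrAlg Y} (φ : ∀ i, (𝒮i i).toQCAlg ⟶ 𝒮.toQCAlg)
  (hφ : ∀ i, RelProj.IsGradedHom (φ i))
  (t : ∀ i j, i ≤ j → ((𝒮i i).toQCAlg ⟶ (𝒮i j).toQCAlg))
  (ht : ∀ i j (h : i ≤ j), RelProj.IsGradedHom (t i j h))
  (hφt : ∀ i j (h : i ≤ j), t i j h ≫ φ j = φ i)
  (hsurj : ∀ (U : Y.Opens), IsAffineOpen U → ∀ x : 𝒮.presheaf.obj (op U),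
    ∃ (i : Λ) (y : (𝒮i i).presheaf.obj (op U)), ((φ i).hom.app (op U)).hom y = x)
  (ui : ∀ i, RelProj.QGrHom q (𝒮i i) 𝒮L)
  (hui : ∀ i (U : Y.Opens), (ui i).app U = (φ i).hom.app (op U) ≫ u.app U)

include ht hφt in
theorem colim_push (U : Y.Opens) (hU : IsAffineOpen U) (k : ℕ) (i i' : Λ) (hii : i ≤ i')
    (y : (𝒮i i).presheaf.obj (op U)) (hy : y ∈ (𝒮i i).deg U hU k) :
    ∃ y' ∈ (𝒮i i').deg U hU k,
      ((φ i').hom.app (op U)).hom y' = ((φ i).hom.app (op U)).hom y := by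
  refine ⟨((t i i' hii).hom.app (op U)).hom y, ht i i' hii U hU k y hy, ?_⟩
  have := congrArg (fun m => (m.hom.app (op U)).hom y) (hφt i i' hii)
  exact this

include hφ ht hφt hsurj in
theorem colim_lift (U : Y.Opens) (hU : IsAffineOpen U) (k : ℕ) (x : 𝒮.presheaf.obj (op U))
    (hx : x ∈ 𝒮.deg U hU k) (i0 : Λ) :
    ∃ i, i0 ≤ i ∧ ∃ y ∈ (𝒮i i).deg U hU k, ((φ i).hom.app (op U)).hom y = x := by
  obtain ⟨i1, y1, hy1⟩ := hsurj U hU x
  obtain ⟨i, h0, h1⟩ := directed_of (· ≤ ·) i0 i1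
  have hproj : ((φ i1).hom.app (op U)).hom (GradedRing.proj ((𝒮i i1).deg U hU) k y1) = x := by
    have h2 := GradedRingHom.map_directSumDecompose _ _
      (RelProj.gradedHomAt (φ i1) (hφ i1) U hU) (x := y1) (i := k)
    have h2' : ((φ i1).hom.app (op U)).hom (GradedRing.proj ((𝒮i i1).deg U hU) k y1) =
      GradedRing.proj (𝒮.deg U hU) k (((φ i1).hom.app (op U)).hom y1) := h2
    rw [h2', hy1]
    exact DirectSum.decompose_of_mem_same _ hx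
  obtain ⟨y', hy', hyy'⟩ := colim_push φ t ht hφt U hU k i1 i h1
    (GradedRing.proj ((𝒮i i1).deg U hU) k y1) (SetLike.coe_mem _)
  exact ⟨i, h0, y', hy', hyy'.trans hproj⟩

include hφ ht hφt hsurj in
theorem colim_lift_ge (U : Y.Opens) (hU : IsAffineOpen U) (k : ℕ) (x : 𝒮.presheaf.obj (op U))
    (hx : x ∈ 𝒮.deg U hU k) :
    ∃ i₁, ∀ i, i₁ ≤ i → ∃ y ∈ (𝒮i i).deg U hU k, ((φ i).hom.app (op U)).hom y = x := by
  obtain ⟨i₁, -, y, hy, hyx⟩ := colim_lift φ hφ t ht hφt hsurj U hU k x hx (Classical.arbitrary Λ)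
  refine ⟨i₁, fun i hi => ?_⟩
  obtain ⟨y', hy', hyy'⟩ := colim_push φ t ht hφt U hU k i₁ i hi y hy
  exact ⟨y', hy', hyy'.trans hyx⟩

include hui in
theorem ui_appLE (i : Λ) (U : Y.Opens) (V : X.Opens) (hle : V ≤ q ⁻¹ᵁ U)
    (y : (𝒮i i).presheaf.obj (op U)) :
    ((ui i).appLE U V hle).hom y = (u.appLE U V hle).hom (((φ i).hom.app (op U)).hom y) := by
  unfold RelSpec.QHom.appLE
  rw [hui i U]
  rfl

include hui in
theorem XTU_ui_eq (i : Λ) (U : Y.Opens) (n : ℕ) (y : (𝒮i i).presheaf.obj (op U)) :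
    XTU 𝒮L (ui i) U n y = XTU 𝒮L u U n (((φ i).hom.app (op U)).hom y) := by
  ext x
  change x ∈ XTU 𝒮L (ui i) U n y ↔ x ∈ XTU 𝒮L u U n (((φ i).hom.app (op U)).hom y)
  rw [mem_XTU_iff, mem_XTU_iff]
  constructor
  · rintro ⟨V, hV, hle, hx, H⟩
    refine ⟨V, hV, hle, hx, ?_⟩
    rwa [ui_appLE 𝒮L u φ ui hui] at H
  · rintro ⟨V, hV, hle, hx, H⟩
    refine ⟨V, hV, hle, hx, ?_⟩
    rwa [ui_appLE 𝒮L u φ ui hui]

include hφ ht hφt hsurj hui in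
/-- Condition (iii) for `ψ` descends to `ψ_i` for `i` large, when `O(V)` is of finite type over
`O(U)`. -/
theorem cond3_transfer (U : Y.Opens) (hU : IsAffineOpen U) (V : X.Opens) (hV : IsAffineOpen V)
    (hle : V ≤ q ⁻¹ᵁ U) (hft : (q.appLE U V hle).hom.FiniteType)
    (n : ℕ) (s : 𝒮.presheaf.obj (op U)) (hs : s ∈ 𝒮.deg U hU n)
    (h3 : Cond3 𝒮L u U hU V hle n s) :
    ∃ i₀, ∀ i, i₀ ≤ i → ∃ s_i ∈ (𝒮i i).deg U hU n, ((φ i).hom.app (op U)).hom s_i = s ∧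
      Cond3 𝒮L (ui i) U hU V hle n s_i := by
  classical
  obtain ⟨i₁, hi₁⟩ := colim_lift_ge φ hφ t ht hφt hsurj U hU n s hs
  letI alg : Algebra Γ(Y, U) Γ(X, V) := (q.appLE U V hle).hom.toAlgebra
  obtain ⟨G, hG⟩ := hft.out
  -- data for the generators
  have hgen : ∀ τ : G, ∃ (m : ℕ) (_ : 0 < m) (i_τ : Λ), ∀ i, i_τ ≤ i →
      ∃ y ∈ (𝒮i i).deg U hU (m * n),
        (𝒮L.str.app (op V)).hom τ.1 * ((u.appLE U V hle).hom s) ^ m =
          (u.appLE U V hle).hom (((φ i).hom.app (op U)).hom y) := by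
    intro τ
    obtain ⟨m, hm, s', hs', e⟩ := h3 τ.1
    obtain ⟨i_τ, hi_τ⟩ := colim_lift_ge φ hφ t ht hφt hsurj U hU (m * n) s' hs'
    refine ⟨m, hm, i_τ, fun i hi => ?_⟩
    obtain ⟨y, hy, hyx⟩ := hi_τ i hi
    exact ⟨y, hy, by rw [hyx]; exact e⟩
  choose mm hmm iτ hiτ using hgen
  obtain ⟨M, hM⟩ := Finset.exists_le (G.attach.image iτ)
  obtain ⟨i₀, h0, h1⟩ := directed_of (· ≤ ·) i₁ M
  refine ⟨i₀, fun i hi => ?_⟩
  obtain ⟨s_i, hs_i, hφs⟩ := hi₁ i (h0.trans hi)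
  refine ⟨s_i, hs_i, hφs, ?_⟩
  set ψi := ((ui i).appLE U V hle).hom with hψi
  have hψs : ψi s_i = (u.appLE U V hle).hom s := by
    rw [hψi, ui_appLE 𝒮L u φ ui hui, hφs]
  intro t₀
  have hmem : t₀ ∈ Algebra.adjoin Γ(Y, U) (G : Set Γ(X, V)) := by rw [hG]; trivial
  induction hmem using Algebra.adjoin_induction with
  | mem τ hτ =>
    obtain ⟨y, hy, e⟩ := hiτ ⟨τ, hτ⟩ i
      (((hM _ (Finset.mem_image_of_mem iτ (Finset.mem_attach G ⟨τ, hτ⟩))).trans h1).trans hi)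
    refine ⟨mm ⟨τ, hτ⟩, hmm ⟨τ, hτ⟩, y, hy, ?_⟩
    rw [← hψi, hψs, ui_appLE 𝒮L u φ ui hui]
    exact e
  | algebraMap a =>
    refine ⟨1, Nat.one_pos, ((𝒮i i).str.app (op U)).hom a * s_i, ?_, ?_⟩
    · have := SetLike.mul_mem_graded ((𝒮i i).str_mem U hU a) hs_i
      rwa [zero_add, ← one_mul n] at this
    · have h4 : (𝒮L.str.app (op V)).hom ((q.appLE U V hle).hom a) =
          ψi (((𝒮i i).str.app (op U)).hom a) := by
        have := congrArg (fun k => k.hom a) ((ui i).str_appLE U V hle)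
        exact this.symm
      change (𝒮L.str.app (op V)).hom ((q.appLE U V hle).hom a) * ψi s_i ^ 1 = ψi _
      rw [h4, pow_one, map_mul]
  | add x y _ _ hx hy =>
    obtain ⟨m1, hm1, s1, hs1, e1⟩ := hx
    obtain ⟨m2, hm2, s2, hs2, e2⟩ := hy
    refine ⟨m1 + m2, Nat.add_pos_left hm1 _, s1 * s_i ^ m2 + s2 * s_i ^ m1, ?_, ?_⟩
    · have a1 := SetLike.mul_mem_graded hs1 (SetLike.pow_mem_graded m2 hs_i)
      have a2 := SetLike.mul_mem_graded hs2 (SetLike.pow_mem_graded m1 hs_i)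
      have e1' : m1 * n + m2 • n = (m1 + m2) * n := by simp [add_mul]
      have e2' : m2 * n + m1 • n = (m1 + m2) * n := by simp [add_mul, add_comm]
      rw [e1'] at a1
      rw [e2'] at a2
      exact add_mem a1 a2
    · rw [← hψi] at e1 e2 ⊢
      rw [map_add, map_add, map_mul, map_mul, map_pow, map_pow, ← e1, ← e2]
      ring
  | mul x y _ _ hx hy =>
    obtain ⟨m1, hm1, s1, hs1, e1⟩ := hx
    obtain ⟨m2, hm2, s2, hs2, e2⟩ := hy
    refine ⟨m1 + m2, Nat.add_pos_left hm1 _, s1 * s2, ?_, ?_⟩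
    · have a1 := SetLike.mul_mem_graded hs1 hs2
      rwa [← add_mul] at a1
    · rw [← hψi] at e1 e2 ⊢
      rw [map_mul, map_mul, ← e1, ← e2]
      ring

end Colim

end Groth.Agent.Helper18.SymAlg
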