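import Mathlib
import Groth.Agent.Lib.Helper5.PBT2
import Groth.Prelude.Def_BrSev

/-!
# Tensor products of finite powers of modules

`(A^{⊕r}) ⊗ (B^{⊕s}) ≅ (A ⊗ B)^{⊕rs}` for `O_Y`-modules, and pullback of tensor products.
-/

set_option autoImplicit false
set_option linter.style.haveILetI false
set_option maxHeartbeats 400000
universe u
open CategoryTheory CategoryTheory.Limits AlgebraicGeometry

namespace Groth.Agent.Helper18.TensorPow

variable {Y : Scheme.{u}}

instance additive_flip_obj (B : Y.Modules) : ((DCoh.tensorBi (X := Y)).flip.obj B).Additive where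
  map_add {P Q f g} := by
    change ((DCoh.tensorBi (X := Y)).map (f + g)).app B = _
    rw [Functor.map_add]
    rfl

/-- an iterated power is a power. -/
noncomputable def powPowIso (T : Y.Modules) (r s : ℕ) :
    (∐ fun _ : Fin r => (∐ fun _ : Fin s => T)) ≅ ∐ fun _ : Fin (r * s) => T :=
  sigmaSigmaIso (fun _ : Fin r => Fin s) (fun _ _ => T) ≪≫
    Sigma.whiskerEquiv (f := fun _ : (Σ _ : Fin r, Fin s) => T) (g := fun _ : Fin (r * s) => T)
      ((Equiv.sigmaEquivProd (Fin r) (Fin s)).trans finProdFinEquiv) (fun _ => Iso.refl T)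

/-- `(A^{⊕r}) ⊗ (B^{⊕s}) ≅ (A ⊗ B)^{⊕rs}`. -/
noncomputable def tensorPowIso (A B : Y.Modules) (r s : ℕ) :
    CohB1.tensorMod (BrSev.pow A r) (BrSev.pow B s) ≅ BrSev.pow (CohB1.tensorMod A B) (r * s) :=
  PreservesCoproduct.iso ((DCoh.tensorBi (X := Y)).flip.obj (BrSev.pow B s)) (fun _ : Fin r => A) ≪≫
    Sigma.mapIso (fun _ : Fin r =>
      PreservesCoproduct.iso ((DCoh.tensorBi (X := Y)).obj A) (fun _ : Fin s => B)) ≪≫
    powPowIso (CohB1.tensorMod A B) r s

end Groth.Agent.Helper18.TensorPow
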