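import Mathlib
import Groth.Prelude.Def_Coh
import Groth.Agent.Lib.Helper13.PullbackSections
import Groth.Agent.Lib.Helper13.LocFree

set_option autoImplicit false
set_option linter.style.haveILetI false
universe u
open CategoryTheory CategoryTheory.Limits AlgebraicGeometry TensorProduct TopologicalSpace Opposite
open Groth.Agent.Helper13.Pullback Groth.Agent.Helper13.LocFree

namespace Groth.Agent.Helper18.TildeProj

variable (A : CommRingCat.{u}) (M : ModuleCat.{u} A)

theorem smul_top_eq' {R : CommRingCat.{u}} (N : (Spec R).Modules) (a : R) (x : Γ(N, ⊤)) :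
    a • x = ((Scheme.ΓSpecIso R).inv a) • x := by
  rw [Scheme.Modules.smul_Spec_def]
  have : (⊤ : (Spec R).Opens).leTop = 𝟙 _ := Subsingleton.elim _ _
  rw [this]
  erw [CategoryTheory.Functor.map_id]
  rfl

instance : RingHomInvPair (Scheme.ΓSpecIso A).inv.hom (Scheme.ΓSpecIso A).hom.hom :=
  ⟨by ext x; exact congr($((Scheme.ΓSpecIso A).inv_hom_id) x),
   by ext x; exact congr($((Scheme.ΓSpecIso A).hom_inv_id) x)⟩

instance : RingHomInvPair (Scheme.ΓSpecIso A).hom.hom (Scheme.ΓSpecIso A).inv.hom :=
  ⟨by ext x; exact congr($((Scheme.ΓSpecIso A).hom_inv_id) x),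
   by ext x; exact congr($((Scheme.ΓSpecIso A).inv_hom_id) x)⟩

/-- global sections of `M~`, semilinearly. -/
noncomputable def topEquiv : M ≃ₛₗ[(Scheme.ΓSpecIso A).inv.hom] Γ(tilde M, ⊤) where
  toFun m := (tilde.isoTop M).hom m
  invFun x := (tilde.isoTop M).inv x
  map_add' a b := map_add _ a b
  map_smul' a m := by
    have h1 : (tilde.isoTop M).hom (a • m) = a • (tilde.isoTop M).hom m :=
      map_smul (tilde.isoTop M).hom.hom a m
    rw [h1]
    exact smul_top_eq' (tilde M) a _
  left_inv m := by
    change ((tilde.isoTop M).hom ≫ (tilde.isoTop M).inv) m = m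
    rw [Iso.hom_inv_id]; rfl
  right_inv x := by
    change ((tilde.isoTop M).inv ≫ (tilde.isoTop M).hom) x = x
    rw [Iso.inv_hom_id]; rfl

theorem projective_top_iff :
    Module.Projective Γ(Spec A, ⊤) Γ(tilde M, ⊤) ↔ Module.Projective A M := by
  constructor
  · intro h
    exact Module.Projective.of_equiv (topEquiv A M).symm
  · intro h
    exact Module.Projective.of_equiv (topEquiv A M)

/-- sections of a quasi-coherent module over an affine open of an affine scheme. -/
noncomputable def secTensor {X : Scheme.{u}} [IsAffine X] (G : X.Modules) [G.IsQuasicoherent]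
    {U : X.Opens} (hU : IsAffineOpen U) :
    letI := ((𝟙 X : X ⟶ X).appLE ⊤ U le_top).hom.toAlgebra
    Γ(G, U) ≃ₗ[Γ(X, U)] Γ(X, U) ⊗[Γ(X, ⊤)] Γ(G, ⊤) :=
  letI := ((𝟙 X : X ⟶ X).appLE ⊤ U le_top).hom.toAlgebra
  (appLinearEquiv ((Scheme.Modules.pullbackId X).app G).symm U).trans
    (sectionsPullbackEquiv (𝟙 X) G hU (isAffineOpen_top X) le_top)

theorem projective_of_top {X : Scheme.{u}} [IsAffine X] (G : X.Modules) [G.IsQuasicoherent]
    (h : Module.Projective Γ(X, ⊤) Γ(G, ⊤)) {U : X.Opens} (hU : IsAffineOpen U) :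
    Module.Projective Γ(X, U) Γ(G, U) := by
  letI := ((𝟙 X : X ⟶ X).appLE ⊤ U le_top).hom.toAlgebra
  exact Module.Projective.of_equiv' (secTensor G hU).symm

theorem tilde_projective_iff :
    (∀ U : (Spec A).Opens, IsAffineOpen U →
      Module.Projective ((Spec A).ringCatSheaf.obj.obj (op U)) ((tilde M).val.obj (op U))) ↔
      Module.Projective A M := by
  rw [← projective_top_iff]
  constructor
  · intro h
    exact h ⊤ (isAffineOpen_top _)
  · intro h U hU
    exact projective_of_top (tilde M) h hU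

end Groth.Agent.Helper18.TildeProj
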