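import Mathlib
import Groth.Prelude.Def_StabCat
import Groth.Agent.Lib.Helper27.ShiftDeg

/-!
# Truncating an eventual inequality of reduced polynomials (helper18)

If `P, Q` have degree `≤ d` and `RedLE d P Q`, then the `ℓ`-truncations satisfy
`RedLE d (topPart ℓ d P) (topPart ℓ d Q)`.
-/

set_option autoImplicit false
open Polynomial Filter

namespace Groth.Agent.Helper18.TopPartLE

open StabCat

theorem coeff_topPart (ℓ d : ℕ) (P : ℚ[X]) (i : ℕ) :
    (topPart ℓ d P).coeff i = if i ∈ Finset.Icc (d - ℓ) d then P.coeff i else 0 := by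
  unfold topPart
  rw [Polynomial.finsetSum_coeff]
  simp only [Polynomial.coeff_monomial]
  by_cases hi : i ∈ Finset.Icc (d - ℓ) d
  · rw [if_pos hi, Finset.sum_eq_single i]
    · simp
    · intro b _ hb; simp [hb]
    · intro h; exact absurd hi h
  · rw [if_neg hi]
    apply Finset.sum_eq_zero
    intro b hb
    have : b ≠ i := fun h => hi (h ▸ hb)
    simp [this]

theorem alpha_topPart (ℓ d : ℕ) (P : ℚ[X]) : alpha d (topPart ℓ d P) = alpha d P := by
  unfold alpha
  rw [coeff_topPart, if_pos (Finset.mem_Icc.2 ⟨Nat.sub_le d ℓ, le_rfl⟩)]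

theorem topPart_smul (ℓ d : ℕ) (c : ℚ) (P : ℚ[X]) : topPart ℓ d (c • P) = c • topPart ℓ d P := by
  ext i
  rw [coeff_topPart, Polynomial.coeff_smul, Polynomial.coeff_smul, coeff_topPart]
  split_ifs <;> simp

theorem topPart_sub (ℓ d : ℕ) (P Q : ℚ[X]) :
    topPart ℓ d (P - Q) = topPart ℓ d P - topPart ℓ d Q := by
  ext i
  rw [coeff_topPart, Polynomial.coeff_sub, Polynomial.coeff_sub, coeff_topPart, coeff_topPart]
  split_ifs <;> simp

/-- a polynomial with positive leading coefficient is eventually nonnegative on the naturals. -/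
theorem eventually_nonneg_of_leadingCoeff_pos (T : ℚ[X]) (h : 0 < T.leadingCoeff) :
    ∃ N : ℕ, ∀ m : ℕ, N ≤ m → 0 ≤ T.eval (m : ℚ) := by
  by_cases hdeg : 0 < T.degree
  · have ht := T.tendsto_atTop_of_leadingCoeff_nonneg hdeg h.le
    have ht2 : Tendsto (fun m : ℕ => T.eval (m : ℚ)) atTop atTop :=
      ht.comp tendsto_natCast_atTop_atTop
    have hev := ht2.eventually (eventually_ge_atTop (0 : ℚ))
    obtain ⟨M, hM⟩ := eventually_atTop.mp hev
    exact ⟨M, fun m hm => hM m hm⟩
  · have hdeg' : T.degree ≤ 0 := not_lt.mp hdeg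
    have hC := eq_C_of_degree_le_zero hdeg'
    have hlcC : T.leadingCoeff = T.coeff 0 := by
      conv_lhs => rw [hC, leadingCoeff_C]
    refine ⟨0, fun m _ => ?_⟩
    rw [hC, eval_C, ← hlcC]
    exact h.le

/-- truncation preserves eventual nonnegativity (degree `≤ d`). -/
theorem eventually_nonneg_topPart (ℓ d : ℕ) (D : ℚ[X]) (hD : D.natDegree ≤ d)
    (h : ∃ N : ℕ, ∀ m : ℕ, N ≤ m → 0 ≤ D.eval (m : ℚ)) :
    ∃ N : ℕ, ∀ m : ℕ, N ≤ m → 0 ≤ (topPart ℓ d D).eval (m : ℚ) := by
  by_cases hT : topPart ℓ d D = 0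
  · exact ⟨0, fun m _ => by rw [hT, eval_zero]⟩
  have hD0 : D ≠ 0 := by
    intro h0
    apply hT
    ext i
    rw [coeff_topPart, h0]
    simp
  have hlc : 0 < D.leadingCoeff :=
    Groth.Agent.Helper27.ShiftDeg.leadingCoeff_pos_of_eventually_nonneg D hD0 h
  -- the degree of `D` lies in the window
  have hwin : D.natDegree ∈ Finset.Icc (d - ℓ) d := by
    rw [Finset.mem_Icc]
    refine ⟨?_, hD⟩
    by_contra hlt
    have hlt := not_le.mp hlt
    apply hT
    ext i
    rw [coeff_topPart, Polynomial.coeff_zero]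
    split_ifs with hi
    · apply Polynomial.coeff_eq_zero_of_natDegree_lt
      exact lt_of_lt_of_le hlt (Finset.mem_Icc.1 hi).1
    · rfl
  have hcoeff : (topPart ℓ d D).coeff D.natDegree = D.leadingCoeff := by
    rw [coeff_topPart, if_pos hwin]
    rfl
  have hdegT : (topPart ℓ d D).natDegree = D.natDegree := by
    apply le_antisymm
    · rw [Polynomial.natDegree_le_iff_coeff_eq_zero]
      intro i hi
      rw [coeff_topPart]
      split_ifs
      · exact Polynomial.coeff_eq_zero_of_natDegree_lt hi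
      · rfl
    · apply Polynomial.le_natDegree_of_ne_zero
      rw [hcoeff]
      exact hlc.ne'
  have hlcT : (topPart ℓ d D).leadingCoeff = D.leadingCoeff := by
    unfold Polynomial.leadingCoeff at hcoeff ⊢
    rw [hdegT]
    exact hcoeff
  exact eventually_nonneg_of_leadingCoeff_pos _ (hlcT ▸ hlc)

/-- the reduced comparison of polynomials of degree `≤ d` passes to `ℓ`-truncations. -/
theorem redLE_topPart (d ℓ : ℕ) (P Q : ℚ[X]) (hP : P.natDegree ≤ d) (hQ : Q.natDegree ≤ d)
    (h : RedLE d P Q) : RedLE d (topPart ℓ d P) (topPart ℓ d Q) := by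
  obtain ⟨N, hN⟩ := h
  have hDdeg : (alpha d P • Q - alpha d Q • P).natDegree ≤ d := by
    refine (Polynomial.natDegree_sub_le _ _).trans (max_le ?_ ?_)
    · exact (Polynomial.natDegree_smul_le _ _).trans hQ
    · exact (Polynomial.natDegree_smul_le _ _).trans hP
  obtain ⟨M, hM⟩ := eventually_nonneg_topPart ℓ d (alpha d P • Q - alpha d Q • P) hDdeg
    ⟨N, fun m hm => by
      have := hN m hm
      rw [eval_sub]
      linarith⟩
  refine ⟨M, fun m hm => ?_⟩
  have h1 := hM m hm
  rw [topPart_sub, topPart_smul, topPart_smul, eval_sub] at h1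
  rw [alpha_topPart, alpha_topPart]
  linarith

end Groth.Agent.Helper18.TopPartLE
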