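import Mathlib
import Groth.Prelude.Def_Red
import Groth.Prelude.Def_NonAbH2
import Groth.Agent.Lib.Helper18.GrpSchT

set_option autoImplicit false
set_option linter.style.haveILetI false
set_option linter.unusedSectionVars false
universe u
open CategoryTheory CategoryTheory.Limits AlgebraicGeometry MonoidalCategory CartesianMonoidalCategory
  MonObj GrpObj

namespace Groth.Agent.Helper18.TorsOm

section A
variable {S S' : Scheme.{u}} (f : S' ⟶ S) (G : Over S) [GrpObj G]

theorem eta_bc_fst : η[Red.bc f G].left ≫ pullback.fst G.hom f = f ≫ η[G].left := by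
  have h1 : η[Red.bc f G] = Functor.LaxMonoidal.ε (Over.pullback f) ≫ (Over.pullback f).map η[G] := rfl
  have h2 : ((Over.pullback f).map η[G]).left ≫ pullback.fst G.hom f =
      pullback.fst (𝟙_ (Over S)).hom f ≫ η[G].left := by
    change pullback.lift _ _ _ ≫ _ = _
    rw [pullback.lift_fst]
  have h3 : (Functor.LaxMonoidal.ε (Over.pullback f)).left ≫ pullback.snd (𝟙_ (Over S)).hom f = 𝟙 S' :=
    Over.w (Functor.LaxMonoidal.ε (Over.pullback f))
  have h4 : (Functor.LaxMonoidal.ε (Over.pullback f)).left ≫ pullback.fst (𝟙_ (Over S)).hom f = f := by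
    have : pullback.fst (𝟙_ (Over S)).hom f = pullback.snd (𝟙_ (Over S)).hom f ≫ f := by
      have := pullback.condition (f := (𝟙_ (Over S)).hom) (g := f)
      rw [← this]
      exact (Category.comp_id _).symm
    rw [this, reassoc_of% h3]
    exact Category.id_comp f
  rw [h1, Over.comp_left, Category.assoc, h2, reassoc_of% h4]

theorem eta_bc_snd : η[Red.bc f G].left ≫ pullback.snd G.hom f = 𝟙 S' :=
  Over.w η[Red.bc f G]

end A

section B

variable {S : Scheme.{u}} {G Y : Over S} [GrpObj G] {X : Over Y.left}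
  (a : AlgGrp.Action (Red.bc Y.hom G) X)

/-- `x ↦ (e, x)` -/
noncomputable def eSec (G Y : Over S) [GrpObj G] (X : Over Y.left) : X ⟶ Red.bc Y.hom G ⊗ X :=
  lift (toUnit X ≫ η[Red.bc Y.hom G]) (𝟙 X)

theorem eSec_act : eSec G Y X ≫ a.act = 𝟙 X := by
  have h1 : eSec G Y X = (λ_ X).inv ≫ (η[Red.bc Y.hom G] ▷ X) := by
    apply CartesianMonoidalCategory.hom_ext
    · rw [eSec, lift_fst, Category.assoc, whiskerRight_fst, leftUnitor_inv_fst_assoc]
    · rw [eSec, lift_snd, Category.assoc, whiskerRight_snd, leftUnitor_inv_snd]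
  rw [h1, Category.assoc, a.one_act, Iso.inv_hom_id]

theorem eSec_shear : eSec G Y X ≫ lift a.act (snd (Red.bc Y.hom G) X) = lift (𝟙 X) (𝟙 X) := by
  apply CartesianMonoidalCategory.hom_ext
  · rw [Category.assoc, lift_fst, lift_fst, eSec_act]
  · rw [Category.assoc, lift_snd, lift_snd, eSec, lift_snd]

/-- projection to `G` -/
noncomputable def prG (G Y : Over S) [GrpObj G] (X : Over Y.left) :
    (Red.bc Y.hom G ⊗ X).left ⟶ G.left :=
  (fst (Red.bc Y.hom G) X).left ≫ pullback.fst G.hom Y.hom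

variable (G Y X)

theorem eSec_snd : (eSec G Y X).left ≫ (snd (Red.bc Y.hom G) X).left = 𝟙 X.left :=
  congrArg (fun k => k.left) (lift_snd (toUnit X ≫ η[Red.bc Y.hom G]) (𝟙 X))

theorem eSec_fst : (eSec G Y X).left ≫ (fst (Red.bc Y.hom G) X).left =
    X.hom ≫ η[Red.bc Y.hom G].left :=
  congrArg (fun k => k.left) (lift_fst (toUnit X ≫ η[Red.bc Y.hom G]) (𝟙 X))

theorem eSec_prG : (eSec G Y X).left ≫ prG G Y X = (X.hom ≫ Y.hom) ≫ η[G].left := by
  rw [prG, reassoc_of% eSec_fst, eta_bc_fst, Category.assoc]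

theorem prG_hom : prG G Y X ≫ G.hom = (snd (Red.bc Y.hom G) X).left ≫ X.hom ≫ Y.hom := by
  have h1 : (fst (Red.bc Y.hom G) X).left ≫ pullback.snd G.hom Y.hom =
      (snd (Red.bc Y.hom G) X).left ≫ X.hom :=
    (Over.w (fst (Red.bc Y.hom G) X)).trans (Over.w (snd (Red.bc Y.hom G) X)).symm
  rw [prG, Category.assoc, pullback.condition, reassoc_of% h1]

theorem isPullback_eSec :
    IsPullback (eSec G Y X).left (X.hom ≫ Y.hom) (prG G Y X) η[G].left := by
  have hη : η[G].left ≫ G.hom = 𝟙 S := Over.w η[G]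
  have hfr : ∀ s : PullbackCone (prG G Y X) η[G].left,
      (s.fst ≫ (snd (Red.bc Y.hom G) X).left) ≫ X.hom ≫ Y.hom = s.snd := by
    intro s
    rw [Category.assoc, ← prG_hom, reassoc_of% s.condition, hη]
    exact Category.comp_id _
  refine ⟨⟨eSec_prG G Y X⟩, ⟨PullbackCone.IsLimit.mk _
    (fun s => s.fst ≫ (snd (Red.bc Y.hom G) X).left) ?_ hfr ?_⟩⟩
  · intro s
    apply pullback.hom_ext (f := (Red.bc Y.hom G).hom) (g := X.hom)
    · change _ ≫ (fst (Red.bc Y.hom G) X).left = _ ≫ (fst (Red.bc Y.hom G) X).left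
      rw [Category.assoc, eSec_fst]
      apply pullback.hom_ext (f := G.hom) (g := Y.hom)
      · have h1 := hfr s
        simp only [Category.assoc] at h1 ⊢
        rw [eta_bc_fst, reassoc_of% h1]
        exact s.condition.symm
      · simp only [Category.assoc]
        rw [eta_bc_snd, Category.comp_id]
        have h1 : (fst (Red.bc Y.hom G) X).left ≫ pullback.snd G.hom Y.hom =
            (snd (Red.bc Y.hom G) X).left ≫ X.hom :=
          (Over.w (fst (Red.bc Y.hom G) X)).trans (Over.w (snd (Red.bc Y.hom G) X)).symm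
        rw [h1]
    · change _ ≫ (snd (Red.bc Y.hom G) X).left = _ ≫ (snd (Red.bc Y.hom G) X).left
      rw [Category.assoc, eSec_snd, Category.comp_id]
  · intro s m h1 h2
    rw [← h1, Category.assoc, eSec_snd, Category.comp_id]

theorem diag_eq : pullback.diagonal X.hom = (lift (𝟙 X) (𝟙 X)).left := by
  apply pullback.hom_ext
  · rw [pullback.diagonal_fst]
    exact (congrArg (fun k => k.left) (lift_fst (𝟙 X) (𝟙 X))).symm
  · rw [pullback.diagonal_snd]
    exact (congrArg (fun k => k.left) (lift_snd (𝟙 X) (𝟙 X))).symm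

theorem isPullback_prG :
    IsPullback (snd (Red.bc Y.hom G) X).left (prG G Y X) (X.hom ≫ Y.hom) G.hom := by
  have h1 : IsPullback (fst (Red.bc Y.hom G) X).left (snd (Red.bc Y.hom G) X).left
      (pullback.snd G.hom Y.hom) X.hom :=
    IsPullback.of_hasPullback (pullback.snd G.hom Y.hom) X.hom
  have h2 := IsPullback.of_hasPullback G.hom Y.hom
  exact (h1.paste_horiz h2).flip

variable {G Y X}

theorem isPullback_diag (hΨ : IsIso (lift a.act (snd (Red.bc Y.hom G) X)))
    (g : pullback X.hom X.hom ⟶ G.left)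
    (hg : (lift a.act (snd (Red.bc Y.hom G) X)).left ≫ g =
      (fst (Red.bc Y.hom G) X).left ≫ pullback.fst G.hom Y.hom) :
    IsPullback (pullback.diagonal X.hom) (X.hom ≫ Y.hom) g η[G].left := by
  haveI : IsIso (lift a.act (snd (Red.bc Y.hom G) X)).left :=
    inferInstanceAs (IsIso ((Over.forget _).map (lift a.act (snd (Red.bc Y.hom G) X))))
  refine IsPullback.of_iso (isPullback_eSec G Y X) (Iso.refl _)
    (asIso (lift a.act (snd (Red.bc Y.hom G) X)).left) (Iso.refl _) (Iso.refl _) ?_ ?_ ?_ ?_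
  · rw [Iso.refl_hom, Category.id_comp, asIso_hom, diag_eq]
    exact congrArg (fun k => k.left) (eSec_shear a)
  · simp
  · rw [Iso.refl_hom, Category.comp_id, asIso_hom, hg]
    rfl
  · simp

theorem flat_g (hΨ : IsIso (lift a.act (snd (Red.bc Y.hom G) X)))
    (g : pullback X.hom X.hom ⟶ G.left)
    (hg : (lift a.act (snd (Red.bc Y.hom G) X)).left ≫ g =
      (fst (Red.bc Y.hom G) X).left ≫ pullback.fst G.hom Y.hom)
    [Flat (X.hom ≫ Y.hom)] : Flat g := by
  haveI : IsIso (lift a.act (snd (Red.bc Y.hom G) X)).left :=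
    inferInstanceAs (IsIso ((Over.forget _).map (lift a.act (snd (Red.bc Y.hom G) X))))
  have h1 : Flat (prG G Y X) :=
    MorphismProperty.of_isPullback (P := @Flat) (isPullback_prG G Y X) inferInstance
  have h2 : g = inv (lift a.act (snd (Red.bc Y.hom G) X)).left ≫ prG G Y X := by
    rw [IsIso.eq_inv_comp, hg]
    rfl
  rw [h2]
  infer_instance

end B

end Groth.Agent.Helper18.TorsOm
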