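import Mathlib
import Groth.Prelude
import Groth.Agent.Lib.Helper18.FpqcTorsor

set_option autoImplicit false
universe u
open CategoryTheory MonoidalCategory CartesianMonoidalCategory MonObj GrpObj AlgebraicGeometry Limits
open MorphismProperty

namespace Groth.Agent.Helper18.TorsorBC

variable {X X' : Scheme.{u}}

/-- descent of isomorphisms along an fpqc base change, in `Over` form -/
theorem isIso_of_isIso_pullback_map (f : X' ⟶ X) [Flat f] [Surjective f] [QuasiCompact f]
    {A B : Over X} (φ : A ⟶ B) (h : IsIso ((Over.pullback f).map φ)) : IsIso φ := by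
  have hl : IsIso ((Over.pullback f).map φ).left :=
    inferInstanceAs (IsIso ((CategoryTheory.Over.forget _).map ((Over.pullback f).map φ)))
  have right : IsPullback (pullback.snd B.hom f) (pullback.fst B.hom f) f B.hom :=
    (IsPullback.of_hasPullback B.hom f).flip
  have big : IsPullback (((Over.pullback f).map φ).left ≫ pullback.snd B.hom f)
      (pullback.fst A.hom f) f (φ.left ≫ B.hom) := by
    have e1 : ((Over.pullback f).map φ).left ≫ pullback.snd B.hom f = pullback.snd A.hom f :=
      Over.w ((Over.pullback f).map φ)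
    rw [e1, Over.w φ]
    exact (IsPullback.of_hasPullback A.hom f).flip
  have left : IsPullback ((Over.pullback f).map φ).left (pullback.fst A.hom f)
      (pullback.fst B.hom f) φ.left :=
    IsPullback.of_right big (ActBC.pullback_map_left_fst f φ) right
  have hQ : (@Surjective ⊓ @Flat ⊓ @QuasiCompact : MorphismProperty Scheme.{u})
      (pullback.fst B.hom f) := ⟨⟨inferInstance, inferInstance⟩, inferInstance⟩
  have : isomorphisms Scheme.{u} φ.left :=
    MorphismProperty.of_isPullback_of_descendsAlong (P := isomorphisms Scheme.{u})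
      (Q := @Surjective ⊓ @Flat ⊓ @QuasiCompact) left hQ hl
  haveI : IsIso ((CategoryTheory.Over.forget X).map φ) := this
  exact isIso_of_reflects_iso φ (CategoryTheory.Over.forget X)


theorem isLocallyTrivialFor_of_bc (f : X' ⟶ X) [Flat f] [Surjective f] [QuasiCompact f]
    (P : Over X) (h : NonAbH1.IsLocallyTrivialFor Scheme.fpqcPrecoverage (Red.bc f P)) :
    NonAbH1.IsLocallyTrivialFor Scheme.fpqcPrecoverage P := by
  obtain ⟨R', hR', hsec'⟩ := h
  obtain ⟨I, Y, g, rfl⟩ := R'.exists_eq_ofArrows
  have hf : Presieve.ofArrows (fun _ : PUnit.{1} => X') (fun _ => f) ∈ Scheme.fpqcPrecoverage X := by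
    rw [Presieve.ofArrows_pUnit]
    exact f.singleton_mem_fpqcPrecoverage
  have hcomp := Precoverage.comp_mem_coverings (J := Scheme.fpqcPrecoverage)
    (fun _ : PUnit.{1} => f) hf (σ := fun _ => I) (Y := fun _ j => Y j) (fun _ j => g j)
    (fun _ => hR')
  refine ⟨_, hcomp, ?_⟩
  rintro S' h ⟨p⟩
  obtain ⟨s', hs'⟩ := hsec' (g p.2) (Presieve.ofArrows.mk p.2)
  refine ⟨s' ≫ pullback.fst P.hom f, ?_⟩
  have hs'' : s' ≫ pullback.snd P.hom f = g p.2 := hs'
  rw [Category.assoc, pullback.condition, ← Category.assoc, hs'']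

theorem main14547 (f : X' ⟶ X)
    [Flat f] [Surjective f] [QuasiCompact f]
    {J P : Over X} [GrpObj J] (a : AlgGrp.Action J P)
    (a' : AlgGrp.Action (Red.bc f J) (Red.bc f P))
    (ha' : Functor.LaxMonoidal.μ (Over.pullback f) J P ≫ (Over.pullback f).map a.act = a'.act) :
    NonAbH1.IsTorsorFor Scheme.fpqcPrecoverage a ↔
      NonAbH1.IsTorsorFor Scheme.fpqcPrecoverage a' := by
  have e : a' = a.bc f := AlgGrp.Action.ext' ha'.symm
  subst e
  constructor
  · exact NonAbH1.isTorsorFor_bc f _
  · rintro ⟨hps, hloc⟩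
    refine ⟨?_, isLocallyTrivialFor_of_bc f P hloc⟩
    have key : lift (a.bc f).act (snd _ _) ≫ Functor.LaxMonoidal.μ (Over.pullback f) P P =
        Functor.LaxMonoidal.μ (Over.pullback f) J P ≫
          (Over.pullback f).map (lift a.act (snd J P)) := by
      rw [← Functor.Monoidal.lift_μ, comp_lift_assoc, Functor.Monoidal.μ_snd,
        AlgGrp.Action.bc_act]
    haveI : IsIso (lift (a.bc f).act (snd _ _)) := hps
    have h2 : IsIso (Functor.LaxMonoidal.μ (Over.pullback f) J P ≫
          (Over.pullback f).map (lift a.act (snd J P))) := by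
      rw [← key]
      infer_instance
    have h3 : IsIso ((Over.pullback f).map (lift a.act (snd J P))) :=
      IsIso.of_isIso_comp_left (Functor.LaxMonoidal.μ (Over.pullback f) J P) _
    exact isIso_of_isIso_pullback_map f _ h3

end Groth.Agent.Helper18.TorsorBC
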