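import Mathlib
import Groth.Prelude
import Groth.Agent.Lib.Helper18.TorsorMap0

set_option autoImplicit false
universe u
open CategoryTheory MonoidalCategory CartesianMonoidalCategory MonObj GrpObj AlgebraicGeometry Limits

namespace Groth.Agent.Helper18.TorsorInv

open Groth.Agent.Helper18.TorsorMap Groth.Agent.Helper18.FpqcCov AlgGrp.Action

/-- functions as morphisms to the affine line -/
noncomputable def fnEquiv (T : Scheme.{u}) :
    (T ⟶ Spec (CommRingCat.of (MvPolynomial PUnit.{u+1} (ULift.{u} ℤ)))) ≃ Γ(T, ⊤) :=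
  (AffineSpace.toSpecMvPolyIntEquiv PUnit.{u+1}).trans (Equiv.funUnique PUnit.{u+1} _)

theorem fnEquiv_comp {T T' : Scheme.{u}} (f : T' ⟶ T)
    (g : T ⟶ Spec (CommRingCat.of (MvPolynomial PUnit.{u+1} (ULift.{u} ℤ)))) :
    fnEquiv T' (f ≫ g) = f.appTop.hom (fnEquiv T g) := rfl

variable {S : Scheme.{u}}

theorem main18859 {G X : Over S}
    [GrpObj G] (a : AlgGrp.Action G X) (ha : NonAbH1.IsTorsorFor Scheme.fpqcPrecoverage a) :
    Function.Injective X.hom.appTop.hom ∧
      ∀ s : Γ(X.left, ⊤), s ∈ Set.range X.hom.appTop.hom ↔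
        a.act.left.appTop.hom s = (CartesianMonoidalCategory.snd G X).left.appTop.hom s := by
  have hcov : IsFpqcCov X.hom := isFpqcCov_hom ha.2
  haveI := hcov.effectiveEpi
  haveI : Epi X.hom := inferInstance
  constructor
  · intro t₁ t₂ h12
    have : X.hom ≫ (fnEquiv S).symm t₁ = X.hom ≫ (fnEquiv S).symm t₂ := by
      apply (fnEquiv X.left).injective
      rw [fnEquiv_comp, fnEquiv_comp, Equiv.apply_symm_apply, Equiv.apply_symm_apply]
      exact h12
    have h2 := (cancel_epi X.hom).1 this
    exact (fnEquiv S).symm.injective h2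
  · intro s
    constructor
    · rintro ⟨t, rfl⟩
      have h1 : a.act.left ≫ X.hom = (snd G X).left ≫ X.hom := by
        rw [Over.w, Over.w]
      have := congrArg (fun φ => φ.appTop.hom t) h1
      simp only [Scheme.Hom.comp_appTop, CommRingCat.hom_comp, RingHom.comp_apply] at this
      exact this
    · intro hs
      let σ := (fnEquiv X.left).symm s
      have hσ : a.act.left ≫ σ = (snd G X).left ≫ σ := by
        apply (fnEquiv _).injective
        rw [fnEquiv_comp, fnEquiv_comp, Equiv.apply_symm_apply]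
        exact hs
      have hdesc : ∀ {Z : Scheme.{u}} (g₁ g₂ : Z ⟶ X.left), g₁ ≫ X.hom = g₂ ≫ X.hom →
          g₁ ≫ σ = g₂ ≫ σ := by
        intro Z g₁ g₂ h12
        let Z' : Over S := Over.mk (g₁ ≫ X.hom)
        let p₁ : Z' ⟶ X := Over.homMk g₁ rfl
        let p₂ : Z' ⟶ X := Over.homMk g₂ h12.symm
        obtain ⟨c, hc⟩ := exists_act_eq a ha.1 p₁ p₂
        have e2 : g₂ = (lift c p₁).left ≫ a.act.left := by
          rw [← Over.comp_left, hc]
          rfl
        have e1 : g₁ = (lift c p₁).left ≫ (snd G X).left := by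
          rw [← Over.comp_left, lift_snd]
          rfl
        rw [e2, Category.assoc, hσ, ← Category.assoc, ← e1]
      let τ := EffectiveEpi.desc X.hom σ hdesc
      have hτ : X.hom ≫ τ = σ := EffectiveEpi.fac X.hom σ hdesc
      refine ⟨fnEquiv S τ, ?_⟩
      rw [← fnEquiv_comp, hτ, Equiv.apply_symm_apply]

end Groth.Agent.Helper18.TorsorInv
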