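import Mathlib
import Groth.Prelude.Def_ChGrp
import Groth.Prelude.Def_NonAbH2
import Groth.Agent.Lib.Helper18.PseudoTorsPts
import Groth.Agent.Lib.Helper18.GeomQuot

/-!
# Equivariant maps between pseudo-torsors: lifting points (helper18)
-/

set_option autoImplicit false
set_option linter.style.haveILetI false
universe u
open CategoryTheory CategoryTheory.Limits MonoidalCategory CartesianMonoidalCategory MonObj
  AlgebraicGeometry

noncomputable section

namespace Groth.Agent.Helper18.TorsorMap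

open Groth.Agent.Helper18

variable {S : Scheme.{u}} {G G' P P' : Over S} [GrpObj G] [GrpObj G'] (φ : G ⟶ G') [IsMonHom φ]
  (a : AlgGrp.Action G P) (a' : AlgGrp.Action G' P') (F : P ⟶ P')
  (hF : a.act ≫ F = lift (fst G P ≫ φ) (snd G P ≫ F) ≫ a'.act)

include hF in
/-- equivariance on points -/
theorem act_comp {T : Over S} (h : T ⟶ G) (p : T ⟶ P) :
    (lift h p ≫ a.act) ≫ F = lift (h ≫ φ) (p ≫ F) ≫ a'.act := by
  rw [Category.assoc, hF, ← Category.assoc, comp_lift, ← Category.assoc, lift_fst,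
    ← Category.assoc, lift_snd]

include hF in
theorem inj_of_inj (hps : NonAbH1.IsPseudoTorsorSch a) (hps' : NonAbH1.IsPseudoTorsorSch a')
    {T : Over S} (hφ : Function.Injective (fun x : T ⟶ G => x ≫ φ)) (p q : T ⟶ P)
    (h : p ≫ F = q ≫ F) : p = q := by
  obtain ⟨h0, hh⟩ := PseudoTorsPts.pt_exists a hps p q
  have e1 : lift (h0 ≫ φ) (p ≫ F) ≫ a'.act = lift (toUnit T ≫ η[G']) (p ≫ F) ≫ a'.act := by
    rw [← act_comp φ a a' F hF, hh, GeomQuot.act_one, h]
  have e2 := PseudoTorsPts.pt_unique a' hps' _ _ _ e1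
  have e3 : (toUnit T ≫ η[G]) ≫ φ = toUnit T ≫ η[G'] := by
    rw [Category.assoc, IsMonHom.one_hom]
  have h01 : h0 = toUnit T ≫ η[G] := hφ (by
    show h0 ≫ φ = (toUnit T ≫ η[G]) ≫ φ
    rw [e2, e3])
  rw [← hh, h01, GeomQuot.act_one]

include hF in
/-- lifting points along an equivariant map of pseudo-torsors, given a local point of the source -/
theorem exists_lift (hps : NonAbH1.IsPseudoTorsorSch a) (hps' : NonAbH1.IsPseudoTorsorSch a')
    {T T₁ : Over S} (π : T₁ ⟶ T) [EffectiveEpi π.left]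
    (hφ₁ : Function.Surjective (fun x : T₁ ⟶ G => x ≫ φ))
    (hφ₂ : ∀ (Z : Over S) (_ : Z ⟶ T₁), Function.Injective (fun x : Z ⟶ G => x ≫ φ))
    (p₁ : T₁ ⟶ P) (p' : T ⟶ P') : ∃ p : T ⟶ P, p ≫ F = p' := by
  obtain ⟨h', hh'⟩ := PseudoTorsPts.pt_exists a' hps' (p₁ ≫ F) (π ≫ p')
  obtain ⟨h, rfl⟩ := hφ₁ h'
  replace hh' : lift (h ≫ φ) (p₁ ≫ F) ≫ a'.act = π ≫ p' := hh'
  have hq : (lift h p₁ ≫ a.act) ≫ F = π ≫ p' := by
    rw [act_comp φ a a' F hF, hh']
  have hcond : ∀ {Z : Scheme.{u}} (g₁ g₂ : Z ⟶ T₁.left), g₁ ≫ π.left = g₂ ≫ π.left →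
      g₁ ≫ (lift h p₁ ≫ a.act).left = g₂ ≫ (lift h p₁ ≫ a.act).left := by
    intro Z g₁ g₂ hgg
    let Z' : Over S := Over.mk (g₁ ≫ T₁.hom)
    let G₁ : Z' ⟶ T₁ := Over.homMk g₁ rfl
    let G₂ : Z' ⟶ T₁ := Over.homMk g₂ (by
      show g₂ ≫ T₁.hom = g₁ ≫ T₁.hom
      rw [← Over.w π, ← Category.assoc, ← hgg, Category.assoc])
    have hG : G₁ ≫ π = G₂ ≫ π := Over.OverMorphism.ext hgg
    have : G₁ ≫ (lift h p₁ ≫ a.act) = G₂ ≫ (lift h p₁ ≫ a.act) :=
      inj_of_inj φ a a' F hF hps hps' (hφ₂ Z' G₁) _ _ (by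
        rw [Category.assoc G₁, Category.assoc G₂, hq, ← Category.assoc, ← Category.assoc, hG])
    exact congrArg (fun k => k.left) this
  have hpl : π.left ≫ EffectiveEpi.desc π.left (lift h p₁ ≫ a.act).left hcond =
      (lift h p₁ ≫ a.act).left := EffectiveEpi.fac _ _ _
  have hw : EffectiveEpi.desc π.left (lift h p₁ ≫ a.act).left hcond ≫ P.hom = T.hom := by
    rw [← cancel_epi π.left, ← Category.assoc, hpl, Over.w, Over.w]
  refine ⟨Over.homMk (EffectiveEpi.desc π.left (lift h p₁ ≫ a.act).left hcond) hw, ?_⟩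
  apply Over.OverMorphism.ext
  rw [← cancel_epi π.left]
  show π.left ≫ EffectiveEpi.desc π.left (lift h p₁ ≫ a.act).left hcond ≫ F.left =
    π.left ≫ p'.left
  rw [← Category.assoc, hpl]
  exact congrArg (fun k => k.left) hq

omit [IsMonHom φ] in
/-- a morphism which becomes an isomorphism after base change along `j` is bijective on points
of objects living over the source of `j` -/
theorem bij_of_isIso_pullback {S' : Scheme.{u}} (j : S' ⟶ S)
    (hφ : IsIso ((Over.pullback j).map φ)) (T'' : Over S') :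
    Function.Bijective (fun x : (Over.map j).obj T'' ⟶ G => x ≫ φ) := by
  let adj := Over.mapPullbackAdj j
  constructor
  · intro x y hxy
    have h1 : adj.homEquiv _ _ (x ≫ φ) = adj.homEquiv _ _ (y ≫ φ) := congrArg _ hxy
    rw [Adjunction.homEquiv_naturality_right, Adjunction.homEquiv_naturality_right] at h1
    exact (adj.homEquiv _ _).injective ((cancel_mono _).1 h1)
  · intro y
    refine ⟨(adj.homEquiv _ _).symm (adj.homEquiv _ _ y ≫ inv ((Over.pullback j).map φ)), ?_⟩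
    apply (adj.homEquiv _ _).injective
    show adj.homEquiv _ _ (_ ≫ φ) = _
    rw [Adjunction.homEquiv_naturality_right, Equiv.apply_symm_apply, Category.assoc,
      IsIso.inv_hom_id, Category.comp_id]

omit [IsMonHom φ] in
theorem bij_of_factor {S' : Scheme.{u}} (j : S' ⟶ S)
    (hφ : IsIso ((Over.pullback j).map φ)) (T : Over S) (t : T.left ⟶ S') (ht : t ≫ j = T.hom) :
    Function.Bijective (fun x : T ⟶ G => x ≫ φ) := by
  obtain ⟨Tl, ⟨⟩, Th⟩ := T
  change Tl ⟶ S' at t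
  change t ≫ j = Th at ht
  subst ht
  exact bij_of_isIso_pullback φ j hφ (Over.mk t)

end Groth.Agent.Helper18.TorsorMap
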