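import Mathlib

set_option autoImplicit false

namespace Groth.Agent.Helper18.TrivGrading

variable (A : Type*) [CommRing A]

/-- The trivial grading: everything in degree zero. -/
def triv : ℕ → AddSubgroup A := fun n => if n = 0 then ⊤ else ⊥

variable {A}

theorem mem_triv_zero (a : A) : a ∈ triv A 0 := by simp [triv]

theorem eq_zero_of_mem_triv {n : ℕ} (hn : n ≠ 0) {a : A} (ha : a ∈ triv A n) : a = 0 := by
  simpa [triv, hn] using ha

theorem mem_triv_iff {n : ℕ} {a : A} : a ∈ triv A n ↔ (n = 0 ∨ a = 0) := by
  by_cases hn : n = 0
  · subst hn; simp [triv]
  · simp [triv, hn]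

instance : SetLike.GradedMonoid (triv A) where
  one_mem := mem_triv_zero 1
  mul_mem := by
    intro i j a b ha hb
    rw [mem_triv_iff] at ha hb ⊢
    rcases ha with rfl | rfl
    · rcases hb with rfl | rfl
      · left; rfl
      · right; simp
    · right; simp

/-- inclusion into degree zero -/
def toZero : A →+ triv A 0 where
  toFun a := ⟨a, mem_triv_zero a⟩
  map_zero' := rfl
  map_add' _ _ := rfl

/-- the decomposition map -/
def dec : A →+ DirectSum ℕ (fun n => triv A n) :=
  (DirectSum.of (fun n => triv A n) 0).comp toZero

instance : DirectSum.Decomposition (triv A) where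
  decompose' := dec
  left_inv := by
    intro a
    simp [dec, toZero]
  right_inv := by
    intro x
    induction x using DirectSum.induction_on with
    | zero => simp
    | of i xi =>
      by_cases hi : i = 0
      · subst hi
        simp only [DirectSum.coeAddMonoidHom_of]
        rfl
      · have h0 : xi = 0 := Subtype.ext (eq_zero_of_mem_triv hi xi.2)
        rw [h0]
        simp
    | add x y hx hy =>
      rw [map_add, map_add, hx, hy]

instance : GradedRing (triv A) where

end Groth.Agent.Helper18.TrivGrading
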