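import Groth.Agent.Lib.Helper18.UTLocal
import Groth.Agent.S9426
set_option autoImplicit false
set_option linter.style.haveILetI false
namespace Groth.Agent.Helper18.Thick
open AlgebraicGeometry CategoryTheory Limits
universe u

open Groth.Agent.Helper3.FormEt

/-- A formally unramified morphism has a universal first order thickening over small affine
opens of the source. -/
theorem exists_isUnivThickening_of_affine' {Z X : Scheme.{u}} (h : Z ⟶ X) [FormallyUnramified h]
    {V : Z.Opens} {U : X.Opens} (hV : IsAffineOpen V) (hU : IsAffineOpen U) (hVU : V ≤ h ⁻¹ᵁ U) :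
    ∃ (Z' : Scheme.{u}) (i : V.toScheme ⟶ Z') (h' : Z' ⟶ X),
      IsAffine Z' ∧ OmegaSh.IsUnivThickening (V.ι ≫ h) i h' := by
  letI alg : Algebra Γ(X, U) Γ(Z, V) := (h.appLE U V hVU).hom.toAlgebra
  haveI : Algebra.FormallyUnramified Γ(X, U) Γ(Z, V) :=
    FormallyUnramified.formallyUnramified_appLE h hU hV hVU
  obtain ⟨B', _, _, π, hπsurj, hπker, hπuniv⟩ := Groth.Agent.S9426.result Γ(X, U) Γ(Z, V)
  have hπalg : CommRingCat.ofHom (algebraMap Γ(X, U) B') ≫ CommRingCat.ofHom π.toRingHom =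
      h.appLE U V hVU := by
    ext x
    exact π.commutes x
  have hsurj' : Function.Surjective (CommRingCat.ofHom π.toRingHom).hom := hπsurj
  have hker' : RingHom.ker (CommRingCat.ofHom π.toRingHom).hom ^ 2 = ⊥ := hπker
  have hcl : IsClosedImmersion (Spec.map (CommRingCat.ofHom π.toRingHom)) :=
    IsClosedImmersion.spec_of_surjective _ hsurj'
  refine ⟨Spec (CommRingCat.of B'), hV.isoSpec.hom ≫ Spec.map (CommRingCat.ofHom π.toRingHom),
    Spec.map (CommRingCat.ofHom (algebraMap Γ(X, U) B')) ≫ hU.fromSpec, inferInstance,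
    isUnivThickening_of_affine_tests _ _ _ ?_ ?_ ?_⟩
  · refine ⟨⟨inferInstance, ?_⟩, ?_⟩
    · haveI : Surjective (Spec.map (CommRingCat.ofHom π.toRingHom)) :=
        ⟨specMap_surjective_of_ker_sq _ hsurj' hker'⟩
      infer_instance
    · rw [Scheme.Hom.ker_comp_of_isIso]
      exact ker_sq_specMap _ hker'
  · rw [Category.assoc, ← Category.assoc (Spec.map _), ← Spec.map_comp, hπalg,
      hU.SpecMap_appLE_fromSpec h hV hVU, ← Category.assoc, hV.isoSpec_hom_fromSpec]
  · intro C _ I hI a b w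
    have hb : Set.range b ⊆ U := by
      rintro _ ⟨y, rfl⟩
      obtain ⟨x, rfl⟩ := specMap_surjective_of_ker_sq
        (CommRingCat.ofHom (Ideal.Quotient.mk I)) Ideal.Quotient.mk_surjective
        (by simpa using hI) y
      have : b (Spec.map (CommRingCat.ofHom (Ideal.Quotient.mk I)) x) = h (V.ι (a x)) := by
        rw [← Scheme.Hom.comp_apply, w]
        rfl
      rw [this]
      exact hVU (a x).2
    let b₀ : Spec (CommRingCat.of C) ⟶ Spec Γ(X, U) := IsOpenImmersion.lift hU.fromSpec b (by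
      rw [hU.range_fromSpec]; exact hb)
    have hb₀ : b₀ ≫ hU.fromSpec = b := IsOpenImmersion.lift_fac _ _ _
    obtain ⟨β, hβ⟩ := Spec.map_surjective b₀
    obtain ⟨α, hα⟩ := Spec.map_surjective (a ≫ hV.isoSpec.hom)
    have hcompat : h.appLE U V hVU ≫ α = β ≫ CommRingCat.ofHom (Ideal.Quotient.mk I) := by
      apply Spec.map_injective
      rw [Spec.map_comp, Spec.map_comp, hα, hβ, ← cancel_mono hU.fromSpec, Category.assoc,
        Category.assoc, hU.SpecMap_appLE_fromSpec h hV hVU, Category.assoc, hb₀, w,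
        ← Category.assoc hV.isoSpec.hom, hV.isoSpec_hom_fromSpec]
    letI algC : Algebra Γ(X, U) C := β.hom.toAlgebra
    let α' : Γ(Z, V) →ₐ[Γ(X, U)] C ⧸ I :=
      { α.hom with commutes' := fun x => congr($hcompat x) }
    obtain ⟨r, hr, hruniq⟩ := hπuniv C I hI α'
    have hr' : CommRingCat.ofHom r.toRingHom ≫ CommRingCat.ofHom (Ideal.Quotient.mk I) =
        CommRingCat.ofHom π.toRingHom ≫ α := by
      ext x
      exact congr($hr x)
    have hrβ : CommRingCat.ofHom (algebraMap Γ(X, U) B') ≫ CommRingCat.ofHom r.toRingHom = β := by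
      ext x
      exact r.commutes x
    refine ⟨Spec.map (CommRingCat.ofHom r.toRingHom), ⟨?_, ?_⟩, ?_⟩
    · rw [← Spec.map_comp, hr', Spec.map_comp, hα, Category.assoc]
    · rw [← Category.assoc, ← Spec.map_comp, hrβ, hβ, hb₀]
    · rintro a'' ⟨h1, h2⟩
      obtain ⟨ρ, hρ⟩ := Spec.map_surjective a''
      have hρβ : CommRingCat.ofHom (algebraMap Γ(X, U) B') ≫ ρ = β := by
        apply Spec.map_injective
        rw [Spec.map_comp, hρ, hβ, ← cancel_mono hU.fromSpec, Category.assoc, h2, hb₀]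
      have hρmk : ρ ≫ CommRingCat.ofHom (Ideal.Quotient.mk I) =
          CommRingCat.ofHom π.toRingHom ≫ α := by
        apply Spec.map_injective
        rw [Spec.map_comp, hρ, h1, Spec.map_comp, hα, Category.assoc]
      let ρ' : B' →ₐ[Γ(X, U)] C := { ρ.hom with commutes' := fun x => congr($hρβ x) }
      have : ρ' = r := by
        apply hruniq
        ext x
        exact congr($hρmk x)
      rw [← hρ]
      congr 1
      ext x
      exact congr($this x)

/-- A formally unramified morphism has a universal first order thickening over small affine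
opens of the source. -/
theorem exists_isUnivThickening_of_affine {Z X : Scheme.{u}} (h : Z ⟶ X) [FormallyUnramified h]
    {V : Z.Opens} {U : X.Opens} (hV : IsAffineOpen V) (hU : IsAffineOpen U) (hVU : V ≤ h ⁻¹ᵁ U) :
    ∃ (Z' : Scheme.{u}) (i : V.toScheme ⟶ Z') (h' : Z' ⟶ X),
      OmegaSh.IsUnivThickening (V.ι ≫ h) i h' := by
  obtain ⟨Z', i, h', -, hu⟩ := exists_isUnivThickening_of_affine' h hV hU hVU
  exact ⟨Z', i, h', hu⟩

/-- Restriction of a universal first order thickening of an open `V ⊆ Z` to a smaller open. -/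
theorem exists_restrict {Z X : Scheme.{u}} (h : Z ⟶ X) {V : Z.Opens} {T : Scheme.{u}}
    (i : V.toScheme ⟶ T) (h' : T ⟶ X) (hu : OmegaSh.IsUnivThickening (V.ι ≫ h) i h')
    (V₁ : Z.Opens) (hle : V₁ ≤ V) :
    ∃ (W : T.Opens) (i₁ : V₁.toScheme ⟶ W.toScheme),
      OmegaSh.IsUnivThickening (V₁.ι ≫ h) i₁ (W.ι ≫ h') ∧ i₁ ≫ W.ι = Z.homOfLE hle ≫ i := by
  obtain ⟨⟨hcl, hsurj⟩, hker⟩ := hu.1
  have hhomeo : IsHomeomorph i :=
    isHomeomorph_iff_isEmbedding_surjective.mpr ⟨i.isClosedEmbedding.isEmbedding, hsurj.surj⟩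
  let V₁' : V.toScheme.Opens := V.ι ⁻¹ᵁ V₁
  let W : T.Opens := ⟨i '' (V₁' : Set V.toScheme), hhomeo.isOpenMap _ V₁'.2⟩
  have hW : i ⁻¹ᵁ W = V₁' := by
    ext x
    constructor
    · rintro ⟨y, hy, hxy⟩
      rwa [← hhomeo.injective hxy]
    · intro hx
      exact ⟨x, hx, rfl⟩
  have hres := isUnivThickening_restrict (V.ι ≫ h) i h' hu V₁' W hW
  have hrange : Set.range V₁.ι = Set.range (V₁'.ι ≫ V.ι) := by
    rw [Scheme.Opens.range_ι, Scheme.Hom.comp_base, TopCat.coe_comp, Set.range_comp,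
      Scheme.Opens.range_ι]
    ext z
    constructor
    · intro hz
      exact ⟨⟨z, hle hz⟩, hz, rfl⟩
    · rintro ⟨y, hy, rfl⟩
      exact hy
  let e : V₁.toScheme ≅ V₁'.toScheme := IsOpenImmersion.isoOfRangeEq V₁.ι (V₁'.ι ≫ V.ι) hrange
  have he : e.hom ≫ V₁'.ι ≫ V.ι = V₁.ι := IsOpenImmersion.isoOfRangeEq_hom_fac _ _ _
  have htr := isUnivThickening_of_iso_source e _ _ _ hres
  have he' : e.hom ≫ V₁'.ι ≫ V.ι ≫ h = V₁.ι ≫ h := by
    rw [← Category.assoc V₁'.ι, ← Category.assoc e.hom, he]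
  rw [he'] at htr
  refine ⟨W, e.hom ≫ i.resLE W V₁' hW.ge, htr, ?_⟩
  rw [Category.assoc, Scheme.Hom.resLE_comp_ι, ← Category.assoc]
  congr 1
  rw [← cancel_mono V.ι, Category.assoc, he, Scheme.homOfLE_ι]

end Groth.Agent.Helper18.Thick
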