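import Groth.Agent.Lib.Helper18.UTAffine
import Groth.Agent.Lib.Helper18.DerLib
set_option autoImplicit false
set_option linter.style.haveILetI false
namespace Groth.Agent.Helper18.Thick
open AlgebraicGeometry CategoryTheory Limits
universe u
open Groth.Agent.Helper3.FormEt

section
variable {Z Z' X : Scheme.{u}} (h : Z ⟶ X) (i : Z ⟶ Z') (h' : Z' ⟶ X)
  (hu : OmegaSh.IsUnivThickening h i h')

include hu in
theorem le_preimage_of_isUnivThickening {V : Z.Opens} {U : X.Opens} (hVU : V ≤ h ⁻¹ᵁ U)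
    (V' : Z'.Opens) (hV' : i ⁻¹ᵁ V' = V) : V' ≤ h' ⁻¹ᵁ U := by
  intro z' hz'
  obtain ⟨z, rfl⟩ := hu.1.1.2.surj z'
  have hz : z ∈ V := by rw [← hV']; exact hz'
  have e : h' (i z) = h z := congr($(hu.2.1) z)
  change h' (i z) ∈ U
  rw [e]
  exact hVU hz

include hu in
theorem isAffineOpen_of_isUnivThickening [FormallyUnramified h] {V : Z.Opens} {U : X.Opens}
    (hV : IsAffineOpen V) (hU : IsAffineOpen U) (hVU : V ≤ h ⁻¹ᵁ U)
    (V' : Z'.Opens) (hV' : i ⁻¹ᵁ V' = V) : IsAffineOpen V' := by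
  have h1 := isUnivThickening_restrict h i h' hu V V' hV'
  obtain ⟨T, i₀, h₀, hT, h2⟩ := exists_isUnivThickening_of_affine' h hV hU hVU
  obtain ⟨θ, -, -⟩ := exists_iso_of_isUnivThickening (V.ι ≫ h) _ _ h1 _ _ h2
  exact IsAffine.of_isIso θ.hom

include hu in
theorem isScalarTower_chart {V : Z.Opens} {U : X.Opens} (hVU : V ≤ h ⁻¹ᵁ U)
    (V' : Z'.Opens) (hV' : i ⁻¹ᵁ V' = V) (hV'U : V' ≤ h' ⁻¹ᵁ U) :
    letI : Algebra Γ(X, U) Γ(Z, V) := (h.appLE U V hVU).hom.toAlgebra
    letI : Algebra Γ(X, U) Γ(Z', V') := (h'.appLE U V' hV'U).hom.toAlgebra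
    letI : Algebra Γ(Z', V') Γ(Z, V) := (i.appLE V' V hV'.ge).hom.toAlgebra
    IsScalarTower Γ(X, U) Γ(Z', V') Γ(Z, V) := by
  letI : Algebra Γ(X, U) Γ(Z, V) := (h.appLE U V hVU).hom.toAlgebra
  letI : Algebra Γ(X, U) Γ(Z', V') := (h'.appLE U V' hV'U).hom.toAlgebra
  letI : Algebra Γ(Z', V') Γ(Z, V) := (i.appLE V' V hV'.ge).hom.toAlgebra
  refine IsScalarTower.of_algebraMap_eq fun a => ?_
  have e1 : h'.appLE U V' hV'U ≫ i.appLE V' V hV'.ge = (i ≫ h').appLE U V
      (by rw [hu.2.1]; exact hVU) := Scheme.Hom.appLE_comp_appLE _ _ _ _ _ _ _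
  have e2 : (i ≫ h').appLE U V (by rw [hu.2.1]; exact hVU) = h.appLE U V hVU :=
    Groth.Agent.Helper18.DerLib.appLE_congr_hom hu.2.1 _ _
  exact (congr($(e1.trans e2) a)).symm

include hu in
theorem isUnivThickeningRing_chart {V : Z.Opens} {U : X.Opens}
    (hV : IsAffineOpen V) (hU : IsAffineOpen U) (hVU : V ≤ h ⁻¹ᵁ U)
    (V' : Z'.Opens) (hV' : i ⁻¹ᵁ V' = V) (hV'a : IsAffineOpen V') (hV'U : V' ≤ h' ⁻¹ᵁ U) :
    letI : Algebra Γ(X, U) Γ(Z, V) := (h.appLE U V hVU).hom.toAlgebra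
    letI : Algebra Γ(X, U) Γ(Z', V') := (h'.appLE U V' hV'U).hom.toAlgebra
    letI : Algebra Γ(Z', V') Γ(Z, V) := (i.appLE V' V hV'.ge).hom.toAlgebra
    haveI := isScalarTower_chart h i h' hu hVU V' hV' hV'U
    OmegaSh.IsUnivThickeningRing Γ(X, U) Γ(Z, V) Γ(Z', V')
      (IsScalarTower.toAlgHom Γ(X, U) Γ(Z', V') Γ(Z, V)) := by
  letI algB : Algebra Γ(X, U) Γ(Z, V) := (h.appLE U V hVU).hom.toAlgebra
  letI algB' : Algebra Γ(X, U) Γ(Z', V') := (h'.appLE U V' hV'U).hom.toAlgebra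
  letI algπ : Algebra Γ(Z', V') Γ(Z, V) := (i.appLE V' V hV'.ge).hom.toAlgebra
  haveI := isScalarTower_chart h i h' hu hVU V' hV' hV'U
  obtain ⟨⟨⟨hcl, hsurj⟩, hker⟩, hic, huniv⟩ := hu
  have happ : i.appLE V' V hV'.ge = i.app V' ≫ Z.presheaf.map (eqToHom hV'.symm).op := by
    rw [Scheme.Hom.appLE]
    rfl
  refine ⟨?_, ?_, ?_⟩
  · intro b
    change ∃ a, i.appLE V' V hV'.ge a = b
    obtain ⟨a, ha⟩ := i.app_surjective V' hV'a (Z.presheaf.map (eqToHom hV').op b)
    refine ⟨a, ?_⟩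
    rw [happ, CommRingCat.comp_apply, ha, ← CommRingCat.comp_apply, ← Functor.map_comp]
    exact congr($(Z.presheaf.map_id _) b)
  · rw [← le_bot_iff]
    intro x hx
    have hk : (i.ker * i.ker).ideal ⟨V', hV'a⟩ = ⊥ := by rw [hker]; rfl
    rw [Scheme.IdealSheafData.ideal_mul, Pi.mul_apply, Scheme.Hom.ker_apply] at hk
    have hle : RingHom.ker (IsScalarTower.toAlgHom Γ(X, U) Γ(Z', V') Γ(Z, V)).toRingHom ≤
        RingHom.ker (i.app V').hom := by
      intro y hy
      rw [RingHom.mem_ker] at hy ⊢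
      have hy' : i.appLE V' V hV'.ge y = 0 := hy
      rw [happ, CommRingCat.comp_apply] at hy'
      have h2 := congrArg (Z.presheaf.map (eqToHom hV').op) hy'
      rw [map_zero, ← CommRingCat.comp_apply, ← Functor.map_comp] at h2
      exact (congr($(Z.presheaf.map_id _) (i.app V' y))).symm.trans h2
    rw [← hk, ← pow_two]
    exact Ideal.pow_right_mono hle 2 hx
  · intro C _ _ I hI a
    let mkI : CommRingCat.of C ⟶ CommRingCat.of (C ⧸ I) := CommRingCat.ofHom (Ideal.Quotient.mk I)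
    let aT : Spec (CommRingCat.of (C ⧸ I)) ⟶ Z :=
      Spec.map (CommRingCat.ofHom a.toRingHom) ≫ hV.fromSpec
    let b : Spec (CommRingCat.of C) ⟶ X :=
      Spec.map (CommRingCat.ofHom (algebraMap Γ(X, U) C)) ≫ hU.fromSpec
    have hj : MoreMor.IsFirstOrderThickening (Spec.map mkI) :=
      specMap_mk_isFirstOrderThickening C I hI
    have w : Spec.map mkI ≫ b = aT ≫ h := by
      change Spec.map mkI ≫ Spec.map (CommRingCat.ofHom (algebraMap Γ(X, U) C)) ≫ hU.fromSpec =
        (Spec.map (CommRingCat.ofHom a.toRingHom) ≫ hV.fromSpec) ≫ h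
      rw [Category.assoc, ← hU.SpecMap_appLE_fromSpec h hV hVU, ← Category.assoc,
        ← Category.assoc, ← Spec.map_comp, ← Spec.map_comp]
      congr 2
      ext x
      exact (a.commutes x).symm
    obtain ⟨a', ⟨ha1, ha2⟩, ha3⟩ := huniv _ _ (Spec.map mkI) b aT hj w
    have hrange : Set.range a' ⊆ Set.range hV'a.fromSpec := by
      rw [hV'a.range_fromSpec]
      rintro _ ⟨y, rfl⟩
      obtain ⟨x, rfl⟩ := hj.1.2.surj y
      have e : a' (Spec.map mkI x) = i (aT x) := congr($ha1 x)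
      rw [e]
      have hx : aT x ∈ V := by
        have : aT x ∈ Set.range hV.fromSpec := ⟨_, rfl⟩
        rwa [hV.range_fromSpec] at this
      rw [← hV'] at hx
      exact hx
    have ha'' : IsOpenImmersion.lift hV'a.fromSpec a' hrange ≫ hV'a.fromSpec = a' :=
      IsOpenImmersion.lift_fac _ _ _
    obtain ⟨ρ, hρ⟩ := Spec.map_surjective (IsOpenImmersion.lift hV'a.fromSpec a' hrange)
    have hρA : h'.appLE U V' hV'U ≫ ρ = CommRingCat.ofHom (algebraMap Γ(X, U) C) := by
      apply Spec.map_injective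
      rw [Spec.map_comp, hρ, ← cancel_mono hU.fromSpec, Category.assoc,
        hU.SpecMap_appLE_fromSpec h' hV'a hV'U, ← Category.assoc, ha'', ha2]
    have hρmk : ρ ≫ mkI = i.appLE V' V hV'.ge ≫ CommRingCat.ofHom a.toRingHom := by
      apply Spec.map_injective
      have e : aT ≫ i = Spec.map (CommRingCat.ofHom a.toRingHom) ≫
          Spec.map (i.appLE V' V hV'.ge) ≫ hV'a.fromSpec := by
        rw [hV'a.SpecMap_appLE_fromSpec i hV hV'.ge, ← Category.assoc]
      rw [Spec.map_comp, Spec.map_comp, hρ, ← cancel_mono hV'a.fromSpec, Category.assoc, ha'', ha1,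
        e, Category.assoc]
    let ρ' : Γ(Z', V') →ₐ[Γ(X, U)] C := { ρ.hom with commutes' := fun x => congr($hρA x) }
    refine ⟨ρ', ?_, ?_⟩
    · ext x
      exact congr($hρmk x)
    · intro r hr
      have e : Spec.map (CommRingCat.ofHom r.toRingHom) ≫ hV'a.fromSpec = a' := by
        apply ha3
        constructor
        · rw [← Category.assoc, ← Spec.map_comp]
          have : CommRingCat.ofHom r.toRingHom ≫ mkI =
              i.appLE V' V hV'.ge ≫ CommRingCat.ofHom a.toRingHom := by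
            ext x; exact congr($hr x)
          rw [this, Spec.map_comp, Category.assoc, hV'a.SpecMap_appLE_fromSpec i hV hV'.ge,
            ← Category.assoc]
        · change _ = Spec.map (CommRingCat.ofHom (algebraMap Γ(X, U) C)) ≫ hU.fromSpec
          rw [Category.assoc, ← hU.SpecMap_appLE_fromSpec h' hV'a hV'U, ← Category.assoc,
            ← Spec.map_comp]
          congr 2
          ext x; exact r.commutes x
      have e2 : Spec.map (CommRingCat.ofHom r.toRingHom) =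
          IsOpenImmersion.lift hV'a.fromSpec a' hrange := by
        rw [← cancel_mono hV'a.fromSpec, e, ha'']
      have e3 : CommRingCat.ofHom r.toRingHom = ρ := Spec.map_injective (e2.trans hρ.symm)
      ext x
      exact congr($e3 x)

end

end Groth.Agent.Helper18.Thick
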