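import Groth.Agent.Lib.Helper18.UTAffine
set_option autoImplicit false
set_option linter.style.haveILetI false
namespace Groth.Agent.Helper18.UTGlue
open AlgebraicGeometry CategoryTheory Limits Groth.Agent.Helper18.Thick
universe u

variable {Z X : Scheme.{u}} (h : Z ⟶ X)

/-- a universal first order thickening of the open `V` of `Z` over `X`. -/
structure UT (V : Z.Opens) where
  T : Scheme.{u}
  i : V.toScheme ⟶ T
  h' : T ⟶ X
  isU : OmegaSh.IsUnivThickening (V.ι ≫ h) i h'

/-- opens admitting a universal first order thickening -/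
def J : Type u := {V : Z.Opens // Nonempty (UT h V)}

instance : Preorder (J h) := inferInstanceAs (Preorder {V : Z.Opens // Nonempty (UT h V)})

noncomputable def ut (k : J h) : UT h k.1 := k.2.some

variable {h}

theorem trans_exists {k l : J h} (hkl : k.1 ≤ l.1) :
    ∃! m : (ut h k).T ⟶ (ut h l).T,
      (ut h k).i ≫ m = Z.homOfLE hkl ≫ (ut h l).i ∧ m ≫ (ut h l).h' = (ut h k).h' :=
  (ut h l).isU.2.2 _ _ (ut h k).i (ut h k).h' (Z.homOfLE hkl) (ut h k).isU.1
    (by rw [(ut h k).isU.2.1, ← Category.assoc, Scheme.homOfLE_ι])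

noncomputable def trans {k l : J h} (hkl : k.1 ≤ l.1) : (ut h k).T ⟶ (ut h l).T :=
  (trans_exists hkl).choose

theorem i_trans {k l : J h} (hkl : k.1 ≤ l.1) :
    (ut h k).i ≫ trans hkl = Z.homOfLE hkl ≫ (ut h l).i :=
  (trans_exists hkl).choose_spec.1.1

theorem trans_h' {k l : J h} (hkl : k.1 ≤ l.1) : trans hkl ≫ (ut h l).h' = (ut h k).h' :=
  (trans_exists hkl).choose_spec.1.2

theorem trans_unique {k l : J h} (hkl : k.1 ≤ l.1) (m : (ut h k).T ⟶ (ut h l).T)
    (h1 : (ut h k).i ≫ m = Z.homOfLE hkl ≫ (ut h l).i) (h2 : m ≫ (ut h l).h' = (ut h k).h') :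
    m = trans hkl :=
  (trans_exists hkl).choose_spec.2 m ⟨h1, h2⟩

theorem trans_id (k : J h) : trans (le_refl k.1) = 𝟙 (ut h k).T := by
  symm
  apply trans_unique
  · rw [Category.comp_id, Scheme.homOfLE_rfl, Category.id_comp]
  · rw [Category.id_comp]

theorem trans_comp {k l m : J h} (hkl : k.1 ≤ l.1) (hlm : l.1 ≤ m.1) :
    trans (hkl.trans hlm) = trans hkl ≫ trans hlm := by
  symm
  apply trans_unique
  · rw [← Category.assoc, i_trans, Category.assoc, i_trans, ← Category.assoc,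
      Scheme.homOfLE_homOfLE]
  · rw [Category.assoc, trans_h', trans_h']

variable (h) in
/-- the diagram of local universal thickenings -/
noncomputable def F : J h ⥤ Scheme.{u} where
  obj k := (ut h k).T
  map f := trans (leOfHom f)
  map_id k := trans_id k
  map_comp f g := trans_comp (leOfHom f) (leOfHom g)

theorem isOpenImmersion_trans {k l : J h} (hkl : k.1 ≤ l.1) : IsOpenImmersion (trans hkl) := by
  obtain ⟨W, i₁, hu₁, hi₁⟩ := exists_restrict h (ut h l).i (ut h l).h' (ut h l).isU k.1 hkl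
  obtain ⟨θ, hθ1, hθ2⟩ := exists_iso_of_isUnivThickening (k.1.ι ≫ h) (ut h k).i (ut h k).h'
    (ut h k).isU i₁ (W.ι ≫ (ut h l).h') hu₁
  have : trans hkl = θ.hom ≫ W.ι := by
    symm
    apply trans_unique
    · rw [← Category.assoc, hθ1, hi₁]
    · rw [Category.assoc, hθ2]
  rw [this]
  infer_instance

instance {k l : J h} (f : k ⟶ l) : IsOpenImmersion ((F h).map f) :=
  isOpenImmersion_trans (leOfHom f)

theorem nonempty_of_le {V : Z.Opens} (hV : Nonempty (UT h V)) (V₁ : Z.Opens) (hle : V₁ ≤ V) :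
    Nonempty (UT h V₁) := by
  obtain ⟨D⟩ := hV
  obtain ⟨W, i₁, hu₁, -⟩ := exists_restrict h D.i D.h' D.isU V₁ hle
  exact ⟨⟨_, i₁, _, hu₁⟩⟩

theorem i_surjective (k : J h) : Function.Surjective (ut h k).i :=
  (ut h k).isU.1.1.2.surj

theorem i_injective (k : J h) : Function.Injective (ut h k).i :=
  haveI := (ut h k).isU.1.1.1
  (ut h k).i.isClosedEmbedding.injective

theorem trans_i_apply {k l : J h} (hkl : k.1 ≤ l.1) (z : k.1.toScheme) :
    trans hkl ((ut h k).i z) = (ut h l).i (Z.homOfLE hkl z) := by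
  have := congr($(i_trans hkl) z)
  exact this

instance : ((F h) ⋙ Scheme.forget).IsLocallyDirected where
  cond {i j k} fi fj xi xj heq := by
    obtain ⟨zi, rfl⟩ := i_surjective i xi
    obtain ⟨zj, rfl⟩ := i_surjective j xj
    have h1 : trans (leOfHom fi) ((ut h i).i zi) = trans (leOfHom fj) ((ut h j).i zj) := heq
    rw [trans_i_apply, trans_i_apply] at h1
    have h2 := i_injective k h1
    have h3 : zi.1 = zj.1 := by
      have := congrArg Subtype.val h2
      exact (Scheme.homOfLE_apply _ zi).symm.trans (this.trans (Scheme.homOfLE_apply _ zj))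
    let l : J h := ⟨i.1 ⊓ j.1, nonempty_of_le i.2 _ inf_le_left⟩
    have hli : l.1 ≤ i.1 := inf_le_left
    have hlj : l.1 ≤ j.1 := inf_le_right
    let z : l.1.toScheme := ⟨zi.1, ⟨zi.2, h3 ▸ zj.2⟩⟩
    refine ⟨l, homOfLE hli, homOfLE hlj, (ut h l).i z, ?_, ?_⟩
    · change trans hli ((ut h l).i z) = _
      rw [trans_i_apply]
      congr 1
      exact Subtype.ext (Scheme.homOfLE_apply _ _)
    · change trans hlj ((ut h l).i z) = _
      rw [trans_i_apply]
      congr 1
      exact Subtype.ext ((Scheme.homOfLE_apply _ _).trans h3)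

section Glue

variable [FormallyUnramified h]

theorem exists_mem_le (z : Z) (O : Z.Opens) (hz : z ∈ O) : ∃ k : J h, z ∈ k.1 ∧ k.1 ≤ O := by
  obtain ⟨U, hU, hzU⟩ : ∃ U : X.Opens, IsAffineOpen U ∧ h z ∈ U := by
    obtain ⟨_, ⟨U, hU, rfl⟩, hzU, -⟩ :=
      X.isBasis_affineOpens.exists_subset_of_mem_open (Set.mem_univ (h z)) isOpen_univ
    exact ⟨U, hU, hzU⟩
  obtain ⟨V, hV, hzV, hVle⟩ : ∃ V : Z.Opens, IsAffineOpen V ∧ z ∈ V ∧ V ≤ h ⁻¹ᵁ U ⊓ O := by
    obtain ⟨_, ⟨V, hV, rfl⟩, hzV, hVle⟩ :=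
      Z.isBasis_affineOpens.exists_subset_of_mem_open (show z ∈ h ⁻¹ᵁ U ⊓ O from ⟨hzU, hz⟩)
        (h ⁻¹ᵁ U ⊓ O).2
    exact ⟨V, hV, hzV, hVle⟩
  obtain ⟨T, i, h', hu⟩ := exists_isUnivThickening_of_affine h hV hU (hVle.trans inf_le_left)
  exact ⟨⟨V, ⟨⟨T, i, h', hu⟩⟩⟩, hzV, hVle.trans inf_le_right⟩

variable (h) in
/-- the cover of `Z` by the opens admitting a universal first order thickening. -/
noncomputable def cov : Z.OpenCover where
  I₀ := J h
  X k := k.1.toScheme
  f k := k.1.ι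
  mem₀ := by
    rw [Scheme.presieve₀_mem_precoverage_iff]
    refine ⟨fun z ↦ ?_, inferInstance⟩
    obtain ⟨k, hk, -⟩ := exists_mem_le (h := h) z ⊤ trivial
    exact ⟨k, ⟨z, hk⟩, rfl⟩

instance : Preorder (cov h).I₀ := inferInstanceAs (Preorder (J h))

noncomputable instance : Scheme.Cover.LocallyDirected (cov h) :=
  .ofIsBasisOpensRange (by
    intro i j
    change i.1 ≤ j.1 ↔ (i.1.ι).opensRange ≤ (j.1.ι).opensRange
    rw [Scheme.Opens.opensRange_ι, Scheme.Opens.opensRange_ι]) (by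
    rw [TopologicalSpace.Opens.isBasis_iff_nbhd]
    intro O z hz
    obtain ⟨k, hk, hkO⟩ := exists_mem_le (h := h) z O hz
    refine ⟨k.1, ⟨k, ?_⟩, hk, hkO⟩
    change (k.1.ι).opensRange = k.1
    rw [Scheme.Opens.opensRange_ι])

end Glue

end Groth.Agent.Helper18.UTGlue
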