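import Groth.Agent.Lib.Helper18.Thick
set_option autoImplicit false
namespace Groth.Agent.Helper18.Thick
open AlgebraicGeometry CategoryTheory Limits
universe u

open Groth.Agent.Helper3.FormEt

/-- the base change of a first order thickening, `snd` form. -/
theorem snd_isFirstOrderThickening {X Y Z : Scheme.{u}} (i : Z ⟶ Y) (f : X ⟶ Y)
    (hi : MoreMor.IsFirstOrderThickening i) :
    MoreMor.IsFirstOrderThickening (pullback.snd i f) :=
  of_isPullback (IsPullback.of_hasPullback i f).flip hi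

/-- Local existence and uniqueness of lifts give the universal property. -/
theorem isUnivThickening_of_local {Z Z' X : Scheme.{u}} (h : Z ⟶ X) (i : Z ⟶ Z') (h' : Z' ⟶ X)
    (hi : MoreMor.IsFirstOrderThickening i) (hih : i ≫ h' = h)
    (huniq : ∀ (T T' : Scheme.{u}) (t : T ⟶ T') (a : T ⟶ Z) (a₁ a₂ : T' ⟶ Z'),
      MoreMor.IsFirstOrderThickening t → t ≫ a₁ = a ≫ i → t ≫ a₂ = a ≫ i →
        a₁ ≫ h' = a₂ ≫ h' → a₁ = a₂)
    (hloc : ∀ (T T' : Scheme.{u}) (t : T ⟶ T') (b : T' ⟶ X) (a : T ⟶ Z),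
      MoreMor.IsFirstOrderThickening t → t ≫ b = a ≫ h →
        ∀ x' : T', ∃ (U : T'.Opens), x' ∈ U ∧ ∃ l : U.toScheme ⟶ Z',
          pullback.snd t U.ι ≫ l = pullback.fst t U.ι ≫ a ≫ i ∧ l ≫ h' = U.ι ≫ b) :
    OmegaSh.IsUnivThickening h i h' := by
  refine ⟨hi, hih, ?_⟩
  intro T T' t b a ht w
  have hloc' := hloc T T' t b a ht w
  choose U hxU l hl1 hl2 using hloc'
  let 𝒰 : T'.OpenCover :=
    { I₀ := T', X := fun i => (U i), f := fun i => (U i).ι,
      mem₀ := by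
        rw [Scheme.presieve₀_mem_precoverage_iff]
        refine ⟨fun x ↦ ⟨x, by simpa using hxU x⟩, inferInstance⟩ }
  have hcompat : ∀ i j : T', pullback.fst (𝒰.f i) (𝒰.f j) ≫ l i = pullback.snd _ _ ≫ l j := by
    intro i₁ j₁
    let p : pullback (𝒰.f i₁) (𝒰.f j₁) ⟶ T' := pullback.fst (𝒰.f i₁) (𝒰.f j₁) ≫ 𝒰.f i₁
    have hp : p = pullback.snd (𝒰.f i₁) (𝒰.f j₁) ≫ 𝒰.f j₁ := pullback.condition
    have ht' : MoreMor.IsFirstOrderThickening (pullback.snd t p) :=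
      snd_isFirstOrderThickening t p ht
    have h1 : pullback.snd t p ≫ pullback.fst (𝒰.f i₁) (𝒰.f j₁) ≫ l i₁ =
        (pullback.fst t p ≫ a) ≫ i := by
      have hc : pullback.fst t p ≫ t = (pullback.snd t p ≫ pullback.fst (𝒰.f i₁) (𝒰.f j₁)) ≫
          (U i₁).ι := by
        rw [pullback.condition, Category.assoc]
      have : pullback.snd t p ≫ pullback.fst (𝒰.f i₁) (𝒰.f j₁) =
          pullback.lift (pullback.fst t p)
            (pullback.snd t p ≫ pullback.fst (𝒰.f i₁) (𝒰.f j₁)) hc ≫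
            pullback.snd t (U i₁).ι := (pullback.lift_snd _ _ _).symm
      rw [← Category.assoc, this, Category.assoc, hl1 i₁, ← Category.assoc, pullback.lift_fst,
        Category.assoc]
    have h2 : pullback.snd t p ≫ pullback.snd (𝒰.f i₁) (𝒰.f j₁) ≫ l j₁ =
        (pullback.fst t p ≫ a) ≫ i := by
      have hc : pullback.fst t p ≫ t = (pullback.snd t p ≫ pullback.snd (𝒰.f i₁) (𝒰.f j₁)) ≫
          (U j₁).ι := by
        rw [pullback.condition, Category.assoc, hp]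
      have : pullback.snd t p ≫ pullback.snd (𝒰.f i₁) (𝒰.f j₁) =
          pullback.lift (pullback.fst t p)
            (pullback.snd t p ≫ pullback.snd (𝒰.f i₁) (𝒰.f j₁)) hc ≫
            pullback.snd t (U j₁).ι := (pullback.lift_snd _ _ _).symm
      rw [← Category.assoc, this, Category.assoc, hl1 j₁, ← Category.assoc, pullback.lift_fst,
        Category.assoc]
    refine huniq _ _ (pullback.snd t p) (pullback.fst t p ≫ a) _ _ ht' h1 h2 ?_
    rw [Category.assoc, Category.assoc, hl2 i₁, hl2 j₁]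
    show pullback.fst (𝒰.f i₁) (𝒰.f j₁) ≫ 𝒰.f i₁ ≫ b =
      pullback.snd (𝒰.f i₁) (𝒰.f j₁) ≫ 𝒰.f j₁ ≫ b
    rw [← Category.assoc, ← Category.assoc, pullback.condition]
  let L : T' ⟶ Z' := 𝒰.glueMorphisms l hcompat
  have hL : ∀ i, (U i).ι ≫ L = l i := fun i => 𝒰.ι_glueMorphisms l hcompat i
  have hL1 : t ≫ L = a ≫ i := by
    refine Scheme.Cover.hom_ext (𝒰.pullback₁ t) _ _ fun i₁ => ?_
    show pullback.fst t (U i₁).ι ≫ t ≫ L = pullback.fst t (U i₁).ι ≫ a ≫ i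
    rw [← Category.assoc, pullback.condition, Category.assoc, hL i₁, hl1 i₁]
  have hL2 : L ≫ h' = b := by
    refine Scheme.Cover.hom_ext 𝒰 _ _ fun i₁ => ?_
    show (U i₁).ι ≫ L ≫ h' = (U i₁).ι ≫ b
    rw [← Category.assoc, hL i₁, hl2 i₁]
  refine ⟨L, ⟨hL1, hL2⟩, ?_⟩
  rintro L' ⟨h1, h2⟩
  exact huniq _ _ t a _ _ ht h1 hL1 (h2.trans hL2.symm)

/-- Over an affine open of the target, a first order thickening is `Spec (C ⧸ I) ⟶ Spec C`. -/
theorem exists_affine_model {T T' : Scheme.{u}} (t : T ⟶ T')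
    (ht : MoreMor.IsFirstOrderThickening t) (U : T'.Opens) (hU : IsAffineOpen U) :
    ∃ (C : Type u) (_ : CommRing C) (I : Ideal C) (_ : I ^ 2 = ⊥)
      (e₁ : pullback t U.ι ≅ Spec (CommRingCat.of (C ⧸ I)))
      (e₂ : U.toScheme ≅ Spec (CommRingCat.of C)),
      pullback.snd t U.ι ≫ e₂.hom =
        e₁.hom ≫ Spec.map (CommRingCat.ofHom (Ideal.Quotient.mk I)) := by
  obtain ⟨⟨hcl, hsurj⟩, hker⟩ := ht
  have : IsAffine U.toScheme := hU
  let s := pullback.snd t U.ι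
  have hsker : s.ker * s.ker = ⊥ :=
    ker_sq_of_isPullback t s (pullback.fst t U.ι) U.ι (IsPullback.of_hasPullback t U.ι).flip hker
  let s' := s ≫ U.toScheme.isoSpec.hom
  have hs' : IsClosedImmersion s' := inferInstance
  obtain ⟨I, e, he⟩ := IsClosedImmersion.Spec_iff.mp hs'
  have hs'ker : s'.ker * s'.ker = ⊥ := by
    have H : IsPullback s' (𝟙 _) U.toScheme.isoSpec.inv s :=
      IsPullback.of_vert_isIso ⟨by simp [s']⟩
    exact ker_sq_of_isPullback s s' (𝟙 _) U.toScheme.isoSpec.inv H hsker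
  have hI : I ^ 2 = ⊥ := sq_eq_bot_of_ker I s' e he hs'ker
  exact ⟨Γ(U.toScheme, ⊤), inferInstance, I, hI, e, U.toScheme.isoSpec, he⟩

/-- It suffices to test the universal property against `Spec (C ⧸ I) ⟶ Spec C`. -/
theorem isUnivThickening_of_affine_tests {Z Z' X : Scheme.{u}} (h : Z ⟶ X) (i : Z ⟶ Z')
    (h' : Z' ⟶ X) (hi : MoreMor.IsFirstOrderThickening i) (hih : i ≫ h' = h)
    (H : ∀ (C : Type u) [CommRing C] (I : Ideal C), I ^ 2 = ⊥ →
      ∀ (a : Spec (CommRingCat.of (C ⧸ I)) ⟶ Z) (b : Spec (CommRingCat.of C) ⟶ X),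
        Spec.map (CommRingCat.ofHom (Ideal.Quotient.mk I)) ≫ b = a ≫ h →
          ∃! a' : Spec (CommRingCat.of C) ⟶ Z',
            Spec.map (CommRingCat.ofHom (Ideal.Quotient.mk I)) ≫ a' = a ≫ i ∧ a' ≫ h' = b) :
    OmegaSh.IsUnivThickening h i h' := by
  refine isUnivThickening_of_local h i h' hi hih ?_ ?_
  · intro T T' t a a₁ a₂ ht h1 h2 h3
    refine Scheme.Cover.hom_ext T'.directedAffineCover _ _ fun U => ?_
    change U.1.ι ≫ a₁ = U.1.ι ≫ a₂
    obtain ⟨C, _, I, hI, e₁, e₂, hcomm⟩ := exists_affine_model t ht U.1 U.2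
    have hmk : Spec.map (CommRingCat.ofHom (Ideal.Quotient.mk I)) =
        e₁.inv ≫ pullback.snd t U.1.ι ≫ e₂.hom := by
      rw [hcomm, Iso.inv_hom_id_assoc]
    have hw : Spec.map (CommRingCat.ofHom (Ideal.Quotient.mk I)) ≫ (e₂.inv ≫ U.1.ι ≫ a₁ ≫ h') =
        (e₁.inv ≫ pullback.fst t U.1.ι ≫ a) ≫ h := by
      rw [hmk]
      simp only [Category.assoc, Iso.hom_inv_id_assoc]
      rw [← pullback.condition_assoc, ← Category.assoc t, h1, Category.assoc, hih]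
    obtain ⟨c, -, hc⟩ := H C I hI _ _ hw
    have r1 : e₂.inv ≫ U.1.ι ≫ a₁ = c := by
      apply hc
      refine ⟨?_, by simp only [Category.assoc]⟩
      rw [hmk]
      simp only [Category.assoc, Iso.hom_inv_id_assoc]
      rw [← pullback.condition_assoc, h1]
    have r2 : e₂.inv ≫ U.1.ι ≫ a₂ = c := by
      apply hc
      refine ⟨?_, by simp only [Category.assoc]; rw [h3]⟩
      rw [hmk]
      simp only [Category.assoc, Iso.hom_inv_id_assoc]
      rw [← pullback.condition_assoc, h2]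
    have := r1.trans r2.symm
    rwa [cancel_epi] at this
  · intro T T' t b a ht w x'
    obtain ⟨U, hU, hxU⟩ : ∃ U : T'.Opens, IsAffineOpen U ∧ x' ∈ U := by
      obtain ⟨_, ⟨U, hU, rfl⟩, hxU, -⟩ :=
        T'.isBasis_affineOpens.exists_subset_of_mem_open (Set.mem_univ x') isOpen_univ
      exact ⟨U, hU, hxU⟩
    refine ⟨U, hxU, ?_⟩
    obtain ⟨C, _, I, hI, e₁, e₂, hcomm⟩ := exists_affine_model t ht U hU
    have hmk : Spec.map (CommRingCat.ofHom (Ideal.Quotient.mk I)) =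
        e₁.inv ≫ pullback.snd t U.ι ≫ e₂.hom := by
      rw [hcomm, Iso.inv_hom_id_assoc]
    have hw : Spec.map (CommRingCat.ofHom (Ideal.Quotient.mk I)) ≫ (e₂.inv ≫ U.ι ≫ b) =
        (e₁.inv ≫ pullback.fst t U.ι ≫ a) ≫ h := by
      rw [hmk]
      simp only [Category.assoc, Iso.hom_inv_id_assoc]
      rw [← pullback.condition_assoc, w]
    obtain ⟨c, ⟨hc1, hc2⟩, -⟩ := H C I hI _ _ hw
    refine ⟨e₂.hom ≫ c, ?_, ?_⟩
    · rw [← Category.assoc, hcomm, Category.assoc, hc1]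
      simp only [Category.assoc, Iso.hom_inv_id_assoc]
    · rw [Category.assoc, hc2, Iso.hom_inv_id_assoc]

/-- Restriction of a universal first order thickening to an open of the source (same base). -/
theorem isUnivThickening_restrict {Z Z' X : Scheme.{u}} (h : Z ⟶ X) (i : Z ⟶ Z') (h' : Z' ⟶ X)
    (hu : OmegaSh.IsUnivThickening h i h') (V : Z.Opens) (V' : Z'.Opens) (hV' : i ⁻¹ᵁ V' = V) :
    OmegaSh.IsUnivThickening (V.ι ≫ h) (i.resLE V' V hV'.ge) (V'.ι ≫ h') := by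
  subst hV'
  obtain ⟨hi, hic, huniv⟩ := hu
  have hpb : IsPullback (i.resLE V' (i ⁻¹ᵁ V') le_rfl) (i ⁻¹ᵁ V').ι V'.ι i := by
    rw [Scheme.Hom.resLE_eq_morphismRestrict]
    exact isPullback_morphismRestrict i V'
  refine ⟨of_isPullback hpb hi, ?_, ?_⟩
  · rw [Scheme.Hom.resLE_comp_ι_assoc, hic]
  · intro T T' t b a ht w
    have ht' := ht
    obtain ⟨⟨htcl, htsurj⟩, htker⟩ := ht'
    obtain ⟨c, ⟨hc1, hc2⟩, hc3⟩ := huniv T T' t b (a ≫ (i ⁻¹ᵁ V').ι) ht (by
      rw [w, Category.assoc])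
    have hrange : Set.range c ⊆ Set.range V'.ι := by
      rintro _ ⟨t', rfl⟩
      obtain ⟨t0, rfl⟩ := htsurj.surj t'
      have e1 : c (t t0) = ((a ≫ (i ⁻¹ᵁ V').ι) ≫ i) t0 := by
        rw [← hc1]; rfl
      rw [e1, Scheme.Opens.range_ι]
      have : ((a ≫ (i ⁻¹ᵁ V').ι) t0) ∈ i ⁻¹ᵁ V' := by
        have h0 : ((a ≫ (i ⁻¹ᵁ V').ι) t0) = (i ⁻¹ᵁ V').ι (a t0) := rfl
        rw [h0]
        exact (a t0).2
      exact this
    refine ⟨IsOpenImmersion.lift V'.ι c hrange, ⟨?_, ?_⟩, ?_⟩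
    · rw [← cancel_mono V'.ι, Category.assoc, IsOpenImmersion.lift_fac, Category.assoc,
        Scheme.Hom.resLE_comp_ι, hc1, Category.assoc]
    · rw [IsOpenImmersion.lift_fac_assoc, hc2]
    · rintro a'' ⟨h1, h2⟩
      rw [← cancel_mono V'.ι, IsOpenImmersion.lift_fac]
      apply hc3
      refine ⟨?_, ?_⟩
      · rw [← Category.assoc, h1, Category.assoc, Scheme.Hom.resLE_comp_ι, Category.assoc]
      · rw [Category.assoc, h2]

/-- Transport of a universal first order thickening along an isomorphism of the source. -/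
theorem isUnivThickening_of_iso_source {Z₁ Z₂ Z' X : Scheme.{u}} (e : Z₁ ≅ Z₂) (h : Z₂ ⟶ X)
    (i : Z₂ ⟶ Z') (h' : Z' ⟶ X) (hu : OmegaSh.IsUnivThickening h i h') :
    OmegaSh.IsUnivThickening (e.hom ≫ h) (e.hom ≫ i) h' := by
  obtain ⟨⟨⟨hcl, hsurj⟩, hker⟩, hic, huniv⟩ := hu
  refine ⟨⟨⟨inferInstance, inferInstance⟩, ?_⟩, by rw [Category.assoc, hic], ?_⟩
  · rw [Scheme.Hom.ker_comp_of_isIso]; exact hker
  · intro T T' t b a ht w
    obtain ⟨c, ⟨hc1, hc2⟩, hc3⟩ := huniv T T' t b (a ≫ e.hom) ht (by rw [w, Category.assoc])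
    refine ⟨c, ⟨by rw [hc1, Category.assoc], hc2⟩, ?_⟩
    rintro a'' ⟨h1, h2⟩
    exact hc3 _ ⟨by rw [h1, Category.assoc], h2⟩

end Groth.Agent.Helper18.Thick
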