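import Groth.Agent.Lib.Helper18.RecBC
import Groth.Agent.Lib.Helper18.UTChart
import Groth.Agent.S9427
set_option autoImplicit false
set_option linter.style.haveILetI false
set_option linter.unusedSectionVars false
set_option maxRecDepth 8000
universe u
open CategoryTheory CategoryTheory.Limits AlgebraicGeometry TopologicalSpace Opposite TensorProduct

namespace Groth.Agent.Helper18.UTOmega

open OmegaSh Groth.Agent.Helper18.DerLib Groth.Agent.Helper18.OmegaSec
  Groth.Agent.Helper18.Rec Groth.Agent.Helper13.Pullback Groth.Agent.Helper18.RecCS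
  Groth.Agent.Helper18.PbCompat

/-- the action of a morphism of modules on sections, as a linear map -/
noncomputable def appLin {X : Scheme.{u}} {M N : X.Modules} (φ : M ⟶ N) (U : X.Opens) :
    Γ(M, U) →ₗ[Γ(X, U)] Γ(N, U) where
  toFun := φ.app U
  map_add' := map_add _
  map_smul' r x := Scheme.Modules.Hom.app_smul φ r x

theorem appLin_apply {X : Scheme.{u}} {M N : X.Modules} (φ : M ⟶ N) (U : X.Opens) (x : Γ(M, U)) :
    appLin φ U x = φ.app U x := rfl

variable {X Y : Scheme.{u}} (j : X ⟶ Y)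

theorem map_pullRes {G G' : Y.Modules} (θ : G ⟶ G') {U : X.Opens} {V : Y.Opens}
    (e : U ≤ j ⁻¹ᵁ V) (t : Γ(G, V)) :
    ((Scheme.Modules.pullback j).map θ).app U (pullRes j G e t) = pullRes j G' e (θ.app V t) := by
  unfold pullRes
  rw [hom_naturality, pullback_map_app]

theorem sectionsPullbackEquiv_map {G G' : Y.Modules} [G.IsQuasicoherent] [G'.IsQuasicoherent]
    (θ : G ⟶ G') {U : X.Opens} (hU : IsAffineOpen U) {V : Y.Opens} (hV : IsAffineOpen V)
    (e : U ≤ j ⁻¹ᵁ V) (x : Γ((Scheme.Modules.pullback j).obj G, U)) :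
    letI := (j.appLE V U e).hom.toAlgebra
    sectionsPullbackEquiv j G' hU hV e (((Scheme.Modules.pullback j).map θ).app U x) =
      (appLin θ V).baseChange Γ(X, U) (sectionsPullbackEquiv j G hU hV e x) := by
  letI := (j.appLE V U e).hom.toAlgebra
  have hx : x ∈ Submodule.span Γ(X, U) ((fun t => pullRes j G e t) '' (Set.univ : Set Γ(G, V))) := by
    rw [span_pullRes j G hU hV e Set.univ (by simp)]; trivial
  induction hx using Submodule.closure_induction with
  | zero => rw [map_zero, map_zero, map_zero, map_zero]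
  | add x y _ _ hx hy => rw [map_add, map_add, hx, hy, map_add, map_add]
  | smul_mem r x hx =>
    obtain ⟨t, -, rfl⟩ := hx
    rw [Scheme.Modules.Hom.app_smul, map_smul, map_pullRes, sectionsPullbackEquiv_pullRes,
      map_smul, sectionsPullbackEquiv_pullRes, map_smul, LinearMap.baseChange_tmul]
    rfl

section Alg

variable {B' B M N : Type u} [CommRing B'] [CommRing B] [Algebra B' B]
  [AddCommGroup M] [Module B' M] [AddCommGroup N] [Module B' N]

theorem bijective_baseChange_equiv (E : M ≃ₗ[B'] N) :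
    Function.Bijective (E.toLinearMap.baseChange B) := by
  refine Function.bijective_iff_has_inverse.2 ⟨E.symm.toLinearMap.baseChange B, ?_, ?_⟩
  · intro x
    rw [← LinearMap.comp_apply, ← LinearMap.baseChange_comp, LinearEquiv.symm_comp,
      LinearMap.baseChange_id]
    rfl
  · intro x
    rw [← LinearMap.comp_apply, ← LinearMap.baseChange_comp, LinearEquiv.comp_symm,
      LinearMap.baseChange_id]
    rfl

end Alg

section Chart

variable {Z X S Z' : Scheme.{u}} (h : Z ⟶ X) (q : X ⟶ S) [FormallyUnramified h]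
    (i : Z ⟶ Z') (h' : Z' ⟶ X) (hu : OmegaSh.IsUnivThickening h i h')
    (ΩX : X.Modules) (dX : OmegaSh.Der q ΩX) (hdX : OmegaSh.IsUniversal dX)
    (ΩZ' : Z'.Modules) (dZ' : OmegaSh.Der (h' ≫ q) ΩZ') (hdZ' : OmegaSh.IsUniversal dZ')
    (c : (Scheme.Modules.pullback h').obj ΩX ⟶ ΩZ') (hc : OmegaSh.IsDiffCompat h' dX dZ' c)

include hu hdX hdZ' hc in
theorem bijective_app_chart {W : S.Opens} {U : X.Opens} {V : Z.Opens} (hW : IsAffineOpen W)
    (hU : IsAffineOpen U) (hV : IsAffineOpen V) (eU : U ≤ q ⁻¹ᵁ W) (hVU : V ≤ h ⁻¹ᵁ U)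
    (V' : Z'.Opens) (hV' : i ⁻¹ᵁ V' = V) :
    Function.Bijective (((Scheme.Modules.pullback i).map c).app V) := by
  have hV'a : IsAffineOpen V' := Thick.isAffineOpen_of_isUnivThickening h i h' hu hV hU hVU V' hV'
  have hV'U : V' ≤ h' ⁻¹ᵁ U := Thick.le_preimage_of_isUnivThickening h i h' hu hVU V' hV'
  have eV' : V' ≤ (h' ≫ q) ⁻¹ᵁ W := fun z hz => eU (hV'U hz)
  letI algRA : Algebra Γ(S, W) Γ(X, U) := algUV q eU
  letI algAB : Algebra Γ(X, U) Γ(Z, V) := (h.appLE U V hVU).hom.toAlgebra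
  letI algAB' : Algebra Γ(X, U) Γ(Z', V') := (h'.appLE U V' hV'U).hom.toAlgebra
  letI algB'B : Algebra Γ(Z', V') Γ(Z, V) := (i.appLE V' V hV'.ge).hom.toAlgebra
  letI algRB' : Algebra Γ(S, W) Γ(Z', V') := algUV (h' ≫ q) eV'
  haveI : IsScalarTower Γ(X, U) Γ(Z', V') Γ(Z, V) :=
    Thick.isScalarTower_chart h i h' hu hVU V' hV' hV'U
  haveI : IsScalarTower Γ(S, W) Γ(X, U) Γ(Z', V') := by
    refine IsScalarTower.of_algebraMap_eq fun r => ?_
    have e1 : q.appLE W U eU ≫ h'.appLE U V' hV'U = (h' ≫ q).appLE W V' eV' :=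
      Scheme.Hom.appLE_comp_appLE _ _ _ _ _ _ _
    exact (congr($e1 r)).symm
  haveI : Algebra.FormallyUnramified Γ(X, U) Γ(Z, V) :=
    FormallyUnramified.formallyUnramified_appLE h hU hV hVU
  have hring := Thick.isUnivThickeningRing_chart h i h' hu hV hU hVU V' hV' hV'a hV'U
  obtain ⟨-, hbij⟩ := Groth.Agent.S9427.result Γ(S, W) Γ(X, U) Γ(Z, V) Γ(Z', V') hring
  haveI := isQuasicoherent_of_isUniversal dX hdX
  haveI := isQuasicoherent_of_isUniversal dZ' hdZ'
  haveI : ((Scheme.Modules.pullback h').obj ΩX).IsQuasicoherent := isQuasicoherent_pullback h' ΩX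
  -- the chart description of `c`
  let κ := KaehlerDifferential.mapBaseChange Γ(S, W) Γ(X, U) Γ(Z', V')
  have hκ : ∀ (b' : Γ(Z', V')) (b : Γ(X, U)),
      κ.toAddMonoidHom (b' ⊗ₜ[Γ(X, U)] KaehlerDifferential.D Γ(S, W) Γ(X, U) b) =
        b' • KaehlerDifferential.D Γ(S, W) Γ(Z', V') (h'.appLE U V' hV'U b) := by
    intro b' b
    change κ (b' ⊗ₜ[Γ(X, U)] KaehlerDifferential.D Γ(S, W) Γ(X, U) b) = _
    rw [KaehlerDifferential.mapBaseChange_tmul, KaehlerDifferential.map_D]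
    rfl
  have key := Groth.Agent.Helper18.RecSq.chart_square h' dX hdX dZ' hdZ' c hc hW hW hU hV'a eU eV'
    hV'U κ.toAddMonoidHom hκ
  let e₁ := sectionsPullbackEquiv h' ΩX hV'a hU hV'U
  let e₂ := (TensorProduct.AlgebraTensorModule.congr (LinearEquiv.refl Γ(Z', V') Γ(Z', V'))
            (recSec dX eU hdX hU hW))
  let e₃ := recSec dZ' eV' hdZ' hV'a hW
  have hL : appLin c V' = e₃.symm.toLinearMap ∘ₗ κ ∘ₗ (e₁.trans e₂).toLinearMap := by
    ext m
    change c.app V' m = e₃.symm (κ (e₂ (e₁ m)))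
    rw [LinearEquiv.eq_symm_apply]
    exact key m
  have hLbij : Function.Bijective ((appLin c V').baseChange Γ(Z, V)) := by
    rw [hL, LinearMap.baseChange_comp, LinearMap.baseChange_comp]
    exact (bijective_baseChange_equiv e₃.symm).comp
      (hbij.comp (bijective_baseChange_equiv (e₁.trans e₂)))
  let sM := sectionsPullbackEquiv i ((Scheme.Modules.pullback h').obj ΩX) hV hV'a hV'.ge
  let sN := sectionsPullbackEquiv i ΩZ' hV hV'a hV'.ge
  have hnat : ∀ x, sN (((Scheme.Modules.pullback i).map c).app V x) =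
      (appLin c V').baseChange Γ(Z, V) (sM x) :=
    fun x => sectionsPullbackEquiv_map i c hV hV'a hV'.ge x
  constructor
  · intro x y hxy
    have h1 : (appLin c V').baseChange Γ(Z, V) (sM x) = (appLin c V').baseChange Γ(Z, V) (sM y) := by
      rw [← hnat, ← hnat, hxy]
    exact sM.injective (hLbij.1 h1)
  · intro y
    obtain ⟨t, ht⟩ := hLbij.2 (sN y)
    refine ⟨sM.symm t, sN.injective ?_⟩
    rw [hnat, LinearEquiv.apply_symm_apply, ht]

end Chart

section Global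

variable {Z X S Z' : Scheme.{u}} (h : Z ⟶ X) (q : X ⟶ S) [FormallyUnramified h]
    (i : Z ⟶ Z') (h' : Z' ⟶ X) (hu : OmegaSh.IsUnivThickening h i h')
    (ΩX : X.Modules) (dX : OmegaSh.Der q ΩX) (hdX : OmegaSh.IsUniversal dX)
    (ΩZ' : Z'.Modules) (dZ' : OmegaSh.Der (h' ≫ q) ΩZ') (hdZ' : OmegaSh.IsUniversal dZ')
    (c : (Scheme.Modules.pullback h').obj ΩX ⟶ ΩZ') (hc : OmegaSh.IsDiffCompat h' dX dZ' c)

theorem exists_opens_preimage_eq {T T' : Scheme.{u}} (t : T ⟶ T')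
    (ht : MoreMor.IsFirstOrderThickening t) (V : T.Opens) : ∃ V' : T'.Opens, t ⁻¹ᵁ V' = V := by
  obtain ⟨⟨hcl, hsurj⟩, -⟩ := ht
  have hhomeo : IsHomeomorph t :=
    isHomeomorph_iff_isEmbedding_surjective.mpr ⟨t.isClosedEmbedding.isEmbedding, hsurj.surj⟩
  refine ⟨⟨t '' (V : Set T), hhomeo.isOpenMap _ V.2⟩, ?_⟩
  ext x
  constructor
  · rintro ⟨y, hy, hxy⟩
    rwa [← hhomeo.injective hxy]
  · intro hx
    exact ⟨x, hx, rfl⟩

include hu hdX hdZ' hc in
theorem isIso_pullback_map : IsIso ((Scheme.Modules.pullback i).map c) := by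
  haveI := isQuasicoherent_of_isUniversal dX hdX
  haveI := isQuasicoherent_of_isUniversal dZ' hdZ'
  haveI : ((Scheme.Modules.pullback h').obj ΩX).IsQuasicoherent := isQuasicoherent_pullback h' ΩX
  haveI : ((Scheme.Modules.pullback i).obj ((Scheme.Modules.pullback h').obj ΩX)).IsQuasicoherent :=
    isQuasicoherent_pullback i _
  haveI : ((Scheme.Modules.pullback i).obj ΩZ').IsQuasicoherent := isQuasicoherent_pullback i _
  apply Groth.Agent.Helper18.QCBasic.isIso_of_cover ((Scheme.Modules.pullback i).map c)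
    {V | ∃ (W : S.Opens) (U : X.Opens), IsAffineOpen W ∧ IsAffineOpen U ∧ IsAffineOpen V ∧
      U ≤ q ⁻¹ᵁ W ∧ V ≤ h ⁻¹ᵁ U}
  · rintro V ⟨W, U, hW, hU, hV, eU, hVU⟩
    exact hV
  · intro z
    obtain ⟨W, hW, hzW⟩ : ∃ W : S.Opens, IsAffineOpen W ∧ q (h z) ∈ W := by
      obtain ⟨_, ⟨W, hW, rfl⟩, hzW, -⟩ :=
        S.isBasis_affineOpens.exists_subset_of_mem_open (Set.mem_univ (q (h z))) isOpen_univ
      exact ⟨W, hW, hzW⟩
    obtain ⟨U, hU, hzU, eU⟩ : ∃ U : X.Opens, IsAffineOpen U ∧ h z ∈ U ∧ U ≤ q ⁻¹ᵁ W := by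
      obtain ⟨_, ⟨U, hU, rfl⟩, hzU, hUW⟩ :=
        X.isBasis_affineOpens.exists_subset_of_mem_open
          (show h z ∈ ((q ⁻¹ᵁ W : X.Opens) : Set X) from hzW) (q ⁻¹ᵁ W).2
      exact ⟨U, hU, hzU, hUW⟩
    obtain ⟨V, hV, hzV, hVU⟩ : ∃ V : Z.Opens, IsAffineOpen V ∧ z ∈ V ∧ V ≤ h ⁻¹ᵁ U := by
      obtain ⟨_, ⟨V, hV, rfl⟩, hzV, hVU⟩ :=
        Z.isBasis_affineOpens.exists_subset_of_mem_open
          (show z ∈ ((h ⁻¹ᵁ U : Z.Opens) : Set Z) from hzU) (h ⁻¹ᵁ U).2
      exact ⟨V, hV, hzV, hVU⟩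
    exact ⟨V, ⟨W, U, hW, hU, hV, eU, hVU⟩, hzV⟩
  · rintro V ⟨W, U, hW, hU, hV, eU, hVU⟩
    obtain ⟨V', hV'⟩ := exists_opens_preimage_eq i hu.1 V
    exact bijective_app_chart h q i h' hu ΩX dX hdX ΩZ' dZ' hdZ' c hc hW hU hV eU hVU V' hV'

end Global

end Groth.Agent.Helper18.UTOmega
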