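import Mathlib
import Groth.Agent.Lib.Helper12.GrpSchSep

set_option autoImplicit false
universe u
open CategoryTheory MonoidalCategory CartesianMonoidalCategory MonObj AlgebraicGeometry Limits

namespace Groth.Agent.Helper18.UnitDiag

section Cat
variable {C : Type*} [Category C] [CartesianMonoidalCategory C] (G : C) [GrpObj G]

/-- the unit of a group object is the pullback of the diagonal along `x ↦ (x, 1)` -/
theorem isPullback_unit_diag :
    IsPullback η[G] η[G] (lift (𝟙 G) (toUnit G ≫ η[G])) (lift (𝟙 G) (𝟙 G)) := by
  refine ⟨⟨?_⟩, ⟨PullbackCone.IsLimit.mk _ (fun s => toUnit _) ?_ ?_ ?_⟩⟩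
  · apply CartesianMonoidalCategory.hom_ext
    · simp
    · simp only [Category.assoc, lift_snd, Category.comp_id]
      rw [← Category.assoc, toUnit_unique (η[G] ≫ toUnit G) (𝟙 _), Category.id_comp]
  · intro s
    have h := s.condition
    have h1 := congrArg (fun φ => φ ≫ fst G G) h
    have h2 := congrArg (fun φ => φ ≫ snd G G) h
    simp only [Category.assoc, lift_fst, lift_snd, Category.comp_id] at h1 h2
    rw [h1, ← h2, ← Category.assoc, toUnit_unique (s.fst ≫ toUnit G) (toUnit _)]
  · intro s
    have h := s.condition
    have h2 := congrArg (fun φ => φ ≫ snd G G) h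
    simp only [Category.assoc, lift_snd, Category.comp_id] at h2
    rw [← h2, ← Category.assoc, toUnit_unique (s.fst ≫ toUnit G) (toUnit _)]
  · intro s m _ _
    exact toUnit_unique _ _

end Cat

theorem main (S : Scheme.{u}) (G : Over S) [GrpObj G] [LocallyOfFiniteType G.hom] :
    FormallyUnramified G.hom ↔ IsOpenImmersion η[G].left := by
  have hd : (Over.forget _).map (lift (𝟙 G) (𝟙 G)) = pullback.diagonal G.hom := rfl
  constructor
  · intro h
    have hpb := (isPullback_unit_diag G).map (Over.forget _)
    have h1 : IsOpenImmersion ((Over.forget _).map (lift (𝟙 G) (𝟙 G))) := by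
      rw [hd]; exact FormallyUnramified.isOpenImmersion_diagonal (f := G.hom)
    exact MorphismProperty.of_isPullback (P := @IsOpenImmersion) hpb.flip h1
  · intro h
    have hpb := (Groth.Agent.Helper12.isPullback_diag_unit G).map (Over.forget _)
    have h1 : IsOpenImmersion ((Over.forget _).map (lift (𝟙 G) (𝟙 G))) :=
      MorphismProperty.of_isPullback (P := @IsOpenImmersion) hpb.flip h
    rw [hd] at h1
    haveI : IsOpenImmersion (pullback.diagonal G.hom) := h1
    infer_instance

end Groth.Agent.Helper18.UnitDiag
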