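import Mathlib

/-!
# A morphism with a surjective section is universally injective (helper18)
-/

set_option autoImplicit false
universe u
open CategoryTheory CategoryTheory.Limits AlgebraicGeometry MorphismProperty

namespace Groth.Agent.Helper18.UnivInjSection

theorem universallyInjective_of_surjective_section {X S : Scheme.{u}} (g : X ⟶ S) (s : S ⟶ X)
    [Surjective s] (h : s ≫ g = 𝟙 S) : UniversallyInjective g := by
  refine ⟨?_⟩
  intro X' Y' i₁ i₂ f' H
  let s' : Y' ⟶ X' := H.lift (𝟙 Y') (i₂ ≫ s) (by rw [Category.id_comp, Category.assoc, h,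
    Category.comp_id])
  have h1 : s' ≫ f' = 𝟙 Y' := H.lift_fst _ _ _
  have h2 : s' ≫ i₁ = i₂ ≫ s := H.lift_snd _ _ _
  have hid : IsPullback (s' ≫ f') i₂ i₂ (s ≫ g) := by
    rw [h1, h]
    exact IsPullback.of_horiz_isIso ⟨by simp⟩
  have hsq : IsPullback s' i₂ i₁ s := IsPullback.of_right hid h2 H
  haveI : Surjective s' := MorphismProperty.of_isPullback (P := @Surjective) hsq.flip inferInstance
  show Function.Injective f'
  intro a b hab
  obtain ⟨a₀, rfl⟩ := s'.surjective a
  obtain ⟨b₀, rfl⟩ := s'.surjective b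
  have ha : f' (s' a₀) = a₀ := by
    rw [← Scheme.Hom.comp_apply, h1]; rfl
  have hb : f' (s' b₀) = b₀ := by
    rw [← Scheme.Hom.comp_apply, h1]; rfl
  rw [ha, hb] at hab
  rw [hab]

end Groth.Agent.Helper18.UnivInjSection
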