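import Mathlib
import Groth.Agent.Lib.Helper15.UnramifiedFibers

/-!
# Unramified morphisms and geometric fibres (helper18)
-/

set_option autoImplicit false
set_option linter.style.haveILetI false
universe u
open CategoryTheory CategoryTheory.Limits AlgebraicGeometry

namespace Groth.Agent.Helper18.UnrGeomFib

/-- a scheme unramified and locally of finite type over a field is reduced -/
theorem isReduced_of_unramified_field (K : Type u) [Field K] {X : Scheme.{u}}
    (g : X ⟶ Spec (CommRingCat.of K)) [FormallyUnramified g] [LocallyOfFiniteType g] :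
    IsReduced X := by
  let 𝒰 := X.affineOpenCover
  haveI : ∀ i, IsReduced (𝒰.openCover.X i) := by
    intro i
    let ψ : CommRingCat.of K ⟶ 𝒰.X i := Spec.preimage (𝒰.f i ≫ g)
    have hψ : Spec.map ψ = 𝒰.f i ≫ g := Spec.map_preimage _
    have h1 : FormallyUnramified (Spec.map ψ) := by
      rw [hψ]
      haveI : IsOpenImmersion (𝒰.f i) := 𝒰.map_prop i
      exact MorphismProperty.comp_mem _ _ _ inferInstance inferInstance
    have h2 : LocallyOfFiniteType (Spec.map ψ) := by
      rw [hψ]
      haveI : IsOpenImmersion (𝒰.f i) := 𝒰.map_prop i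
      infer_instance
    rw [HasRingHomProperty.Spec_iff (P := @FormallyUnramified)] at h1
    rw [HasRingHomProperty.Spec_iff (P := @LocallyOfFiniteType)] at h2
    algebraize [ψ.hom]
    haveI : Algebra.FormallyUnramified K (𝒰.X i) := h1
    haveI : Algebra.FiniteType K (𝒰.X i) := h2
    haveI : _root_.IsReduced (𝒰.X i) := Algebra.FormallyUnramified.isReduced_of_field K (𝒰.X i)
    show IsReduced (Spec (𝒰.X i))
    infer_instance
  exact IsReduced.of_openCover (X := X) 𝒰.openCover

end Groth.Agent.Helper18.UnrGeomFib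

namespace Groth.Agent.Helper18.UnrGeomFib

theorem isField_of_isReduced_of_subsingleton (A : Type*) [CommRing A] [Nontrivial A]
    [_root_.IsReduced A] [Subsingleton (PrimeSpectrum A)] : IsField A := by
  by_contra h
  obtain ⟨p, hp0, hpp⟩ := Ring.not_isField_iff_exists_prime.mp h
  apply hp0
  rw [eq_bot_iff]
  intro x hx
  have hnil : x ∈ nilradical A := by
    rw [nilradical_eq_sInf, Ideal.mem_sInf]
    intro q hq
    have : (⟨q, hq⟩ : PrimeSpectrum A) = ⟨p, hpp⟩ := Subsingleton.elim _ _
    have hqp : q = p := congrArg PrimeSpectrum.asIdeal this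
    rw [hqp]; exact hx
  exact (Ideal.mem_bot).mpr (IsNilpotent.eq_zero hnil)

/-- a reduced discrete scheme locally of finite type over an algebraically closed field is
unramified -/
theorem unramified_of_reduced_discrete (K : Type u) [Field K] [IsAlgClosed K] {Y : Scheme.{u}}
    (g : Y ⟶ Spec (CommRingCat.of K)) [LocallyOfFiniteType g] [IsReduced Y]
    [DiscreteTopology Y] : FormallyUnramified g := by
  let P : Y → Y.Opens := fun y => ⟨{y}, isOpen_discrete _⟩
  have hP : ∀ y, IsAffineOpen (P y) := fun y => .of_subsingleton Set.subsingleton_singleton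
  have hsup : ⨆ y, P y = ⊤ := by
    rw [eq_top_iff]
    intro y _
    exact TopologicalSpace.Opens.mem_iSup.mpr ⟨y, rfl⟩
  rw [IsZariskiLocalAtSource.iff_of_iSup_eq_top (P := @FormallyUnramified) P hsup]
  intro y
  let ψ : CommRingCat.of K ⟶ Γ(Y, P y) := Spec.preimage ((hP y).fromSpec ≫ g)
  have hψ : Spec.map ψ = (hP y).fromSpec ≫ g := Spec.map_preimage _
  have h2 : LocallyOfFiniteType (Spec.map ψ) := by
    rw [hψ]; infer_instance
  rw [HasRingHomProperty.Spec_iff (P := @LocallyOfFiniteType)] at h2
  have hne : Nonempty (Spec Γ(Y, P y)) := by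
    have hx : y ∈ Set.range (hP y).fromSpec := by rw [(hP y).range_fromSpec]; exact rfl
    exact ⟨hx.choose⟩
  haveI : Nontrivial Γ(Y, P y) := by
    obtain ⟨z⟩ := hne
    exact (PrimeSpectrum.nonempty_iff_nontrivial.mp ⟨z⟩)
  haveI : Subsingleton (PrimeSpectrum Γ(Y, P y)) := by
    refine ⟨fun a b => (hP y).fromSpec.isOpenEmbedding.injective ?_⟩
    have ha : (hP y).fromSpec a ∈ Set.range (hP y).fromSpec := ⟨a, rfl⟩
    have hb : (hP y).fromSpec b ∈ Set.range (hP y).fromSpec := ⟨b, rfl⟩
    rw [(hP y).range_fromSpec] at ha hb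
    exact (ha : _ = y).trans (hb : _ = y).symm
  have hfield : IsField Γ(Y, P y) := isField_of_isReduced_of_subsingleton _
  have hbij : Function.Bijective ψ.hom := by
    algebraize [ψ.hom]
    letI := hfield.toField
    haveI : Algebra.FiniteType K Γ(Y, P y) := h2
    haveI : Module.Finite K Γ(Y, P y) := finite_of_finite_type_of_isJacobsonRing K _
    exact IsAlgClosed.algebraMap_bijective_of_isIntegral (k := K) (K := Γ(Y, P y))
  haveI : IsIso ψ := (ConcreteCategory.isIso_iff_bijective ψ).mpr hbij
  have h1 : FormallyUnramified ((hP y).fromSpec ≫ g) := by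
    rw [← hψ]
    haveI : IsIso (pullback.diagonal (Spec.map ψ)) :=
      (pullback.isIso_diagonal_iff _).mpr inferInstance
    infer_instance
  have e : (hP y).fromSpec ≫ g = (hP y).isoSpec.inv ≫ ((P y).ι ≫ g) := by
    rw [IsAffineOpen.fromSpec, Category.assoc]
  rw [e] at h1
  exact (MorphismProperty.cancel_left_of_respectsIso @FormallyUnramified _ _).mp h1

end Groth.Agent.Helper18.UnrGeomFib
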