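import Mathlib

/-!
# Word values and the derived / lower central series (helper18)

`dSet Γ n` is the set of values of the `n`-th derived word, `cSet Γ n` the set of values of the
`n`-th lower central word.  The `n`-th term of the series is trivial as soon as all word values
are trivial.
-/

set_option autoImplicit false
set_option linter.style.haveILetI false
universe u

namespace Groth.Agent.Helper18.WordSer

open scoped commutatorElement

/-- values of the `n`-th derived word -/
def dSet (Γ : Type*) [Group Γ] : ℕ → Set Γ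
  | 0 => Set.univ
  | n + 1 => {g | ∃ a ∈ dSet Γ n, ∃ b ∈ dSet Γ n, ⁅a, b⁆ = g}

/-- values of the `n`-th lower central word -/
def cSet (Γ : Type*) [Group Γ] : ℕ → Set Γ
  | 0 => Set.univ
  | n + 1 => {g | ∃ a ∈ cSet Γ n, ∃ b : Γ, ⁅a, b⁆ = g}

variable {Γ Γ' : Type*} [Group Γ] [Group Γ']

theorem dSet_subset (n : ℕ) : dSet Γ n ⊆ (derivedSeries Γ n : Set Γ) := by
  induction n with
  | zero => intro x _; simp
  | succ n ih =>
    rintro g ⟨a, ha, b, hb, rfl⟩
    exact Subgroup.commutator_mem_commutator (ih ha) (ih hb)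

theorem cSet_subset (n : ℕ) :
    cSet Γ n ⊆ (Subgroup.lowerCentralSeries (⊤ : Subgroup Γ) n : Set Γ) := by
  induction n with
  | zero => intro x _; simp
  | succ n ih =>
    rintro g ⟨a, ha, b, rfl⟩
    exact Subgroup.commutator_mem_commutator (ih ha) (Subgroup.mem_top b)

theorem map_mem_dSet (f : Γ →* Γ') (n : ℕ) {x : Γ} (hx : x ∈ dSet Γ n) : f x ∈ dSet Γ' n := by
  induction n generalizing x with
  | zero => trivial
  | succ n ih =>
    obtain ⟨a, ha, b, hb, rfl⟩ := hx
    exact ⟨f a, ih ha, f b, ih hb, (map_commutatorElement f a b).symm⟩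

theorem map_mem_cSet (f : Γ →* Γ') (n : ℕ) {x : Γ} (hx : x ∈ cSet Γ n) : f x ∈ cSet Γ' n := by
  induction n generalizing x with
  | zero => trivial
  | succ n ih =>
    obtain ⟨a, ha, b, rfl⟩ := hx
    exact ⟨f a, ih ha, f b, (map_commutatorElement f a b).symm⟩

theorem exists_lift_dSet (f : Γ →* Γ') (hf : Function.Surjective f) (n : ℕ) {y : Γ'}
    (hy : y ∈ dSet Γ' n) : ∃ x ∈ dSet Γ n, f x = y := by
  induction n generalizing y with
  | zero => obtain ⟨x, rfl⟩ := hf y; exact ⟨x, trivial, rfl⟩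
  | succ n ih =>
    obtain ⟨a, ha, b, hb, rfl⟩ := hy
    obtain ⟨a', ha', rfl⟩ := ih ha
    obtain ⟨b', hb', rfl⟩ := ih hb
    exact ⟨⁅a', b'⁆, ⟨a', ha', b', hb', rfl⟩, map_commutatorElement f a' b'⟩

theorem exists_lift_cSet (f : Γ →* Γ') (hf : Function.Surjective f) (n : ℕ) {y : Γ'}
    (hy : y ∈ cSet Γ' n) : ∃ x ∈ cSet Γ n, f x = y := by
  induction n generalizing y with
  | zero => obtain ⟨x, rfl⟩ := hf y; exact ⟨x, trivial, rfl⟩
  | succ n ih =>
    obtain ⟨a, ha, b, rfl⟩ := hy
    obtain ⟨a', ha', rfl⟩ := ih ha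
    obtain ⟨b', rfl⟩ := hf b
    exact ⟨⁅a', b'⁆, ⟨a', ha', b', rfl⟩, map_commutatorElement f a' b'⟩

theorem conj_mem_dSet (n : ℕ) {x : Γ} (hx : x ∈ dSet Γ n) (c : Γ) : c * x * c⁻¹ ∈ dSet Γ n :=
  map_mem_dSet (MulAut.conj c).toMonoidHom n hx

theorem conj_mem_cSet (n : ℕ) {x : Γ} (hx : x ∈ cSet Γ n) (c : Γ) : c * x * c⁻¹ ∈ cSet Γ n :=
  map_mem_cSet (MulAut.conj c).toMonoidHom n hx

theorem conjugatesOfSet_subset {S : Set Γ} (hS : ∀ x ∈ S, ∀ c : Γ, c * x * c⁻¹ ∈ S) :
    Group.conjugatesOfSet S ⊆ S := by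
  intro a ha
  rw [Group.mem_conjugatesOfSet_iff] at ha
  obtain ⟨b, hb, hba⟩ := ha
  rw [isConj_iff] at hba
  obtain ⟨c, rfl⟩ := hba
  exact hS b hb c

theorem derivedSeries_eq_bot_of_dSet (n : ℕ) :
    ∀ (Γ : Type u) [Group Γ], (∀ x ∈ dSet Γ n, x = 1) → derivedSeries Γ n = ⊥ := by
  induction n with
  | zero =>
    intro Γ _ h
    rw [eq_bot_iff]
    intro x _
    rw [Subgroup.mem_bot]
    exact h x trivial
  | succ n ih =>
    intro Γ _ h
    let S : Set Γ := dSet Γ n
    have hcomm : ∀ a ∈ S, ∀ b ∈ S, a * b = b * a := by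
      intro a ha b hb
      have := h ⁅a, b⁆ ⟨a, ha, b, hb, rfl⟩
      exact commutatorElement_eq_one_iff_mul_comm.mp this
    have hT : Group.conjugatesOfSet S ⊆ S :=
      conjugatesOfSet_subset (fun x hx c => conj_mem_dSet n hx c)
    let A : Subgroup Γ := Subgroup.normalClosure S
    have hSA : S ⊆ (A : Set Γ) := Subgroup.subset_normalClosure
    -- A is commutative
    have h1 : A ≤ Subgroup.centralizer S := by
      refine (Subgroup.closure_le _).mpr ?_
      intro a ha
      rw [SetLike.mem_coe, Subgroup.mem_centralizer_iff]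
      intro b hb
      exact hcomm b hb a (hT ha)
    have h2 : A ≤ Subgroup.centralizer (A : Set Γ) := by
      refine (Subgroup.closure_le _).mpr ?_
      intro a ha
      rw [SetLike.mem_coe, Subgroup.mem_centralizer_iff]
      intro b hb
      have := h1 hb
      rw [Subgroup.mem_centralizer_iff] at this
      exact (this a (hT ha)).symm
    have hAA : ⁅A, A⁆ = ⊥ := Subgroup.commutator_eq_bot_iff_le_centralizer.mpr h2
    -- the quotient
    have hq : ∀ y ∈ dSet (Γ ⧸ A) n, y = 1 := by
      intro y hy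
      obtain ⟨x, hx, rfl⟩ := exists_lift_dSet (QuotientGroup.mk' A)
        (QuotientGroup.mk'_surjective A) n hy
      exact (QuotientGroup.eq_one_iff x).mpr (hSA hx)
    have hD := ih (Γ ⧸ A) hq
    have hle : derivedSeries Γ n ≤ A := by
      have := map_derivedSeries_eq (QuotientGroup.mk'_surjective A) n
      rw [hD] at this
      have h3 : derivedSeries Γ n ≤ (QuotientGroup.mk' A).ker :=
        (Subgroup.map_eq_bot_iff _).mp this
      rwa [QuotientGroup.ker_mk'] at h3
    rw [derivedSeries_succ, eq_bot_iff, ← hAA]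
    exact Subgroup.commutator_mono hle hle

theorem lowerCentralSeries_eq_bot_of_cSet (n : ℕ) :
    ∀ (Γ : Type u) [Group Γ], (∀ x ∈ cSet Γ n, x = 1) →
      Subgroup.lowerCentralSeries (⊤ : Subgroup Γ) n = ⊥ := by
  induction n with
  | zero =>
    intro Γ _ h
    rw [eq_bot_iff]
    intro x _
    rw [Subgroup.mem_bot]
    exact h x trivial
  | succ n ih =>
    intro Γ _ h
    let S : Set Γ := cSet Γ n
    have hcomm : ∀ a ∈ S, ∀ b : Γ, a * b = b * a := by
      intro a ha b
      have := h ⁅a, b⁆ ⟨a, ha, b, rfl⟩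
      exact commutatorElement_eq_one_iff_mul_comm.mp this
    have hT : Group.conjugatesOfSet S ⊆ S :=
      conjugatesOfSet_subset (fun x hx c => conj_mem_cSet n hx c)
    let A : Subgroup Γ := Subgroup.normalClosure S
    have hSA : S ⊆ (A : Set Γ) := Subgroup.subset_normalClosure
    have h1 : A ≤ Subgroup.center Γ := by
      refine (Subgroup.closure_le _).mpr ?_
      intro a ha
      rw [SetLike.mem_coe, Subgroup.mem_center_iff]
      intro b
      exact (hcomm a (hT ha) b).symm
    have hq : ∀ y ∈ cSet (Γ ⧸ A) n, y = 1 := by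
      intro y hy
      obtain ⟨x, hx, rfl⟩ := exists_lift_cSet (QuotientGroup.mk' A)
        (QuotientGroup.mk'_surjective A) n hy
      exact (QuotientGroup.eq_one_iff x).mpr (hSA hx)
    have hD := ih (Γ ⧸ A) hq
    have hle : Subgroup.lowerCentralSeries (⊤ : Subgroup Γ) n ≤ A := by
      have := Subgroup.map_lowerCentralSeries (S := (⊤ : Subgroup Γ)) (QuotientGroup.mk' A) n
      rw [← MonoidHom.range_eq_map, MonoidHom.range_eq_top.mpr (QuotientGroup.mk'_surjective A),
        hD] at this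
      have h3 : Subgroup.lowerCentralSeries (⊤ : Subgroup Γ) n ≤ (QuotientGroup.mk' A).ker :=
        (Subgroup.map_eq_bot_iff _).mp this
      rwa [QuotientGroup.ker_mk'] at h3
    rw [Subgroup.lowerCentralSeries_succ, eq_bot_iff]
    refine (Subgroup.commutator_mono (hle.trans h1) le_rfl).trans ?_
    rw [Subgroup.commutator_center_left]

end Groth.Agent.Helper18.WordSer
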