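import Mathlib
import Groth.Agent.Lib.Helper18.WordSer
import Groth.Agent.Lib.Helper18.KPts
import Groth.Agent.Lib.Helper18.OrbProper1
import Groth.Agent.Lib.Helper9.RatSec

/-!
# Word maps on a group scheme over a field (helper18)

Universal word maps for the derived and the lower central words, and the density argument:
morphisms from a reduced scheme locally of finite type to a separated scheme that agree on points
with values in an algebraically closed extension are equal.
-/

set_option autoImplicit false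
set_option linter.style.haveILetI false
universe u
open CategoryTheory CategoryTheory.Limits MonoidalCategory CartesianMonoidalCategory MonObj GrpObj
  AlgebraicGeometry
open scoped commutatorElement

namespace Groth.Agent.Helper18.WordSch

open Groth.Agent.Helper18.KPts Groth.Agent.Helper18.WordSer

variable {k : Type u} [Field k]

/-- morphisms agreeing on `K`-points are equal -/
theorem hom_ext_of_kpts {K : Type u} [Field K] [Algebra k K] [IsAlgClosed K]
    {X Y : Over (Spec (CommRingCat.of k))} [LocallyOfFiniteType X.hom] [IsReduced X.left]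
    [IsSeparated Y.hom] (f g : X ⟶ Y) (h : ∀ p : objK k K ⟶ X, p ≫ f = p ≫ g) : f = g := by
  let e := equalizer.ι f g
  haveI : IsClosedImmersion e.left := inferInstance
  have hcl : IsClosed (Set.range e.left) := (Scheme.Hom.isClosedEmbedding e.left).isClosed_range
  have hsurj : Set.range e.left = Set.univ := by
    by_contra hne
    have hne' : ((Set.range e.left)ᶜ).Nonempty := by
      rw [Set.nonempty_compl]; exact hne
    obtain ⟨p, hp⟩ := exists_kpt_mem_open (K := K) X _ hcl.isOpen_compl hne'
    let t₀ : ↥(objK k K).left := (IsLocalRing.closedPoint K : PrimeSpectrum K)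
    apply hp t₀
    refine ⟨(equalizer.lift p (h p)).left t₀, ?_⟩
    rw [← Scheme.Hom.comp_apply, ← Over.comp_left, equalizer.lift_ι]
  haveI : Surjective e.left := ⟨by rw [← Set.range_eq_univ]; exact hsurj⟩
  haveI : IsIso e.left := isIso_of_isClosedImmersion_of_surjective e.left
  haveI : IsIso e := by
    haveI : IsIso ((Over.forget _).map e) := ‹IsIso e.left›
    exact isIso_of_reflects_iso e (Over.forget _)
  rw [← cancel_epi e]
  exact equalizer.condition f g

variable (G : Over (Spec (CommRingCat.of k))) [GrpObj G]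

/-- precomposition as a homomorphism of groups of points -/
noncomputable def pre {T X : Over (Spec (CommRingCat.of k))} (u : T ⟶ X) : (X ⟶ G) →* (T ⟶ G) where
  toFun a := u ≫ a
  map_one' := comp_one u
  map_mul' a b := comp_mul u a b

@[simp] theorem pre_apply {T X : Over (Spec (CommRingCat.of k))} (u : T ⟶ X) (a : X ⟶ G) :
    pre G u a = u ≫ a := rfl

/-- the source of the `n`-th derived word map -/
noncomputable def dPow : ℕ → Over (Spec (CommRingCat.of k))
  | 0 => G
  | n + 1 => dPow n ⊗ dPow n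

/-- the source of the `n`-th lower central word map -/
noncomputable def cPow : ℕ → Over (Spec (CommRingCat.of k))
  | 0 => G
  | n + 1 => cPow n ⊗ G

/-- the `n`-th derived word map -/
noncomputable def dUniv : (n : ℕ) → (dPow G n ⟶ G)
  | 0 => 𝟙 G
  | n + 1 => (⁅fst (dPow G n) (dPow G n) ≫ dUniv n, snd (dPow G n) (dPow G n) ≫ dUniv n⁆ :
      dPow G n ⊗ dPow G n ⟶ G)

/-- the `n`-th lower central word map -/
noncomputable def cUniv : (n : ℕ) → (cPow G n ⟶ G)
  | 0 => 𝟙 G
  | n + 1 => (⁅fst (cPow G n) G ≫ cUniv n, snd (cPow G n) G⁆ : cPow G n ⊗ G ⟶ G)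

theorem dUniv_succ (n : ℕ) : dUniv G (n + 1) =
    (⁅fst (dPow G n) (dPow G n) ≫ dUniv G n, snd (dPow G n) (dPow G n) ≫ dUniv G n⁆ :
      dPow G n ⊗ dPow G n ⟶ G) := rfl

theorem cUniv_succ (n : ℕ) : cUniv G (n + 1) =
    (⁅fst (cPow G n) G ≫ cUniv G n, snd (cPow G n) G⁆ : cPow G n ⊗ G ⟶ G) := rfl

theorem dUniv_mem (n : ℕ) : dUniv G n ∈ dSet (dPow G n ⟶ G) n := by
  induction n with
  | zero => trivial
  | succ n ih =>
    exact ⟨_, map_mem_dSet (pre G (fst (dPow G n) (dPow G n))) n ih,
      _, map_mem_dSet (pre G (snd (dPow G n) (dPow G n))) n ih, rfl⟩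

theorem cUniv_mem (n : ℕ) : cUniv G n ∈ cSet (cPow G n ⟶ G) n := by
  induction n with
  | zero => trivial
  | succ n ih =>
    exact ⟨_, map_mem_cSet (pre G (fst (cPow G n) G)) n ih, _, rfl⟩

theorem exists_factor_d (n : ℕ) (T : Over (Spec (CommRingCat.of k))) (a : T ⟶ G)
    (ha : a ∈ dSet (T ⟶ G) n) : ∃ u : T ⟶ dPow G n, u ≫ dUniv G n = a := by
  induction n generalizing a with
  | zero => exact ⟨a, Category.comp_id a⟩
  | succ n ih =>
    obtain ⟨a₁, h₁, a₂, h₂, rfl⟩ := ha
    obtain ⟨u₁, rfl⟩ := ih a₁ h₁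
    obtain ⟨u₂, rfl⟩ := ih a₂ h₂
    refine ⟨lift u₁ u₂, ?_⟩
    have := map_commutatorElement (pre G (lift u₁ u₂))
      (fst (dPow G n) (dPow G n) ≫ dUniv G n) (snd (dPow G n) (dPow G n) ≫ dUniv G n)
    rw [pre_apply, pre_apply, pre_apply, lift_fst_assoc, lift_snd_assoc] at this
    rw [dUniv_succ]
    exact this

theorem exists_factor_c (n : ℕ) (T : Over (Spec (CommRingCat.of k))) (a : T ⟶ G)
    (ha : a ∈ cSet (T ⟶ G) n) : ∃ u : T ⟶ cPow G n, u ≫ cUniv G n = a := by
  induction n generalizing a with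
  | zero => exact ⟨a, Category.comp_id a⟩
  | succ n ih =>
    obtain ⟨a₁, h₁, a₂, rfl⟩ := ha
    obtain ⟨u₁, rfl⟩ := ih a₁ h₁
    refine ⟨lift u₁ a₂, ?_⟩
    have := map_commutatorElement (pre G (lift u₁ a₂))
      (fst (cPow G n) G ≫ cUniv G n) (snd (cPow G n) G)
    rw [pre_apply, pre_apply, pre_apply, lift_fst_assoc, lift_snd] at this
    rw [cUniv_succ]
    exact this

theorem smooth_tensor (X Y : Over (Spec (CommRingCat.of k))) [Smooth X.hom] [Smooth Y.hom] :
    Smooth (X ⊗ Y).hom := by
  haveI : Smooth (fst X Y).left := by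
    show Smooth (pullback.fst X.hom Y.hom)
    infer_instance
  rw [← Over.w (fst X Y)]
  infer_instance

theorem smooth_dPow [Smooth G.hom] (n : ℕ) : Smooth (dPow G n).hom := by
  induction n with
  | zero => exact ‹Smooth G.hom›
  | succ n ih =>
    haveI := ih
    exact smooth_tensor (dPow G n) (dPow G n)

theorem smooth_cPow [Smooth G.hom] (n : ℕ) : Smooth (cPow G n).hom := by
  induction n with
  | zero => exact ‹Smooth G.hom›
  | succ n ih =>
    haveI := ih
    exact smooth_tensor (cPow G n) G

section Main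

variable (K : Type u) [Field K] [Algebra k K] [IsAlgClosed K] [Smooth G.hom]

theorem hom_eq_one_of_kpts (X : Over (Spec (CommRingCat.of k))) [Smooth X.hom] (a : X ⟶ G)
    (h : ∀ p : objK k K ⟶ X, p ≫ a = 1) : a = 1 := by
  haveI : IsSeparated G.hom := Groth.Agent.Helper18.OrbProper.isSeparated_of_field G
  haveI : IsReduced X.left := Groth.Agent.Helper9.RatSec.isReduced_of_smooth X.hom
  haveI : LocallyOfFiniteType X.hom := inferInstance
  apply hom_ext_of_kpts (K := K) a 1
  intro p
  rw [h p, comp_one]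

theorem derivedSeries_eq_bot (n : ℕ) (h : derivedSeries (objK k K ⟶ G) n = ⊥)
    (T : Over (Spec (CommRingCat.of k))) : derivedSeries (T ⟶ G) n = ⊥ := by
  haveI := smooth_dPow G n
  have hU : dUniv G n = 1 := by
    apply hom_eq_one_of_kpts G K
    intro p
    have h1 : p ≫ dUniv G n ∈ dSet (objK k K ⟶ G) n :=
      map_mem_dSet (pre G p) n (dUniv_mem G n)
    have h2 := dSet_subset n h1
    rw [h] at h2
    exact (Subgroup.mem_bot).mp h2
  apply derivedSeries_eq_bot_of_dSet n
  intro x hx
  obtain ⟨u, rfl⟩ := exists_factor_d G n T x hx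
  rw [hU, comp_one]

theorem lowerCentralSeries_eq_bot (n : ℕ)
    (h : Subgroup.lowerCentralSeries (⊤ : Subgroup (objK k K ⟶ G)) n = ⊥)
    (T : Over (Spec (CommRingCat.of k))) :
    Subgroup.lowerCentralSeries (⊤ : Subgroup (T ⟶ G)) n = ⊥ := by
  haveI := smooth_cPow G n
  have hU : cUniv G n = 1 := by
    apply hom_eq_one_of_kpts G K
    intro p
    have h1 : p ≫ cUniv G n ∈ cSet (objK k K ⟶ G) n :=
      map_mem_cSet (pre G p) n (cUniv_mem G n)
    have h2 := cSet_subset n h1
    rw [h] at h2
    exact (Subgroup.mem_bot).mp h2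
  apply lowerCentralSeries_eq_bot_of_cSet n
  intro x hx
  obtain ⟨u, rfl⟩ := exists_factor_c G n T x hx
  rw [hU, comp_one]

end Main

end Groth.Agent.Helper18.WordSch
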