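import Mathlib
import Groth.Agent.Lib.Helper18.KPts
import Groth.Agent.Lib.Helper18.WordSch

/-!
# Rational points lying under words in a morphism to a group scheme (helper18)
-/

set_option autoImplicit false
set_option linter.style.haveILetI false
universe u
open CategoryTheory CategoryTheory.Limits MonoidalCategory CartesianMonoidalCategory MonObj GrpObj
  AlgebraicGeometry

namespace Groth.Agent.Helper18.WordPts

open Groth.Agent.Helper18.KPts Groth.Agent.Helper18.WordSch

variable {k : Type u} [Field k]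

/-- the fibre of `w : T ⟶ G` over a rational point `g` -/
noncomputable def fib {T G : Over (Spec (CommRingCat.of k))} (w : T ⟶ G)
    (g : 𝟙_ (Over (Spec (CommRingCat.of k))) ⟶ G) : Over (Spec (CommRingCat.of k)) :=
  Over.mk (pullback.fst w.left g.left ≫ T.hom)

/-- the inclusion of the fibre -/
noncomputable def fibι {T G : Over (Spec (CommRingCat.of k))} (w : T ⟶ G)
    (g : 𝟙_ (Over (Spec (CommRingCat.of k))) ⟶ G) : fib w g ⟶ T :=
  Over.homMk (pullback.fst w.left g.left) rfl

theorem fibι_comp {T G : Over (Spec (CommRingCat.of k))} (w : T ⟶ G)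
    (g : 𝟙_ (Over (Spec (CommRingCat.of k))) ⟶ G) : fibι w g ≫ w = toUnit _ ≫ g := by
  apply Over.OverMorphism.ext
  show pullback.fst w.left g.left ≫ w.left = (toUnit (fib w g)).left ≫ g.left
  have h1 : (toUnit (fib w g)).left = pullback.snd w.left g.left := by
    rw [Over.toUnit_left]
    show pullback.fst w.left g.left ≫ T.hom = _
    rw [← CategoryTheory.Over.w w, ← Category.assoc, pullback.condition, Category.assoc,
      CategoryTheory.Over.w g]
    exact Category.comp_id _
  rw [h1]
  exact pullback.condition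

theorem fib_nonempty {T G : Over (Spec (CommRingCat.of k))} (w : T ⟶ G)
    (g : 𝟙_ (Over (Spec (CommRingCat.of k))) ⟶ G) (p : T.left)
    (p₀ : (𝟙_ (Over (Spec (CommRingCat.of k)))).left) (h : w.left.base p = g.left.base p₀) :
    Nonempty (fib w g).left := by
  obtain ⟨z, -, -⟩ := Scheme.Pullback.exists_preimage_pullback (f := w.left) (g := g.left) p p₀ h
  exact ⟨z⟩

instance fib_lft {T G : Over (Spec (CommRingCat.of k))} [LocallyOfFiniteType T.hom] (w : T ⟶ G)
    (g : 𝟙_ (Over (Spec (CommRingCat.of k))) ⟶ G) : LocallyOfFiniteType (fib w g).hom := by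
  haveI : LocallyOfFiniteType (g.left ≫ G.hom) := by
    rw [CategoryTheory.Over.w g]
    show LocallyOfFiniteType (𝟙 _)
    infer_instance
  haveI : LocallyOfFiniteType g.left := locallyOfFiniteType_of_comp g.left G.hom
  show LocallyOfFiniteType (pullback.fst w.left g.left ≫ T.hom)
  infer_instance

/-- a nonempty scheme locally of finite type over an algebraically closed field has a rational
point -/
theorem exists_section [IsAlgClosed k] (Y : Over (Spec (CommRingCat.of k)))
    [LocallyOfFiniteType Y.hom] [Nonempty Y.left] :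
    Nonempty (𝟙_ (Over (Spec (CommRingCat.of k))) ⟶ Y) := by
  obtain ⟨p, -⟩ := exists_kpt_mem_open (K := k) Y Set.univ isOpen_univ Set.univ_nonempty
  have hc : cK k k = 𝟙 _ := by
    show Spec.map (CommRingCat.ofHom (algebraMap k k)) = 𝟙 _
    rw [Algebra.algebraMap_self]
    exact Spec.map_id _
  exact ⟨Over.homMk p.left (by
    show p.left ≫ Y.hom = 𝟙 _
    rw [CategoryTheory.Over.w p]; exact hc)⟩

/-- a rational point of the target lying under a point of a scheme locally of finite type lifts -/
theorem exists_lift [IsAlgClosed k] {T Y G : Over (Spec (CommRingCat.of k))}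
    [LocallyOfFiniteType Y.hom] [Nonempty T.left] (c : Y ⟶ G)
    (g : 𝟙_ (Over (Spec (CommRingCat.of k))) ⟶ G) (y : T ⟶ Y) (h : y ≫ c = toUnit T ≫ g) :
    ∃ y' : 𝟙_ (Over (Spec (CommRingCat.of k))) ⟶ Y, y' ≫ c = g := by
  obtain ⟨p⟩ := ‹Nonempty T.left›
  haveI : Nonempty (fib c g).left := by
    refine fib_nonempty c g (y.left.base p) ((toUnit T).left.base p) ?_
    have := congrArg (fun m => m.left.base p) h
    exact this
  obtain ⟨s⟩ := exists_section (fib c g)
  refine ⟨s ≫ fibι c g, ?_⟩
  rw [Category.assoc, fibι_comp, ← Category.assoc]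
  have : s ≫ toUnit (fib c g) = 𝟙 _ := toUnit_unique _ _
  rw [this, Category.id_comp]

variable {G X : Over (Spec (CommRingCat.of k))} [GrpObj G] (f : X ⟶ G)

/-- a letter: `f(x)` or its inverse -/
noncomputable def letter {T : Over (Spec (CommRingCat.of k))} (q : (T ⟶ X) × Bool) : T ⟶ G :=
  if q.2 then q.1 ≫ f else (q.1 ≫ f)⁻¹

/-- a word in `f` -/
noncomputable def word {T : Over (Spec (CommRingCat.of k))} (l : List ((T ⟶ X) × Bool)) : T ⟶ G :=
  (l.map (letter f)).prod

theorem comp_letter {T' T : Over (Spec (CommRingCat.of k))} (a : T' ⟶ T) (q : (T ⟶ X) × Bool) :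
    a ≫ letter f q = letter f (a ≫ q.1, q.2) := by
  unfold letter
  by_cases hq : q.2
  · simp only [hq, if_true, Category.assoc]
  · simp only [hq, Category.assoc]
    exact GrpObj.comp_inv a (q.1 ≫ f)

theorem comp_word {T' T : Over (Spec (CommRingCat.of k))} (a : T' ⟶ T)
    (l : List ((T ⟶ X) × Bool)) :
    a ≫ word f l = word f (l.map fun q => (a ≫ q.1, q.2)) := by
  unfold word
  have := map_list_prod (pre G a) (l.map (letter f))
  rw [pre_apply] at this
  rw [this, List.map_map, List.map_map]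
  congr 1
  apply List.map_congr_left
  intro q _
  exact comp_letter f a q

@[simp] theorem word_nil {T : Over (Spec (CommRingCat.of k))} :
    word f ([] : List ((T ⟶ X) × Bool)) = 1 := rfl

theorem word_cons {T : Over (Spec (CommRingCat.of k))} (q : (T ⟶ X) × Bool)
    (l : List ((T ⟶ X) × Bool)) : word f (q :: l) = letter f q * word f l := by
  unfold word
  rw [List.map_cons, List.prod_cons]

theorem word_append {T : Over (Spec (CommRingCat.of k))} (l l' : List ((T ⟶ X) × Bool)) :
    word f (l ++ l') = word f l * word f l' := by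
  unfold word
  rw [List.map_append, List.prod_append]

/-- specialization: a relation `c(y) · word = g` over a nonempty `T` can be realised over `k` -/
theorem special [IsAlgClosed k] [LocallyOfFiniteType X.hom]
    (T : Over (Spec (CommRingCat.of k))) [Nonempty T.left]
    (g : 𝟙_ (Over (Spec (CommRingCat.of k))) ⟶ G) :
    ∀ (l : List ((T ⟶ X) × Bool)) (Y : Over (Spec (CommRingCat.of k)))
      [LocallyOfFiniteType Y.hom] (c : Y ⟶ G) (y : T ⟶ Y),
      (y ≫ c) * word f l = toUnit T ≫ g →
      ∃ (y' : 𝟙_ (Over (Spec (CommRingCat.of k))) ⟶ Y)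
        (l' : List ((𝟙_ (Over (Spec (CommRingCat.of k))) ⟶ X) × Bool)),
        (y' ≫ c) * word f l' = g := by
  intro l
  induction l with
  | nil =>
    intro Y _ c y h
    rw [word_nil, _root_.mul_one] at h
    obtain ⟨y', hy'⟩ := exists_lift c g y h
    exact ⟨y', [], by rw [word_nil, _root_.mul_one, hy']⟩
  | cons q l ih =>
    intro Y _ c y h
    haveI : LocallyOfFiniteType (Y ⊗ X).hom := by
      rw [Over.tensorObj_hom]
      infer_instance
    let c' : Y ⊗ X ⟶ G := (fst Y X ≫ c) * letter f (snd Y X, q.2)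
    have hc' : ∀ {S : Over (Spec (CommRingCat.of k))} (a : S ⟶ Y) (b : S ⟶ X),
        lift a b ≫ c' = (a ≫ c) * letter f (b, q.2) := by
      intro S a b
      show lift a b ≫ ((fst Y X ≫ c) * letter f (snd Y X, q.2)) = _
      rw [MonObj.comp_mul, lift_fst_assoc, comp_letter]
      simp only [lift_snd]
    have h' : (lift y q.1 ≫ c') * word f l = toUnit T ≫ g := by
      rw [hc', _root_.mul_assoc, ← word_cons]
      exact h
    obtain ⟨y₁, l', h₁⟩ := ih (Y ⊗ X) c' (lift y q.1) h'
    refine ⟨y₁ ≫ fst Y X, (y₁ ≫ snd Y X, q.2) :: l', ?_⟩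
    rw [word_cons, ← _root_.mul_assoc, ← hc', ← h₁]
    congr 2
    apply CartesianMonoidalCategory.hom_ext <;> simp

/-- membership in the set of rational points under words, list form -/
theorem mem_iff (g : 𝟙_ (Over (Spec (CommRingCat.of k))) ⟶ G) :
    (∃ (n : ℕ) (T : Over (Spec (CommRingCat.of k))) (p : T.left)
      (p₀ : (𝟙_ (Over (Spec (CommRingCat.of k)))).left)
      (x : Fin n → (T ⟶ X)) (ε : Fin n → Bool),
      ((List.ofFn fun j : Fin n => if ε j then x j ≫ f else (x j ≫ f)⁻¹).prod : T ⟶ G).left.base p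
        = g.left.base p₀) ↔
    ∃ (T : Over (Spec (CommRingCat.of k))) (_ : Nonempty T.left) (l : List ((T ⟶ X) × Bool)),
      word f l = toUnit T ≫ g := by
  constructor
  · rintro ⟨n, T, p, p₀, x, ε, h⟩
    set w : T ⟶ G := (List.ofFn fun j : Fin n => if ε j then x j ≫ f else (x j ≫ f)⁻¹).prod
      with hw
    have hw' : w = word f (List.ofFn fun j => (x j, ε j)) := by
      unfold word
      rw [List.map_ofFn]
      rfl
    refine ⟨fib w g, fib_nonempty w g p p₀ h,
      (List.ofFn fun j => (x j, ε j)).map fun q => (fibι w g ≫ q.1, q.2), ?_⟩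
    rw [← comp_word, ← hw', fibι_comp]
  · rintro ⟨T, ⟨p⟩, l, h⟩
    refine ⟨l.length, T, p, (toUnit T).left.base p, fun j => (l.get j).1, fun j => (l.get j).2, ?_⟩
    have h0 : (List.ofFn fun j : Fin l.length =>
        if (l.get j).2 then (l.get j).1 ≫ f else ((l.get j).1 ≫ f)⁻¹) = l.map (letter f) := by
      have h1 : (fun j : Fin l.length =>
          if (l.get j).2 then (l.get j).1 ≫ f else ((l.get j).1 ≫ f)⁻¹) = letter f ∘ l.get := rfl
      rw [h1, ← List.map_ofFn, List.ofFn_get]
    rw [h0]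
    show (word f l).left.base p = _
    rw [h]
    rfl

/-- the rational points lying under words in `f` form the subgroup generated by the rational
points in the image of `f` -/
theorem main [IsAlgClosed k] [LocallyOfFiniteType X.hom] :
    {g : 𝟙_ (Over (Spec (CommRingCat.of k))) ⟶ G | ∃ (n : ℕ)
        (T : Over (Spec (CommRingCat.of k))) (p : T.left)
        (p₀ : (𝟙_ (Over (Spec (CommRingCat.of k)))).left)
        (x : Fin n → (T ⟶ X)) (ε : Fin n → Bool),
        ((List.ofFn fun j : Fin n => if ε j then x j ≫ f else (x j ≫ f)⁻¹).prod :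
          T ⟶ G).left.base p = g.left.base p₀} =
      ((Subgroup.closure {g : 𝟙_ (Over (Spec (CommRingCat.of k))) ⟶ G |
          ∃ p₀ : (𝟙_ (Over (Spec (CommRingCat.of k)))).left,
            g.left.base p₀ ∈ Set.range f.left.base} :
        Subgroup (𝟙_ (Over (Spec (CommRingCat.of k))) ⟶ G)) :
        Set (𝟙_ (Over (Spec (CommRingCat.of k))) ⟶ G)) := by
  ext g
  rw [Set.mem_ofPred_eq, mem_iff, SetLike.mem_coe]
  constructor
  · rintro ⟨T, hT, l, h⟩
    haveI : LocallyOfFiniteType (𝟙_ (Over (Spec (CommRingCat.of k)))).hom := by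
      show LocallyOfFiniteType (𝟙 _)
      infer_instance
    obtain ⟨y', l', h'⟩ := special f T g l (𝟙_ _) (1 : 𝟙_ _ ⟶ G) (toUnit T)
      (by rw [MonObj.comp_one, _root_.one_mul]; exact h)
    rw [MonObj.comp_one, _root_.one_mul] at h'
    rw [← h']
    unfold word
    apply Subgroup.list_prod_mem
    intro a ha
    rw [List.mem_map] at ha
    obtain ⟨q, -, rfl⟩ := ha
    have hq : q.1 ≫ f ∈ Subgroup.closure {g : 𝟙_ (Over (Spec (CommRingCat.of k))) ⟶ G |
        ∃ p₀ : (𝟙_ (Over (Spec (CommRingCat.of k)))).left,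
          g.left.base p₀ ∈ Set.range f.left.base} := by
      apply Subgroup.subset_closure
      obtain ⟨p₀⟩ : Nonempty (𝟙_ (Over (Spec (CommRingCat.of k)))).left :=
        inferInstanceAs (Nonempty (PrimeSpectrum k))
      exact ⟨p₀, q.1.left.base p₀, rfl⟩
    unfold letter
    split_ifs
    · exact hq
    · exact inv_mem hq
  · intro hg
    induction hg using Subgroup.closure_induction'' with
    | mem g hg =>
      obtain ⟨p₀, x₀, hx₀⟩ := hg
      refine ⟨fib f g, fib_nonempty f g x₀ p₀ hx₀, [(fibι f g, true)], ?_⟩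
      rw [word_cons, word_nil, _root_.mul_one]
      show fibι f g ≫ f = _
      exact fibι_comp f g
    | inv_mem g hg =>
      obtain ⟨p₀, x₀, hx₀⟩ := hg
      refine ⟨fib f g, fib_nonempty f g x₀ p₀ hx₀, [(fibι f g, false)], ?_⟩
      rw [word_cons, word_nil, _root_.mul_one]
      show (fibι f g ≫ f)⁻¹ = _
      rw [fibι_comp, GrpObj.comp_inv]
    | one =>
      exact ⟨𝟙_ _, inferInstanceAs (Nonempty (PrimeSpectrum k)), [],
        by rw [word_nil, MonObj.comp_one]⟩
    | mul g₁ g₂ _ _ h₁ h₂ =>
      obtain ⟨T₁, ⟨p₁⟩, l₁, h₁⟩ := h₁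
      obtain ⟨T₂, ⟨p₂⟩, l₂, h₂⟩ := h₂
      have hp : T₁.hom.base p₁ = T₂.hom.base p₂ := Subsingleton.elim (α := PrimeSpectrum k) _ _
      obtain ⟨z, -, -⟩ := Scheme.Pullback.exists_preimage_pullback (f := T₁.hom) (g := T₂.hom)
        p₁ p₂ hp
      refine ⟨T₁ ⊗ T₂, ⟨z⟩, l₁.map (fun q => (fst T₁ T₂ ≫ q.1, q.2)) ++
        l₂.map (fun q => (snd T₁ T₂ ≫ q.1, q.2)), ?_⟩
      rw [word_append, ← comp_word, ← comp_word, h₁, h₂, MonObj.comp_mul]
      congr 1 <;> rw [← Category.assoc] <;> congr 1 <;> exact toUnit_unique _ _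

end Groth.Agent.Helper18.WordPts
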