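import Mathlib
import Groth.Agent.Lib.Helper18.WordPts
import Groth.Agent.Lib.Helper18.SubGrpObj
import Groth.Agent.Lib.Helper18.RedLift
import Groth.Agent.Lib.Helper18.RedProd
import Groth.Agent.Lib.Helper18.GrpdRed

/-!
# Words of bounded length and left translates (helper18)
-/

set_option autoImplicit false
set_option linter.style.haveILetI false
universe u
open CategoryTheory CategoryTheory.Limits MonoidalCategory CartesianMonoidalCategory MonObj GrpObj
  AlgebraicGeometry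

namespace Groth.Agent.Helper18.WordFin

open Groth.Agent.Helper18.KPts Groth.Agent.Helper18.WordPts

variable {k : Type u} [Field k]

section Tr

variable {G : Over (Spec (CommRingCat.of k))} [GrpObj G]

/-- left translation by a rational point -/
noncomputable def tr (a : 𝟙_ (Over (Spec (CommRingCat.of k))) ⟶ G) : G ⟶ G :=
  (λ_ G).inv ≫ (a ▷ G) ≫ μ[G]

theorem comp_tr {T : Over (Spec (CommRingCat.of k))}
    (a : 𝟙_ (Over (Spec (CommRingCat.of k))) ⟶ G) (g : T ⟶ G) :
    g ≫ tr a = (toUnit T ≫ a) * g := by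
  unfold tr
  have h1 : g ≫ (λ_ G).inv ≫ (a ▷ G) = lift (toUnit T ≫ a) g := by
    apply CartesianMonoidalCategory.hom_ext
    · simp
    · simp
  rw [← Category.assoc, ← Category.assoc, Category.assoc g, h1]
  rfl

theorem tr_comp_tr_inv (a : 𝟙_ (Over (Spec (CommRingCat.of k))) ⟶ G) : tr a ≫ tr a⁻¹ = 𝟙 G := by
  rw [comp_tr]
  have h1 : tr a = (toUnit G ≫ a) * 𝟙 G := by
    have := comp_tr a (𝟙 G)
    rwa [Category.id_comp] at this
  rw [h1, GrpObj.comp_inv, inv_mul_cancel_left]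

theorem tr_inv_comp_tr (a : 𝟙_ (Over (Spec (CommRingCat.of k))) ⟶ G) : tr a⁻¹ ≫ tr a = 𝟙 G := by
  have := tr_comp_tr_inv a⁻¹
  rwa [_root_.inv_inv] at this

theorem tr_leftInverse (a : 𝟙_ (Over (Spec (CommRingCat.of k))) ⟶ G) :
    Function.LeftInverse (tr a⁻¹).left.base (tr a).left.base := by
  intro z
  have := congrArg (fun m => m.left.base z) (tr_comp_tr_inv a)
  exact this

theorem tr_rightInverse (a : 𝟙_ (Over (Spec (CommRingCat.of k))) ⟶ G) :
    Function.RightInverse (tr a⁻¹).left.base (tr a).left.base := by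
  intro z
  have := congrArg (fun m => m.left.base z) (tr_inv_comp_tr a)
  exact this

theorem tr_image_eq (a : 𝟙_ (Over (Spec (CommRingCat.of k))) ⟶ G) (C : Set G.left) :
    (tr a).left.base '' C = (tr a⁻¹).left.base ⁻¹' C :=
  congrFun (Set.image_eq_preimage_of_inverse (tr_leftInverse a) (tr_rightInverse a)) C

theorem tr_isClosed_image (a : 𝟙_ (Over (Spec (CommRingCat.of k))) ⟶ G) (C : Set G.left)
    (hC : IsClosed C) : IsClosed ((tr a).left.base '' C) := by
  rw [tr_image_eq]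
  exact hC.preimage (tr a⁻¹).left.base.hom.continuous

end Tr

section UW

variable {G X : Over (Spec (CommRingCat.of k))} [GrpObj G] (f : X ⟶ G)

/-- points of `G` lying under a word of length `n` in `f` -/
def UW (n : ℕ) : Set G.left :=
  {g | ∃ (T : Over (Spec (CommRingCat.of k))) (p : T.left) (l : List ((T ⟶ X) × Bool)),
    l.length = n ∧ (word f l).left.base p = g}

theorem uw_iff (n : ℕ) (g : G.left) :
    g ∈ UW f n ↔ ∃ (T : Over (Spec (CommRingCat.of k))) (p : T.left) (x : Fin n → (T ⟶ X))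
      (ε : Fin n → Bool),
      ((List.ofFn fun j : Fin n => if ε j then x j ≫ f else (x j ≫ f)⁻¹).prod :
        T ⟶ G).left.base p = g := by
  constructor
  · rintro ⟨T, p, l, rfl, rfl⟩
    refine ⟨T, p, fun j => (l.get j).1, fun j => (l.get j).2, ?_⟩
    have h0 : (List.ofFn fun j : Fin l.length =>
        if (l.get j).2 then (l.get j).1 ≫ f else ((l.get j).1 ≫ f)⁻¹) = l.map (letter f) := by
      have h1 : (fun j : Fin l.length =>
          if (l.get j).2 then (l.get j).1 ≫ f else ((l.get j).1 ≫ f)⁻¹) = letter f ∘ l.get := rfl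
      rw [h1, ← List.map_ofFn, List.ofFn_get]
    rw [h0]
    rfl
  · rintro ⟨T, p, x, ε, rfl⟩
    refine ⟨T, p, List.ofFn fun j => (x j, ε j), List.length_ofFn, ?_⟩
    unfold word
    rw [List.map_ofFn]
    rfl

/-- words in `f` are images of words in a lift of `f` to a subgroup -/
theorem word_comp {Γ : Over (Spec (CommRingCat.of k))} [GrpObj Γ] (i : Γ ⟶ G) [IsMonHom i]
    (f' : X ⟶ Γ) (hf : f' ≫ i = f) {T : Over (Spec (CommRingCat.of k))}
    (l : List ((T ⟶ X) × Bool)) : word f' l ≫ i = word f l := by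
  induction l with
  | nil =>
    rw [word_nil, word_nil]
    exact MonObj.one_comp i
  | cons q l ih =>
    rw [word_cons, word_cons, MonObj.mul_comp, ih]
    congr 1
    obtain ⟨x, b⟩ := q
    cases b
    · show (x ≫ f')⁻¹ ≫ i = (x ≫ f)⁻¹
      rw [GrpObj.inv_comp, Category.assoc, hf]
    · show (x ≫ f') ≫ i = x ≫ f
      rw [Category.assoc, hf]

theorem uw_subset_range {Γ : Over (Spec (CommRingCat.of k))} [GrpObj Γ] (i : Γ ⟶ G) [IsMonHom i]
    (f' : X ⟶ Γ) (hf : f' ≫ i = f) (n : ℕ) : UW f n ⊆ Set.range i.left.base := by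
  rintro _ ⟨T, p, l, -, rfl⟩
  rw [← word_comp f i f' hf l]
  exact ⟨(word f' l).left.base p, rfl⟩

/-- if the unit point lies in the image of `f`, words can be lengthened -/
theorem uw_mono (x₀ : X.left)
    (p₀ : (𝟙_ (Over (Spec (CommRingCat.of k)))).left) (hx₀ : f.left.base x₀ = η[G].left.base p₀)
    (n : ℕ) : UW f n ⊆ UW f (n + 1) := by
  rintro _ ⟨T, p, l, hl, rfl⟩
  haveI : Nonempty (fib f η[G]).left := fib_nonempty f η[G] x₀ p₀ hx₀
  obtain ⟨e⟩ := ‹Nonempty (fib f η[G]).left›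
  have hp : T.hom.base p = (fib f η[G]).hom.base e := Subsingleton.elim (α := PrimeSpectrum k) _ _
  obtain ⟨q, hq1, -⟩ := Scheme.Pullback.exists_preimage_pullback (f := T.hom)
    (g := (fib f η[G]).hom) p e hp
  refine ⟨T ⊗ fib f η[G], q, l.map (fun r => (fst _ _ ≫ r.1, r.2)) ++
    [(snd _ _ ≫ fibι f η[G], true)], by simp [hl], ?_⟩
  rw [word_append, ← comp_word, word_cons, word_nil, _root_.mul_one]
  have h1 : letter f (snd T (fib f η[G]) ≫ fibι f η[G], true) = 1 := by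
    show (snd T (fib f η[G]) ≫ fibι f η[G]) ≫ f = 1
    rw [Category.assoc, fibι_comp, ← Category.assoc]
    exact MonObj.comp_one _
  rw [h1, _root_.mul_one]
  show (word f l).left.base ((fst T (fib f η[G])).left.base q) = _
  congr 1

theorem uw_mono_le (x₀ : X.left)
    (p₀ : (𝟙_ (Over (Spec (CommRingCat.of k)))).left) (hx₀ : f.left.base x₀ = η[G].left.base p₀)
    {n m : ℕ} (h : n ≤ m) : UW f n ⊆ UW f m := by
  induction h with
  | refl => exact subset_rfl
  | step _ ih => exact ih.trans (uw_mono f x₀ p₀ hx₀ _)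

/-- length-aware form of `WordPts.mem_iff` -/
theorem exists_word_of_under (a : 𝟙_ (Over (Spec (CommRingCat.of k))) ⟶ G) (n : ℕ)
    (h : ∃ (T : Over (Spec (CommRingCat.of k))) (p : T.left)
      (p₀ : (𝟙_ (Over (Spec (CommRingCat.of k)))).left)
      (x : Fin n → (T ⟶ X)) (ε : Fin n → Bool),
      ((List.ofFn fun j : Fin n => if ε j then x j ≫ f else (x j ≫ f)⁻¹).prod : T ⟶ G).left.base p
        = a.left.base p₀) :
    ∃ (T : Over (Spec (CommRingCat.of k))) (_ : Nonempty T.left) (l : List ((T ⟶ X) × Bool)),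
      l.length = n ∧ word f l = toUnit T ≫ a := by
  obtain ⟨T, p, p₀, x, ε, h⟩ := h
  set w : T ⟶ G := (List.ofFn fun j : Fin n => if ε j then x j ≫ f else (x j ≫ f)⁻¹).prod
    with hw
  have hw' : w = word f (List.ofFn fun j => (x j, ε j)) := by
    unfold word
    rw [List.map_ofFn]
    rfl
  refine ⟨fib w a, fib_nonempty w a p p₀ h,
    (List.ofFn fun j => (x j, ε j)).map fun q => (fibι w a ≫ q.1, q.2), by simp, ?_⟩
  rw [← comp_word, ← hw', fibι_comp]

/-- left translates of points in the image of `f` by a point under a word of length `n` lie under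
words of length `n + 1` -/
theorem tr_mem_uw (a : 𝟙_ (Over (Spec (CommRingCat.of k))) ⟶ G) (n : ℕ)
    (ha : ∃ (T : Over (Spec (CommRingCat.of k))) (_ : Nonempty T.left)
      (l : List ((T ⟶ X) × Bool)), l.length = n ∧ word f l = toUnit T ≫ a)
    (x₁ : X.left) : (tr a).left.base (f.left.base x₁) ∈ UW f (n + 1) := by
  obtain ⟨T, ⟨p⟩, l, hl, hw⟩ := ha
  have hp : T.hom.base p = X.hom.base x₁ := Subsingleton.elim (α := PrimeSpectrum k) _ _
  obtain ⟨q, -, hq2⟩ := Scheme.Pullback.exists_preimage_pullback (f := T.hom) (g := X.hom) p x₁ hp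
  refine ⟨T ⊗ X, q, l.map (fun r => (fst _ _ ≫ r.1, r.2)) ++ [(snd T X, true)],
    by simp [hl], ?_⟩
  rw [word_append, ← comp_word, word_cons, word_nil, _root_.mul_one, hw]
  have h1 : fst T X ≫ toUnit T ≫ a = toUnit (T ⊗ X) ≫ a := by
    rw [← Category.assoc]
    congr 1
  have h2 : letter f (snd T X, true) = snd T X ≫ f := rfl
  rw [h1, h2, ← comp_tr]
  show (tr a).left.base (f.left.base ((snd T X).left.base q)) = _
  congr 2

end UW

section Sub

/-- group structure on the source of a monomorphism into a group object, from a unit and a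
division morphism -/
theorem grpOfDiv {K G : Over (Spec (CommRingCat.of k))} [GrpObj G] (i : K ⟶ G) [Mono i]
    (e : 𝟙_ (Over (Spec (CommRingCat.of k))) ⟶ K) (he : e ≫ i = η[G])
    (δ' : K ⊗ K ⟶ K) (hδ' : δ' ≫ i = (fst K K ≫ i)⁻¹ * (snd K K ≫ i)) :
    ∃ (_ : GrpObj K), IsMonHom i := by
  have hdiv : ∀ (T : Over (Spec (CommRingCat.of k))) (k₁ k₂ : T ⟶ K),
      (lift k₁ k₂ ≫ δ') ≫ i = (k₁ ≫ i)⁻¹ * (k₂ ≫ i) := by
    intro T k₁ k₂
    rw [Category.assoc, hδ', MonObj.comp_mul, GrpObj.comp_inv, lift_fst_assoc, lift_snd_assoc]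
  let jK : K ⟶ K := lift (𝟙 K) (toUnit K ≫ e) ≫ δ'
  have hjK : jK ≫ i = i ≫ ι[G] := by
    rw [hdiv, Category.id_comp, Category.assoc, he]
    show i⁻¹ * (1 : K ⟶ G) = i⁻¹
    rw [_root_.mul_one]
  let mK : K ⊗ K ⟶ K := lift (fst K K ≫ jK) (snd K K) ≫ δ'
  have hmK : mK ≫ i = (i ⊗ₘ i) ≫ μ[G] := by
    rw [hdiv, Category.assoc, hjK]
    show ((fst K K ≫ i)⁻¹)⁻¹ * (snd K K ≫ i) = lift (fst K K ≫ i) (snd K K ≫ i) ≫ μ[G]
    rw [_root_.inv_inv]
    rfl
  letI instK : GrpObj K := Groth.Agent.Helper18.SubGrpObj.grpObjOfMono i e he mK hmK jK hjK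
  exact ⟨instK, ⟨he, hmK⟩⟩

variable [IsAlgClosed k]

/-- a nonempty open subset of a scheme locally of finite type over an algebraically closed field
contains a rational point -/
theorem exists_section_mem_open (Y : Over (Spec (CommRingCat.of k)))
    [LocallyOfFiniteType Y.hom] (U : Set Y.left) (hU : IsOpen U) (hne : U.Nonempty) :
    ∃ s : 𝟙_ (Over (Spec (CommRingCat.of k))) ⟶ Y, ∀ t, s.left.base t ∈ U := by
  obtain ⟨p, hp⟩ := exists_kpt_mem_open (K := k) Y U hU hne
  have hc : cK k k = 𝟙 _ := by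
    show Spec.map (CommRingCat.ofHom (algebraMap k k)) = 𝟙 _
    rw [Algebra.algebraMap_self]
    exact Spec.map_id _
  exact ⟨Over.homMk p.left (by
    show p.left ≫ Y.hom = 𝟙 _
    rw [CategoryTheory.Over.w p]; exact hc), fun t => hp t⟩

/-- a closed subset containing all rational points is everything -/
theorem eq_univ_of_isClosed_of_sections (Y : Over (Spec (CommRingCat.of k)))
    [LocallyOfFiniteType Y.hom] (C : Set Y.left) (hC : IsClosed C)
    (h : ∀ (s : 𝟙_ (Over (Spec (CommRingCat.of k))) ⟶ Y) t, s.left.base t ∈ C) :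
    C = Set.univ := by
  by_contra hne
  have hne' : (Cᶜ).Nonempty := by
    rw [Set.nonempty_compl]; exact hne
  obtain ⟨s, hs⟩ := exists_section_mem_open Y Cᶜ hC.isOpen_compl hne'
  obtain ⟨t⟩ : Nonempty (𝟙_ (Over (Spec (CommRingCat.of k)))).left :=
    inferInstanceAs (Nonempty (PrimeSpectrum k))
  exact hs t (h s t)

variable {G : Over (Spec (CommRingCat.of k))} [GrpObj G] [LocallyOfFiniteType G.hom]
  (Z₀ : Set G.left) (hZ₀ : IsClosed Z₀)

/-- the reduced closed subscheme on a closed subset, as an object over `k` -/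
noncomputable def Zs : Over (Spec (CommRingCat.of k)) :=
  Over.mk ((Scheme.IdealSheafData.vanishingIdeal ⟨Z₀, hZ₀⟩).subschemeι ≫ G.hom)

/-- its inclusion -/
noncomputable def iZ : Zs Z₀ hZ₀ ⟶ G :=
  Over.homMk (Scheme.IdealSheafData.vanishingIdeal ⟨Z₀, hZ₀⟩).subschemeι rfl

instance : IsClosedImmersion (iZ Z₀ hZ₀).left :=
  inferInstanceAs (IsClosedImmersion (Scheme.IdealSheafData.vanishingIdeal ⟨Z₀, hZ₀⟩).subschemeι)

omit [IsAlgClosed k] [GrpObj G] [LocallyOfFiniteType G.hom] in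
theorem range_iZ : Set.range (iZ Z₀ hZ₀).left.base = Z₀ :=
  Groth.Agent.Helper18.GrpdRed.range_subschemeι_vanishingIdeal ⟨Z₀, hZ₀⟩

instance : IsReduced (Zs Z₀ hZ₀).left :=
  Groth.Agent.Helper18.GrpdRed.isReduced_vanishingIdeal_subscheme ⟨Z₀, hZ₀⟩

instance : LocallyOfFiniteType (Zs Z₀ hZ₀).hom := by
  show LocallyOfFiniteType
    ((Scheme.IdealSheafData.vanishingIdeal ⟨Z₀, hZ₀⟩).subschemeι ≫ G.hom)
  infer_instance

instance : Mono (iZ Z₀ hZ₀) := by
  haveI : Mono (iZ Z₀ hZ₀).left := inferInstance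
  exact Over.mono_of_mono_left _

omit [GrpObj G] [LocallyOfFiniteType G.hom] in
/-- morphisms from reduced schemes locally of finite type whose rational points land in `Z₀`
factor through the reduced subscheme -/
theorem exists_lift_Zs (T : Over (Spec (CommRingCat.of k))) [LocallyOfFiniteType T.hom]
    [IsReduced T.left] (u : T ⟶ G)
    (h : ∀ (s : 𝟙_ (Over (Spec (CommRingCat.of k))) ⟶ T) t, (s ≫ u).left.base t ∈ Z₀) :
    ∃ u' : T ⟶ Zs Z₀ hZ₀, u' ≫ iZ Z₀ hZ₀ = u := by
  have h1 : u.left.base ⁻¹' Z₀ = Set.univ :=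
    eq_univ_of_isClosed_of_sections T _ (hZ₀.preimage u.left.base.hom.continuous)
      (fun s t => h s t)
  have hr : Set.range u.left ⊆ Set.range (iZ Z₀ hZ₀).left := by
    rintro _ ⟨z, rfl⟩
    have : (iZ Z₀ hZ₀).left.base '' Set.univ = Z₀ := by
      rw [Set.image_univ]; exact range_iZ Z₀ hZ₀
    have hz : z ∈ u.left.base ⁻¹' Z₀ := by rw [h1]; trivial
    rw [← range_iZ Z₀ hZ₀] at hz
    exact hz
  obtain ⟨h', hh'⟩ := Groth.Agent.Helper18.RedLift.exists_lift_of_isReduced (iZ Z₀ hZ₀).left u.left hr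
  refine ⟨Over.homMk h' ?_, ?_⟩
  · rw [← CategoryTheory.Over.w (iZ Z₀ hZ₀), ← Category.assoc, hh', CategoryTheory.Over.w u]
  · ext
    exact hh'

/-- if the rational points lying in the closed set `Z₀` form a subgroup, the reduced closed
subscheme on `Z₀` is a closed subgroup scheme -/
theorem exists_grpObj_Zs (P : Subgroup (𝟙_ (Over (Spec (CommRingCat.of k))) ⟶ G))
    (hP : ∀ g : 𝟙_ (Over (Spec (CommRingCat.of k))) ⟶ G, g ∈ P ↔ ∀ t, g.left.base t ∈ Z₀) :
    ∃ (_ : GrpObj (Zs Z₀ hZ₀)), IsMonHom (iZ Z₀ hZ₀) := by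
  haveI : LocallyOfFiniteType (𝟙_ (Over (Spec (CommRingCat.of k)))).hom := by
    show LocallyOfFiniteType (𝟙 _)
    infer_instance
  haveI : IsReduced (𝟙_ (Over (Spec (CommRingCat.of k)))).left :=
    inferInstanceAs (IsReduced (Spec (CommRingCat.of k)))
  obtain ⟨e, he⟩ := exists_lift_Zs Z₀ hZ₀ (𝟙_ _) (1 : 𝟙_ (Over (Spec (CommRingCat.of k))) ⟶ G)
    (fun s t => by
      have : s ≫ (1 : 𝟙_ (Over (Spec (CommRingCat.of k))) ⟶ G) ∈ P := by
        rw [MonObj.comp_one]; exact one_mem P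
      exact (hP _).mp this t)
  have he' : e ≫ iZ Z₀ hZ₀ = η[G] := by rw [he, MonObj.one_eq_one]
  haveI : LocallyOfFiniteType (Zs Z₀ hZ₀ ⊗ Zs Z₀ hZ₀).hom := by
    rw [Over.tensorObj_hom]
    infer_instance
  haveI : IsReduced (Zs Z₀ hZ₀ ⊗ Zs Z₀ hZ₀).left :=
    Groth.Agent.Helper18.RedProd.isReduced_pullback k (Zs Z₀ hZ₀).hom (Zs Z₀ hZ₀).hom
  have hmemP : ∀ (s : 𝟙_ (Over (Spec (CommRingCat.of k))) ⟶ Zs Z₀ hZ₀), s ≫ iZ Z₀ hZ₀ ∈ P := by
    intro s
    rw [hP]
    intro t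
    have h2 : (iZ Z₀ hZ₀).left.base (s.left.base t) ∈ Set.range (iZ Z₀ hZ₀).left.base := ⟨_, rfl⟩
    rw [range_iZ] at h2
    exact h2
  obtain ⟨δ', hδ'⟩ := exists_lift_Zs Z₀ hZ₀ (Zs Z₀ hZ₀ ⊗ Zs Z₀ hZ₀)
    ((fst _ _ ≫ iZ Z₀ hZ₀)⁻¹ * (snd _ _ ≫ iZ Z₀ hZ₀)) (fun s t => by
      have : s ≫ ((fst _ _ ≫ iZ Z₀ hZ₀)⁻¹ * (snd _ _ ≫ iZ Z₀ hZ₀)) ∈ P := by
        rw [MonObj.comp_mul, GrpObj.comp_inv, ← Category.assoc, ← Category.assoc]
        exact mul_mem (inv_mem (hmemP _)) (hmemP _)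
      exact (hP _).mp this t)
  exact grpOfDiv (iZ Z₀ hZ₀) e he' δ' hδ'

/-- SGA3 VI_B: the finite-index case of the description of the subgroup generated by `f` -/
theorem main (G X H : Over (Spec (CommRingCat.of k))) [GrpObj G] [GrpObj H]
    [LocallyOfFiniteType G.hom]
    [LocallyOfFiniteType X.hom] [GeometricallyReduced X.hom] (f : X ⟶ G)
    (h : H ⟶ G) [IsMonHom h] [IsClosedImmersion h.left]
    (hH : Set.range h.left.base ⊆ Set.range f.left.base)
    (Γ : Over (Spec (CommRingCat.of k))) [GrpObj Γ] (i : Γ ⟶ G) [IsMonHom i]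
    [IsClosedImmersion i.left]
    (hf : ∃ f' : X ⟶ Γ, f' ≫ i = f)
    (hmin : ∀ (Γ' : Over (Spec (CommRingCat.of k))) (_ : GrpObj Γ') (i' : Γ' ⟶ G), IsMonHom i' →
        IsClosedImmersion i'.left →
        (∃ f'' : X ⟶ Γ', f'' ≫ i' = f) → ∃ j : Γ ⟶ Γ', j ≫ i' = i)
    (hfin : ∃ F : Finset (𝟙_ (Over (Spec (CommRingCat.of k))) ⟶ G),
      (∀ a ∈ F, ∃ (n : ℕ) (T : Over (Spec (CommRingCat.of k))) (p : T.left)
        (p₀ : (𝟙_ (Over (Spec (CommRingCat.of k)))).left) (x : Fin n → (T ⟶ X))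
        (ε : Fin n → Bool),
        ((List.ofFn fun j : Fin n => if ε j then x j ≫ f else (x j ≫ f)⁻¹).prod :
          T ⟶ G).left.base p = a.left.base p₀) ∧
      ∀ g : 𝟙_ (Over (Spec (CommRingCat.of k))) ⟶ G,
        (∃ (n : ℕ) (T : Over (Spec (CommRingCat.of k))) (p : T.left)
          (p₀ : (𝟙_ (Over (Spec (CommRingCat.of k)))).left) (x : Fin n → (T ⟶ X))
          (ε : Fin n → Bool),
          ((List.ofFn fun j : Fin n => if ε j then x j ≫ f else (x j ≫ f)⁻¹).prod :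
            T ⟶ G).left.base p = g.left.base p₀) →
        ∃ a ∈ F, ∃ y : 𝟙_ (Over (Spec (CommRingCat.of k))) ⟶ H, g = a * (y ≫ h)) :
    (∃ m : ℕ, Set.range i.left.base =
      {g : G.left | ∃ (T : Over (Spec (CommRingCat.of k))) (p : T.left) (x : Fin m → (T ⟶ X))
        (ε : Fin m → Bool),
        ((List.ofFn fun j : Fin m => if ε j then x j ≫ f else (x j ≫ f)⁻¹).prod :
          T ⟶ G).left.base p = g}) ∧
    ∃ F : Finset (𝟙_ (Over (Spec (CommRingCat.of k))) ⟶ G), Set.range i.left.base =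
      ⋃ a ∈ F, (fun z => ((λ_ G).inv ≫ (a ▷ G) ≫ μ[G]).left.base z) '' Set.range h.left.base := by
  classical
  obtain ⟨F, hF1, hF2⟩ := hfin
  obtain ⟨f', hf'⟩ := hf
  obtain ⟨p₀⟩ : Nonempty (𝟙_ (Over (Spec (CommRingCat.of k)))).left :=
    inferInstanceAs (Nonempty (PrimeSpectrum k))
  have htu : toUnit (𝟙_ (Over (Spec (CommRingCat.of k)))) = 𝟙 _ := toUnit_unique _ _
  -- the subgroup of rational points under words
  let P : Subgroup (𝟙_ (Over (Spec (CommRingCat.of k))) ⟶ G) :=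
    Subgroup.closure {g : 𝟙_ (Over (Spec (CommRingCat.of k))) ⟶ G |
      ∃ p₀ : (𝟙_ (Over (Spec (CommRingCat.of k)))).left,
        g.left.base p₀ ∈ Set.range f.left.base}
  have hPmem : ∀ g : 𝟙_ (Over (Spec (CommRingCat.of k))) ⟶ G, g ∈ P ↔
      ∃ (n : ℕ) (T : Over (Spec (CommRingCat.of k))) (p : T.left)
        (p₀ : (𝟙_ (Over (Spec (CommRingCat.of k)))).left) (x : Fin n → (T ⟶ X))
        (ε : Fin n → Bool),
        ((List.ofFn fun j : Fin n => if ε j then x j ≫ f else (x j ≫ f)⁻¹).prod :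
          T ⟶ G).left.base p = g.left.base p₀ := by
    intro g
    have h0 := Groth.Agent.Helper18.WordPts.main f
    constructor
    · intro hg
      have h1 : g ∈ ((Subgroup.closure {g : 𝟙_ (Over (Spec (CommRingCat.of k))) ⟶ G |
          ∃ p₀ : (𝟙_ (Over (Spec (CommRingCat.of k)))).left,
            g.left.base p₀ ∈ Set.range f.left.base} :
          Subgroup (𝟙_ (Over (Spec (CommRingCat.of k))) ⟶ G)) :
          Set (𝟙_ (Over (Spec (CommRingCat.of k))) ⟶ G)) := hg
      rw [← h0] at h1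
      exact h1
    · intro hg
      have h1 : g ∈ {g : 𝟙_ (Over (Spec (CommRingCat.of k))) ⟶ G | ∃ (n : ℕ)
          (T : Over (Spec (CommRingCat.of k))) (p : T.left)
          (p₀ : (𝟙_ (Over (Spec (CommRingCat.of k)))).left)
          (x : Fin n → (T ⟶ X)) (ε : Fin n → Bool),
          ((List.ofFn fun j : Fin n => if ε j then x j ≫ f else (x j ≫ f)⁻¹).prod :
            T ⟶ G).left.base p = g.left.base p₀} := hg
      rw [h0] at h1
      exact h1
  -- the closed set
  let Z₀ : Set G.left := ⋃ a ∈ F, (tr a).left.base '' Set.range h.left.base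
  have hZ₀ : IsClosed Z₀ := by
    apply isClosed_biUnion_finset
    intro a _
    exact tr_isClosed_image a _ h.left.isClosedEmbedding.isClosed_range
  -- the unit point is in the image of `f`
  obtain ⟨x₀, hx₀⟩ : ∃ x₀, f.left.base x₀ = η[G].left.base p₀ := by
    have h1 : η[G].left.base p₀ ∈ Set.range h.left.base := ⟨η[H].left.base p₀, by
      have := congrArg (fun m => m.left.base p₀) (IsMonHom.one_hom (f := h))
      exact this⟩
    exact hH h1
  -- lengths
  have hFn : ∀ a ∈ F, ∃ n, ∃ (T : Over (Spec (CommRingCat.of k))) (_ : Nonempty T.left)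
      (l : List ((T ⟶ X) × Bool)), l.length = n ∧ word f l = toUnit T ≫ a := by
    intro a ha
    obtain ⟨n, T, p, q₀, x, ε, hw⟩ := hF1 a ha
    exact ⟨n, exists_word_of_under f a n ⟨T, p, q₀, x, ε, hw⟩⟩
  choose! N hN using hFn
  let m := F.sup N + 1
  have hB : Z₀ ⊆ UW f m := by
    intro z hz
    simp only [Z₀, Set.mem_iUnion] at hz
    obtain ⟨a, ha, _, ⟨h₀, rfl⟩, rfl⟩ := hz
    obtain ⟨x₁, hx₁⟩ := hH ⟨h₀, rfl⟩
    rw [← hx₁]
    exact uw_mono_le f x₀ p₀ hx₀ (Nat.succ_le_succ (Finset.le_sup ha))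
      (tr_mem_uw f a (N a) (hN a ha) x₁)
  have hA : UW f m ⊆ Set.range i.left.base := uw_subset_range f i f' hf' m
  -- membership in P is membership of the point in Z₀
  have hPZ : ∀ g : 𝟙_ (Over (Spec (CommRingCat.of k))) ⟶ G, g ∈ P ↔ ∀ t, g.left.base t ∈ Z₀ := by
    intro g
    constructor
    · intro hg t
      obtain ⟨a, ha, y, rfl⟩ := hF2 g ((hPmem g).mp hg)
      have h1 : a * (y ≫ h) = (y ≫ h) ≫ tr a := by
        rw [comp_tr, htu, Category.id_comp]
      rw [h1]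
      exact Set.mem_biUnion ha ⟨h.left.base (y.left.base t), ⟨_, rfl⟩, rfl⟩
    · intro hg
      have hgt := hg p₀
      simp only [Z₀, Set.mem_iUnion] at hgt
      obtain ⟨a, ha, _, ⟨h₀, rfl⟩, hh⟩ := hgt
      have haP : a ∈ P := (hPmem a).mpr (hF1 a ha)
      have hg' : a⁻¹ * g ∈ P := by
        apply Subgroup.subset_closure
        refine ⟨p₀, ?_⟩
        have h2 : (a⁻¹ * g) ≫ tr a = g := by
          rw [comp_tr, htu, Category.id_comp, mul_inv_cancel_left]
        have h3 : (tr a).left.base ((a⁻¹ * g).left.base p₀) =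
            (tr a).left.base (h.left.base h₀) := by
          have hh' : (tr a).left.base (h.left.base h₀) = g.left.base p₀ := hh
          rw [hh']
          have := congrArg (fun m => m.left.base p₀) h2
          exact this
        have h4 := (tr_leftInverse a).injective h3
        rw [h4]
        exact hH ⟨h₀, rfl⟩
      have h5 : g = a * (a⁻¹ * g) := by rw [mul_inv_cancel_left]
      rw [h5]
      exact mul_mem haP hg'
  -- the reduced subscheme on Z₀ is a closed subgroup scheme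
  obtain ⟨instZ, hiZ⟩ := exists_grpObj_Zs Z₀ hZ₀ P hPZ
  haveI : IsReduced X.left :=
    GeometricallyReduced.isReduced_of_flat_of_isLocallyNoetherian X.hom
  obtain ⟨f'', hf''⟩ := exists_lift_Zs Z₀ hZ₀ X f (fun s t =>
    (hPZ _).mp (Subgroup.subset_closure ⟨t, s.left.base t, rfl⟩) t)
  obtain ⟨j, hj⟩ := hmin (Zs Z₀ hZ₀) instZ (iZ Z₀ hZ₀) hiZ inferInstance ⟨f'', hf''⟩
  have hC : Set.range i.left.base ⊆ Z₀ := by
    rintro _ ⟨z, rfl⟩
    have h2 : (iZ Z₀ hZ₀).left.base (j.left.base z) ∈ Set.range (iZ Z₀ hZ₀).left.base := ⟨_, rfl⟩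
    rw [range_iZ] at h2
    rw [← hj]
    exact h2
  have e1 : Set.range i.left.base = Z₀ := Set.Subset.antisymm hC (hB.trans hA)
  have e2 : Set.range i.left.base = UW f m := Set.Subset.antisymm (hC.trans hB) hA
  refine ⟨⟨m, ?_⟩, F, ?_⟩
  · rw [e2]
    ext g
    exact uw_iff f m g
  · rw [e1]
    rfl

end Sub

end Groth.Agent.Helper18.WordFin
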